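import Groth.Agent.DualCxLib.Depth
import Groth.Agent.CMSeqLib.Localize
import Groth.Agent.HSLib.ProjDeg

/-!
# The local normalised case; Cohen–Macaulay loci
-/

set_option autoImplicit false
set_option backward.isDefEq.respectTransparency false

universe u

open CategoryTheory
attribute [local instance] HasDerivedCategory.standard

noncomputable section

namespace Groth.Agent.DualCxLib

section Global

variable {A : Type u} [CommRing A] [IsNoetherianRing A] {ω : Dual.D A} (hω : Dual.IsDualizing A ω)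
  {M : Type u} [AddCommGroup M] [Module A M] [Module.Finite A M]

omit [IsNoetherianRing A] [Module.Finite A M] in
theorem nontrivial_localized {p : PrimeSpectrum A} (hp : p ∈ Module.support A M) :
    Nontrivial (LocalizedModule p.asIdeal.primeCompl M) := hp

theorem exists_depth_localized (p : PrimeSpectrum A) (hp : p ∈ Module.support A M) :
    ∃ D : ℕ, LocCoh.depth (Localization.AtPrime p.asIdeal) (LocalizedModule p.asIdeal.primeCompl M) = D := by
  haveI : Module.Finite (Localization.AtPrime p.asIdeal) (LocalizedModule p.asIdeal.primeCompl M) :=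
    Module.Finite.of_isLocalizedModule p.asIdeal.primeCompl (LocalizedModule.mkLinearMap p.asIdeal.primeCompl M)
  haveI := nontrivial_localized hp
  exact FlatDepth.exists_depth_eq

include hω

theorem cm_localized_iff (p : PrimeSpectrum A) :
    (Subsingleton (LocalizedModule p.asIdeal.primeCompl M) ∨
      LocCoh.IsCohenMacaulayModule (Localization.AtPrime p.asIdeal) (LocalizedModule p.asIdeal.primeCompl M)) ↔
    ∀ i j : ℤ, ¬ ZeroAt p.asIdeal (HK ω i M) → ¬ ZeroAt p.asIdeal (HK ω j M) → i = j := by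
  by_cases hp : p ∈ Module.support A M
  · obtain ⟨D, hD⟩ := exists_depth_localized p hp
    obtain ⟨d, hd, -⟩ := exists_supportDim_localized hω p hp
    haveI := nontrivial_localized hp
    obtain ⟨hb, hne⟩ := dim_bounds hω p d hd
    obtain ⟨hb', hne'⟩ := depth_bounds hω p D M hD
    rw [LocCoh.IsCohenMacaulayModule, hd, hD, or_iff_right (not_subsingleton _)]
    refine ⟨fun h i j hi hj => ?_, fun h => ?_⟩
    · have hdD : d = D := by exact_mod_cast h
      have := hb i hi
      have := hb j hj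
      have := hb' i hi
      have := hb' j hj
      omega
    · have := h _ _ hne hne'
      have hdD : d = D := by omega
      exact_mod_cast congrArg (fun t : ℕ => (t : WithBot ℕ∞)) hdD
  · refine iff_of_true (Or.inl (not_nontrivial_iff_subsingleton.1 hp)) fun i j hi _ => (hi ?_).elim
    exact zeroAt_HK_of_primes ω i p.asIdeal M fun Q hQ hQs =>
      (hp (Module.mem_support_mono (p := Q) (q := p) hQ hQs)).elim

theorem cm_locus_open : IsOpen {p : PrimeSpectrum A | Subsingleton (LocalizedModule p.asIdeal.primeCompl M) ∨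
    LocCoh.IsCohenMacaulayModule (Localization.AtPrime p.asIdeal) (LocalizedModule p.asIdeal.primeCompl M)} := by
  let S := Finset.Icc (model hω).a (model hω).b
  have h : {p : PrimeSpectrum A | Subsingleton (LocalizedModule p.asIdeal.primeCompl M) ∨
      LocCoh.IsCohenMacaulayModule (Localization.AtPrime p.asIdeal) (LocalizedModule p.asIdeal.primeCompl M)} =
      (⋃ ij ∈ (S ×ˢ S).filter (fun ij => ij.1 ≠ ij.2),
        Module.support A (HK ω ij.1 M) ∩ Module.support A (HK ω ij.2 M))ᶜ := by
    ext p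
    rw [Set.mem_ofPred_eq, cm_localized_iff hω p]
    simp only [Set.mem_compl_iff, Set.mem_iUnion, Set.mem_inter_iff, ← not_zeroAt_iff_mem_support,
      Finset.mem_filter, Finset.mem_product, not_exists, not_and]
    refine ⟨fun h ij ⟨_, hne⟩ h1 h2 => hne (h _ _ h1 h2), fun h i j hi hj => by_contra fun hne => ?_⟩
    exact h (i, j) ⟨⟨Finset.mem_Icc.2 (mem_range_of_not_zeroAt hω hi),
      Finset.mem_Icc.2 (mem_range_of_not_zeroAt hω hj)⟩, hne⟩ hi hj
  rw [h, isOpen_compl_iff]
  refine Set.Finite.isClosed_biUnion (Finset.finite_toSet _) fun ij _ => ?_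
  haveI := finite_HK' hω ij.1 M
  haveI := finite_HK' hω ij.2 M
  rw [Module.support_eq_zeroLocus, Module.support_eq_zeroLocus]
  exact (PrimeSpectrum.isClosed_zeroLocus _).inter (PrimeSpectrum.isClosed_zeroLocus _)

theorem cm_of_minimal (P : PrimeSpectrum A) (hP : P ∈ Module.support A M)
    (hmin : ∀ Q ∈ Module.support A M, Q ≤ P → Q = P) :
    LocCoh.IsCohenMacaulayModule (Localization.AtPrime P.asIdeal) (LocalizedModule P.asIdeal.primeCompl M) := by
  refine ((cm_localized_iff hω P).2 fun i j hi hj => ?_).resolve_left (fun h => not_nontrivial_iff_subsingleton.2 h hP)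
  have hlo : ∀ Q ∈ Module.support A M, Q ≤ P → dfn hω P ≤ dfn hω Q := fun Q hQ hQP => by rw [hmin Q hQ hQP]
  have := le_of_not_zeroAt hω P hlo hi
  have := le_of_not_zeroAt hω P hlo hj
  have := le_dfn_of_not_zeroAt hω P hi
  have := le_dfn_of_not_zeroAt hω P hj
  omega

theorem cm_dense : Module.support A M ⊆ closure ({p : PrimeSpectrum A |
    LocCoh.IsCohenMacaulayModule (Localization.AtPrime p.asIdeal) (LocalizedModule p.asIdeal.primeCompl M)} ∩
      Module.support A M) := by
  intro p hp
  obtain ⟨P, ⟨hP, hPp⟩, hmin⟩ := (wellFoundedLT_spec (A := A)).wf.has_min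
    {Q | Q ∈ Module.support A M ∧ Q ≤ p} ⟨p, hp, le_rfl⟩
  have hmin' : ∀ Q ∈ Module.support A M, Q ≤ P → Q = P := fun Q hQ hQP =>
    eq_of_le_of_not_lt hQP (hmin Q ⟨hQ, hQP.trans hPp⟩)
  exact ((PrimeSpectrum.le_iff_specializes P p).1 hPp).mem_closed isClosed_closure
    (subset_closure ⟨cm_of_minimal hω P hP hmin', hP⟩)

/-- Nonvanishing of `ω` at a minimal prime. -/
theorem not_zeroAt_unit_iff (P : PrimeSpectrum A) (hP : P.asIdeal ∈ minimalPrimes A) (i : ℤ) :
    ¬ ZeroAt P.asIdeal (HK ω i A) ↔ i = dfn hω P := by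
  have hmin : ∀ Q ∈ Module.support A A, Q ≤ P → Q = P := fun Q _ hQP =>
    le_antisymm hQP (hP.2 ⟨Q.2, bot_le⟩ hQP)
  refine ⟨fun hi => le_antisymm (le_dfn_of_not_zeroAt hω P hi)
    (le_of_not_zeroAt hω P (fun Q hQ hQP => by rw [hmin Q hQ hQP]) hi), ?_⟩
  rintro rfl
  refine not_zeroAt_of_minimal hω P (Module.mem_support_iff_of_finite.2 fun a ha => ?_) hmin
  have : a • (1 : A) = 0 := Module.mem_annihilator.1 ha 1
  rw [smul_eq_mul, mul_one] at this
  exact this ▸ P.asIdeal.zero_mem

theorem not_zeroAt_HD_iff (p : Ideal A) [p.IsPrime] (i : ℤ) :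
    ¬ ZeroAt p (Dual.HD A ω i) ↔ ¬ ZeroAt p (HK ω i A) := by
  obtain ⟨e⟩ := (model hω).nonempty_HD_equiv i
  rw [zeroAt_congr e]

theorem ringKrullDim_lt_top' : ringKrullDim A < ⊤ := by
  refine lt_of_le_of_lt (b := (((model hω).b - (model hω).a).toNat : WithBot ℕ∞)) ?_ ?_
  · rw [ringKrullDim, Order.krullDim]
    refine iSup_le fun l => ?_
    have := dfn_ltSeries hω l
    have := (dfn_mem hω l.head).1
    have := (dfn_mem hω l.last).2
    exact_mod_cast show l.length ≤ ((model hω).b - (model hω).a).toNat by omega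
  · exact WithBot.coe_lt_coe.2 (ENat.natCast_lt_top _)

end Global

section Local

variable {A : Type u} [CommRing A] [IsLocalRing A] [IsNoetherianRing A]
  {M : Type u} [AddCommGroup M] [Module A M]

omit [IsNoetherianRing A] in
theorem zeroAt_maximal_iff {T : Type*} [AddCommGroup T] [Module A T] :
    ZeroAt (IsLocalRing.maximalIdeal A) T ↔ Subsingleton T := by
  refine ⟨fun h => subsingleton_of_forall_eq 0 fun y => ?_, fun _ => .of_subsingleton⟩
  obtain ⟨s, hs, hsy⟩ := h y
  exact (IsUnit.smul_eq_zero (not_not.1 hs : IsUnit s)).1 hsy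

omit [IsNoetherianRing A] in
theorem not_zeroAt_maximal_iff {T : Type*} [AddCommGroup T] [Module A T] :
    ¬ ZeroAt (IsLocalRing.maximalIdeal A) T ↔ Nontrivial T := by
  rw [zeroAt_maximal_iff, not_subsingleton_iff_nontrivial]

theorem supportDim_localized_maximal [Module.Finite A M] :
    Module.supportDim (Localization.AtPrime (IsLocalRing.maximalIdeal A))
      (LocalizedModule (IsLocalRing.maximalIdeal A).primeCompl M) = Module.supportDim A M := by
  refine le_antisymm (HSLib.supportDim_localized_le _ M) ?_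
  let B := Localization.AtPrime (IsLocalRing.maximalIdeal A)
  let e := IsLocalization.AtPrime.primeSpectrumOrderIso B (IsLocalRing.maximalIdeal A)
  refine Order.krullDim_le_of_strictMono
    (fun Q => ⟨e.symm ⟨Q.1, IsLocalRing.le_maximalIdeal Q.1.2.ne_top⟩, ?_⟩) fun a b hab => ?_
  · rw [QGorLib.mem_support_localized_iff]
    have h : PrimeSpectrum.comap (algebraMap A B) (e.symm ⟨Q.1, IsLocalRing.le_maximalIdeal Q.1.2.ne_top⟩) = Q.1 :=
      congrArg Subtype.val (e.apply_symm_apply _)
    rw [h]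
    exact Q.2
  · exact e.symm.strictMono (show (⟨a.1, _⟩ : {x // _}) < ⟨b.1, _⟩ from hab)

variable {ω : Dual.D A} (hω : Dual.IsDualizing A ω) (hn : Dual.IsNormalized A ω)
include hω hn

theorem dfn_closedPoint : dfn hω (IsLocalRing.closedPoint A) = 0 := by
  by_contra h
  haveI := hn _ h
  have h2 : ¬ ZeroAt (IsLocalRing.maximalIdeal A)
      (HK ω (dfn hω (IsLocalRing.closedPoint A)) (IsLocalRing.ResidueField A)) :=
    not_zeroAt_dfn hω (IsLocalRing.closedPoint A)
  exact h2 .of_subsingleton

theorem dfn_nonpos (q : PrimeSpectrum A) : dfn hω q ≤ 0 := by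
  rw [← dfn_closedPoint hω hn]
  exact dfn_le hω (IsLocalRing.le_maximalIdeal q.2.ne_top)

theorem ringKrullDim_quotient (q : PrimeSpectrum A) :
    ringKrullDim (A ⧸ q.asIdeal) = (((-dfn hω q).toNat : ℕ) : WithBot ℕ∞) := by
  rw [← Module.supportDim_quotient_eq_ringKrullDim, ← supportDim_localized_maximal]
  have hq : q ∈ Module.support A (A ⧸ q.asIdeal) := by
    rw [Module.mem_support_iff_of_finite, Ideal.annihilator_quotient]
  refine le_antisymm (supportDim_localized_le hω (IsLocalRing.closedPoint A) _ fun Q hQ _ => ?_) ?_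
  · have hqQ : q ≤ Q := by
      have := Module.annihilator_le_of_mem_support hQ
      rwa [Ideal.annihilator_quotient] at this
    have := dfn_le hω hqQ
    have := dfn_nonpos hω hn q
    rw [dfn_closedPoint hω hn]
    omega
  · have h := le_supportDim_localized hω (IsLocalRing.closedPoint A) q hq (IsLocalRing.le_maximalIdeal q.2.ne_top)
    rw [dfn_closedPoint hω hn, zero_sub] at h
    exact h

variable [Module.Finite A M]

theorem dim_bounds_local {d : ℕ} (hd : Module.supportDim A M = d) :
    (∀ i, Nontrivial (HK ω i M) → -(d : ℤ) ≤ i ∧ i ≤ 0) ∧ Nontrivial (HK ω (-(d : ℤ)) M) := by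
  obtain ⟨h1, h2⟩ := dim_bounds hω (M := M) (IsLocalRing.closedPoint A) d
    (by rw [← hd]; exact supportDim_localized_maximal)
  rw [dfn_closedPoint hω hn, zero_sub] at h1 h2
  exact ⟨fun i hi => h1 i (not_zeroAt_maximal_iff.2 hi), not_zeroAt_maximal_iff.1 h2⟩

theorem depth_bounds_local {D : ℕ} (hD : LocCoh.depth A M = D) :
    (∀ i, Nontrivial (HK ω i M) → i ≤ -(D : ℤ)) ∧ Nontrivial (HK ω (-(D : ℤ)) M) := by
  obtain ⟨h1, h2⟩ := depth_bounds hω (IsLocalRing.closedPoint A) D M
    (by rw [← hD]; exact CMSeqLib.depth_localizedModule_maximal)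
  rw [dfn_closedPoint hω hn, zero_sub] at h1 h2
  exact ⟨fun i hi => h1 i (not_zeroAt_maximal_iff.2 hi), not_zeroAt_maximal_iff.1 h2⟩

theorem depth_eq_iff [Nontrivial M] (n : ℕ) : LocCoh.depth A M = n ↔
    ((∀ δ : ℕ, δ < n → Subsingleton (HK ω (-(δ : ℤ)) M)) ∧ Nontrivial (HK ω (-(n : ℤ)) M)) := by
  obtain ⟨D, hD⟩ := FlatDepth.exists_depth_eq (R := A) (M := M)
  obtain ⟨h1, h2⟩ := depth_bounds_local hω hn hD
  rw [hD, Nat.cast_inj]
  constructor
  · rintro rfl
    refine ⟨fun δ hδ => not_nontrivial_iff_subsingleton.1 fun h => ?_, h2⟩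
    have := h1 _ h
    omega
  · rintro ⟨ha, hb⟩
    rcases lt_trichotomy D n with h | h | h
    · exact absurd (ha D h) (not_subsingleton_iff_nontrivial.2 h2)
    · exact h
    · have := h1 _ hb
      omega

theorem cm_iff [Nontrivial M] {d : ℕ} (hd : Module.supportDim A M = d) :
    LocCoh.IsCohenMacaulayModule A M ↔ ∀ i : ℤ, i ≠ d → Subsingleton (HK ω (-i) M) := by
  obtain ⟨D, hD⟩ := FlatDepth.exists_depth_eq (R := A) (M := M)
  obtain ⟨h1, h2⟩ := depth_bounds_local hω hn hD
  obtain ⟨h3, h4⟩ := dim_bounds_local hω hn hd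
  rw [LocCoh.IsCohenMacaulayModule, hd, hD]
  refine ⟨fun h i hi => not_nontrivial_iff_subsingleton.1 fun hnt => hi ?_, fun h => ?_⟩
  · have hdD : d = D := by exact_mod_cast h
    have := h1 _ hnt
    have := h3 _ hnt
    omega
  · have hdD : d = D := by
      by_contra hne
      haveI := h (D : ℤ) (by omega)
      exact not_nontrivial_iff_subsingleton.2 inferInstance h2
    exact_mod_cast congrArg (fun t : ℕ => (t : WithBot ℕ∞)) hdD

theorem dfn_le_of_mem_support (i : ℤ) (q : PrimeSpectrum A) (hq : q ∈ Module.support A (HK ω i M)) :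
    i ≤ dfn hω q :=
  le_dfn_of_not_zeroAt hω q ((not_zeroAt_iff_mem_support q).2 hq)

end Local

end Groth.Agent.DualCxLib
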