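import Groth.Agent.DualCxLib.GorSch
import Groth.Agent.DualCxLib.Local
import Groth.Agent.GorLib.LocInjDim
import Groth.Agent.TildeD.Main

/-!
# Gorenstein schemes and dualizing complexes
-/

set_option autoImplicit false
set_option backward.isDefEq.respectTransparency false
set_option linter.style.haveILetI false

universe u

open CategoryTheory Limits AlgebraicGeometry
attribute [local instance] HasDerivedCategory.standard

noncomputable section

namespace Groth.Agent.DualCxLib

theorem exists_affine_point (X : Scheme.{u}) (x : X) :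
    ∃ (A : Type u) (_ : CommRing A) (j : Spec (CommRingCat.of A) ⟶ X) (_ : IsOpenImmersion j)
      (p : PrimeSpectrum A), j p = x := by
  obtain ⟨U, hU, hxU, -⟩ := exists_isAffineOpen_mem_and_subset (X := X) (x := x) (U := ⊤) trivial
  exact ⟨Γ(X, U), inferInstance, hU.fromSpec, inferInstanceAs (IsOpenImmersion hU.fromSpec),
    hU.primeIdealOf ⟨x, hxU⟩, hU.fromSpec_primeIdealOf ⟨x, hxU⟩⟩

variable [∀ (U V : Scheme.{u}) (j : U ⟶ V) [IsOpenImmersion j], PreservesFiniteLimits (Scheme.Modules.restrictFunctor j)]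

/-- Restriction of a shift of the structure sheaf. -/
def restrictStructureShift {U V : Scheme.{u}} (j : U ⟶ V) [IsOpenImmersion j] (n : ℤ) :
    (DCoh.restrictD j).obj ((DCoh.inD V (Coh.structureModule V))⟦n⟧) ≅ (DCoh.inD U (Coh.structureModule U))⟦n⟧ :=
  ((DCoh.restrictD j).commShiftIso n).app _ ≪≫ (shiftFunctor (DCoh.D U) n).mapIso
    (((Scheme.Modules.restrictFunctor j).mapDerivedCategorySingleFunctor 0).app _ ≪≫
      (DerivedCategory.singleFunctor U.Modules 0).mapIso (DCohLib.restrictUnit j))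

variable [∀ (R : CommRingCat.{u}), PreservesFiniteLimits (tilde.functor R)]

/-- The derived tilde of the free module of rank one. -/
def tildeInD (R : CommRingCat.{u}) :
    (DCoh.tildeD R).obj (Dual.inD R R) ≅ DCoh.inD (Spec R) (Coh.structureModule (Spec R)) :=
  ((tilde.functor R).mapDerivedCategorySingleFunctor 0).app _ ≪≫
    (DerivedCategory.singleFunctor (Spec R).Modules 0).mapIso tildeSelf

/-- The derived tilde of a shift of the free module of rank one. -/
def tildeShift (R : CommRingCat.{u}) (n : ℤ) :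
    (DCoh.tildeD R).obj ((Dual.inD R R)⟦n⟧) ≅ (DCoh.inD (Spec R) (Coh.structureModule (Spec R)))⟦n⟧ :=
  ((DCoh.tildeD R).commShiftIso n).app _ ≪≫ (shiftFunctor (DCoh.D (Spec R)) n).mapIso (tildeInD R)

theorem isInvertibleD_of_gorenstein {X : Scheme.{u}} {K : DCoh.D X} (hK : Dual2.IsDualizingSch X K)
    (hG : ∀ x : X, LocCoh.IsGorensteinLocalRing (X.presheaf.stalk x)) : Dual3.IsInvertibleD K := by
  intro x
  obtain ⟨A, _, j, _, p, rfl⟩ := exists_affine_point X x
  obtain ⟨ω, hω, ⟨e⟩⟩ := hK A j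
  haveI := hω.isNoetherianRing
  obtain ⟨V, n, hpV, ⟨i⟩⟩ := exists_open_iso_structure (R := CommRingCat.of A) hω p
    ((gorenstein_stalk_iff j p).1 (hG _))
  refine ⟨j ''ᵁ V, n, ⟨p, hpV, rfl⟩, ⟨?_⟩⟩
  let s := (j.isoImage V).inv
  have h : (j ''ᵁ V).ι = s ≫ (V.ι ≫ j) := (Scheme.Hom.isoImage_inv_ι j V).symm
  exact (DCohLib.restrictDCongr h).app K ≪≫ (DCohLib.restrictDComp s (V.ι ≫ j)).app K ≪≫
    (DCoh.restrictD s).mapIso ((DCohLib.restrictDComp V.ι j).app K ≪≫ (DCoh.restrictD V.ι).mapIso e ≪≫ i) ≪≫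
    restrictStructureShift s n

theorem isDualizing_self_of_invertible {A : Type u} [CommRing A] {ω : Dual.D A} (hω : Dual.IsDualizing A ω)
    {n : ℤ} (e : (DCoh.tildeD (CommRingCat.of A)).obj ω ≅
      (DCoh.inD (Spec (CommRingCat.of A)) (Coh.structureModule (Spec (CommRingCat.of A))))⟦n⟧) :
    Dual.IsDualizing A (Dual.inD A A) := by
  haveI := (TildeD.main (CommRingCat.of A)).1
  haveI := (TildeD.main (CommRingCat.of A)).2.1
  let i : ω ≅ (Dual.inD A A)⟦n⟧ :=
    (DCoh.tildeD (CommRingCat.of A)).preimageIso (e ≪≫ (tildeShift (CommRingCat.of A) n).symm)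
  exact isDualizing_of_iso ((shiftFunctor (Dual.D A) (-n)).mapIso i ≪≫ shiftShiftNeg _ n)
    (isDualizing_shift hω (-n))

theorem gorenstein_localization_of_isDualizing_self {A : Type u} [CommRing A]
    (h : Dual.IsDualizing A (Dual.inD A A)) (p : PrimeSpectrum A) :
    LocCoh.IsGorensteinLocalRing (Localization.AtPrime p.asIdeal) := by
  haveI := h.isNoetherianRing
  let e : Dual.HD A (Dual.inD A A) 0 ≃ₗ[A] A :=
    ((DerivedCategory.singleFunctorCompHomologyFunctorIso (ModuleCat.{u} A) 0).app (ModuleCat.of A A)).toLinearEquiv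
  have h1 : (1 : A) ∉ p.asIdeal := fun h => p.2.ne_top ((Ideal.eq_top_iff_one _).2 h)
  refine (gorenstein_localization_iff h p).2 ⟨0, e.symm 1, fun j hj y => ⟨1, h1, ?_⟩, fun r hr => ⟨1, h1, ?_⟩,
    fun y => ⟨1, h1, e y, ?_⟩⟩
  · haveI : Subsingleton (Dual.HD A (Dual.inD A A) j) := by
      refine ModuleCat.isZero_iff_subsingleton.1 ?_
      rcases lt_or_gt_of_ne hj with hlt | hgt
      · exact DerivedCategory.isZero_of_isGE ((DerivedCategory.singleFunctor (ModuleCat.{u} A) 0).obj _) 0 j hlt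
      · exact DerivedCategory.isZero_of_isLE ((DerivedCategory.singleFunctor (ModuleCat.{u} A) 0).obj _) 0 j hgt
    exact Subsingleton.elim _ _
  · rw [one_mul]
    have := congrArg e hr
    rwa [map_smul, e.apply_symm_apply, map_zero, smul_eq_mul, mul_one] at this
  · apply e.injective
    simp

theorem gorenstein_of_isInvertibleD {X : Scheme.{u}} {K : DCoh.D X} (hK : Dual2.IsDualizingSch X K)
    (hI : Dual3.IsInvertibleD K) (x : X) : LocCoh.IsGorensteinLocalRing (X.presheaf.stalk x) := by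
  obtain ⟨U, n, hxU, ⟨i⟩⟩ := hI x
  obtain ⟨A, _, k, _, p, hp⟩ := exists_affine_point (U : Scheme.{u}) ⟨x, hxU⟩
  obtain ⟨ω, hω, ⟨e⟩⟩ := hK A (k ≫ U.ι)
  have hx : (k ≫ U.ι) p = x := by rw [Scheme.Hom.comp_apply, hp]; rfl
  rw [← hx, gorenstein_stalk_iff]
  exact gorenstein_localization_of_isDualizing_self (isDualizing_self_of_invertible hω
    (e.symm ≪≫ (DCohLib.restrictDComp k U.ι).app K ≪≫ (DCoh.restrictD k).mapIso i ≪≫
      restrictStructureShift k n)) p

theorem isDualizingSch_structure {X : Scheme.{u}} {K : DCoh.D X} (hK : Dual2.IsDualizingSch X K)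
    (hG : ∀ x : X, LocCoh.IsGorensteinLocalRing (X.presheaf.stalk x)) :
    Dual2.IsDualizingSch X (DCoh.inD X (Coh.structureModule X)) := by
  intro A _ j _
  obtain ⟨ω, hω, -⟩ := hK A j
  haveI := hω.isNoetherianRing
  obtain ⟨n, hn⟩ := (GorLib.hasInjectiveDimensionLT_self_iff A).2
    ⟨{ isGorensteinLocalRing_localization := fun p _ => (gorenstein_stalk_iff j ⟨p, ‹_›⟩).1 (hG _) },
      ringKrullDim_lt_top' hω⟩
  refine ⟨Dual.inD A A, isDualizing_self_of ⟨0, n, fun M _ _ i hi => ?_⟩, ⟨?_⟩⟩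
  · rcases hi with hi | hi
    · exact subsingleton_HK_inD_of_neg M A hi
    · obtain ⟨k, rfl⟩ := Int.eq_ofNat_of_zero_le (show 0 ≤ i by omega)
      rw [subsingleton_HK_inD_iff]
      exact HasInjectiveDimensionLT.subsingleton (ModuleCat.of A A) n k (by omega) _
  · exact ((Scheme.Modules.restrictFunctor j).mapDerivedCategorySingleFunctor 0).app _ ≪≫
      (DerivedCategory.singleFunctor (Spec (CommRingCat.of A)).Modules 0).mapIso
        (DCohLib.restrictUnit j) ≪≫ (tildeInD (CommRingCat.of A)).symm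

theorem isOpen_gorensteinLocus {X : Scheme.{u}} {K : DCoh.D X} (hK : Dual2.IsDualizingSch X K) :
    IsOpen {x : X | LocCoh.IsGorensteinLocalRing (X.presheaf.stalk x)} := by
  refine isOpen_iff_forall_mem_open.2 fun x hx => ?_
  obtain ⟨A, _, j, _, p, rfl⟩ := exists_affine_point X x
  obtain ⟨ω, hω, -⟩ := hK A j
  haveI := hω.isNoetherianRing
  refine ⟨j '' {q | LocCoh.IsGorensteinLocalRing (Localization.AtPrime q.asIdeal)}, ?_,
    j.isOpenEmbedding.isOpenMap _ (isOpen_gorenstein hω), ⟨p, (gorenstein_stalk_iff j p).1 hx, rfl⟩⟩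
  rintro _ ⟨q, hq, rfl⟩
  exact (gorenstein_stalk_iff j q).2 hq

end Groth.Agent.DualCxLib
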