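import Groth.Agent.DualCxLib.FibreDual
import Groth.Agent.GorLib.TopHull
import Groth.Agent.GorLib.FieldExt
import Groth.Agent.CILib.LCIFlat
import Groth.Agent.CILib.LCIPoint
import Groth.Agent.Comodule.ChevalleyLocal

/-!
# Gorenstein fibres
-/

set_option autoImplicit false
set_option linter.style.haveILetI false

universe u

open scoped TensorProduct

noncomputable section

namespace Groth.Agent.DualCxLib

theorem ringKrullDim_fiber_le (A B : Type u) [CommRing A] [CommRing B] [Algebra A B] (p : Ideal A) [p.IsPrime] :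
    ringKrullDim (p.Fiber B) ≤ ringKrullDim B :=
  Order.krullDim_le_of_strictMono
    (fun Q => (⟨((PrimeSpectrum.primesOverOrderIsoFiber A B p).symm Q).1,
      ((PrimeSpectrum.primesOverOrderIsoFiber A B p).symm Q).2.1⟩ : PrimeSpectrum B))
    fun _ _ h => (PrimeSpectrum.primesOverOrderIsoFiber A B p).symm.strictMono h

theorem exists_ringKrullDim_le_of_finiteType (k B : Type u) [Field k] [CommRing B] [Algebra k B]
    [Algebra.FiniteType k B] : ∃ N : ℕ, ringKrullDim B ≤ N := by
  obtain ⟨n, φ, hφ⟩ := Algebra.FiniteType.iff_quotient_mvPolynomial''.1 ‹Algebra.FiniteType k B›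
  refine ⟨n, (ringKrullDim_le_of_surjective φ.toRingHom hφ).trans ?_⟩
  rw [MvPolynomial.ringKrullDim_of_isNoetherianRing, ringKrullDim_eq_zero_of_field, zero_add]
  simp

theorem exists_fibre_dim_bound (A B : Type u) [CommRing A] [CommRing B] [Algebra A B] [Algebra.FiniteType A B] :
    ∃ N : ℕ, ∀ (p : Ideal A) [p.IsPrime], ringKrullDim (p.Fiber B) ≤ N := by
  obtain ⟨n, φ, hφ⟩ := Algebra.FiniteType.iff_quotient_mvPolynomial''.1 ‹Algebra.FiniteType A B›
  refine ⟨n, fun p _ => ?_⟩
  let g : MvPolynomial (Fin n) p.ResidueField →+* p.Fiber B :=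
    (Algebra.TensorProduct.map (AlgHom.id p.ResidueField p.ResidueField) φ).toRingHom.comp
      (MvPolynomial.algebraTensorAlgEquiv A p.ResidueField).symm.toRingEquiv.toRingHom
  have hg : Function.Surjective g :=
    (Algebra.TensorProduct.map_surjective _ _ Function.surjective_id hφ).comp (RingEquiv.surjective _)
  refine (ringKrullDim_le_of_surjective g hg).trans ?_
  rw [MvPolynomial.ringKrullDim_of_isNoetherianRing, ringKrullDim_eq_zero_of_field, zero_add]
  simp

theorem gorenstein_fibre_of_smooth (A B : Type u) [CommRing A] [CommRing B] [Algebra A B] [Algebra.Smooth A B]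
    (p : Ideal A) [p.IsPrime] : LocCoh.IsGorensteinRing (p.Fiber B) := by
  haveI : IsNoetherianRing (p.Fiber B) := Algebra.FiniteType.isNoetherianRing p.ResidueField _
  exact { isGorensteinLocalRing_localization := fun q _ => by
            haveI := Comodule.ChevalleyLocal.isRegularLocalRing_of_smooth p.ResidueField q
            exact GorLib.gorensteinLocal_of_regular _ }

theorem gorensteinRing_of_isLCIOver (k S : Type u) [Field k] [CommRing S] [Algebra k S]
    (h : Synt.IsLCIOver k S) : LocCoh.IsGorensteinRing S := by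
  haveI := h.1
  haveI : IsNoetherianRing S := Algebra.FiniteType.isNoetherianRing k S
  refine { isGorensteinLocalRing_localization := fun q _ => ?_ }
  obtain ⟨R, _, _, _, -, rs, hm, hreg, ⟨e⟩⟩ := CILib.isCIOver_atPrime_of_isLCIOver h q
  exact GorLib.gorenstein_of_ringEquiv e.symm.toRingEquiv
    (GorLib.gorenstein_quot_seq rs.length R (GorLib.gorensteinLocal_of_regular R) rs rfl hm hreg.toIsWeaklyRegular)

theorem gorenstein_fibre_of_lci (A B : Type u) [CommRing A] [CommRing B] [Algebra A B] [Module.Flat A B]
    [IsNoetherianRing A] [IsNoetherianRing B] (h : LCI.IsLCI A B) (p : Ideal A) [p.IsPrime] :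
    LocCoh.IsGorensteinRing (p.Fiber B) :=
  gorensteinRing_of_isLCIOver p.ResidueField _ ((CILib.isSyntomic_iff_flat_and_isLCI.2 ⟨inferInstance, h⟩).2.2 ⟨p, inferInstance⟩)

theorem gorenstein_fibre_baseChangeField (k K A : Type u) [Field k] [Field K] [Algebra k K] [CommRing A]
    [Algebra k A] [Algebra.FiniteType k A] (p : Ideal A) [p.IsPrime] :
    LocCoh.IsGorensteinRing (p.Fiber (A ⊗[k] K)) := by
  haveI : Algebra.EssFiniteType k p.ResidueField := Algebra.EssFiniteType.comp k A p.ResidueField
  haveI : LocCoh.IsGorensteinRing K := GorLib.gorensteinRing_of_regular K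
  exact GorLib.gorensteinRing_of_ringEquiv
    (Algebra.TensorProduct.cancelBaseChange k A A p.ResidueField K).toRingEquiv.symm
    (GorLib.gorensteinRing_baseChange k p.ResidueField (GorLib.exists_adjoin_of_essFiniteType k p.ResidueField) K)

end Groth.Agent.DualCxLib
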