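import Groth.Agent.DualCxLib.DimFn
import Groth.Agent.DRingLib.RegularGl
import Mathlib.Algebra.Homology.DerivedCategory.Ext.Linear
import Mathlib.Algebra.Homology.DerivedCategory.Ext.EnoughProjectives
import Mathlib.Algebra.Homology.DerivedCategory.FullyFaithful

/-!
# A regular ring of finite dimension is its own dualizing complex
-/

set_option autoImplicit false
set_option backward.isDefEq.respectTransparency false

universe u

open CategoryTheory
attribute [local instance] HasDerivedCategory.standard

noncomputable section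

namespace Groth.Agent.DualCxLib

variable {A : Type u} [CommRing A]

theorem subsingleton_HK_inD_of_neg (M N : Type u) [AddCommGroup M] [Module A M] [AddCommGroup N] [Module A N]
    {i : ℤ} (hi : i < 0) : Subsingleton (HK (Dual.inD A N) i M) := by
  refine subsingleton_of_forall_eq 0 fun f => ?_
  exact DerivedCategory.TStructure.t.zero_of_isLE_of_isGE f 0 (-i) (by omega)
    (inferInstanceAs (DerivedCategory.IsLE ((DerivedCategory.singleFunctor (ModuleCat.{u} A) 0).obj _) 0))
    (by
      haveI : DerivedCategory.TStructure.t.IsGE (Dual.inD A N) 0 :=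
        inferInstanceAs (DerivedCategory.IsGE ((DerivedCategory.singleFunctor (ModuleCat.{u} A) 0).obj _) 0)
      exact DerivedCategory.TStructure.t.isGE_shift (Dual.inD A N) 0 i (-i) (by omega))

theorem subsingleton_HK_inD_iff (M N : Type u) [AddCommGroup M] [Module A M] [AddCommGroup N] [Module A N]
    (n : ℕ) : Subsingleton (HK (Dual.inD A N) (n : ℤ) M) ↔
      Subsingleton (Abelian.Ext.{u} (ModuleCat.of A M) (ModuleCat.of A N) n) :=
  (Abelian.Ext.homLinearEquiv (R := A) (X := ModuleCat.of A M) (Y := ModuleCat.of A N)).symm.toEquiv.subsingleton_congr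

/-- `A[0]` over a regular ring of finite dimension. -/
theorem isDualizing_self [IsNoetherianRing A]
    (hreg : ∀ p : PrimeSpectrum A, IsRegularLocalRing (Localization.AtPrime p.asIdeal))
    (hdim : ringKrullDim A < ⊤) : Dual.IsDualizing A (Dual.inD A A) := by
  refine ⟨inferInstance, ?_, fun i => ?_, ?_, fun i hi => ?_⟩
  · rcases subsingleton_or_nontrivial A with h | h
    · refine ⟨0, 0, fun M _ _ i _ => ?_⟩
      haveI : Subsingleton M := Module.subsingleton A M
      exact subsingleton_of_subsingleton _ i
    · obtain ⟨d, hd⟩ : ∃ d : ℕ, ringKrullDim A = d := by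
        obtain ⟨a, ha⟩ := WithBot.ne_bot_iff_exists.1 (ne_bot_of_le_ne_bot (WithBot.coe_ne_bot (a := (0 : ℕ∞))) (ringKrullDim_nonneg_of_nontrivial (R := A)))
        obtain ⟨d, rfl⟩ := ENat.ne_top_iff_exists.1 (show a ≠ ⊤ by rintro rfl; rw [← ha] at hdim; exact lt_irrefl _ hdim)
        exact ⟨d, ha.symm⟩
      refine ⟨0, d, fun M _ _ i hi => ?_⟩
      rcases hi with hi | hi
      · exact subsingleton_HK_inD_of_neg M A hi
      · obtain ⟨n, rfl⟩ := Int.eq_ofNat_of_zero_le (show 0 ≤ i by omega)
        rw [subsingleton_HK_inD_iff]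
        haveI := DRingLib.hasProjectiveDimensionLT_of_regular A hreg d hd M
        exact HasProjectiveDimensionLT.subsingleton (ModuleCat.of A M) (d + 1) n (by omega) _
  · by_cases hi : i = 0
    · subst hi
      haveI : Module.Finite A ((𝟭 (ModuleCat.{u} A)).obj (ModuleCat.of A A)) := inferInstanceAs (Module.Finite A A)
      exact Module.Finite.equiv
        ((DerivedCategory.singleFunctorCompHomologyFunctorIso (ModuleCat.{u} A) 0).app
          (ModuleCat.of A A)).toLinearEquiv.symm
    · haveI : Subsingleton (Dual.HD A (Dual.inD A A) i) := by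
        refine ModuleCat.isZero_iff_subsingleton.1 ?_
        rcases lt_or_gt_of_ne hi with hlt | hgt
        · exact DerivedCategory.isZero_of_isGE ((DerivedCategory.singleFunctor (ModuleCat.{u} A) 0).obj _) 0 i hlt
        · exact DerivedCategory.isZero_of_isLE ((DerivedCategory.singleFunctor (ModuleCat.{u} A) 0).obj _) 0 i hgt
      exact .of_finite
  · have h : (fun a : A => a • 𝟙 (Dual.inD A A)) =
        (fun g : (ModuleCat.of A A ⟶ ModuleCat.of A A) => (DerivedCategory.singleFunctor (ModuleCat.{u} A) 0).map g) ∘
          (fun a : A => a • 𝟙 (ModuleCat.of A A)) := by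
      funext a
      show a • 𝟙 (Dual.inD A A) = (DerivedCategory.singleFunctor (ModuleCat.{u} A) 0).map (a • 𝟙 _)
      rw [Functor.map_smul, CategoryTheory.Functor.map_id]
    rw [h]
    refine Function.Bijective.comp ⟨Functor.map_injective _, Functor.map_surjective _⟩ ⟨fun a b hab => ?_, fun g => ⟨g.hom 1, ?_⟩⟩
    · have := congr($(hab).hom (1 : A))
      simpa using this
    · refine ModuleCat.hom_ext (LinearMap.ext_ring ?_)
      simp
  · rcases lt_or_gt_of_ne hi with hlt | hgt
    · exact subsingleton_HK_inD_of_neg A A hlt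
    · obtain ⟨n, rfl⟩ : ∃ n : ℕ, i = (n + 1 : ℕ) := ⟨(i - 1).toNat, by omega⟩
      show Subsingleton (HK (Dual.inD A A) ((n + 1 : ℕ) : ℤ) A)
      rw [subsingleton_HK_inD_iff]
      haveI : Projective (ModuleCat.of A A) := (IsProjective.iff_projective (R := A) A).1 inferInstance
      exact Abelian.Ext.subsingleton_of_projective _ _ n

end Groth.Agent.DualCxLib
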