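import Groth.Agent.DualCxLib.Duality
import Groth.Agent.DualCxLib.Regular
import Groth.Agent.RegLocal.Consequences

/-!
# Shifts of dualizing complexes; the normalised complex of a regular local ring
-/

set_option autoImplicit false
set_option backward.isDefEq.respectTransparency false
set_option maxRecDepth 4000

universe u

open CategoryTheory IsLocalRing
attribute [local instance] HasDerivedCategory.standard

noncomputable section

namespace Groth.Agent.DualCxLib

variable {A : Type u} [CommRing A]

/-- Two shifts. -/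
def shiftShift (ω : Dual.D A) (k i : ℤ) : ω⟦k⟧⟦i⟧ ≅ ω⟦k + i⟧ :=
  ((shiftFunctorAdd' (Dual.D A) k i (k + i) rfl).app ω).symm

/-- Morphisms into a shifted object. -/
def hkShift (ω : Dual.D A) (k i : ℤ) (M : Type u) [AddCommGroup M] [Module A M] :
    HK (ω⟦k⟧) i M ≃ₗ[A] HK ω (k + i) M :=
  Linear.homCongr A (Iso.refl _) (shiftShift ω k i)

theorem isDualizing_shift {ω : Dual.D A} (h : Dual.IsDualizing A ω) (k : ℤ) :
    Dual.IsDualizing A (ω⟦k⟧) := by
  refine ⟨h.isNoetherianRing, ?_, fun i => ?_, ?_, fun i hi => ?_⟩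
  · obtain ⟨a, b, hab⟩ := h.finite_injective_dimension
    refine ⟨a - k, b - k, fun M _ _ i hi => ?_⟩
    haveI := hab M (k + i) (by omega)
    exact (hkShift ω k i M).injective.subsingleton
  · haveI := h.finite_cohomology (k + i)
    let e : (DerivedCategory.homologyFunctor (ModuleCat.{u} A) i).obj (ω⟦k⟧) ≅
        (DerivedCategory.homologyFunctor (ModuleCat.{u} A) (k + i)).obj ω :=
      ((DerivedCategory.homologyFunctor (ModuleCat.{u} A) 0).shiftIso k i (k + i) rfl).app ω
    exact Module.Finite.equiv e.toLinearEquiv.symm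
  · have hfun : (fun a : A => a • 𝟙 (ω⟦k⟧)) =
        (fun g : ω ⟶ ω => (shiftFunctor (Dual.D A) k).map g) ∘ (fun a : A => a • 𝟙 ω) := by
      funext a
      show a • 𝟙 (ω⟦k⟧) = (shiftFunctor (Dual.D A) k).map (a • 𝟙 ω)
      rw [Functor.map_smul, CategoryTheory.Functor.map_id]
    rw [hfun]
    exact Function.Bijective.comp ⟨Functor.map_injective _, Functor.map_surjective _⟩ h.toEnd_bijective
  · haveI := h.ext_self_subsingleton i hi
    refine subsingleton_of_forall_eq 0 fun g => ?_
    let g' : (shiftFunctor (Dual.D A) k).obj ω ⟶ (shiftFunctor (Dual.D A) k).obj (ω⟦i⟧) :=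
      g ≫ ((shiftFunctorComm (Dual.D A) k i).app ω).hom
    obtain ⟨q, hq⟩ := (shiftFunctor (Dual.D A) k).map_surjective g'
    rw [Subsingleton.elim q 0, Functor.map_zero] at hq
    exact (cancel_mono ((shiftFunctorComm (Dual.D A) k i).app ω).hom).1 (hq.symm.trans Limits.zero_comp.symm)

section Local

variable [IsLocalRing A] [IsNoetherianRing A]

theorem isNormalized_shift {ω : Dual.D A} (h : Dual.IsDualizing A ω) :
    Dual.IsNormalized A (ω⟦dfn h (closedPoint A)⟧) := fun i hi => by
  haveI : Subsingleton (HK ω (dfn h (closedPoint A) + i) (ResidueField A)) :=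
    (zeroAt_maximal_iff (A := A)).1
      (zeroAt_of_ne_dfn h (p := closedPoint A) (i := dfn h (closedPoint A) + i) (by omega))
  exact (hkShift ω (dfn h (closedPoint A)) i (ResidueField A)).injective.subsingleton

end Local

variable [IsRegularLocalRing A]

theorem regular_localizations (p : PrimeSpectrum A) : IsRegularLocalRing (Localization.AtPrime p.asIdeal) :=
  RegLocal.isRegularLocalRing_localization A p.asIdeal

theorem isDualizing_self_of_regular : Dual.IsDualizing A (Dual.inD A A) :=
  isDualizing_self regular_localizations (ringKrullDim_lt_top)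

theorem dfn_self_closedPoint (n : ℕ) (hn : ringKrullDim A = n) :
    dfn (isDualizing_self_of_regular (A := A)) (closedPoint A) = n := by
  obtain ⟨-, h2⟩ := dim_bounds (isDualizing_self_of_regular (A := A)) (M := A) (closedPoint A) n
    (supportDim_localized_maximal.trans ((Module.supportDim_self_eq_ringKrullDim A).trans hn))
  by_contra hne
  haveI : Subsingleton (HK (Dual.inD A A) (dfn (isDualizing_self_of_regular (A := A)) (closedPoint A) - n) A) :=
    (isDualizing_self_of_regular (A := A)).ext_self_subsingleton _ (by omega)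
  exact h2 .of_subsingleton

theorem isDualizing_self_shift (n : ℕ) : Dual.IsDualizing A ((Dual.inD A A)⟦(n : ℤ)⟧) :=
  isDualizing_shift isDualizing_self_of_regular _

theorem isNormalized_self_shift (n : ℕ) (hn : ringKrullDim A = n) :
    Dual.IsNormalized A ((Dual.inD A A)⟦(n : ℤ)⟧) := by
  rw [← dfn_self_closedPoint n hn]
  exact isNormalized_shift _

/-- Morphisms `M → A[n][-i]` as an `Ext`. -/
def extEquiv (n i : ℕ) (hi : i ≤ n) (M : Type u) [AddCommGroup M] [Module A M] :
    HK ((Dual.inD A A)⟦(n : ℤ)⟧) (-(i : ℤ)) M ≃ₗ[A]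
      Abelian.Ext.{u} (ModuleCat.of A M) (ModuleCat.of A A) (n - i) :=
  (Linear.homCongr A (Iso.refl _) ((shiftFunctorAdd' (Dual.D A) (n : ℤ) (-(i : ℤ)) ((n - i : ℕ) : ℤ)
      (show (n : ℤ) + -(i : ℤ) = ((n - i : ℕ) : ℤ) by omega)).app (Dual.inD A A)).symm).trans
    (Abelian.Ext.homLinearEquiv (R := A) (X := ModuleCat.of A M) (Y := ModuleCat.of A A)).symm

end Groth.Agent.DualCxLib
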