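import Groth.Agent.DualCxLib.PairD
import Groth.Agent.DualCxLib.Shift

/-!
# Uniqueness of the normalized dualizing complex
-/

set_option autoImplicit false
set_option backward.isDefEq.respectTransparency false
set_option maxRecDepth 4000

universe u

open CategoryTheory Limits Pretriangulated IsLocalRing Opposite
attribute [local instance] HasDerivedCategory.standard

noncomputable section

namespace Groth.Agent.DualCxLib

variable {A : Type u} [CommRing A] [IsLocalRing A] [IsNoetherianRing A]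

omit [IsLocalRing A] in
theorem finite_HD_obj₃ {T : Triangle (Dual.D A)} (hT : T ∈ distTriang (Dual.D A))
    (h1 : ∀ j, Module.Finite A (Dual.HD A T.obj₁ j)) (h2 : ∀ j, Module.Finite A (Dual.HD A T.obj₂ j)) (j : ℤ) :
    Module.Finite A (Dual.HD A T.obj₃ j) := by
  let H := fun k => DerivedCategory.homologyFunctor (ModuleCat.{u} A) k
  haveI : Module.Finite A ((H j).obj T.obj₂) := h2 j
  haveI : Module.Finite A ((H (j + 1)).obj T.obj₁) := h1 (j + 1)
  let d := DerivedCategory.HomologySequence.δ T j (j + 1) rfl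
  have h := ((ShortComplex.moduleCat_exact_iff_range_eq_ker _).1
    (DerivedCategory.HomologySequence.exact₃ T hT j (j + 1) rfl))
  exact Module.Finite.of_exact (f := ((H j).map T.mor₂).hom) (g := d.hom.rangeRestrict)
    (LinearMap.exact_iff.2 (d.hom.ker_rangeRestrict.trans h.symm)) d.hom.surjective_rangeRestrict

theorem isSimpleModule_residueField : IsSimpleModule A (ResidueField A) :=
  isSimpleModule_iff_quot_maximal.mpr ⟨_, maximalIdeal.isMaximal A, ⟨LinearEquiv.refl _ _⟩⟩

theorem nonempty_iso_of_isNormalized {ω ω' : Dual.D A} (hω : Dual.IsDualizing A ω) (hn : Dual.IsNormalized A ω)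
    (hω' : Dual.IsDualizing A ω') (hn' : Dual.IsNormalized A ω') : Nonempty (ω' ≅ ω) := by
  let S := model hω
  let S' := model hω'
  obtain ⟨s, hs⟩ := S.exists_hull_E0 hω hn
  obtain ⟨s', hs'⟩ := S'.exists_hull_E0 hω' hn'
  let q : (A ⧸ maximalIdeal A ^ 1) →ₗ[A] ResidueField A :=
    Submodule.mapQ (maximalIdeal A ^ 1) (maximalIdeal A) LinearMap.id (fun x hx => by simpa using hx)
  have hq : Function.Surjective q := fun y => by
    obtain ⟨x, rfl⟩ := residue_surjective y
    exact ⟨Ideal.Quotient.mk _ x, rfl⟩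
  have hk : LocCoh.IsPowerTorsion (maximalIdeal A) (ResidueField A) := fun x => ⟨1, fun a ha => by
    obtain ⟨x, rfl⟩ := residue_surjective x
    rw [pow_one] at ha
    exact Ideal.Quotient.eq_zero_iff_mem.2 (Ideal.mul_mem_right _ _ ha)⟩
  let αk : HK ω' 0 (ResidueField A) := (S'.equivE0 hω' hn' hk).symm s'
  let α : HK ω' 0 (A ⧸ maximalIdeal A ^ 1) := pre ω' 0 q αk
  have hα : hdiι ω' 0 1 α ≠ 0 := fun hz => by
    obtain ⟨m, h, hm⟩ := (hdiι_eq_zero_iff α).1 hz
    have h1 := congrArg (S'.equivE0 hω' hn' (finite_quot_pow (A := A) m).2) hm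
    rw [map_zero, S'.equivE0_pre hω' hn' _ (finite_quot_pow (A := A) 1).2, S'.equivE0_pre hω' hn' _ hk,
      LinearEquiv.apply_symm_apply] at h1
    have hsurj : Function.Surjective (powMapQ (maximalIdeal A) h) := fun y => by
      obtain ⟨y, rfl⟩ := Ideal.Quotient.mk_surjective y
      exact ⟨Ideal.Quotient.mk _ y, rfl⟩
    obtain ⟨x, hx⟩ := (hq.comp hsurj) 1
    have h2 : s' 1 = 0 := by
      rw [← hx]
      exact LinearMap.congr_fun h1 x
    exact one_ne_zero (hs'.injective (h2.trans (map_zero s').symm))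
  have hne := fun (hc : S.phiD hω hn (LinearEquiv.refl A S.E0) ω' 0 (hdiι ω' 0 1 α) = 0) => hα ((S.bijective_phiD hω hn (LinearEquiv.refl A S.E0) hs ω' hω'.finite_cohomology 0).1
    (hc.trans (map_zero (S.phiD hω hn (LinearEquiv.refl A S.E0) ω' 0)).symm))
  obtain ⟨φ, hφ⟩ : ∃ φ : ω' ⟶ ω⟦-(0 : ℤ)⟧, α ≫ φ⟦(0 : ℤ)⟧' ≠ 0 := by
    by_contra hc
    push Not at hc
    refine hne (LinearMap.ext fun φ => ?_)
    rw [S.phiD_ι, LinearMap.zero_apply, ShiftedHom.comp, ← Category.assoc, hc φ, zero_comp, map_zero]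
  let c : ω⟦-(0 : ℤ)⟧ ≅ ω := (shiftFunctorZero' (Dual.D A) (-(0 : ℤ)) neg_zero).app ω
  let φ₀ : ω' ⟶ ω := φ ≫ c.hom
  have hαk : αk ≫ φ₀⟦(0 : ℤ)⟧' ≠ 0 := fun hc => by
    refine hφ ?_
    rw [← cancel_mono (c.hom⟦(0 : ℤ)⟧'), zero_comp, Category.assoc, ← Functor.map_comp]
    show (sMap q ≫ αk) ≫ φ₀⟦(0 : ℤ)⟧' = 0
    rw [Category.assoc, hc, comp_zero]
  haveI := isSimpleModule_residueField (A := A)
  have hbij : ∀ j : ℤ, Function.Bijective (Linear.rightComp A (Dual.inD A (ResidueField A)) (φ₀⟦j⟧') :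
      HK ω' j (ResidueField A) →ₗ[A] HK ω j (ResidueField A)) := fun j => by
    rcases eq_or_ne j 0 with rfl | hj
    · obtain ⟨e1⟩ := nonempty_HK_residueField hω' hn'
      obtain ⟨e2⟩ := nonempty_HK_residueField hω hn
      haveI := IsSimpleModule.congr e1
      haveI := IsSimpleModule.congr e2
      exact LinearMap.bijective_of_ne_zero fun hc => hαk (LinearMap.congr_fun hc αk)
    · haveI := hn j hj
      haveI := hn' j hj
      exact ⟨Function.injective_of_subsingleton _, fun v => ⟨0, Subsingleton.elim _ _⟩⟩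
  obtain ⟨Z, g, h, hT⟩ := distinguished_cocone_triangle φ₀
  let T := Triangle.mk φ₀ g h
  have hT' : T ∈ distTriang (Dual.D A) := hT
  have hZ : ∀ j, Module.Finite A (Dual.HD A Z j) :=
    finite_HD_obj₃ hT' hω'.finite_cohomology hω.finite_cohomology
  haveI := S.isGE
  haveI := S'.isGE
  let a : ℤ := min S.a (S'.a - 1)
  haveI : DerivedCategory.IsGE Z a :=
    DerivedCategory.TStructure.t.isGE₂ T.rotate (rot_of_distTriang _ hT') a
      (DerivedCategory.TStructure.t.isGE_of_ge ω a S.a (by omega))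
      (by
        show DerivedCategory.IsGE (ω'⟦(1 : ℤ)⟧) a
        haveI := isGE_shift_one (X := ω') S'.a (S'.a - 1) 1 (by omega)
        exact DerivedCategory.TStructure.t.isGE_of_ge _ a (S'.a - 1) (by omega))
  have hres : ∀ j, Subsingleton (HK Z j (ResidueField A)) := fun j => by
    refine subsingleton_of_forall_eq 0 fun v => ?_
    have hv : v ≫ h⟦j⟧' = 0 := by
      let iso := (shiftFunctorAdd' (Dual.D A) 1 j (1 + j) rfl)
      rw [← cancel_mono (iso.inv.app ω'), zero_comp]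
      refine (injective_iff_map_eq_zero _).1 (hbij (1 + j)).1 _ ?_
      show ((v ≫ h⟦j⟧') ≫ iso.inv.app ω') ≫ φ₀⟦1 + j⟧' = 0
      rw [Category.assoc, ← iso.inv.naturality φ₀, ← Category.assoc, Category.assoc v]
      erw [← Functor.map_comp]
      rw [show h ≫ φ₀⟦(1 : ℤ)⟧' = 0 from comp_distTriang_mor_zero₃₁ T hT', Functor.map_zero, comp_zero, zero_comp]
    obtain ⟨β, hβ⟩ := exists_comp_shift (rot_of_distTriang _ hT') j v hv
    obtain ⟨β', rfl⟩ := (hbij j).2 β
    rw [← hβ]
    show (β' ≫ φ₀⟦j⟧') ≫ g⟦j⟧' = 0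
    rw [Category.assoc, ← Functor.map_comp, show φ₀ ≫ g = 0 from comp_distTriang_mor_zero₁₂ T hT',
      Functor.map_zero, comp_zero]
  have hHD : ∀ j, IsZero ((DerivedCategory.homologyFunctor (ModuleCat.{u} A) j).obj Z) := fun j => by
    obtain ⟨SZ⟩ := nonempty_model Z hZ a a (fun i _ => hres i)
    obtain ⟨e⟩ := SZ.nonempty_HD_equiv j
    haveI := subsingleton_HK_of_residueField Z hZ a (j - 1) (fun i _ => hres i) A (i := j) (by omega)
    haveI : Subsingleton ((DerivedCategory.homologyFunctor (ModuleCat.{u} A) j).obj Z) :=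
      e.symm.injective.subsingleton
    exact ModuleCat.isZero_of_subsingleton _
  haveI : DerivedCategory.IsLE Z (a - 1) := (DerivedCategory.isLE_iff _ _).2 fun j _ => hHD j
  haveI : IsIso φ₀ := (T.isZero₃_iff_isIso₁ hT').1 (DerivedCategory.TStructure.t.isZero Z (a - 1) a (by omega))
  exact ⟨asIso φ₀⟩

theorem exists_shift_iso {ω ω' : Dual.D A} (hω : Dual.IsDualizing A ω) (hω' : Dual.IsDualizing A ω') :
    ∃ n : ℤ, Nonempty (ω' ≅ ω⟦n⟧) := by
  let d := dfn hω (closedPoint A)
  let d' := dfn hω' (closedPoint A)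
  obtain ⟨e⟩ := nonempty_iso_of_isNormalized (isDualizing_shift hω d) (isNormalized_shift hω)
    (isDualizing_shift hω' d') (isNormalized_shift hω')
  exact ⟨d + -d', ⟨(shiftEquiv (Dual.D A) d').unitIso.app ω' ≪≫ (shiftFunctor (Dual.D A) (-d')).mapIso e ≪≫
    shiftShift ω d (-d')⟩⟩

end Groth.Agent.DualCxLib
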