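import Groth.Agent.DualCxLib.FlatHom
import Groth.Agent.DualCxLib.Unique

/-!
# Flat base change of morphisms: dévissage
-/

set_option autoImplicit false
set_option backward.isDefEq.respectTransparency false
set_option linter.style.haveILetI false
set_option maxRecDepth 4000

universe u

open CategoryTheory Limits Pretriangulated
open scoped TensorProduct
attribute [local instance] HasDerivedCategory.standard

noncomputable section

namespace Groth.Agent.DualCxLib

open Groth.Agent.DRingLib

variable (A B : Type u) [CommRing A] [CommRing B] [Algebra A B] [Module.Flat A B]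
  [DRing.HasLBaseChange (algebraMap A B)]

theorem nonempty_HD_bcD (K : Dual.D A) (j : ℤ) :
    Nonempty (Dual.HD B ((bcD A B).obj K) j ≃ₗ[B] B ⊗[A] (Dual.HD A K j)) := by
  let G := DerivedCategory.Q.objPreimage K
  let e : DRing.toD G ≅ K := DerivedCategory.Q.objObjPreimageIso K
  exact ⟨(((DerivedCategory.homologyFunctor (ModuleCat.{u} B) j).mapIso ((bcD A B).mapIso e.symm)) ≪≫
    (bcHIso A B j).app G ≪≫
      (bcM A B).mapIso ((DerivedCategory.homologyFunctor (ModuleCat.{u} A) j).mapIso e)).toLinearEquiv.trans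
    (extendScalarsTensorEquiv A B _)⟩

theorem finite_HD_bcD {K : Dual.D A} {j : ℤ} (h : Module.Finite A (Dual.HD A K j)) :
    Module.Finite B (Dual.HD B ((bcD A B).obj K) j) := by
  obtain ⟨e⟩ := nonempty_HD_bcD A B K j
  haveI := h
  exact Module.Finite.equiv e.symm

theorem subsingleton_HD_bcD {K : Dual.D A} {j : ℤ} (h : Subsingleton (Dual.HD A K j)) :
    Subsingleton (Dual.HD B ((bcD A B).obj K) j) := by
  obtain ⟨e⟩ := nonempty_HD_bcD A B K j
  haveI := h
  haveI : Subsingleton (B ⊗[A] (Dual.HD A K j)) := subsingleton_of_forall_eq 0 fun x => by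
    induction x using TensorProduct.induction_on with
    | zero => rfl
    | tmul b m => rw [Subsingleton.elim m 0, TensorProduct.tmul_zero]
    | add x y hx hy => rw [hx, hy, add_zero]
  exact e.injective.subsingleton

theorem isGE_bcD (K : Dual.D A) (a : ℤ) [K.IsGE a] : DerivedCategory.IsGE ((bcD A B).obj K) a :=
  (DerivedCategory.isGE_iff _ _).2 fun j hj => ModuleCat.isZero_iff_subsingleton.2
    (subsingleton_HD_bcD A B (ModuleCat.subsingleton_of_isZero (DerivedCategory.isZero_of_isGE K a j hj)))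

theorem isLE_bcD (K : Dual.D A) (a : ℤ) [K.IsLE a] : DerivedCategory.IsLE ((bcD A B).obj K) a :=
  (DerivedCategory.isLE_iff _ _).2 fun j hj => ModuleCat.isZero_iff_subsingleton.2
    (subsingleton_HD_bcD A B (ModuleCat.subsingleton_of_isZero (DerivedCategory.isZero_of_isLE K a j hj)))

omit [Module.Flat A B] in
theorem bcD_exact {T : Triangle (Dual.D A)} (hT : T ∈ distTriang (Dual.D A)) {W : Dual.D B}
    (w : (bcD A B).obj T.obj₂ ⟶ W) (h : (bcD A B).map T.mor₁ ≫ w = 0) :
    ∃ w' : (bcD A B).obj T.obj₃ ⟶ W, w = (bcD A B).map T.mor₂ ≫ w' := by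
  let adj := DRingLib.lbcAdj (algebraMap A B)
  have h1 : T.mor₁ ≫ adj.homEquiv _ _ w = 0 := by
    rw [← adj.homEquiv_naturality_left, h, adj.homEquiv_unit, Functor.map_zero, comp_zero]
  obtain ⟨h', hh'⟩ := Triangle.yoneda_exact₂ T hT _ h1
  refine ⟨(adj.homEquiv _ _).symm h', ?_⟩
  rw [← adj.homEquiv_naturality_left_symm, ← hh', Equiv.symm_apply_apply]

variable {A}

theorem lTensor_exact_triangle {T : Triangle (Dual.D A)} (hT : T ∈ distTriang (Dual.D A)) (Y : Dual.D A)
    {x : B ⊗[A] (T.obj₂ ⟶ Y)} (h : (Linear.leftComp A Y T.mor₁).lTensor B x = 0) :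
    ∃ z, (Linear.leftComp A Y T.mor₂).lTensor B z = x := by
  refine (Module.Flat.lTensor_exact B (f := Linear.leftComp A Y T.mor₂) (g := Linear.leftComp A Y T.mor₁)
    (fun v => ⟨fun hv => ?_, ?_⟩) x).1 h
  · obtain ⟨v', hv'⟩ := Triangle.yoneda_exact₂ T hT v hv
    exact ⟨v', hv'.symm⟩
  · rintro ⟨v', rfl⟩
    show T.mor₁ ≫ T.mor₂ ≫ v' = 0
    rw [← Category.assoc, comp_distTriang_mor_zero₁₂ T hT, zero_comp]

variable (A) [IsNoetherianRing A]

theorem bijective_bcΦ_aux (Y : Dual.D A) (a : ℤ) [Y.IsGE a] : ∀ (k : ℕ) (X : Dual.D A), X.IsLE (a + k - 1) →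
    (∀ j, Module.Finite A (Dual.HD A X j)) → Function.Bijective (bcΦ A B X Y) := by
  intro k
  induction k with
  | zero =>
    intro X hX _
    haveI : Subsingleton (X ⟶ Y) := subsingleton_of_forall_eq 0 fun f =>
      DerivedCategory.TStructure.t.zero_of_isLE_of_isGE f (a + (0 : ℕ) - 1) a (by omega) hX inferInstance
    haveI := isLE_bcD A B X (a + (0 : ℕ) - 1)
    haveI := isGE_bcD A B Y a
    haveI : Subsingleton ((bcD A B).obj X ⟶ (bcD A B).obj Y) := subsingleton_of_forall_eq 0 fun f =>
      DerivedCategory.TStructure.t.zero_of_isLE_of_isGE f (a + (0 : ℕ) - 1) a (by omega) inferInstance inferInstance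
    haveI : Subsingleton (B ⊗[A] (X ⟶ Y)) := subsingleton_of_forall_eq 0 fun x => by
      induction x using TensorProduct.induction_on with
      | zero => rfl
      | tmul b m => rw [Subsingleton.elim m 0, TensorProduct.tmul_zero]
      | add x y hx hy => rw [hx, hy, add_zero]
    exact ⟨Function.injective_of_subsingleton _, fun w => ⟨0, Subsingleton.elim _ _⟩⟩
  | succ k ih =>
    let b : ℤ := a + k
    -- the triangle
    have tri : ∀ (X : Dual.D A), X.IsLE b → (∀ j, Module.Finite A (Dual.HD A X j)) →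
        ∃ T : Triangle (Dual.D A), T ∈ distTriang (Dual.D A) ∧ T.obj₂ = X ∧
          Function.Bijective (bcΦ A B T.obj₁ Y) ∧ Function.Bijective (bcΦ A B (T.obj₁⟦(1 : ℤ)⟧) Y) ∧
          Function.Bijective (bcΦ A B T.obj₃ Y) ∧ DerivedCategory.IsLE (T.obj₃⟦(-1 : ℤ)⟧) b ∧
          ∀ j, Module.Finite A (Dual.HD A T.obj₃ j) := by
      intro X hX hfin
      let H := DerivedCategory.homologyFunctor (ModuleCat.{u} A) b
      haveI : Module.Finite A (H.obj X) := hfin b
      obtain ⟨q, π0, hπ0⟩ := Module.Finite.exists_fin' A (H.obj X)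
      let M := ModuleCat.of A (Fin q → A)
      let c : H.obj (DRing.toD (sng b M)) ≅ M :=
        (DerivedCategory.homologyFunctorFactors (ModuleCat.{u} A) b).app (sng b M) ≪≫
          HomologicalComplex.singleObjHomologySelfIso (ComplexShape.up ℤ) b M
      obtain ⟨π, hπ⟩ := (bijective_homologyMap_sng b (M := M) X).2 (c.hom ≫ ModuleCat.ofHom π0)
      replace hπ : H.map π = c.hom ≫ ModuleCat.ofHom π0 := hπ
      obtain ⟨Z, g, h, hT⟩ := distinguished_cocone_triangle π
      let T := Triangle.mk π g h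
      haveI hP : DerivedCategory.IsLE (DRing.toD (sng b M)) b := by
        haveI : CochainComplex.IsStrictlyLE (sng b M) b :=
          (CochainComplex.isStrictlyLE_iff _ _).2 fun i hi => isZero_sng b M (by omega)
        infer_instance
      have hPfin : ∀ j, Module.Finite A (Dual.HD A (DRing.toD (sng b M)) j) := fun j => by
        let eP := ((DerivedCategory.homologyFunctorFactors (ModuleCat.{u} A) j).app (sng b M)).toLinearEquiv
        by_cases hj : j = b
        · subst hj
          exact Module.Finite.equiv c.toLinearEquiv.symm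
        · haveI : Subsingleton ((HomologicalComplex.homologyFunctor (ModuleCat.{u} A) (ComplexShape.up ℤ) j).obj (sng b M)) := ModuleCat.subsingleton_of_isZero
            (((HomologicalComplex.exactAt_single_obj (ComplexShape.up ℤ) b M j hj)).isZero_homology)
          haveI : Subsingleton (Dual.HD A (DRing.toD (sng b M)) j) := eP.injective.subsingleton
          exact Module.Finite.of_surjective (0 : A →ₗ[A] _) fun _ => ⟨0, Subsingleton.elim _ _⟩
      have hZfin : ∀ j, Module.Finite A (Dual.HD A Z j) := finite_HD_obj₃ (T := T) hT hPfin hfin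
      haveI hZ : DerivedCategory.IsLE Z (a + k - 1) := (DerivedCategory.isLE_iff _ _).2 fun j hj => by
        have hP' : IsZero ((DerivedCategory.homologyFunctor (ModuleCat.{u} A) (j + 1)).obj T.obj₁) :=
          DerivedCategory.isZero_of_isLE (DRing.toD (sng b M)) b (j + 1) (by omega)
        have hex := DerivedCategory.HomologySequence.exact₃ T hT j (j + 1) rfl
        have hg0 : (DerivedCategory.homologyFunctor (ModuleCat.{u} A) j).map T.mor₂ = 0 := by
          rcases lt_or_eq_of_le (show b ≤ j by omega) with hj' | rfl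
          · exact (DerivedCategory.isZero_of_isLE X b j hj').eq_of_src _ _
          · haveI : Epi (H.map π) := by
              rw [hπ]
              haveI : Epi (ModuleCat.ofHom π0 : M ⟶ H.obj X) := (ModuleCat.epi_iff_surjective _).2 hπ0
              infer_instance
            rw [← cancel_epi (H.map π), comp_zero, ← Functor.map_comp]
            show H.map (T.mor₁ ≫ T.mor₂) = 0
            rw [comp_distTriang_mor_zero₁₂ T hT, Functor.map_zero]
        exact hex.isZero_of_both_zeros hg0 (hP'.eq_of_tgt _ _)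
      haveI hfree : ∀ n, Function.Bijective (bcΦ A B (DRing.toD (sng n M)) Y) := fun n => bijective_bcΦ_sng A B n M Y
      refine ⟨T, hT, rfl, hfree b, bijective_bcΦ_of_iso A B ?_ (hfree (b - 1)), ih Z hZ hZfin,
        DerivedCategory.TStructure.t.isLE_shift Z (a + k - 1) (-1) b (by omega), hZfin⟩
      exact ((singleQIso (b - 1) M).symm ≪≫
        ((shiftFunctorAdd' (Dual.D A) (-b) 1 (-(b - 1)) (by omega)).app _) ≪≫
          (shiftFunctor (Dual.D A) (1 : ℤ)).mapIso (singleQIso b M))
    have hinj : ∀ (X : Dual.D A), X.IsLE b → (∀ j, Module.Finite A (Dual.HD A X j)) →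
        Function.Injective (bcΦ A B X Y) := by
      intro X hX hfin
      obtain ⟨T, hT, rfl, hP, hP1, hZ, -, -⟩ := tri X hX hfin
      refine (injective_iff_map_eq_zero _).2 fun x hx => ?_
      obtain ⟨z, rfl⟩ := lTensor_exact_triangle B hT Y (x := x) ((injective_iff_map_eq_zero _).1 hP.1 _ (by
        rw [bcΦ_comp, hx, comp_zero]))
      rw [bcΦ_comp] at hx
      obtain ⟨w, hw⟩ := bcD_exact A B (rot_of_distTriang _ hT) _ hx
      obtain ⟨p, rfl⟩ := hP1.2 w
      have hz : z = (Linear.leftComp A Y T.mor₃).lTensor B p := hZ.1 (by rw [bcΦ_comp]; exact hw)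
      rw [hz, ← LinearMap.lTensor_comp_apply,
        show Linear.leftComp A Y T.mor₂ ∘ₗ Linear.leftComp A Y T.mor₃ = 0 from LinearMap.ext fun v => by
          show T.mor₂ ≫ T.mor₃ ≫ v = 0
          rw [← Category.assoc, comp_distTriang_mor_zero₂₃ T hT, zero_comp],
        LinearMap.lTensor_zero, LinearMap.zero_apply]
    intro X hX hfin
    have hX' : X.IsLE b := DerivedCategory.TStructure.t.isLE_of_le X (a + (k + 1 : ℕ) - 1) b (by omega)
    refine ⟨hinj X hX' hfin, fun w => ?_⟩
    obtain ⟨T, hT, rfl, hP, -, hZ, hZ', hZfin⟩ := tri X hX' hfin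
    obtain ⟨p, hp⟩ := hP.2 ((bcD A B).map T.mor₁ ≫ w)
    obtain ⟨x, hx⟩ := lTensor_exact_triangle B (inv_rot_of_distTriang _ hT) Y (x := p)
      ((injective_iff_map_eq_zero _).1
        (hinj (T.obj₃⟦(-1 : ℤ)⟧) hZ' (fun j => finite_HD_shift' hZfin (-1) j)) _ (by
      refine (bcΦ_comp A B T.invRotate.mor₁ p).trans ?_
      rw [show bcΦ A B T.invRotate.obj₂ Y p = (bcD A B).map T.mor₁ ≫ w from hp, ← Category.assoc]
      erw [← Functor.map_comp]
      rw [show T.invRotate.mor₁ ≫ T.mor₁ = 0 from comp_distTriang_mor_zero₁₂ _ (inv_rot_of_distTriang _ hT),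
        Functor.map_zero, zero_comp]))
    have h0 : (bcD A B).map T.mor₁ ≫ (w - bcΦ A B T.obj₂ Y x) = 0 := by
      rw [Preadditive.comp_sub, ← bcΦ_comp, sub_eq_zero, ← hp]
      exact congrArg _ hx.symm
    obtain ⟨w', hw'⟩ := bcD_exact A B hT _ h0
    obtain ⟨z, rfl⟩ := hZ.2 w'
    exact ⟨(show B ⊗[A] (T.obj₂ ⟶ Y) from x) + (Linear.leftComp A Y T.mor₂).lTensor B z, by rw [map_add, bcΦ_comp, ← hw', add_sub_cancel]⟩

/-- Morphisms from bounded above objects with finite cohomology commute with flat base change. -/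
theorem bijective_bcΦ (X Y : Dual.D A) (a b : ℤ) [Y.IsGE a] [X.IsLE b]
    (hX : ∀ j, Module.Finite A (Dual.HD A X j)) : Function.Bijective (bcΦ A B X Y) :=
  bijective_bcΦ_aux A B Y a (b + 1 - a).toNat X
    (DerivedCategory.TStructure.t.isLE_of_le X b _ (by omega)) hX

end Groth.Agent.DualCxLib
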