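import Groth.Agent.DualCxLib.ResField
import Mathlib.RingTheory.Ideal.KrullsHeightTheorem
import Mathlib.RingTheory.Spectrum.Prime.Topology

/-!
# The dimension function of a dualizing complex
-/

set_option autoImplicit false
set_option backward.isDefEq.respectTransparency false

universe u

open CategoryTheory
attribute [local instance] HasDerivedCategory.standard

noncomputable section

namespace Groth.Agent.DualCxLib

variable {A : Type u} [CommRing A] [IsNoetherianRing A]

theorem wellFoundedLT_spec : WellFoundedLT (PrimeSpectrum A) := by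
  refine ⟨Subrelation.wf (fun {p q} h => ?_)
    (InvImage.wf (fun p : PrimeSpectrum A => p.asIdeal.height.toNat) Nat.lt_wfRel.wf)⟩
  show p.asIdeal.height.toNat < q.asIdeal.height.toNat
  have h1 := Ideal.height_add_one_le_of_lt_of_isPrime (PrimeSpectrum.asIdeal_lt_asIdeal p q |>.2 h)
  obtain ⟨a, ha⟩ := ENat.ne_top_iff_exists.1 p.asIdeal.height_ne_top_of_isPrime
  obtain ⟨b, hb⟩ := ENat.ne_top_iff_exists.1 q.asIdeal.height_ne_top_of_isPrime
  rw [← ha, ← hb] at h1 ⊢
  norm_cast at h1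

theorem wellFoundedGT_spec : WellFoundedGT (PrimeSpectrum A) :=
  ⟨Subrelation.wf (fun {p q} (h : q < p) => show q.asIdeal < p.asIdeal from h)
    (InvImage.wf (fun p : PrimeSpectrum A => p.asIdeal) wellFounded_gt)⟩

theorem exists_covBy_of_lt' {p q : PrimeSpectrum A} (h : p < q) : ∃ r, p ⋖ r ∧ r ≤ q := by
  obtain ⟨r, ⟨hr, hrq⟩, hmin⟩ := (wellFoundedLT_spec (A := A)).wf.has_min {r | p < r ∧ r ≤ q} ⟨q, h, le_rfl⟩
  exact ⟨r, ⟨hr, fun s hs hsr => hmin s ⟨hs, hsr.le.trans hrq⟩ hsr⟩, hrq⟩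

theorem exists_covBy_le_of_lt' {p q : PrimeSpectrum A} (h : p < q) : ∃ r, p ≤ r ∧ r ⋖ q := by
  obtain ⟨r, ⟨hpr, hr⟩, hmax⟩ := (wellFoundedGT_spec (A := A)).wf.has_min {r | p ≤ r ∧ r < q} ⟨p, le_rfl, h⟩
  exact ⟨r, hpr, hr, fun s hs hsq => hmax s ⟨hpr.trans hs.le, hsq⟩ hs⟩

variable {ω : Dual.D A} (hω : Dual.IsDualizing A ω)
include hω

/-- A chosen injective model. -/
def model : Model ω := (Model.exists_of hω.finite_injective_dimension).some

theorem finite_HK_unit (i : ℤ) : Module.Finite A (HK ω i A) := by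
  obtain ⟨e⟩ := (model hω).nonempty_HD_equiv i
  haveI := hω.finite_cohomology i
  exact Module.Finite.equiv e.symm

theorem finite_HK' (i : ℤ) (M : Type u) [AddCommGroup M] [Module A M] [Module.Finite A M] :
    Module.Finite A (HK ω i M) :=
  finite_HK ω (finite_HK_unit hω) (model hω).a
    (fun M _ _ _ hi => (model hω).subsingleton_HK (M := M) (Or.inl hi)) i M

theorem mem_range_of_not_zeroAt {p : Ideal A} [p.IsPrime] {M : Type u} [AddCommGroup M] [Module A M] {i : ℤ}
    (h : ¬ ZeroAt p (HK ω i M)) : (model hω).a ≤ i ∧ i ≤ (model hω).b := by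
  by_contra hc
  haveI := (model hω).subsingleton_HK (M := M) (i := i) (by omega)
  exact h .of_subsingleton

theorem exists_not_zeroAt_unit (p : Ideal A) [p.IsPrime] : ∃ i, ¬ ZeroAt p (HK ω i A) := by
  by_contra hc
  push Not at hc
  choose s hs hs' using fun i => haveI := finite_HK_unit hω i; exists_annihilator_of_zeroAt (hc i)
  let σ := ∏ i ∈ Finset.Icc (model hω).a (model hω).b, s i
  have hσ : σ ∉ p := fun h => by
    obtain ⟨i, -, hi⟩ := (Ideal.IsPrime.prod_mem_iff).1 h
    exact hs i hi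
  obtain ⟨N, hN⟩ := (model hω).exists_pow_smul_id σ fun i u => by
    by_cases hi : i ∈ Finset.Icc (model hω).a (model hω).b
    · obtain ⟨c, hc⟩ := Finset.dvd_prod_of_mem s hi
      rw [show σ = c * s i from hc.trans (mul_comm _ _), mul_smul, hs', smul_zero]
    · haveI := (model hω).subsingleton_HK (M := A) (i := i) (by rw [Finset.mem_Icc] at hi; omega)
      exact Subsingleton.elim _ _
  have h0 : σ ^ N = 0 := hω.toEnd_bijective.1 (hN.trans (zero_smul A (𝟙 ω)).symm)
  exact hσ (Ideal.IsPrime.mem_of_pow_mem ‹_› N (h0 ▸ p.zero_mem))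

/-- The step from a prime to a larger one. -/
theorem zeroAt_step (p : PrimeSpectrum A) (q : Ideal A) [q.IsPrime] (hpq : p.asIdeal < q) (i : ℤ)
    (h : ∀ Q : PrimeSpectrum A, p < Q → Q.asIdeal ≤ q → ZeroAt q (HK ω (i + 1) (A ⧸ Q.asIdeal))) :
    ZeroAt q (HK ω i (A ⧸ p.asIdeal)) := by
  obtain ⟨x, hxq, hxp⟩ := SetLike.exists_of_lt hpq
  let f : (A ⧸ p.asIdeal) →ₗ[A] (A ⧸ p.asIdeal) := x • LinearMap.id
  have hf : Function.Injective f := by
    rw [injective_iff_map_eq_zero]
    intro y hy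
    have hy' : Ideal.Quotient.mk p.asIdeal x * y = 0 := hy
    exact (mul_eq_zero.1 hy').resolve_left fun h0 => hxp (Ideal.Quotient.eq_zero_iff_mem.1 h0)
  have hfg : Function.Exact f (LinearMap.range f).mkQ := LinearMap.exact_map_mkQ_range f
  haveI hC : ZeroAt q (HK ω (i + 1) ((A ⧸ p.asIdeal) ⧸ LinearMap.range f)) := by
    refine zeroAt_HK_of_primes ω (i + 1) q _ fun Q hQ hQs => h Q (lt_of_le_of_ne ?_ ?_) hQ
    · intro a ha
      refine Module.annihilator_le_of_mem_support hQs (Module.mem_annihilator.2 fun y => ?_)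
      obtain ⟨y, rfl⟩ := Submodule.Quotient.mk_surjective _ y
      rw [← Submodule.Quotient.mk_smul, show a • y = 0 by
        obtain ⟨y, rfl⟩ := Ideal.Quotient.mk_surjective y
        exact Ideal.Quotient.eq_zero_iff_mem.2 (p.asIdeal.mul_mem_right y ha), Submodule.Quotient.mk_zero]
    · rintro rfl
      refine hxp (Module.annihilator_le_of_mem_support hQs (Module.mem_annihilator.2 fun y => ?_))
      obtain ⟨y, rfl⟩ := Submodule.Quotient.mk_surjective _ y
      rw [← Submodule.Quotient.mk_smul, Submodule.Quotient.mk_eq_zero]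
      exact ⟨y, rfl⟩
  haveI := finite_HK' hω i (A ⧸ p.asIdeal)
  refine zeroAt_of_smul_surjective hxq fun y => ?_
  obtain ⟨s, hs, hsy⟩ := hC (δ ω hf hfg (Submodule.mkQ_surjective _) i y)
  obtain ⟨z, hz⟩ := exists_pre_eq ω hf hfg (Submodule.mkQ_surjective _) i (s • y) (by rw [map_smul, hsy])
  exact ⟨s, hs, z, by rw [← hz, pre_smul_id]⟩

theorem exists_not_zeroAt : ∀ p : PrimeSpectrum A, ∃ i, ¬ ZeroAt p.asIdeal (HK ω i (A ⧸ p.asIdeal)) := by
  intro p
  induction p using (wellFoundedLT_spec (A := A)).wf.induction with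
  | _ p ih =>
    by_cases hmin : ∃ q, q < p
    · obtain ⟨q, hq⟩ := hmin
      obtain ⟨r, -, hr⟩ := exists_covBy_le_of_lt' hq
      obtain ⟨i, hi⟩ := ih r hr.lt
      refine ⟨i + 1, fun hz => hi (ZeroAt.of_le hr.lt.le (zeroAt_step hω r p.asIdeal hr.lt i ?_))⟩
      intro Q hQ hQp
      obtain rfl : Q = p := by
        rcases lt_or_eq_of_le (show Q ≤ p from hQp) with h1 | h1
        · exact (hr.2 hQ h1).elim
        · exact h1
      exact hz
    · push Not at hmin
      obtain ⟨i, hi⟩ := exists_not_zeroAt_unit hω p.asIdeal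
      refine ⟨i, fun hz => hi (zeroAt_HK_of_primes ω i p.asIdeal A fun Q hQ _ => ?_)⟩
      obtain rfl : Q = p := by
        rcases lt_or_eq_of_le (show Q ≤ p from hQ) with h1 | h1
        · exact absurd h1 (hmin Q)
        · exact h1
      exact hz

/-- The degree in which `ω` lives at a prime. -/
def dfn (p : PrimeSpectrum A) : ℤ := (exists_not_zeroAt hω p).choose

theorem not_zeroAt_dfn (p : PrimeSpectrum A) : ¬ ZeroAt p.asIdeal (HK ω (dfn hω p) (A ⧸ p.asIdeal)) :=
  (exists_not_zeroAt hω p).choose_spec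

theorem succ_not_zeroAt {p q : PrimeSpectrum A} (h : p ⋖ q) {i : ℤ}
    (hi : ¬ ZeroAt p.asIdeal (HK ω i (A ⧸ p.asIdeal))) :
    ¬ ZeroAt q.asIdeal (HK ω (i + 1) (A ⧸ q.asIdeal)) := fun hz =>
  hi (ZeroAt.of_le h.lt.le (zeroAt_step hω p q.asIdeal h.lt i fun Q hQ hQq => by
    obtain rfl : Q = q := by
      rcases lt_or_eq_of_le (show Q ≤ q from hQq) with h1 | h1
      · exact (h.2 hQ h1).elim
      · exact h1
    exact hz))

theorem eq_dfn : ∀ (p : PrimeSpectrum A) (i : ℤ), ¬ ZeroAt p.asIdeal (HK ω i (A ⧸ p.asIdeal)) →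
    i = dfn hω p := by
  intro p
  induction p using (wellFoundedGT_spec (A := A)).wf.induction with
  | _ p ih =>
    intro i hi
    by_cases hmax : ∃ q, p < q
    · obtain ⟨q, hq⟩ := hmax
      obtain ⟨r, hr, -⟩ := exists_covBy_of_lt' hq
      have h1 := ih r hr.lt _ (succ_not_zeroAt hω hr hi)
      have h2 := ih r hr.lt _ (succ_not_zeroAt hω hr (not_zeroAt_dfn hω p))
      omega
    · push Not at hmax
      haveI : p.asIdeal.IsMaximal := by
        obtain ⟨M, hM, hpM⟩ := Ideal.exists_le_maximal p.asIdeal p.2.ne_top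
        rcases lt_or_eq_of_le hpM with h1 | h1
        · exact (hmax ⟨M, hM.isPrime⟩ h1).elim
        · exact h1.symm ▸ hM
      have hne : ∀ k, ¬ ZeroAt p.asIdeal (HK ω k (A ⧸ p.asIdeal)) →
          Nontrivial ((model hω).T (A ⧸ p.asIdeal) k) := fun k hk => by
        rw [← not_subsingleton_iff_nontrivial]
        intro hs
        haveI := ((model hω).equivHK (A ⧸ p.asIdeal) k).symm.injective.subsingleton
        exact hk .of_subsingleton
      exact (model hω).T_eq_of_nontrivial hω p.asIdeal (hne i hi) (hne _ (not_zeroAt_dfn hω p))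

theorem zeroAt_of_ne_dfn {p : PrimeSpectrum A} {i : ℤ} (hi : i ≠ dfn hω p) :
    ZeroAt p.asIdeal (HK ω i (A ⧸ p.asIdeal)) :=
  by_contra fun h => hi (eq_dfn hω p i h)

theorem dfn_covBy {p q : PrimeSpectrum A} (h : p ⋖ q) : dfn hω q = dfn hω p + 1 :=
  (eq_dfn hω q _ (succ_not_zeroAt hω h (not_zeroAt_dfn hω p))).symm

theorem dfn_lt : ∀ {p q : PrimeSpectrum A}, p < q → dfn hω p < dfn hω q := by
  intro p
  induction p using (wellFoundedGT_spec (A := A)).wf.induction with
  | _ p ih =>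
    intro q hq
    obtain ⟨r, hr, hrq⟩ := exists_covBy_of_lt' hq
    have h1 := dfn_covBy hω hr
    rcases lt_or_eq_of_le hrq with h2 | rfl
    · have := ih r hr.lt h2
      omega
    · omega

theorem dfn_le {p q : PrimeSpectrum A} (h : p ≤ q) : dfn hω p ≤ dfn hω q := by
  rcases lt_or_eq_of_le h with h1 | rfl
  · exact (dfn_lt hω h1).le
  · exact le_rfl

theorem dfn_mem (p : PrimeSpectrum A) : (model hω).a ≤ dfn hω p ∧ dfn hω p ≤ (model hω).b :=
  mem_range_of_not_zeroAt hω (not_zeroAt_dfn hω p)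

theorem dfn_ltSeries (l : LTSeries (PrimeSpectrum A)) :
    (l.length : ℤ) ≤ dfn hω l.last - dfn hω l.head := by
  have h : ∀ k : ℕ, (hk : k < l.length + 1) → (k : ℤ) ≤ dfn hω (l ⟨k, hk⟩) - dfn hω l.head := by
    intro k
    induction k with
    | zero => exact fun _ => by simp [RelSeries.head]
    | succ k ih =>
      intro hk
      have h1 := ih (by omega)
      have h2 := dfn_lt hω (l.strictMono (show (⟨k, by omega⟩ : Fin (l.length + 1)) < ⟨k + 1, hk⟩ by simp))
      push_cast
      omega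
  exact h l.length (by omega)

/-- Behaviour of `A/Q` at a larger prime. -/
theorem bounds_of_not_zeroAt (p : PrimeSpectrum A) : ∀ Q : PrimeSpectrum A, Q ≤ p → ∀ i : ℤ,
    ¬ ZeroAt p.asIdeal (HK ω i (A ⧸ Q.asIdeal)) →
      dfn hω Q ≤ i ∧ i ≤ dfn hω p ∧ (Q < p → i < dfn hω p) := by
  intro Q
  induction Q using (wellFoundedGT_spec (A := A)).wf.induction with
  | _ Q ih =>
    intro hQp i hi
    rcases lt_or_eq_of_le hQp with hlt | rfl
    · by_contra hc
      refine hi (zeroAt_step hω Q p.asIdeal hlt i fun R hR hRp => by_contra fun hR' => hc ?_)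
      obtain ⟨h1, h2, -⟩ := ih R hR hRp (i + 1) hR'
      have := dfn_lt hω hR
      refine ⟨by omega, by omega, fun _ => by omega⟩
    · obtain rfl := eq_dfn hω Q i hi
      exact ⟨le_rfl, le_rfl, fun h => absurd h (lt_irrefl _)⟩

variable {M : Type u} [AddCommGroup M] [Module A M] [Module.Finite A M]

theorem le_of_not_zeroAt (p : PrimeSpectrum A) {lo i : ℤ}
    (hlo : ∀ Q ∈ Module.support A M, Q ≤ p → lo ≤ dfn hω Q) (h : ¬ ZeroAt p.asIdeal (HK ω i M)) : lo ≤ i := by
  by_contra hc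
  refine h (zeroAt_HK_of_primes ω i p.asIdeal M fun Q hQ hQs => by_contra fun hz => hc ?_)
  exact (hlo Q hQs hQ).trans (bounds_of_not_zeroAt hω p Q hQ i hz).1

theorem le_dfn_of_not_zeroAt (p : PrimeSpectrum A) {i : ℤ} (h : ¬ ZeroAt p.asIdeal (HK ω i M)) :
    i ≤ dfn hω p := by
  by_contra hc
  exact h (zeroAt_HK_of_primes ω i p.asIdeal M fun Q hQ _ => by_contra fun hz =>
    hc (bounds_of_not_zeroAt hω p Q hQ i hz).2.1)

theorem not_zeroAt_of_minimal (P : PrimeSpectrum A) (hP : P ∈ Module.support A M)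
    (hmin : ∀ Q ∈ Module.support A M, Q ≤ P → Q = P) : ¬ ZeroAt P.asIdeal (HK ω (dfn hω P) M) := by
  revert hP hmin
  apply IsNoetherianRing.induction_on_isQuotientEquivQuotientPrime A (M := M) ‹_›
    (motive := fun N _ _ _ => P ∈ Module.support A N → (∀ Q ∈ Module.support A N, Q ≤ P → Q = P) →
      ¬ ZeroAt P.asIdeal (HK ω (dfn hω P) N))
  · intro N _ _ _ _ hP
    rw [Module.support_eq_empty] at hP
    exact hP.elim
  · intro N _ _ _ Q e hP hmin
    have hQs : Q ∈ Module.support A N := by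
      rw [e.support_eq, Module.mem_support_iff_of_finite, Ideal.annihilator_quotient]
    have hQP : Q ≤ P := by
      have := Module.annihilator_le_of_mem_support (e.support_eq ▸ hP)
      rwa [Ideal.annihilator_quotient] at this
    obtain rfl := hmin Q hQs hQP
    rw [← zeroAt_congr (preEquiv ω _ e)]
    exact not_zeroAt_dfn hω Q
  · intro N₁ _ _ _ N₂ _ _ _ N₃ _ _ _ f g hf hg hfg h1 h3 hP hmin hz
    have hlow : ∀ (N : Type u) [AddCommGroup N] [Module A N] [Module.Finite A N],
        Module.support A N ⊆ Module.support A N₂ → ∀ i, i ≠ dfn hω P → ZeroAt P.asIdeal (HK ω i N) := by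
      intro N _ _ _ hN i hi
      refine zeroAt_HK_of_primes ω i P.asIdeal N fun Q hQ hQs => ?_
      obtain rfl := hmin Q (hN hQs) hQ
      exact zeroAt_of_ne_dfn hω hi
    have hs1 := Module.support_subset_of_injective (R := A) f hf
    have hs3 := Module.support_subset_of_surjective (R := A) g hg
    rw [Module.support_of_exact hfg hf hg] at hP
    rcases hP with hP | hP
    · exact h1 hP (fun Q hQ hQP => hmin Q (hs1 hQ) hQP)
        (ZeroAt.of_exact (exact_left ω hf hfg hg _) hz (hlow N₃ hs3 _ (by omega)))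
    · obtain ⟨j, hj⟩ : ∃ j, dfn hω P = j + 1 := ⟨dfn hω P - 1, by omega⟩
      rw [hj] at hz
      refine h3 hP (fun Q hQ hQP => hmin Q (hs3 hQ) hQP) ?_
      rw [hj]
      exact ZeroAt.of_exact (exact_right ω hf hfg hg j) (hlow N₁ hs1 j (by omega)) hz

end Groth.Agent.DualCxLib
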