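import Groth.Agent.DualCxLib.Duality
import Groth.Prelude.Def_DRing2
import Mathlib.CategoryTheory.Triangulated.TStructure.TruncLTGE

/-!
# Truncation arguments in the derived category
-/

set_option autoImplicit false
set_option backward.isDefEq.respectTransparency false
set_option maxRecDepth 4000

universe u

open CategoryTheory Limits Pretriangulated
attribute [local instance] HasDerivedCategory.standard

noncomputable section

namespace Groth.Agent.DualCxLib

variable {A : Type u} [CommRing A]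

/-- The lower truncation triangle. -/
abbrev ltTri (n : ℤ) (X : Dual.D A) : Triangle (Dual.D A) :=
  (DerivedCategory.TStructure.t.triangleLTGE n).obj X

theorem ltTri_mem (n : ℤ) (X : Dual.D A) : ltTri n X ∈ distTriang (Dual.D A) :=
  DerivedCategory.TStructure.t.triangleLTGE_distinguished n X

theorem HD_ltTri₁_of_le (n : ℤ) (X : Dual.D A) {j : ℤ} (hj : n ≤ j) :
    IsZero ((DerivedCategory.homologyFunctor (ModuleCat.{u} A) j).obj (ltTri n X).obj₁) :=
  DerivedCategory.isZero_of_isLE _ (n - 1) j (by omega)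

theorem HD_ltTri₃_of_lt (n : ℤ) (X : Dual.D A) {j : ℤ} (hj : j < n) :
    IsZero ((DerivedCategory.homologyFunctor (ModuleCat.{u} A) j).obj (ltTri n X).obj₃) :=
  DerivedCategory.isZero_of_isGE _ n j hj

theorem HD_ltTri₁_injective (n : ℤ) (X : Dual.D A) {j : ℤ} (hj : j ≤ n) :
    Function.Injective ((DerivedCategory.homologyFunctor (ModuleCat.{u} A) j).map (ltTri n X).mor₁).hom := by
  rw [← ModuleCat.mono_iff_injective]
  refine (DerivedCategory.HomologySequence.mono_homologyMap_mor₁_iff (ltTri n X) (ltTri_mem n X) (j - 1) j (by omega)).2 ?_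
  exact (HD_ltTri₃_of_lt n X (by omega)).eq_of_src _ _

theorem HD_ltTri₃_surjective (n : ℤ) (X : Dual.D A) {j : ℤ} (hj : n ≤ j + 1) :
    Function.Surjective ((DerivedCategory.homologyFunctor (ModuleCat.{u} A) j).map (ltTri n X).mor₂).hom := by
  rw [← ModuleCat.epi_iff_surjective]
  refine (DerivedCategory.HomologySequence.epi_homologyMap_mor₂_iff (ltTri n X) (ltTri_mem n X) j (j + 1) rfl).2 ?_
  exact (HD_ltTri₁_of_le n X hj).eq_of_tgt _ _

variable [IsNoetherianRing A]

theorem finite_HD_ltTri (n : ℤ) (X : Dual.D A) (hX : ∀ j, Module.Finite A (Dual.HD A X j)) :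
    (∀ j, Module.Finite A (Dual.HD A (ltTri n X).obj₁ j)) ∧
      ∀ j, Module.Finite A (Dual.HD A (ltTri n X).obj₃ j) := by
  refine ⟨fun j => ?_, fun j => ?_⟩
  · by_cases hj : n ≤ j
    · haveI := ModuleCat.subsingleton_of_isZero (HD_ltTri₁_of_le n X hj)
      exact Module.Finite.of_surjective (0 : A →ₗ[A] _) fun _ => ⟨0, Subsingleton.elim _ _⟩
    · haveI : Module.Finite A ((DerivedCategory.homologyFunctor (ModuleCat.{u} A) j).obj (ltTri n X).obj₂) := hX j
      exact Module.Finite.of_injective _ (HD_ltTri₁_injective n X (j := j) (by omega))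
  · by_cases hj : j < n
    · haveI := ModuleCat.subsingleton_of_isZero (HD_ltTri₃_of_lt n X hj)
      exact Module.Finite.of_surjective (0 : A →ₗ[A] _) fun _ => ⟨0, Subsingleton.elim _ _⟩
    · haveI : Module.Finite A ((DerivedCategory.homologyFunctor (ModuleCat.{u} A) j).obj (ltTri n X).obj₂) := hX j
      exact Module.Finite.of_surjective _ (HD_ltTri₃_surjective n X (j := j) (by omega))

/-- Morphisms out of a single object. -/
def singleHomEquiv (L : Dual.D A) (a i : ℤ) (Y : ModuleCat.{u} A) :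
    ((DerivedCategory.singleFunctor (ModuleCat.{u} A) a).obj Y ⟶ L⟦i⟧) ≃ₗ[A] HK L (i + a) Y :=
  (LinearEquiv.ofBijective ((shiftFunctor (Dual.D A) a).mapLinearMap A)
    ⟨Functor.map_injective _, Functor.map_surjective _⟩).trans
    (Linear.homCongr A (((DerivedCategory.singleFunctors (ModuleCat.{u} A)).shiftIso a 0 a (add_zero a)).app Y)
      ((shiftFunctorAdd' (Dual.D A) i a (i + a) rfl).app L).symm)

theorem devissage (L : Dual.D A) (i : ℤ) (P : ModuleCat.{u + 1} A → Prop)
    (hiso : ∀ {U V : ModuleCat.{u + 1} A}, (U ≃ₗ[A] V) → P U → P V)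
    (hext : ∀ {U V W : ModuleCat.{u + 1} A} (f : U →ₗ[A] V) (g : V →ₗ[A] W), Function.Exact f g → P U → P W → P V) :
    ∀ (k : ℕ) (a : ℤ) (X : Dual.D A), X.IsGE a → X.IsLE (a + k) → (∀ j, Module.Finite A (Dual.HD A X j)) →
      (∀ (Y : Type u) [AddCommGroup Y] [Module A Y] [Module.Finite A Y] (j : ℤ), a ≤ j → j ≤ a + k →
        P (ModuleCat.of A (HK L (i + j) Y))) → P (ModuleCat.of A (X ⟶ L⟦i⟧)) := by
  intro k
  induction k with
  | zero =>
    intro a X hge hle hX h
    rw [Nat.cast_zero, add_zero] at hle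
    obtain ⟨Y, ⟨e⟩⟩ := DerivedCategory.exists_iso_singleFunctor_obj_of_isGE_of_isLE X a
    haveI : Module.Finite A Y := by
      haveI := hX a
      exact Module.Finite.equiv (((DerivedCategory.homologyFunctor (ModuleCat.{u} A) a).mapIso e).trans
        ((DerivedCategory.singleFunctorCompHomologyFunctorIso (ModuleCat.{u} A) a).app Y)).toLinearEquiv
    exact hiso ((Linear.homCongr A e (Iso.refl (L⟦i⟧))).trans (singleHomEquiv L a i Y)).symm
      (h Y a le_rfl (by simp))
  | succ k ih =>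
    intro a X hge hle hX h
    obtain ⟨hfin₁, hfin₃⟩ := finite_HD_ltTri (a + (k + 1 : ℕ)) X hX
    let T := ltTri (a + (k + 1 : ℕ)) X
    have h1 : P (ModuleCat.of A (T.obj₁ ⟶ L⟦i⟧)) := by
      refine ih a T.obj₁ ((DerivedCategory.isGE_iff _ a).2 fun j hj => ?_)
        ((DerivedCategory.isLE_iff _ _).2 fun j hj => HD_ltTri₁_of_le _ X (by push_cast; omega))
        hfin₁ fun Y _ _ _ j h1 h2 => h Y j h1 (by push_cast; omega)
      haveI : Subsingleton ((DerivedCategory.homologyFunctor (ModuleCat.{u} A) j).obj T.obj₂) :=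
        ModuleCat.subsingleton_of_isZero (DerivedCategory.isZero_of_isGE X a j hj)
      haveI := (HD_ltTri₁_injective (a + (k + 1 : ℕ)) X (j := j) (by omega)).subsingleton
      exact ModuleCat.isZero_of_subsingleton _
    have h3 : P (ModuleCat.of A (T.obj₃ ⟶ L⟦i⟧)) := by
      haveI : T.obj₃.IsGE (a + (k + 1 : ℕ)) :=
        (DerivedCategory.isGE_iff _ _).2 fun j hj => HD_ltTri₃_of_lt _ X hj
      haveI : T.obj₃.IsLE (a + (k + 1 : ℕ)) := by
        refine (DerivedCategory.isLE_iff _ _).2 fun j hj => ?_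
        haveI : Subsingleton ((DerivedCategory.homologyFunctor (ModuleCat.{u} A) j).obj T.obj₂) :=
          ModuleCat.subsingleton_of_isZero (DerivedCategory.isZero_of_isLE X _ j hj)
        haveI := (HD_ltTri₃_surjective (a + (k + 1 : ℕ)) X (j := j) (by omega)).subsingleton
        exact ModuleCat.isZero_of_subsingleton _
      obtain ⟨Y, ⟨e⟩⟩ := DerivedCategory.exists_iso_singleFunctor_obj_of_isGE_of_isLE T.obj₃ (a + (k + 1 : ℕ))
      haveI : Module.Finite A Y := by
        haveI := hfin₃ (a + (k + 1 : ℕ))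
        exact Module.Finite.equiv (((DerivedCategory.homologyFunctor (ModuleCat.{u} A) _).mapIso e).trans
          ((DerivedCategory.singleFunctorCompHomologyFunctorIso (ModuleCat.{u} A) _).app Y)).toLinearEquiv
      exact hiso ((Linear.homCongr A e (Iso.refl (L⟦i⟧))).trans (singleHomEquiv L _ i Y)).symm
        (h Y _ (by omega) le_rfl)
    refine hext (Linear.leftComp A (L⟦i⟧) T.mor₂) (Linear.leftComp A (L⟦i⟧) T.mor₁) (fun v => ⟨fun hv => ?_, ?_⟩) h3 h1
    · obtain ⟨w, hw⟩ := Triangle.yoneda_exact₂ T (ltTri_mem _ X) v hv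
      exact ⟨w, hw.symm⟩
    · rintro ⟨w, rfl⟩
      show T.mor₁ ≫ T.mor₂ ≫ w = 0
      rw [← Category.assoc, comp_distTriang_mor_zero₁₂ T (ltTri_mem _ X), zero_comp]

theorem subsingleton_hom_of_bounded (L : Dual.D A) (i a b : ℤ) (X : Dual.D A) [X.IsGE a] [X.IsLE b]
    (hX : ∀ j, Module.Finite A (Dual.HD A X j))
    (h : ∀ (Y : Type u) [AddCommGroup Y] [Module A Y] [Module.Finite A Y] (j : ℤ), a ≤ j →
      Subsingleton (HK L (i + j) Y)) : Subsingleton (X ⟶ L⟦i⟧) :=
  devissage L i (fun U => Subsingleton U) (fun e h => e.symm.injective.subsingleton)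
    (fun f g hfg hU hW => subsingleton_of_forall_eq 0 fun v => by
      obtain ⟨u, rfl⟩ := (hfg v).1 (Subsingleton.elim _ _)
      rw [Subsingleton.elim u 0, map_zero])
    (b - a).toNat a X inferInstance (DerivedCategory.TStructure.t.isLE_of_le X b (a + (b - a).toNat) (by omega))
    hX fun Y _ _ _ j hj _ => h Y j hj

theorem finite_hom_of_bounded (L : Dual.D A) (i a b : ℤ) (X : Dual.D A) [X.IsGE a] [X.IsLE b]
    (hX : ∀ j, Module.Finite A (Dual.HD A X j))
    (h : ∀ (Y : Type u) [AddCommGroup Y] [Module A Y] [Module.Finite A Y] (j : ℤ),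
      Module.Finite A (HK L j Y)) : Module.Finite A (X ⟶ L⟦i⟧) :=
  devissage L i (fun U => Module.Finite A U) (fun e hf => by haveI := hf; exact Module.Finite.equiv e)
    (fun f g hfg hU hW => by haveI := hU; haveI := hW; exact finite_of_exact hfg)
    (b - a).toNat a X inferInstance (DerivedCategory.TStructure.t.isLE_of_le X b (a + (b - a).toNat) (by omega))
    hX fun Y _ _ _ j _ _ => h Y (i + j)

variable {L : Dual.D A} (S : Model L)

theorem Model.isGE : L.IsGE S.a := by
  haveI : CochainComplex.IsStrictlyGE S.E S.a :=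
    (CochainComplex.isStrictlyGE_iff _ _).2 fun i hi => S.vanishes i (Or.inl hi)
  haveI : (DerivedCategory.Q.obj S.E).IsGE S.a := inferInstance
  exact DerivedCategory.TStructure.t.isGE_of_iso S.iso S.a

theorem Model.subsingleton_hom_of_isLE (i : ℤ) (X : Dual.D A) [X.IsLE (S.a - i - 1)] :
    Subsingleton (X ⟶ L⟦i⟧) := by
  haveI := S.isGE
  haveI : DerivedCategory.TStructure.t.IsGE (L⟦i⟧) (S.a - i) :=
    DerivedCategory.TStructure.t.isGE_shift L S.a i (S.a - i) (by omega)
  exact subsingleton_of_forall_eq 0 fun g =>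
    DerivedCategory.TStructure.t.zero_of_isLE_of_isGE g (S.a - i - 1) (S.a - i) (by omega) inferInstance inferInstance

theorem Model.subsingleton_hom_of_isGE (i : ℤ) (X : Dual.D A) [X.IsGE (S.b - i + 1)] :
    Subsingleton (X ⟶ L⟦i⟧) := by
  haveI := S.isKInjective
  obtain ⟨K, hK, ⟨eX⟩⟩ := DerivedCategory.exists_iso_Q_obj_of_isGE X (S.b - i + 1)
  suffices h : Subsingleton (DerivedCategory.Q.obj K ⟶ DerivedCategory.Q.obj (S.E⟦i⟧)) from
    (Iso.homCongr eX.symm (((DerivedCategory.Q.commShiftIso i).app S.E) ≪≫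
      (shiftFunctor (Dual.D A) i).mapIso S.iso)).subsingleton_congr.1 h
  refine subsingleton_of_forall_eq 0 fun u => ?_
  obtain ⟨g, rfl⟩ := (CochainComplex.IsKInjective.Qh_map_bijective
    ((HomotopyCategory.quotient (ModuleCat.{u} A) (ComplexShape.up ℤ)).obj K) (S.E⟦i⟧)).2 u
  obtain ⟨φ, rfl⟩ := (HomotopyCategory.quotient _ _).map_surjective g
  have h0 : φ = 0 := HomologicalComplex.hom_ext _ _ fun j => by
    by_cases hj : j < S.b - i + 1
    · exact ((CochainComplex.isStrictlyGE_iff K _).1 hK j hj).eq_of_src _ _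
    · exact ((S.vanishes (j + i) (Or.inr (by omega))).of_iso
        (S.E.shiftFunctorObjXIso i j (j + i) rfl)).eq_of_tgt _ _
  rw [h0, Functor.map_zero, Functor.map_zero]

include S in
/-- Morphisms into a complex of finite injective dimension with finite cohomology. -/
theorem Model.finite_hom (hL : ∀ j : ℤ, Module.Finite A (Dual.HD A L j)) (K : Dual.D A)
    (hK : ∀ j : ℤ, Module.Finite A (Dual.HD A K j)) (i : ℤ) : Module.Finite A (K ⟶ L⟦i⟧) := by
  have hunit : ∀ j, Module.Finite A (HK L j A) := fun j => by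
    obtain ⟨e⟩ := S.nonempty_HD_equiv j
    haveI := hL j
    exact Module.Finite.equiv e.symm
  have hHK : ∀ (Y : Type u) [AddCommGroup Y] [Module A Y] [Module.Finite A Y] (j : ℤ),
      Module.Finite A (HK L j Y) := fun Y _ _ _ j =>
    finite_HK L hunit S.a (fun M _ _ _ hi => S.subsingleton_HK (M := M) (Or.inl hi)) j Y
  obtain ⟨hf₁, -⟩ := finite_HD_ltTri (S.b - i + 1) K hK
  let T := ltTri (S.b - i + 1) K
  haveI : T.obj₃.IsGE (S.b - i + 1) := (DerivedCategory.isGE_iff _ _).2 fun j hj => HD_ltTri₃_of_lt _ K hj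
  haveI := S.subsingleton_hom_of_isGE i T.obj₃
  haveI hle : T.obj₁.IsLE (S.b - i) := (DerivedCategory.isLE_iff _ _).2 fun j hj => HD_ltTri₁_of_le _ K (by omega)
  suffices h1 : Module.Finite A (T.obj₁ ⟶ L⟦i⟧) by
    refine Module.Finite.of_injective (Linear.leftComp A (L⟦i⟧) T.mor₁) ((injective_iff_map_eq_zero _).2 fun v hv => ?_)
    obtain ⟨w, hw⟩ := Triangle.yoneda_exact₂ T (ltTri_mem _ K) v hv
    rw [hw, Subsingleton.elim w 0, comp_zero]
  obtain ⟨-, hf₃⟩ := finite_HD_ltTri (S.a - i) T.obj₁ hf₁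
  let U := ltTri (S.a - i) T.obj₁
  haveI : U.obj₁.IsLE (S.a - i - 1) := (DerivedCategory.isLE_iff _ _).2 fun j hj => HD_ltTri₁_of_le _ T.obj₁ (by omega)
  haveI := S.subsingleton_hom_of_isLE i U.obj₁
  haveI : U.obj₃.IsGE (S.a - i) := (DerivedCategory.isGE_iff _ _).2 fun j hj => HD_ltTri₃_of_lt _ T.obj₁ hj
  haveI : U.obj₃.IsLE (max (S.a - i - 1) (S.b - i)) := by
    refine (DerivedCategory.isLE_iff _ _).2 fun j hj => ?_
    haveI : Subsingleton ((DerivedCategory.homologyFunctor (ModuleCat.{u} A) j).obj U.obj₂) :=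
      ModuleCat.subsingleton_of_isZero (DerivedCategory.isZero_of_isLE T.obj₁ (S.b - i) j (by omega))
    haveI := (HD_ltTri₃_surjective (S.a - i) T.obj₁ (j := j) (by omega)).subsingleton
    exact ModuleCat.isZero_of_subsingleton _
  haveI := finite_hom_of_bounded L i (S.a - i) (max (S.a - i - 1) (S.b - i)) U.obj₃ hf₃ hHK
  refine Module.Finite.of_surjective (Linear.leftComp A (L⟦i⟧) U.mor₂) fun v => ?_
  obtain ⟨w, hw⟩ := Triangle.yoneda_exact₂ U (ltTri_mem _ T.obj₁) v (Subsingleton.elim _ _)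
  exact ⟨w, hw.symm⟩

end Groth.Agent.DualCxLib
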