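import Groth.Agent.DualCxLib.LocAlg
import Groth.Agent.DualCxLib.Trunc

/-!
# Dévissage for localization of morphism modules
-/

set_option autoImplicit false
set_option backward.isDefEq.respectTransparency false
set_option maxRecDepth 4000

universe u

open CategoryTheory Limits Pretriangulated
attribute [local instance] HasDerivedCategory.standard

noncomputable section

namespace Groth.Agent.DualCxLib

variable {A : Type u} [CommRing A] (M : Submonoid A) {P Q : Dual.D A} (g : P ⟶ Q)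

/-- The five lemma for localization conditions on contravariant Hom sequences. -/
theorem isLoc_of_triangle {T : Triangle (Dual.D A)} (hT : T ∈ distTriang (Dual.D A))
    (h3 : IsLoc M (Linear.rightComp A T.obj₃ g)) (h1 : IsLoc M (Linear.rightComp A T.obj₁ g))
    (h3' : IsLoc M (Linear.rightComp A (T.obj₃⟦(-1 : ℤ)⟧) g))
    (h1' : IsLoc M (Linear.rightComp A (T.obj₁⟦(1 : ℤ)⟧) g)) : IsLoc M (Linear.rightComp A T.obj₂ g) := by
  refine ⟨fun v => ?_, fun u hu => ?_⟩
  · let c : T.obj₃⟦(-1 : ℤ)⟧ ⟶ T.obj₁ := T.invRotate.mor₁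
    have hc : c ≫ T.mor₁ = 0 := comp_distTriang_mor_zero₁₂ _ (inv_rot_of_distTriang _ hT)
    obtain ⟨s, hs, u₁, hu₁⟩ := h1.surj (T.mor₁ ≫ v)
    replace hu₁ : u₁ ≫ g = s • (T.mor₁ ≫ v) := hu₁
    obtain ⟨t, ht, ht0⟩ := h3'.inj (c ≫ u₁) (by
      show (c ≫ u₁) ≫ g = 0
      rw [Category.assoc, hu₁, Linear.comp_smul, ← Category.assoc, hc, zero_comp, smul_zero])
    obtain ⟨u₂, hu₂⟩ := Triangle.yoneda_exact₂ _ (inv_rot_of_distTriang _ hT) (t • u₁) (by
      show c ≫ (t • u₁) = 0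
      rw [Linear.comp_smul, ht0])
    replace hu₂ : t • u₁ = T.mor₁ ≫ (show T.obj₂ ⟶ P from u₂) := hu₂
    have h0 : T.mor₁ ≫ ((show T.obj₂ ⟶ P from u₂) ≫ g - (t * s) • v) = 0 := by
      rw [Preadditive.comp_sub, Linear.comp_smul, ← Category.assoc, ← hu₂, Linear.smul_comp, hu₁, smul_smul,
        sub_self]
    obtain ⟨w, hw⟩ := Triangle.yoneda_exact₂ _ hT _ h0
    obtain ⟨r, hr, u₃, hu₃⟩ := h3.surj w
    replace hu₃ : u₃ ≫ g = r • w := hu₃
    refine ⟨r * (t * s), M.mul_mem hr (M.mul_mem ht hs), r • (show T.obj₂ ⟶ P from u₂) - T.mor₂ ≫ u₃, ?_⟩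
    show (r • (show T.obj₂ ⟶ P from u₂) - T.mor₂ ≫ u₃) ≫ g = _
    rw [Preadditive.sub_comp, Linear.smul_comp, Category.assoc, hu₃, Linear.comp_smul, ← hw, smul_sub, smul_smul]
    abel
  · replace hu : u ≫ g = 0 := hu
    obtain ⟨t, ht, ht0⟩ := h1.inj (T.mor₁ ≫ u) (by
      show (T.mor₁ ≫ u) ≫ g = 0
      rw [Category.assoc, hu, comp_zero])
    obtain ⟨u₃, hu₃⟩ := Triangle.yoneda_exact₂ _ hT (t • u) (by rw [Linear.comp_smul, ht0])
    obtain ⟨w, hw⟩ := Triangle.yoneda_exact₂ _ (rot_of_distTriang _ hT) (u₃ ≫ g) (by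
      show T.mor₂ ≫ u₃ ≫ g = 0
      rw [← Category.assoc, ← hu₃, Linear.smul_comp, hu, smul_zero])
    obtain ⟨r, hr, u₁, hu₁⟩ := h1'.surj (show T.obj₁⟦(1 : ℤ)⟧ ⟶ Q from w)
    replace hu₁ : u₁ ≫ g = r • (show T.obj₁⟦(1 : ℤ)⟧ ⟶ Q from w) := hu₁
    replace hw : u₃ ≫ g = T.mor₃ ≫ (show T.obj₁⟦(1 : ℤ)⟧ ⟶ Q from w) := hw
    obtain ⟨q, hq, hq0⟩ := h3.inj (r • u₃ - T.mor₃ ≫ u₁) (by
      show (r • u₃ - T.mor₃ ≫ u₁) ≫ g = 0
      rw [Preadditive.sub_comp, Linear.smul_comp, Category.assoc, hu₁, Linear.comp_smul, hw, sub_self])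
    refine ⟨q * r * t, M.mul_mem (M.mul_mem hq hr) ht, ?_⟩
    rw [mul_smul, hu₃, mul_smul, ← Linear.comp_smul, ← Linear.comp_smul]
    rw [smul_sub, sub_eq_zero] at hq0
    rw [hq0, Linear.comp_smul, ← Category.assoc, comp_distTriang_mor_zero₂₃ T hT, zero_comp, smul_zero]

variable {K L : Dual.D A} (η : K ⟶ L)

theorem singleHomEquiv_comp (a i : ℤ) (Y : ModuleCat.{u} A)
    (v : (DerivedCategory.singleFunctor (ModuleCat.{u} A) a).obj Y ⟶ K⟦i⟧) :
    singleHomEquiv L a i Y (v ≫ η⟦i⟧') = singleHomEquiv K a i Y v ≫ η⟦i + a⟧' := by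
  simp only [singleHomEquiv, LinearEquiv.trans_apply, LinearEquiv.ofBijective_apply,
    Functor.coe_mapLinearMap, Linear.homCongr_apply, Category.assoc, Functor.map_comp]
  refine congrArg (_ ≫ ·) (congrArg (_ ≫ ·) ?_)
  exact (shiftFunctorAdd' (Dual.D A) i a (i + a) rfl).inv.naturality η

theorem isLoc_hom_single (hsingle : ∀ (N : Type u) [AddCommGroup N] [Module A N] [Module.Finite A N] (i : ℤ),
      IsLoc M (Linear.rightComp A (Dual.inD A N) (η⟦i⟧') : HK K i N →ₗ[A] HK L i N))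
    (X : Dual.D A) (a : ℤ) [X.IsGE a] [X.IsLE a] (hX : ∀ j, Module.Finite A (Dual.HD A X j)) (i : ℤ) :
    IsLoc M (Linear.rightComp A X (η⟦i⟧')) := by
  obtain ⟨Y, ⟨e⟩⟩ := DerivedCategory.exists_iso_singleFunctor_obj_of_isGE_of_isLE X a
  haveI : Module.Finite A Y := by
    haveI := hX a
    exact Module.Finite.equiv (((DerivedCategory.homologyFunctor (ModuleCat.{u} A) a).mapIso e).trans
      ((DerivedCategory.singleFunctorCompHomologyFunctorIso (ModuleCat.{u} A) a).app Y)).toLinearEquiv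
  let eK := (Linear.homCongr A e (Iso.refl (K⟦i⟧))).trans (singleHomEquiv K a i Y)
  let eL := (Linear.homCongr A e (Iso.refl (L⟦i⟧))).trans (singleHomEquiv L a i Y)
  refine (hsingle Y (i + a)).of_comm M eK.symm eL.symm _ fun u => eL.injective ?_
  rw [LinearEquiv.apply_symm_apply]
  obtain ⟨v, rfl⟩ := eK.surjective u
  rw [LinearEquiv.symm_apply_apply]
  simp only [eK, eL, LinearEquiv.trans_apply, Linear.rightComp_apply, Linear.homCongr_apply, Iso.refl_hom]
  rw [← singleHomEquiv_comp]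
  simp

variable [IsNoetherianRing A]

omit [IsNoetherianRing A] in
theorem finite_HD_shift' {X : Dual.D A} (hX : ∀ j, Module.Finite A (Dual.HD A X j)) (n j : ℤ) :
    Module.Finite A (Dual.HD A (X⟦n⟧) j) := by
  haveI : Module.Finite A ((DerivedCategory.homologyFunctor (ModuleCat.{u} A) (n + j)).obj X) := hX (n + j)
  let e : (DerivedCategory.homologyFunctor (ModuleCat.{u} A) j).obj (X⟦n⟧) ≅
      (DerivedCategory.homologyFunctor (ModuleCat.{u} A) (n + j)).obj X :=
    ((DerivedCategory.homologyFunctor (ModuleCat.{u} A) 0).shiftIso n j (n + j) rfl).app X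
  exact Module.Finite.equiv e.toLinearEquiv.symm

theorem isLoc_hom_bounded (hsingle : ∀ (N : Type u) [AddCommGroup N] [Module A N] [Module.Finite A N] (i : ℤ),
      IsLoc M (Linear.rightComp A (Dual.inD A N) (η⟦i⟧') : HK K i N →ₗ[A] HK L i N)) :
    ∀ (k : ℕ) (a : ℤ) (X : Dual.D A), X.IsGE a → X.IsLE (a + k) →
      (∀ j, Module.Finite A (Dual.HD A X j)) → ∀ i : ℤ, IsLoc M (Linear.rightComp A X (η⟦i⟧')) := by
  intro k
  induction k with
  | zero =>
    intro a X hge hle hX i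
    rw [Nat.cast_zero, add_zero] at hle
    exact isLoc_hom_single M η hsingle X a hX i
  | succ k ih =>
    intro a X hge hle hX i
    let n : ℤ := a + (k + 1 : ℕ)
    obtain ⟨hfin₁, hfin₃⟩ := finite_HD_ltTri n X hX
    let T := ltTri n X
    haveI : T.obj₁.IsLE (a + k) :=
      (DerivedCategory.isLE_iff _ _).2 fun j hj => HD_ltTri₁_of_le _ X (by push_cast [n] at *; omega)
    haveI : T.obj₁.IsGE a := (DerivedCategory.isGE_iff _ a).2 fun j hj => by
      haveI : Subsingleton ((DerivedCategory.homologyFunctor (ModuleCat.{u} A) j).obj T.obj₂) :=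
        ModuleCat.subsingleton_of_isZero (DerivedCategory.isZero_of_isGE X a j hj)
      haveI := (HD_ltTri₁_injective n X (j := j) (by push_cast [n]; omega)).subsingleton
      exact ModuleCat.isZero_of_subsingleton _
    haveI : T.obj₃.IsGE n := (DerivedCategory.isGE_iff _ _).2 fun j hj => HD_ltTri₃_of_lt _ X hj
    haveI : T.obj₃.IsLE n := by
      refine (DerivedCategory.isLE_iff _ _).2 fun j hj => ?_
      haveI : Subsingleton ((DerivedCategory.homologyFunctor (ModuleCat.{u} A) j).obj T.obj₂) :=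
        ModuleCat.subsingleton_of_isZero (DerivedCategory.isZero_of_isLE X _ j hj)
      haveI := (HD_ltTri₃_surjective n X (j := j) (by omega)).subsingleton
      exact ModuleCat.isZero_of_subsingleton _
    haveI : DerivedCategory.IsGE (T.obj₃⟦(-1 : ℤ)⟧) (n + 1) :=
      DerivedCategory.TStructure.t.isGE_shift T.obj₃ n (-1) (n + 1) (by omega)
    haveI : DerivedCategory.IsLE (T.obj₃⟦(-1 : ℤ)⟧) (n + 1) :=
      DerivedCategory.TStructure.t.isLE_shift T.obj₃ n (-1) (n + 1) (by omega)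
    exact isLoc_of_triangle M (η⟦i⟧') (ltTri_mem n X)
      (isLoc_hom_single M η hsingle T.obj₃ n hfin₃ i) (ih a T.obj₁ inferInstance inferInstance hfin₁ i)
      (isLoc_hom_single M η hsingle (T.obj₃⟦(-1 : ℤ)⟧) (n + 1) (fun j => finite_HD_shift' hfin₃ (-1) j) i)
      (ih (a - 1) (T.obj₁⟦(1 : ℤ)⟧) (DerivedCategory.TStructure.t.isGE_shift T.obj₁ a 1 (a - 1) (by omega))
        (DerivedCategory.TStructure.t.isLE_shift T.obj₁ (a + k) 1 (a - 1 + k) (by omega))
        (fun j => finite_HD_shift' hfin₁ 1 j) i)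

theorem isLoc_hom (hsingle : ∀ (N : Type u) [AddCommGroup N] [Module A N] [Module.Finite A N] (i : ℤ),
      IsLoc M (Linear.rightComp A (Dual.inD A N) (η⟦i⟧') : HK K i N →ₗ[A] HK L i N))
    (X : Dual.D A) (a b : ℤ) [X.IsGE a] [X.IsLE b] (hX : ∀ j, Module.Finite A (Dual.HD A X j)) (i : ℤ) :
    IsLoc M (Linear.rightComp A X (η⟦i⟧')) :=
  isLoc_hom_bounded M η hsingle (b - a).toNat a X inferInstance
    (DerivedCategory.TStructure.t.isLE_of_le X b (a + (b - a).toNat) (by omega)) hX i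

end Groth.Agent.DualCxLib
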