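import Groth.Agent.DualCxLib.LocCx
import Groth.Agent.DualCxLib.LocDev
import Groth.Agent.DualCxLib.DimFn
import Groth.Agent.DRingLib.BaseChangeAdj

/-!
# Localization of dualizing complexes
-/

set_option autoImplicit false
set_option backward.isDefEq.respectTransparency false
set_option linter.style.haveILetI false
set_option maxRecDepth 4000

universe u

open CategoryTheory Limits
attribute [local instance] HasDerivedCategory.standard

noncomputable section

namespace Groth.Agent.DualCxLib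

section Scalars

variable {A B : Type u} [CommRing A] [CommRing B] (φ : A →+* B)

theorem restrictD_map_smul_id (a : A) (Y : Dual.D B) :
    (DRing.restrictD φ).map (φ a • 𝟙 Y) = a • 𝟙 ((DRing.restrictD φ).obj Y) := by
  let G := DerivedCategory.Q.objPreimage Y
  let e : DRing.toD G ≅ Y := DerivedCategory.Q.objObjPreimageIso Y
  have h1 : φ a • 𝟙 Y = e.inv ≫ DerivedCategory.Q.map (φ a • 𝟙 G) ≫ e.hom := by
    rw [Functor.map_smul, CategoryTheory.Functor.map_id, Linear.smul_comp, Linear.comp_smul, Category.id_comp,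
      e.inv_hom_id]
  have h2 : (DRing.restrictD φ).map (DerivedCategory.Q.map (φ a • 𝟙 G)) =
      a • 𝟙 ((DRing.restrictD φ).obj (DerivedCategory.Q.obj G)) := by
    have h3 := (DTen.resFactors φ).hom.naturality (φ a • 𝟙 G)
    rw [← cancel_mono ((DTen.resFactors φ).hom.app G), Linear.smul_comp, Category.id_comp]
    refine h3.trans ?_
    have h4 : (DTen.resCx φ).map (φ a • 𝟙 G) = a • 𝟙 ((DTen.resCx φ).obj G) := by
      ext i : 2
      rfl
    show _ ≫ DerivedCategory.Q.map ((DTen.resCx φ).map (φ a • 𝟙 G)) = _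
    rw [h4, Functor.map_smul, CategoryTheory.Functor.map_id, Linear.comp_smul]
    exact congrArg (a • ·) (Category.comp_id _)
  rw [h1, Functor.map_comp, Functor.map_comp, h2, Linear.smul_comp, Linear.comp_smul, Category.id_comp,
    ← Functor.map_comp, e.inv_hom_id, CategoryTheory.Functor.map_id]

theorem restrictD_map_smul (a : A) {X Y : Dual.D B} (v : X ⟶ Y) :
    (DRing.restrictD φ).map (φ a • v) = a • (DRing.restrictD φ).map v := by
  rw [show φ a • v = v ≫ (φ a • 𝟙 Y) by rw [Linear.comp_smul, Category.comp_id], Functor.map_comp,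
    restrictD_map_smul_id, Linear.comp_smul, Category.comp_id]

end Scalars

theorem bijective_smul_id {B : Type u} [CommRing B] {C : Type*} [Category C] [Preadditive C] [Linear B C]
    {Y : C} (v : Y ⟶ Y) (h : Function.Bijective fun b : B => b • v) :
    Function.Bijective fun b : B => b • 𝟙 Y := by
  obtain ⟨c, hc⟩ := h.2 (𝟙 Y)
  obtain ⟨d, hd⟩ := h.2 (v ≫ v)
  replace hc : c • v = 𝟙 Y := hc
  replace hd : d • v = v ≫ v := hd
  have hcd : c * d = 1 := h.1 (by
    show (c * d) • v = (1 : B) • v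
    rw [mul_smul, hd, ← Linear.smul_comp, hc, Category.id_comp, one_smul])
  refine ⟨fun b b' hb => ?_, fun w => ?_⟩
  · replace hb : (b * c) • v = (b' * c) • v := by
      rw [mul_smul, mul_smul, hc]
      exact hb
    have := h.1 hb
    calc b = b * (c * d) := by rw [hcd, mul_one]
      _ = b' * c * d := by rw [← mul_assoc, this]
      _ = b' := by rw [mul_assoc, hcd, mul_one]
  · obtain ⟨b, rfl⟩ := h.2 w
    exact ⟨b * d, by show (b * d) • 𝟙 Y = b • v; rw [← hc, smul_smul, mul_assoc, mul_comm d, hcd, mul_one]⟩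

variable {A : Type u} [CommRing A] (M : Submonoid A) (B : Type u) [CommRing B] [Algebra A B]
  [IsLocalization M B]

include M in
theorem flat_baseMod_loc : Module.Flat A (DTenLib.baseMod (algebraMap A B)) := by
  haveI := IsLocalization.flat B M
  exact DRingLib.flat_baseMod A B

variable [IsNoetherianRing A] [DRing.HasLBaseChange (algebraMap A B)] {K : Dual.D A} (S : InjRep K)

/-- Derived base change of a represented object is computed by the localized complex. -/
def InjRep.lbcIso :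
    (DRing.LBaseChange (algebraMap A B)).obj K ≅ DRing.toD ((DTen.extCx (algebraMap A B)).obj S.E) :=
  (DRing.LBaseChange (algebraMap A B)).mapIso S.iso.symm ≪≫
    DRingLib.lbcIsoOfFlat (algebraMap A B) (flat_baseMod_loc M B) S.E

/-- Restriction of the derived base change. -/
def InjRep.resIso : (DRing.restrictD (algebraMap A B)).obj ((DRing.LBaseChange (algebraMap A B)).obj K) ≅
    DRing.toD (locCx B S.E) :=
  (DRing.restrictD (algebraMap A B)).mapIso (S.lbcIso M B) ≪≫
    (DTen.resFactors (algebraMap A B)).app _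

include M in
theorem InjRep.exists_homEquiv (X : Dual.D A) (i : ℤ) :
    ∃ e : ((DRing.LBaseChange (algebraMap A B)).obj X ⟶ ((DRing.LBaseChange (algebraMap A B)).obj K)⟦i⟧) ≃+
        (X ⟶ (DRing.toD (locCx B S.E))⟦i⟧),
      ∀ (a : A) v, e (algebraMap A B a • v) = a • e v := by
  let F := DRing.LBaseChange (algebraMap A B)
  let R := DRing.restrictD (algebraMap A B)
  let adj := DRingLib.lbcAdj (algebraMap A B)
  let c : R.obj ((F.obj K)⟦i⟧) ≅ (DRing.toD (locCx B S.E))⟦i⟧ :=
    (R.commShiftIso i).app (F.obj K) ≪≫ (shiftFunctor (Dual.D A) i).mapIso (S.resIso M B)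
  refine ⟨AddEquiv.mk' ((adj.homEquiv X ((F.obj K)⟦i⟧)).trans ((Iso.refl X).homCongr c)) ?_, ?_⟩
  · intro v w
    simp only [Equiv.trans_apply, Iso.homCongr_apply, Iso.refl_inv, Category.id_comp]
    erw [adj.homEquiv_unit, adj.homEquiv_unit, adj.homEquiv_unit, R.map_add, Preadditive.comp_add,
      Preadditive.add_comp]
  · intro a v
    show (Iso.refl X).inv ≫ adj.homEquiv X _ (algebraMap A B a • v) ≫ c.hom =
      a • ((Iso.refl X).inv ≫ adj.homEquiv X _ v ≫ c.hom)
    simp only [Iso.refl_inv, Category.id_comp]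
    erw [adj.homEquiv_unit, adj.homEquiv_unit, restrictD_map_smul, Linear.comp_smul, Linear.smul_comp]

include M S in
theorem InjRep.smul_eq_zero (X : Dual.D A) (i : ℤ) {s : A} (hs : s ∈ M)
    (v : X ⟶ (DRing.toD (locCx B S.E))⟦i⟧) (h : s • v = 0) : v = 0 := by
  obtain ⟨e, he⟩ := S.exists_homEquiv M B X i
  obtain ⟨w, rfl⟩ := e.surjective v
  rw [← he, AddEquiv.map_eq_zero_iff] at h
  obtain ⟨r, hr⟩ := (IsLocalization.map_units B ⟨s, hs⟩).exists_left_inv
  have h2 := congrArg (r • ·) h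
  rw [smul_zero, smul_smul, hr, one_smul] at h2
  rw [h2, map_zero]

variable (hK : ∀ j, Module.Finite A (Dual.HD A K j)) (a b : ℤ) [K.IsGE a] [K.IsLE b]
include hK a b M S

include M in
theorem InjRep.isLoc_self (i : ℤ) : IsLoc M (Linear.rightComp A K ((S.η B)⟦i⟧')) :=
  isLoc_hom M (S.η B) (fun N _ _ _ j => S.isLoc_HK M B j N) K a b hK i

theorem InjRep.subsingleton_lbc_self (i : ℤ) [Subsingleton (K ⟶ K⟦i⟧)] :
    Subsingleton ((DRing.LBaseChange (algebraMap A B)).obj K ⟶ ((DRing.LBaseChange (algebraMap A B)).obj K)⟦i⟧) := by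
  obtain ⟨e, -⟩ := S.exists_homEquiv M B K i
  haveI := (S.isLoc_self M B hK a b i).subsingleton M fun s hs v => S.smul_eq_zero M B K i hs v
  exact e.injective.subsingleton

theorem InjRep.subsingleton_self_of_lbc (i : ℤ)
    [Subsingleton ((DRing.LBaseChange (algebraMap A B)).obj K ⟶ ((DRing.LBaseChange (algebraMap A B)).obj K)⟦i⟧)]
    (u : K ⟶ K⟦i⟧) : ∃ s ∈ M, s • u = 0 := by
  obtain ⟨e, -⟩ := S.exists_homEquiv M B K i
  haveI : Subsingleton (K ⟶ (DRing.toD (locCx B S.E))⟦i⟧) := e.symm.injective.subsingleton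
  exact (S.isLoc_self M B hK a b i).inj u (Subsingleton.elim _ _)

include M in
theorem InjRep.bijective_smul_id_lbc (h : Function.Bijective fun r : A => r • 𝟙 K) :
    Function.Bijective fun r : B => r • 𝟙 ((DRing.LBaseChange (algebraMap A B)).obj K) := by
  let Y := (DRing.LBaseChange (algebraMap A B)).obj K
  obtain ⟨e, he⟩ := S.exists_homEquiv M B K 0
  let z : K ⟶ K⟦(0 : ℤ)⟧ := ((shiftFunctorZero (Dual.D A) ℤ).app K).inv
  let c : Y⟦(0 : ℤ)⟧ ≅ Y := (shiftFunctorZero (Dual.D B) ℤ).app Y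
  let v : Y ⟶ Y := e.symm (z ≫ (S.η B)⟦(0 : ℤ)⟧') ≫ c.hom
  have hL := S.isLoc_self M B hK a b 0
  have hev : ∀ r : A, e ((algebraMap A B r • v) ≫ c.inv) = r • (z ≫ (S.η B)⟦(0 : ℤ)⟧') := fun r => by
    rw [Linear.smul_comp, he]
    simp only [v, Category.assoc, Iso.hom_inv_id, Category.comp_id, AddEquiv.apply_symm_apply]
  refine bijective_smul_id v ⟨fun r r' hr => ?_, fun w => ?_⟩
  · obtain ⟨⟨x, s⟩, hx⟩ := IsLocalization.surj M (r - r')
    replace hr : r • v = r' • v := hr
    have h0 : (r - r') • v = 0 := by rw [sub_smul, hr, sub_self]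
    have h1 : algebraMap A B x • v = 0 := by
      rw [show algebraMap A B x = algebraMap A B (s : A) * (r - r') by rw [mul_comm]; exact hx.symm,
        mul_smul, h0, smul_zero]
    have h2 := hev x
    rw [h1, zero_comp, map_zero] at h2
    have h3 : (x • z) ≫ (S.η B)⟦(0 : ℤ)⟧' = 0 := by rw [Linear.smul_comp]; exact h2.symm
    obtain ⟨t, ht, ht0⟩ := hL.inj (x • z) h3
    have h4 : t * x = 0 := h.1 (by
      show (t * x) • 𝟙 K = (0 : A) • 𝟙 K
      rw [← cancel_mono z, zero_smul, zero_comp, Linear.smul_comp, Category.id_comp, mul_smul, ht0])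
    refine sub_eq_zero.1 (((IsLocalization.map_units B s).mul_left_eq_zero).1 ?_)
    rw [hx]
    exact (IsLocalization.map_eq_zero_iff M B x).2 ⟨⟨t, ht⟩, h4⟩
  · obtain ⟨s, hs, u, hu⟩ := hL.surj (e (w ≫ c.inv))
    obtain ⟨r, hr⟩ := h.2 (u ≫ ((shiftFunctorZero (Dual.D A) ℤ).app K).hom)
    replace hr : r • 𝟙 K = u ≫ ((shiftFunctorZero (Dual.D A) ℤ).app K).hom := hr
    have hu' : u = r • z := by
      rw [show r • z = (r • 𝟙 K) ≫ z by rw [Linear.smul_comp, Category.id_comp], hr, Category.assoc]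
      exact ((congrArg (u ≫ ·) (Iso.hom_inv_id _)).trans (Category.comp_id u)).symm
    replace hu : u ≫ (S.η B)⟦(0 : ℤ)⟧' = s • e (w ≫ c.inv) := hu
    rw [hu', Linear.smul_comp, ← hev, ← he, EmbeddingLike.apply_eq_iff_eq,
      ← Linear.smul_comp _ _ _ (algebraMap A B s) w c.inv, cancel_mono] at hu
    obtain ⟨i', hi'⟩ := (IsLocalization.map_units B ⟨s, hs⟩).exists_left_inv
    exact ⟨i' * algebraMap A B r, by
      show (i' * algebraMap A B r) • v = w
      rw [mul_smul, hu, smul_smul, hi', one_smul]⟩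

include M in
/-- The image of `A` in the endomorphisms, locally. -/
theorem InjRep.isLoc_smul_id
    (h : Function.Bijective fun r : B => r • 𝟙 ((DRing.LBaseChange (algebraMap A B)).obj K)) :
    IsLoc M (Linear.rightComp A K ((S.η B)⟦(0 : ℤ)⟧') ∘ₗ
      LinearMap.toSpanSingleton A (K ⟶ K⟦(0 : ℤ)⟧) ((shiftFunctorZero (Dual.D A) ℤ).inv.app K)) := by
  let Y := (DRing.LBaseChange (algebraMap A B)).obj K
  obtain ⟨e, he⟩ := S.exists_homEquiv M B K 0
  let c : Y⟦(0 : ℤ)⟧ ≅ Y := (shiftFunctorZero (Dual.D B) ℤ).app Y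
  let f : B →ₗ[A] (K ⟶ (DRing.toD (locCx B S.E))⟦(0 : ℤ)⟧) :=
    { toFun := fun r => e ((r • 𝟙 Y) ≫ c.inv)
      map_add' := fun r r' => by rw [add_smul, Preadditive.add_comp, map_add]
      map_smul' := fun x r => by
        rw [RingHom.id_apply, Algebra.smul_def, mul_smul, Linear.smul_comp, he] }
  have hf : Function.Bijective f :=
    e.bijective.comp ((c.symm.homToEquiv (Z := Y)).bijective.comp h)
  let cz := (shiftFunctorZero (Dual.D A) ℤ).app K
  let mul : (K ⟶ K⟦(0 : ℤ)⟧) →ₗ[A] (K ⟶ K⟦(0 : ℤ)⟧) →ₗ[A] (K ⟶ K⟦(0 : ℤ)⟧) :=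
    LinearMap.mk₂ A (fun x y => x ≫ cz.hom ≫ y) (fun x x' y => Preadditive.add_comp _ _ _ _ _ _)
      (fun r x y => Linear.smul_comp _ _ _ _ _ _) (fun x y y' => by simp) (fun r x y => by simp)
  exact isLoc_toSpanSingleton_one M (S.isLoc_self M B hK a b 0) (LinearEquiv.ofBijective f hf).symm mul cz.inv
    (fun x => by show x ≫ cz.hom ≫ cz.inv = x; simp) (fun x => by show cz.inv ≫ cz.hom ≫ x = x; simp)

end Groth.Agent.DualCxLib
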