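import Groth.Agent.DualCxLib.CoindD
import Groth.Agent.DualCxLib.DimFn

/-!
# Biduality for finite modules; dualizing complexes along finite maps
-/

set_option autoImplicit false
set_option backward.isDefEq.respectTransparency false
set_option linter.style.haveILetI false
set_option maxRecDepth 4000

universe u

open CategoryTheory Limits Pretriangulated
attribute [local instance] HasDerivedCategory.standard

noncomputable section

namespace Groth.Agent.DualCxLib

section Biduality

variable {A : Type u} [CommRing A] [IsNoetherianRing A] {ω : Dual.D A} (S : Model ω)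

theorem Model.ev_zero (M : Type u) [AddCommGroup M] [Module A M] : S.ev (0 : M) = 0 := by
  have h := S.ev_add (0 : M) 0
  rw [add_zero] at h
  simpa using h

/-- Extension of a map along the first morphism of a triangle. -/
theorem exists_extend' {T : Triangle (Dual.D A)} (hT : T ∈ distTriang (Dual.D A)) {K : Dual.D A}
    (u : T.obj₁ ⟶ K) (h : T.mor₃ ≫ u⟦(1 : ℤ)⟧' = 0) : ∃ v, T.mor₁ ≫ v = u := by
  obtain ⟨w, hw⟩ := Triangle.yoneda_exact₃ _ (rot_of_distTriang _ hT) (u⟦(1 : ℤ)⟧') (by exact h)
  let w' : T.obj₂⟦(1 : ℤ)⟧ ⟶ K⟦(1 : ℤ)⟧ := w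
  refine ⟨-(shiftFunctor (Dual.D A) (1 : ℤ)).preimage w', (shiftFunctor (Dual.D A) (1 : ℤ)).map_injective ?_⟩
  rw [Functor.map_comp, Functor.map_neg, Functor.map_preimage]
  refine Eq.trans ?_ hw.symm
  exact (Preadditive.comp_neg _ _).trans (Preadditive.neg_comp _ _).symm

variable (hω : Dual.IsDualizing A ω)
include hω

theorem Model.ev_injective_unit : Function.Injective (S.ev (M := A)) := by
  haveI := S.HC_unit_iso.2
  have h : ∀ a : A, S.ev a = S.ev (1 : A) ≫ (a • 𝟙 ω) := fun a => by
    rw [Linear.comp_smul, Category.comp_id, Model.ev, Model.ev, ← Linear.smul_comp, ← Functor.map_smul]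
    congr 2
    refine HomologicalComplex.hom_ext _ _ fun j => ModuleCat.hom_ext (LinearMap.ext fun φ0 => ?_)
    obtain ⟨φ, rfl⟩ : ∃ φ : A →ₗ[A] S.E.X j, φ = φ0 := ⟨φ0, rfl⟩
    show φ a = a • φ 1
    rw [← map_smul, smul_eq_mul, mul_one]
  intro a b hab
  rw [h a, h b] at hab
  exact hω.toEnd_bijective.1 ((cancel_epi (S.ev (1 : A))).1 hab)

theorem Model.ev_injective_free (q : ℕ) : Function.Injective (S.ev (M := Fin q → A)) := fun x y hxy =>
  funext fun i => S.ev_injective_unit hω (by
    have h : ∀ z : Fin q → A, S.ev (z i) =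
        DerivedCategory.Q.map (S.HCmap (LinearMap.proj (R := A) (φ := fun _ : Fin q => A) i)) ≫ S.ev z :=
      fun z => (S.comp_ev (LinearMap.proj (R := A) (φ := fun _ : Fin q => A) i) z).symm
    rw [h x, h y, hxy])

theorem Model.subsingleton_hom_HC_free' (n : ℤ) (hn : n ≠ 0) :
    ∀ q : ℕ, Subsingleton (DRing.toD (S.HC (Fin q → A)) ⟶ ω⟦n⟧)
  | 0 => subsingleton_of_forall_eq 0 fun u => by
    have h : 𝟙 (S.HC (Fin 0 → A)) = 0 := HomologicalComplex.hom_ext _ _ fun j =>
      ModuleCat.hom_ext (LinearMap.ext fun φ => LinearMap.ext fun x => by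
        rw [Subsingleton.elim x 0, map_zero, map_zero])
    have h' : 𝟙 (DRing.toD (S.HC (Fin 0 → A))) = 0 := by
      rw [← CategoryTheory.Functor.map_id, h, Functor.map_zero]
    rw [← Category.id_comp u, h', Limits.zero_comp]
  | q + 1 => by
    let e := (Fin.consLinearEquiv A (fun _ : Fin (q + 1) => A))
    have := S.subsingleton_hom_HC_exact (f := LinearMap.inl A A (Fin q → A))
      (g := LinearMap.snd A A (Fin q → A)) LinearMap.inl_injective .inl_snd LinearMap.snd_surjective
      (S.subsingleton_hom_HC_unit hω n hn) (Model.subsingleton_hom_HC_free' n hn q)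
    refine (Iso.homFromEquiv (Z := ω⟦n⟧) (DerivedCategory.Q.mapIso
      (⟨S.HCmap e.symm.toLinearMap, S.HCmap e.toLinearMap, ?_, ?_⟩ :
        S.HC (A × (Fin q → A)) ≅ S.HC (Fin (q + 1) → A)))).subsingleton_congr.1 this
    · exact HomologicalComplex.hom_ext _ _ fun j => ModuleCat.hom_ext (LinearMap.ext fun φ =>
        LinearMap.ext fun x => congrArg (fun z => (show (A × (Fin q → A)) →ₗ[A] S.E.X j from φ) z)
          (e.symm_apply_apply x))
    · exact HomologicalComplex.hom_ext _ _ fun j => ModuleCat.hom_ext (LinearMap.ext fun φ =>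
        LinearMap.ext fun x => congrArg (fun z => (show (Fin (q + 1) → A) →ₗ[A] S.E.X j from φ) z)
          (e.apply_symm_apply x))

theorem Model.ev_injective (M : Type u) [AddCommGroup M] [Module A M] [Module.Finite A M] :
    Function.Injective (S.ev (M := M)) := by
  obtain ⟨q, π, hπ⟩ := Module.Finite.exists_fin' A M
  suffices h : ∀ m : M, S.ev m = 0 → m = 0 by
    intro x y hxy
    refine sub_eq_zero.1 (h _ ?_)
    have := S.ev_add (x - y) y
    rw [sub_add_cancel, hxy] at this
    simpa using this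
  intro m hm
  obtain ⟨y, rfl⟩ := hπ m
  obtain ⟨v, hv⟩ := Triangle.yoneda_exact₂ _ (DerivedCategory.triangleOfSES_distinguished
    (S.scHC_shortExact (f := (LinearMap.ker π).subtype) Subtype.val_injective
      (LinearMap.exact_subtype_ker_map π) hπ)) (S.ev y) ((S.comp_ev π y).trans hm)
  obtain ⟨k, rfl⟩ := S.ev_surjective hω (LinearMap.ker π) v
  have h : y = k.1 := S.ev_injective_free hω q (hv.trans (S.comp_ev (LinearMap.ker π).subtype k))
  rw [h]
  exact k.2

theorem Model.ev_bijective (M : Type u) [AddCommGroup M] [Module A M] [Module.Finite A M] :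
    Function.Bijective (S.ev (M := M)) :=
  ⟨S.ev_injective hω M, S.ev_surjective hω M⟩

theorem Model.subsingleton_hom_HC_neg : ∀ (k : ℕ) (M : Type u) [AddCommGroup M] [Module A M] [Module.Finite A M],
    Subsingleton (DRing.toD (S.HC M) ⟶ ω⟦-1 - (k : ℤ)⟧) := by
  intro k
  induction k with
  | zero =>
    intro M _ _ _
    obtain ⟨q, π, hπ⟩ := Module.Finite.exists_fin' A M
    haveI hF := S.subsingleton_hom_HC_free' hω (-1 - ((0 : ℕ) : ℤ)) (by simp) q
    have hT := DerivedCategory.triangleOfSES_distinguished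
      (S.scHC_shortExact (f := (LinearMap.ker π).subtype) Subtype.val_injective
        (LinearMap.exact_subtype_ker_map π) hπ)
    refine subsingleton_of_forall_eq 0 fun u => ?_
    obtain ⟨v, rfl⟩ := exists_extend' hT u (by
      let c := (shiftFunctorAdd' (Dual.D A) (-1 - ((0 : ℕ) : ℤ)) 1 0 (by simp)).app ω
      let z := (shiftFunctorZero (Dual.D A) ℤ).app ω
      let T := DerivedCategory.triangleOfSES (S.scHC_shortExact (f := (LinearMap.ker π).subtype)
        Subtype.val_injective (LinearMap.exact_subtype_ker_map π) hπ)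
      obtain ⟨k, hk⟩ := S.ev_surjective hω (LinearMap.ker π) (T.mor₃ ≫ u⟦(1 : ℤ)⟧' ≫ c.inv ≫ z.hom)
      have h0 : S.ev (k.1 : Fin q → A) = 0 := by
        refine (S.comp_ev (LinearMap.ker π).subtype k).symm.trans ?_
        rw [hk]
        show T.mor₂ ≫ T.mor₃ ≫ _ = 0
        rw [comp_distTriang_mor_zero₂₃_assoc _ hT, zero_comp]
      obtain rfl : k = 0 := Subtype.ext (S.ev_injective_free hω q (h0.trans (S.ev_zero _).symm))
      rw [S.ev_zero] at hk
      rw [← cancel_mono (c.inv ≫ z.hom), Category.assoc, zero_comp]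
      exact hk.symm)
    exact (congrArg (_ ≫ ·) (hF.elim v 0)).trans Limits.comp_zero
  | succ k ih =>
    intro M _ _ _
    obtain ⟨q, π, hπ⟩ := Module.Finite.exists_fin' A M
    haveI hF := S.subsingleton_hom_HC_free' hω (-1 - ((k + 1 : ℕ) : ℤ)) (by omega) q
    have hK : Subsingleton (DRing.toD (S.HC (LinearMap.ker π)) ⟶ ω⟦-1 - ((k + 1 : ℕ) : ℤ) + 1⟧) := by
      rw [show -1 - ((k + 1 : ℕ) : ℤ) + 1 = -1 - (k : ℤ) by omega]
      exact ih (LinearMap.ker π)
    refine subsingleton_of_forall_eq 0 fun u => ?_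
    obtain ⟨v, rfl⟩ := exists_extend (DerivedCategory.triangleOfSES_distinguished
      (S.scHC_shortExact (f := (LinearMap.ker π).subtype) Subtype.val_injective
        (LinearMap.exact_subtype_ker_map π) hπ)) (subsingleton_shift_succ _ ω _ hK) u
    exact (congrArg (_ ≫ ·) (hF.elim v 0)).trans Limits.comp_zero

theorem Model.subsingleton_hom_HC (n : ℤ) (hn : n ≠ 0) (M : Type u) [AddCommGroup M] [Module A M]
    [Module.Finite A M] : Subsingleton (DRing.toD (S.HC M) ⟶ ω⟦n⟧) := by
  rcases lt_or_gt_of_ne hn with h | h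
  · obtain ⟨k, rfl⟩ : ∃ k : ℕ, n = -1 - (k : ℤ) := ⟨(-1 - n).toNat, by omega⟩
    exact S.subsingleton_hom_HC_neg hω k M
  · exact S.subsingleton_hom_HC_pos hω (S.b - S.a).toNat n h (by omega) M

end Biduality

section Coind

variable {A : Type u} [CommRing A] [IsNoetherianRing A] (B : Type u) [CommRing B] [Algebra A B]
  {ω : Dual.D A} (S : Model ω)

/-- Coinduction against `Hom(B, E)`. -/
def Model.coextResIso : (DTen.resCx (algebraMap A B)).obj (S.rep.coext B) ≅ S.HC B :=
  HomologicalComplex.Hom.isoOfComponents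
    (fun i => LinearEquiv.toModuleIso
      ({ toFun := fun g => S.rep.coextEquiv B i g
         invFun := fun f => (S.rep.coextEquiv B i).symm f
         left_inv := fun g => (S.rep.coextEquiv B i).symm_apply_apply g
         right_inv := fun f => (S.rep.coextEquiv B i).apply_symm_apply f
         map_add' := fun g g' => map_add (S.rep.coextEquiv B i) g g'
         map_smul' := fun r g => LinearMap.ext fun q => by
           refine (S.rep.coextEquiv_smul B i (algebraMap A B r) g q).trans ?_
           rw [mul_comm, ← Algebra.smul_def]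
           exact map_smul _ r q } :
        ((DTen.resCx (algebraMap A B)).obj (S.rep.coext B)).X i ≃ₗ[A] (S.HC B).X i))
    fun i j _ => rfl

theorem Model.resCx_smul_comp_εC (b : B) :
    (DTen.resCx (algebraMap A B)).map (b • 𝟙 (S.rep.coext B)) ≫ S.rep.εC B =
      (S.coextResIso B).hom ≫ S.evC b :=
  HomologicalComplex.hom_ext _ _ fun i => ModuleCat.hom_ext (LinearMap.ext fun g => by
    show S.rep.coextEquiv B i (b • (show (S.rep.coext B).X i from g)) 1 = S.rep.coextEquiv B i g b
    exact (S.rep.coextEquiv_smul B i b g 1).trans (by rw [one_mul]))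

include S in
/-- `RHom(B, ω)` is dualizing for a finite algebra `B`. -/
theorem Model.isDualizing_coext [IsNoetherianRing B] [Module.Finite A B] (hω : Dual.IsDualizing A ω) :
    Dual.IsDualizing B (DRing.toD (S.rep.coext B)) := by
  haveI := S.isGE
  let C := S.rep.coext B
  let SB : Model (DRing.toD C) :=
    ⟨C, S.a, S.b, fun i hi => (ModuleCat.coextendScalars.{u, u, u} (algebraMap A B)).map_isZero (S.vanishes i hi),
      S.rep.injective_coext B, Iso.refl _⟩
  let r : (DRing.restrictD (algebraMap A B)).obj (DRing.toD C) ≅ DRing.toD (S.HC B) :=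
    (DTen.resFactors (algebraMap A B)).app C ≪≫ DerivedCategory.Q.mapIso (S.coextResIso B)
  refine ⟨inferInstance, ⟨SB.a, SB.b, fun N _ _ i hi => SB.subsingleton_HK (M := N) hi⟩,
    fun j => S.rep.finite_HD_coext B hω.finite_cohomology S.a j, ?_, fun n hn => ?_⟩
  · have h : (fun f : DRing.toD C ⟶ DRing.toD C => (DRing.restrictD (algebraMap A B)).map f ≫ S.rep.εD B) ∘
        (fun b : B => b • 𝟙 (DRing.toD C)) = fun b : B => r.hom ≫ S.ev b := by
      funext b
      show (DRing.restrictD (algebraMap A B)).map (b • 𝟙 (DRing.toD C)) ≫ S.rep.εD B = r.hom ≫ S.ev b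
      rw [show b • 𝟙 (DRing.toD C) = DerivedCategory.Q.map (b • 𝟙 C) by
        rw [Functor.map_smul, CategoryTheory.Functor.map_id]]
      refine (S.rep.εD_map B (b • 𝟙 C)).trans ?_
      rw [S.resCx_smul_comp_εC B b, Functor.map_comp, Category.assoc]
      simp only [r, Iso.trans_hom, Iso.app_hom, Functor.mapIso_hom, Category.assoc]
      rfl
    have hb : Function.Bijective fun b : B => r.hom ≫ S.ev b :=
      (r.homFromEquiv (Z := ω)).symm.bijective.comp (S.ev_bijective hω B)
    exact (Function.Bijective.of_comp_iff' (S.rep.transpose_bijective B _) _).1 (h ▸ hb)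
  · have h1 : Subsingleton ((DRing.toD C)⟦-n⟧ ⟶ DRing.toD C) := by
      have h2 : Subsingleton ((DRing.restrictD (algebraMap A B)).obj ((DRing.toD C)⟦-n⟧) ⟶ ω) :=
        (((((DRing.restrictD (algebraMap A B)).commShiftIso (-n)).app (DRing.toD C)) ≪≫
          (shiftFunctor (Dual.D A) (-n)).mapIso r).homFromEquiv.trans
          ((shiftEquiv (Dual.D A) n).symm.toAdjunction.homEquiv (DRing.toD (S.HC B)) ω)).subsingleton_congr.2
          (S.subsingleton_hom_HC hω n hn B)
      exact (Equiv.ofBijective _ (S.rep.transpose_bijective B ((DRing.toD C)⟦-n⟧))).subsingleton_congr.2 h2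
    exact ((shiftEquiv (Dual.D B) n).symm.toAdjunction.homEquiv (DRing.toD C) (DRing.toD C)).subsingleton_congr.1 h1

end Coind

end Groth.Agent.DualCxLib
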