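import Groth.Agent.DualCxLib.LocBound
import Groth.Agent.DualCxLib.Unique
import Groth.Agent.DualCxLib.Regular

/-!
# Gorenstein rings and dualizing complexes
-/

set_option autoImplicit false
set_option backward.isDefEq.respectTransparency false
set_option linter.style.haveILetI false
set_option maxRecDepth 4000

universe u

open CategoryTheory Limits
open scoped TensorProduct
attribute [local instance] HasDerivedCategory.standard

noncomputable section

namespace Groth.Agent.DualCxLib

variable {A : Type u} [CommRing A]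

theorem isDualizing_of_iso {K L : Dual.D A} (e : K ≅ L) (h : Dual.IsDualizing A K) : Dual.IsDualizing A L := by
  refine ⟨h.isNoetherianRing, ?_, fun i => ?_, ?_, fun i hi => ?_⟩
  · obtain ⟨a, b, hab⟩ := h.finite_injective_dimension
    exact ⟨a, b, fun M _ _ i hi => (((Iso.refl (Dual.inD A M)).homCongr
      ((shiftFunctor (Dual.D A) i).mapIso e))).subsingleton_congr.1 (hab M i hi)⟩
  · haveI : Module.Finite A ((DerivedCategory.homologyFunctor (ModuleCat.{u} A) i).obj K) := h.finite_cohomology i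
    exact Module.Finite.equiv ((DerivedCategory.homologyFunctor (ModuleCat.{u} A) i).mapIso e).toLinearEquiv
  · have h2 : (fun a : A => a • 𝟙 L) = (e.homCongr e) ∘ (fun a : A => a • 𝟙 K) := funext fun a => by
      simp [Iso.homCongr_apply, Linear.smul_comp, Linear.comp_smul]
    rw [h2]
    exact (e.homCongr e).bijective.comp h.toEnd_bijective
  · exact (e.homCongr ((shiftFunctor (Dual.D A) i).mapIso e)).subsingleton_congr.1 (h.ext_self_subsingleton i hi)

theorem isDualizing_self_of [IsNoetherianRing A]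
    (hinj : ∃ a b : ℤ, ∀ (M : Type u) [AddCommGroup M] [Module A M] (i : ℤ),
      (i < a ∨ b < i) → Subsingleton (HK (Dual.inD A A) i M)) : Dual.IsDualizing A (Dual.inD A A) := by
  refine ⟨inferInstance, hinj, fun i => ?_, ?_, fun i hi => ?_⟩
  · by_cases hi : i = 0
    · subst hi
      haveI : Module.Finite A ((𝟭 (ModuleCat.{u} A)).obj (ModuleCat.of A A)) := inferInstanceAs (Module.Finite A A)
      exact Module.Finite.equiv
        ((DerivedCategory.singleFunctorCompHomologyFunctorIso (ModuleCat.{u} A) 0).app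
          (ModuleCat.of A A)).toLinearEquiv.symm
    · haveI : Subsingleton (Dual.HD A (Dual.inD A A) i) := by
        refine ModuleCat.isZero_iff_subsingleton.1 ?_
        rcases lt_or_gt_of_ne hi with hlt | hgt
        · exact DerivedCategory.isZero_of_isGE ((DerivedCategory.singleFunctor (ModuleCat.{u} A) 0).obj _) 0 i hlt
        · exact DerivedCategory.isZero_of_isLE ((DerivedCategory.singleFunctor (ModuleCat.{u} A) 0).obj _) 0 i hgt
      exact .of_finite
  · have h : (fun a : A => a • 𝟙 (Dual.inD A A)) =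
        (fun g : (ModuleCat.of A A ⟶ ModuleCat.of A A) => (DerivedCategory.singleFunctor (ModuleCat.{u} A) 0).map g) ∘
          (fun a : A => a • 𝟙 (ModuleCat.of A A)) := by
      funext a
      show a • 𝟙 (Dual.inD A A) = (DerivedCategory.singleFunctor (ModuleCat.{u} A) 0).map (a • 𝟙 _)
      rw [Functor.map_smul, CategoryTheory.Functor.map_id]
    rw [h]
    refine Function.Bijective.comp ⟨Functor.map_injective _, Functor.map_surjective _⟩
      ⟨fun a b hab => ?_, fun g => ⟨g.hom 1, ?_⟩⟩
    · have := congr($(hab).hom (1 : A))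
      simpa using this
    · refine ModuleCat.hom_ext (LinearMap.ext_ring ?_)
      simp
  · rcases lt_or_gt_of_ne hi with hlt | hgt
    · exact subsingleton_HK_inD_of_neg A A hlt
    · obtain ⟨n, rfl⟩ : ∃ n : ℕ, i = (n + 1 : ℕ) := ⟨(i - 1).toNat, by omega⟩
      show Subsingleton (HK (Dual.inD A A) ((n + 1 : ℕ) : ℤ) A)
      rw [subsingleton_HK_inD_iff]
      haveI : Projective (ModuleCat.of A A) := (IsProjective.iff_projective (R := A) A).1 inferInstance
      exact Abelian.Ext.subsingleton_of_projective _ _ n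

theorem isGorensteinLocalRing_iff [IsLocalRing A] [IsNoetherianRing A] :
    LocCoh.IsGorensteinLocalRing A ↔ Dual.IsDualizing A (Dual.inD A A) := by
  refine ⟨fun h => ?_, fun h => ?_⟩
  · obtain ⟨n, hn⟩ := h.exists_hasInjectiveDimensionLT
    refine isDualizing_self_of ⟨0, n, fun M _ _ i hi => ?_⟩
    rcases hi with hi | hi
    · exact subsingleton_HK_inD_of_neg M A hi
    · obtain ⟨k, rfl⟩ := Int.eq_ofNat_of_zero_le (show 0 ≤ i by omega)
      rw [subsingleton_HK_inD_iff]
      exact HasInjectiveDimensionLT.subsingleton (ModuleCat.of A A) n k (by omega) _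
  · obtain ⟨a, b, hab⟩ := h.finite_injective_dimension
    refine { exists_hasInjectiveDimensionLT := ⟨(b + 1).toNat, ?_⟩ }
    rw [hasInjectiveDimensionLT_iff.{u}]
    intro k hk Y e
    haveI := (subsingleton_HK_inD_iff Y A k).1 (hab Y k (Or.inr (by omega)))
    exact Subsingleton.elim _ _

variable [IsNoetherianRing A] {ω : Dual.D A} (hω : Dual.IsDualizing A ω) (p : PrimeSpectrum A)
include hω

theorem gorenstein_localization_iff :
    LocCoh.IsGorensteinLocalRing (Localization.AtPrime p.asIdeal) ↔ ∃ (d : ℤ) (x : Dual.HD A ω d),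
      (∀ j, j ≠ d → ∀ y : Dual.HD A ω j, ∃ s ∉ p.asIdeal, s • y = 0) ∧
      (∀ r : A, r • x = 0 → ∃ s ∉ p.asIdeal, s * r = 0) ∧
      (∀ y : Dual.HD A ω d, ∃ s ∉ p.asIdeal, ∃ r : A, s • y = r • x) := by
  let B := Localization.AtPrime p.asIdeal
  haveI : DRing.HasLBaseChange (algebraMap A B) := DRingLib.hasLBaseChange _
  haveI : IsNoetherianRing B := IsLocalization.isNoetherianRing p.asIdeal.primeCompl B ‹_›
  have hB := isDualizing_lbc p.asIdeal.primeCompl B hω
  let F := (DRing.LBaseChange (algebraMap A B)).obj ω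
  rw [isGorensteinLocalRing_iff]
  constructor
  · intro h
    obtain ⟨n, ⟨e⟩⟩ := exists_shift_iso h hB
    have hH : ∀ j, Nonempty (Dual.HD B F j ≃ₗ[B] Dual.HD B (Dual.inD B B) (n + j)) := fun j =>
      ⟨(((DerivedCategory.homologyFunctor (ModuleCat.{u} B) j).mapIso e).trans
        (((DerivedCategory.homologyFunctor (ModuleCat.{u} B) 0).shiftIso n j (n + j) rfl).app
          (Dual.inD B B))).toLinearEquiv⟩
    have h0 : Nonempty (Dual.HD B (Dual.inD B B) 0 ≃ₗ[B] B) :=
      ⟨((DerivedCategory.singleFunctorCompHomologyFunctorIso (ModuleCat.{u} B) 0).app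
        (ModuleCat.of B B)).toLinearEquiv⟩
    have hne : ∀ j, j ≠ -n → ∀ y : Dual.HD A ω j, ∃ s ∉ p.asIdeal, s • y = 0 := fun j hj => by
      refine exists_smul_eq_zero_of_subsingleton_HD_lbc p.asIdeal.primeCompl B ?_
      obtain ⟨ej⟩ := hH j
      haveI : Subsingleton (Dual.HD B (Dual.inD B B) (n + j)) := ModuleCat.subsingleton_of_isZero (by
        rcases lt_or_gt_of_ne (show n + j ≠ 0 by omega) with hlt | hgt
        · exact DerivedCategory.isZero_of_isGE ((DerivedCategory.singleFunctor (ModuleCat.{u} B) 0).obj _) 0 _ hlt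
        · exact DerivedCategory.isZero_of_isLE ((DerivedCategory.singleFunctor (ModuleCat.{u} B) 0).obj _) 0 _ hgt)
      exact ej.injective.subsingleton
    obtain ⟨e1⟩ := nonempty_HD_lbc p.asIdeal.primeCompl B ω (-n)
    obtain ⟨e2⟩ := hH (-n)
    obtain ⟨e0⟩ := h0
    let ι := TensorProduct.mk A B (Dual.HD A ω (-n)) 1
    obtain ⟨E⟩ : Nonempty (B ⊗[A] (Dual.HD A ω (-n)) ≃ₗ[B] B) := by
      rw [add_neg_cancel n] at e2
      exact ⟨e1.symm.trans (e2.trans e0)⟩
    obtain ⟨⟨x, s⟩, hx⟩ := IsLocalizedModule.surj p.asIdeal.primeCompl ι (E.symm 1)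
    have hxs : E (ι x) = algebraMap A B (s : A) := by
      rw [← hx, Submonoid.smul_def, ← algebraMap_smul B, map_smul, E.apply_symm_apply, smul_eq_mul, mul_one]
    have hu : IsUnit (algebraMap A B (s : A)) := IsLocalization.map_units B s
    refine ⟨-n, x, hne, fun r hr => ?_, fun y => ?_⟩
    · have h1 : algebraMap A B r * algebraMap A B (s : A) = 0 := by
        rw [← hxs, ← smul_eq_mul, ← map_smul E, algebraMap_smul, ← map_smul ι, hr, map_zero, map_zero]
      obtain ⟨⟨t, ht⟩, htr⟩ :=
        (IsLocalization.map_eq_zero_iff p.asIdeal.primeCompl B r).1 (hu.mul_left_eq_zero.1 h1)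
      exact ⟨t, ht, htr⟩
    · obtain ⟨⟨r, t⟩, hrt⟩ := IsLocalization.surj p.asIdeal.primeCompl (E (ι y) * ↑hu.unit⁻¹)
      have h1 : ι ((t : A) • y - r • x) = 0 := E.injective (by
        rw [map_sub, map_smul, map_smul, ← algebraMap_smul B, ← algebraMap_smul B r, map_zero, map_sub, map_smul,
          map_smul, hxs, smul_eq_mul, smul_eq_mul, ← hrt]
        calc algebraMap A B ↑t * E (ι y) - E (ι y) * ↑hu.unit⁻¹ * algebraMap A B ↑t * algebraMap A B ↑s
            = algebraMap A B ↑t * E (ι y) * (1 - ↑hu.unit⁻¹ * algebraMap A B ↑s) := by ring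
          _ = 0 := by rw [IsUnit.val_inv_mul, sub_self, mul_zero])
      obtain ⟨q, hq⟩ := (IsLocalizedModule.eq_zero_iff p.asIdeal.primeCompl ι).1 h1
      refine ⟨q * t, (q * t).2, q * r, ?_⟩
      rw [Submonoid.smul_def, smul_sub, sub_eq_zero] at hq
      rw [mul_smul, mul_smul]
      exact hq
  · rintro ⟨d, x, hne, hker, hgen⟩
    haveI hsub : ∀ j, j ≠ d → Subsingleton (Dual.HD B F j) := fun j hj => by
      obtain ⟨ej⟩ := nonempty_HD_lbc p.asIdeal.primeCompl B ω j
      haveI : Subsingleton (B ⊗[A] (Dual.HD A ω j)) := subsingleton_of_forall_eq 0 fun z => by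
        obtain ⟨⟨y, s⟩, hy⟩ := IsLocalizedModule.surj p.asIdeal.primeCompl (TensorProduct.mk A B (Dual.HD A ω j) 1) z
        obtain ⟨t, ht, hty⟩ := hne j hj y
        refine (IsLocalization.map_units B (⟨t, ht⟩ * s : p.asIdeal.primeCompl)).smul_left_cancel.1 ?_
        rw [smul_zero, algebraMap_smul, Submonoid.coe_mul, mul_smul]
        show t • ((s : A) • z) = 0
        rw [show (s : A) • z = TensorProduct.mk A B _ 1 y from hy, ← map_smul, hty, map_zero]
      exact ej.injective.subsingleton
    haveI : DerivedCategory.IsGE F d := (DerivedCategory.isGE_iff _ _).2 fun j hj =>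
      ModuleCat.isZero_iff_subsingleton.2 (hsub j hj.ne)
    haveI : DerivedCategory.IsLE F d := (DerivedCategory.isLE_iff _ _).2 fun j hj =>
      ModuleCat.isZero_iff_subsingleton.2 (hsub j (ne_of_gt hj))
    obtain ⟨Y, ⟨eY⟩⟩ := DerivedCategory.exists_iso_singleFunctor_obj_of_isGE_of_isLE F d
    obtain ⟨e1⟩ := nonempty_HD_lbc p.asIdeal.primeCompl B ω d
    let ι := TensorProduct.mk A B (Dual.HD A ω d) 1
    have hbij : Function.Bijective (LinearMap.toSpanSingleton B (B ⊗[A] (Dual.HD A ω d)) (ι x)) := by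
      refine ⟨(injective_iff_map_eq_zero _).2 fun b hb => ?_, fun z => ?_⟩
      · obtain ⟨⟨r, s⟩, hrs⟩ := IsLocalization.surj p.asIdeal.primeCompl b
        have h1 : ι (r • x) = 0 := by
          rw [map_smul, ← algebraMap_smul B r, ← hrs, mul_comm, mul_smul]
          rw [LinearMap.toSpanSingleton_apply] at hb
          rw [hb, smul_zero]
        obtain ⟨t, ht⟩ := (IsLocalizedModule.eq_zero_iff p.asIdeal.primeCompl ι).1 h1
        rw [Submonoid.smul_def, ← mul_smul] at ht
        obtain ⟨q, hq, hq0⟩ := hker _ ht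
        refine (IsLocalization.map_units B s).mul_left_eq_zero.1 ?_
        show b * algebraMap A B (s : A) = 0
        rw [hrs]
        exact (IsLocalization.map_eq_zero_iff p.asIdeal.primeCompl B r).2
          ⟨⟨q * t, p.asIdeal.primeCompl.mul_mem hq t.2⟩, by rw [← hq0, mul_assoc]⟩
      · obtain ⟨⟨y, s⟩, hy⟩ := IsLocalizedModule.surj p.asIdeal.primeCompl ι z
        obtain ⟨t, ht, r, htr⟩ := hgen y
        let u := (IsLocalization.map_units B (⟨t, ht⟩ * s : p.asIdeal.primeCompl)).unit
        refine ⟨↑u⁻¹ * algebraMap A B r, u.isUnit.smul_left_cancel.1 ?_⟩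
        rw [LinearMap.toSpanSingleton_apply, smul_smul, Units.mul_inv_cancel_left, algebraMap_smul, ← map_smul,
          ← htr, map_smul]
        show t • ι y = algebraMap A B (t * (s : A)) • z
        rw [algebraMap_smul, mul_smul, show (s : A) • z = ι y from hy]
    let eB : Y ≃ₗ[B] B :=
      ((DerivedCategory.singleFunctorCompHomologyFunctorIso (ModuleCat.{u} B) d).app Y).toLinearEquiv.symm.trans
        (((DerivedCategory.homologyFunctor (ModuleCat.{u} B) d).mapIso eY.symm).toLinearEquiv.trans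
          (e1.trans (LinearEquiv.ofBijective _ hbij).symm))
    refine isDualizing_of_iso ?_ (isDualizing_shift hB d)
    exact (shiftFunctor (Dual.D B) d).mapIso eY ≪≫
      ((DerivedCategory.singleFunctors (ModuleCat.{u} B)).shiftIso d 0 d (add_zero d)).app Y ≪≫
      (DerivedCategory.singleFunctor (ModuleCat.{u} B) 0).mapIso eB.toModuleIso

theorem isOpen_gorenstein :
    IsOpen {p : PrimeSpectrum A | LocCoh.IsGorensteinLocalRing (Localization.AtPrime p.asIdeal)} := by
  let S := model hω
  haveI := S.isGE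
  haveI := S.isLE
  rw [isOpen_iff_forall_mem_open]
  intro p hp
  obtain ⟨d, x, hne, hker, hgen⟩ := (gorenstein_localization_iff hω p).1 hp
  have hfin : ∀ j, Module.Finite A (Dual.HD A ω j) := hω.finite_cohomology
  -- the kernel and the cokernel
  let π : A →ₗ[A] Dual.HD A ω d := LinearMap.toSpanSingleton A _ x
  obtain ⟨s₁, hs₁, h₁⟩ := exists_annihilator_of_zeroAt (p := p.asIdeal) (T := LinearMap.ker π) fun r => by
    obtain ⟨s, hs, h0⟩ := hker r.1 r.2
    exact ⟨s, hs, Subtype.ext h0⟩
  obtain ⟨s₂, hs₂, h₂⟩ := exists_annihilator_of_zeroAt (p := p.asIdeal)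
      (T := (Dual.HD A ω d) ⧸ LinearMap.range π) fun y => by
    obtain ⟨y, rfl⟩ := Submodule.Quotient.mk_surjective _ y
    obtain ⟨s, hs, r, hr⟩ := hgen y
    exact ⟨s, hs, (Submodule.Quotient.mk_eq_zero _).2 ⟨r, hr.symm⟩⟩
  have hj : ∀ j, ∃ s ∉ p.asIdeal, j ≠ d → ∀ y : Dual.HD A ω j, s • y = 0 := fun j => by
    by_cases hjd : j = d
    · exact ⟨1, fun h => p.2.ne_top ((Ideal.eq_top_iff_one _).2 h), fun h => absurd hjd h⟩
    · haveI := hfin j
      obtain ⟨s, hs, h0⟩ := exists_annihilator_of_zeroAt (p := p.asIdeal) (T := Dual.HD A ω j) (hne j hjd)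
      exact ⟨s, hs, fun _ => h0⟩
  choose t ht htj using hj
  let g := s₁ * s₂ * ∏ j ∈ Finset.Icc S.a S.b, t j
  refine ⟨PrimeSpectrum.basicOpen g, fun q hq => ?_, (PrimeSpectrum.basicOpen g).2, ?_⟩
  · have hgq : g ∉ q.asIdeal := hq
    have hsq : s₁ ∉ q.asIdeal := fun h => hgq (q.asIdeal.mul_mem_right _ (q.asIdeal.mul_mem_right _ h))
    have hsq' : s₂ ∉ q.asIdeal := fun h => hgq (q.asIdeal.mul_mem_right _ (q.asIdeal.mul_mem_left _ h))
    refine (gorenstein_localization_iff hω q).2 ⟨d, x, fun j hjd y => ?_, fun r hr => ⟨s₁, hsq, ?_⟩,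
      fun y => ⟨s₂, hsq', ?_⟩⟩
    · by_cases hjI : j ∈ Finset.Icc S.a S.b
      · refine ⟨t j, fun h => hgq ?_, htj j hjd y⟩
        obtain ⟨c, hc⟩ := Finset.dvd_prod_of_mem t hjI
        exact q.asIdeal.mul_mem_left _ (hc ▸ q.asIdeal.mul_mem_right c h)
      · haveI : Subsingleton ((DerivedCategory.homologyFunctor (ModuleCat.{u} A) j).obj ω) :=
          ModuleCat.subsingleton_of_isZero (by
            rw [Finset.mem_Icc] at hjI
            by_cases hja : j < S.a
            · exact DerivedCategory.isZero_of_isGE ω S.a j hja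
            · exact DerivedCategory.isZero_of_isLE ω S.b j (by omega))
        exact ⟨1, fun h => q.2.ne_top ((Ideal.eq_top_iff_one _).2 h), Subsingleton.elim _ _⟩
    · exact congrArg Subtype.val (h₁ ⟨r, hr⟩)
    · obtain ⟨r, hr⟩ := (Submodule.Quotient.mk_eq_zero (LinearMap.range π)).1
        ((Submodule.Quotient.mk_smul _ s₂ y).trans (h₂ _))
      exact ⟨r, hr.symm⟩
  · show g ∉ p.asIdeal
    intro h
    rcases p.2.mem_or_mem h with h | h
    · exact (p.2.mem_or_mem h).elim hs₁ hs₂
    · obtain ⟨j, -, hj⟩ := (Ideal.IsPrime.prod_mem_iff (hp := p.2)).1 h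
      exact ht j hj

end Groth.Agent.DualCxLib
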