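import Groth.Agent.DualCxLib.Trunc

/-!
# The residue field criterion for dualizing complexes
-/

set_option autoImplicit false
set_option backward.isDefEq.respectTransparency false
set_option maxRecDepth 4000

universe u

open CategoryTheory Limits Pretriangulated
attribute [local instance] HasDerivedCategory.standard

noncomputable section

namespace Groth.Agent.DualCxLib

open Groth.Agent.DRingLib Groth.Agent.DCohLib in
theorem subsingleton_unit_hom {A : Type u} [CommRing A] (X : Dual.D A) [X.IsLE (-1)] :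
    Subsingleton (Dual.inD A A ⟶ X) := by
  obtain ⟨K, hK, ⟨eX⟩⟩ := DerivedCategory.exists_iso_Q_obj_of_isLE X (-1)
  let P := sng 0 (ModuleCat.of A A)
  have hS : DRing.VanishesAbove P 0 := fun i hi => isZero_sng 0 _ (by omega)
  haveI := isKProjective_of_vanishesAbove hS fun i => by
    by_cases hi : i = 0
    · subst hi
      exact Module.Projective.of_equiv
        (HomologicalComplex.singleObjXSelf (ComplexShape.up ℤ) 0 (ModuleCat.of A A)).symm.toLinearEquiv
    · haveI := ModuleCat.subsingleton_of_isZero (isZero_sng 0 (ModuleCat.of A A) hi)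
      exact inferInstance
  suffices h : Subsingleton (DRing.toD P ⟶ DerivedCategory.Q.obj K) from
    (Iso.homCongr (singleQZeroIso (ModuleCat.of A A)) eX).subsingleton_congr.2 h
  refine subsingleton_of_forall_eq 0 fun u => ?_
  obtain ⟨g, rfl⟩ := (CochainComplex.IsKProjective.Qh_map_bijective P
    ((HomotopyCategory.quotient (ModuleCat.{u} A) (ComplexShape.up ℤ)).obj K)).2 u
  obtain ⟨φ, rfl⟩ := (HomotopyCategory.quotient _ _).map_surjective g
  have h0 : φ = 0 := HomologicalComplex.hom_ext _ _ fun j => by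
    by_cases hj : j = 0
    · exact ((CochainComplex.isStrictlyLE_iff K _).1 hK j (by omega)).eq_of_tgt _ _
    · exact (isZero_sng 0 _ hj).eq_of_src _ _
  rw [h0, Functor.map_zero, Functor.map_zero]

variable {A : Type u} [CommRing A]

theorem eq_zero_of_homology_eq_zero {X : Dual.D A} (u : Dual.inD A A ⟶ X)
    (h : (DerivedCategory.homologyFunctor (ModuleCat.{u} A) 0).map u = 0) : u = 0 := by
  let H := DerivedCategory.homologyFunctor (ModuleCat.{u} A) 0
  let T := ltTri 1 X
  have h3 : u ≫ T.mor₂ = 0 := by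
    refine DerivedCategory.TStructure.t.zero_of_isLE_of_isGE (u ≫ T.mor₂) 0 1 (by omega) ?_
      ((DerivedCategory.isGE_iff _ 1).2 fun j hj => HD_ltTri₃_of_lt 1 X hj)
    exact inferInstanceAs (DerivedCategory.IsLE ((DerivedCategory.singleFunctor (ModuleCat.{u} A) 0).obj _) 0)
  obtain ⟨v, hv⟩ := Triangle.coyoneda_exact₂ T (ltTri_mem 1 X) u h3
  haveI : Mono (H.map T.mor₁) :=
    (ModuleCat.mono_iff_injective _).2 (HD_ltTri₁_injective 1 X (j := 0) (by omega))
  have hv0 : H.map v = 0 := by
    rw [← cancel_mono (H.map T.mor₁), ← Functor.map_comp, zero_comp]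
    exact (congrArg H.map hv.symm).trans h
  let U := ltTri 0 T.obj₁
  haveI : DerivedCategory.IsLE U.obj₃ 0 := by
    refine (DerivedCategory.isLE_iff _ _).2 fun j hj => ?_
    haveI : Subsingleton ((DerivedCategory.homologyFunctor (ModuleCat.{u} A) j).obj U.obj₂) :=
      ModuleCat.subsingleton_of_isZero (HD_ltTri₁_of_le 1 X (by omega))
    haveI := (HD_ltTri₃_surjective 0 T.obj₁ (j := j) (by omega)).subsingleton
    exact ModuleCat.isZero_of_subsingleton _
  haveI : DerivedCategory.IsGE U.obj₃ 0 := (DerivedCategory.isGE_iff _ 0).2 fun j hj => HD_ltTri₃_of_lt 0 _ hj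
  obtain ⟨Y, ⟨e⟩⟩ := DerivedCategory.exists_iso_singleFunctor_obj_of_isGE_of_isLE U.obj₃ 0
  let F := DerivedCategory.singleFunctor (ModuleCat.{u} A) 0
  obtain ⟨w, hw⟩ := F.map_surjective (X := ModuleCat.of A A) (Y := Y) (v ≫ U.mor₂ ≫ e.hom)
  have h4 : v ≫ U.mor₂ = 0 := by
    let c := DerivedCategory.singleFunctorCompHomologyFunctorIso (ModuleCat.{u} A) 0
    have h5 : H.map (F.map w) = 0 := by rw [hw, Functor.map_comp, hv0, zero_comp]
    have h6 := c.hom.naturality w
    rw [show (F ⋙ H).map w = 0 from h5, zero_comp] at h6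
    have h7 : w = 0 := by
      refine (cancel_epi (c.hom.app (ModuleCat.of A A))).1 ?_
      rw [comp_zero]
      exact h6.symm
    rw [h7, Functor.map_zero] at hw
    rw [← cancel_mono e.hom, zero_comp, Category.assoc]
    exact hw.symm
  obtain ⟨z, hz⟩ := Triangle.coyoneda_exact₂ U (ltTri_mem 0 T.obj₁) v h4
  haveI : DerivedCategory.IsLE U.obj₁ (-1) :=
    (DerivedCategory.isLE_iff _ _).2 fun j hj => HD_ltTri₁_of_le 0 _ (by omega)
  haveI := subsingleton_unit_hom U.obj₁
  rw [hv, hz, Subsingleton.elim z 0, zero_comp, zero_comp]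

theorem subsingleton_HK_of_isGE (K : Dual.D A) {a i : ℤ} [K.IsGE a] (hi : i < a) (M : Type u) [AddCommGroup M]
    [Module A M] : Subsingleton (HK K i M) := by
  refine subsingleton_of_forall_eq 0 fun f => ?_
  haveI : DerivedCategory.TStructure.t.IsGE (K⟦i⟧) (a - i) :=
    DerivedCategory.TStructure.t.isGE_shift K a i (a - i) (by omega)
  exact DerivedCategory.TStructure.t.zero_of_isLE_of_isGE f 0 (a - i) (by omega)
    (inferInstanceAs (DerivedCategory.IsLE ((DerivedCategory.singleFunctor (ModuleCat.{u} A) 0).obj _) 0))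
    inferInstance

variable [IsNoetherianRing A]

theorem finite_HK_of_finite_HD (K : Dual.D A) (hK : ∀ i : ℤ, Module.Finite A (Dual.HD A K i)) (n : ℤ) :
    Module.Finite A (HK K n A) := by
  let H := DerivedCategory.homologyFunctor (ModuleCat.{u} A) 0
  let e : H.obj (K⟦n⟧) ≅ (DerivedCategory.homologyFunctor (ModuleCat.{u} A) n).obj K :=
    ((DerivedCategory.homologyFunctor (ModuleCat.{u} A) 0).shiftIso n 0 n (add_zero n)).app K
  haveI : Module.Finite A (H.obj (K⟦n⟧)) := by
    haveI : Module.Finite A ((DerivedCategory.homologyFunctor (ModuleCat.{u} A) n).obj K) := hK n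
    exact Module.Finite.equiv e.toLinearEquiv.symm
  let c : H.obj (Dual.inD A A) ≅ ModuleCat.of A A :=
    (DerivedCategory.singleFunctorCompHomologyFunctorIso (ModuleCat.{u} A) 0).app (ModuleCat.of A A)
  haveI : H.Additive := inferInstanceAs (DerivedCategory.homologyFunctor (ModuleCat.{u} A) 0).Additive
  let Φ : HK K n A →ₗ[A] H.obj (K⟦n⟧) :=
    { toFun := fun u => (c.inv ≫ H.map u).hom (1 : A)
      map_add' := fun u v => by rw [Functor.map_add, Preadditive.comp_add]; rfl
      map_smul' := fun r u => by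
        rw [RingHom.id_apply, ← pre_smul_id K n r u, pre_apply, Functor.map_comp, ← Category.assoc]
        have h1 := ((DerivedCategory.singleFunctorCompHomologyFunctorIso (ModuleCat.{u} A) 0).inv.naturality
          (ModuleCat.ofHom (r • (LinearMap.id : A →ₗ[A] A))))
        show ((c.inv ≫ H.map (sMap (r • LinearMap.id))) ≫ H.map u).hom (1 : A) = _
        erw [← h1]
        show (c.inv ≫ H.map u).hom (r • (1 : A)) = _
        exact (c.inv ≫ H.map u).hom.map_smul r 1 }
  refine Module.Finite.of_injective Φ ((injective_iff_map_eq_zero _).2 fun u hu => ?_)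
  refine eq_zero_of_homology_eq_zero u ?_
  rw [← cancel_epi c.inv, comp_zero]
  exact ModuleCat.hom_ext (LinearMap.ext_ring hu)

theorem finite_HK_of_bounded_below (K : Dual.D A) (hK : ∀ i : ℤ, Module.Finite A (Dual.HD A K i)) (a : ℤ)
    [K.IsGE a] (i : ℤ) (M : Type u) [AddCommGroup M] [Module A M] [Module.Finite A M] :
    Module.Finite A (HK K i M) :=
  finite_HK K (finite_HK_of_finite_HD K hK) a (fun N _ _ _ hi => subsingleton_HK_of_isGE K hi N) i M

variable [IsLocalRing A]

open IsLocalRing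

theorem subsingleton_HK_of_residueField (K : Dual.D A) (hK : ∀ i : ℤ, Module.Finite A (Dual.HD A K i)) (a : ℤ)
    [K.IsGE a] (d : ℤ) (h : ∀ i : ℤ, d < i → Subsingleton (HK K i (ResidueField A))) (M : Type u)
    [AddCommGroup M] [Module A M] [Module.Finite A M] {i : ℤ} (hi : d < i) : Subsingleton (HK K i M) := by
  have key : ∀ Q : PrimeSpectrum A, ∀ i : ℤ, d < i → Subsingleton (HK K i (A ⧸ Q.asIdeal)) := by
    intro Q
    induction Q using (wellFoundedGT_spec (A := A)).wf.induction with
    | _ Q ih =>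
      intro i hi
      by_cases hQ : Q.asIdeal = maximalIdeal A
      · obtain rfl : Q = closedPoint A := PrimeSpectrum.ext hQ
        exact h i hi
      obtain ⟨x, hx, hxQ⟩ := SetLike.exists_of_lt (lt_of_le_of_ne (le_maximalIdeal Q.2.ne_top) hQ)
      let f : (A ⧸ Q.asIdeal) →ₗ[A] (A ⧸ Q.asIdeal) := x • LinearMap.id
      have hf : Function.Injective f := by
        rw [injective_iff_map_eq_zero]
        intro y hy
        have hy' : Ideal.Quotient.mk Q.asIdeal x * y = 0 := hy
        exact (mul_eq_zero.1 hy').resolve_left fun h0 => hxQ (Ideal.Quotient.eq_zero_iff_mem.1 h0)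
      let R := LinearMap.range f
      haveI hC : Subsingleton (HK K (i + 1) ((A ⧸ Q.asIdeal) ⧸ R)) := by
        rw [← zeroAt_maximal_iff (A := A)]
        refine zeroAt_HK_of_primes K (i + 1) (maximalIdeal A) _ fun P _ hPs => ?_
        rw [zeroAt_maximal_iff]
        refine ih P (lt_of_le_of_ne (show Q.asIdeal ≤ P.asIdeal from fun c hc => ?_) ?_) (i + 1) (by omega)
        · refine Module.annihilator_le_of_mem_support hPs (Module.mem_annihilator.2 fun y => ?_)
          obtain ⟨y, rfl⟩ := Submodule.Quotient.mk_surjective _ y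
          rw [← Submodule.Quotient.mk_smul, show c • y = 0 by
            obtain ⟨y, rfl⟩ := Ideal.Quotient.mk_surjective y
            exact Ideal.Quotient.eq_zero_iff_mem.2 (Q.asIdeal.mul_mem_right y hc), Submodule.Quotient.mk_zero]
        · rintro rfl
          refine hxQ (Module.annihilator_le_of_mem_support hPs (Module.mem_annihilator.2 fun y => ?_))
          obtain ⟨y, rfl⟩ := Submodule.Quotient.mk_surjective _ y
          rw [← Submodule.Quotient.mk_smul, Submodule.Quotient.mk_eq_zero]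
          exact ⟨y, rfl⟩
      haveI := finite_HK_of_bounded_below K hK a i (A ⧸ Q.asIdeal)
      rw [← zeroAt_maximal_iff (A := A)]
      refine zeroAt_of_smul_surjective hx fun y => ?_
      obtain ⟨z, hz⟩ := exists_pre_eq K hf (LinearMap.exact_map_mkQ_range f) R.mkQ_surjective i y
        (hC.elim _ _)
      exact ⟨1, fun h1 => (maximalIdeal.isMaximal A).ne_top ((Ideal.eq_top_iff_one _).2 h1), z, by
        rw [one_smul, ← hz, pre_smul_id]⟩
  rw [← zeroAt_maximal_iff (A := A)]
  exact zeroAt_HK_of_primes K i (maximalIdeal A) M fun P _ _ => (zeroAt_maximal_iff (A := A)).2 (key P i hi)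

theorem nonempty_model (K : Dual.D A) (hK : ∀ i : ℤ, Module.Finite A (Dual.HD A K i)) (a : ℤ)
    [K.IsGE a] (d : ℤ) (h : ∀ i : ℤ, d < i → Subsingleton (HK K i (ResidueField A))) : Nonempty (Model K) := by
  have hI : ∀ (I : Ideal A) (i : ℤ), (i < a ∨ d < i) → Subsingleton (Dual.inD A (A ⧸ I) ⟶ K⟦i⟧) :=
    fun I i hi => hi.elim (fun hi => subsingleton_HK_of_isGE K hi (A ⧸ I))
      (fun hi => subsingleton_HK_of_residueField K hK a d h (A ⧸ I) hi)
  obtain ⟨E, hE, hEi, ⟨e⟩⟩ := DRingLib.exists_injAmp (K := K) (a := a) (b := d) hI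
  exact ⟨⟨E, a, d, hE, hEi, e⟩⟩

/-- The homology of `Hom(M, E)`. -/
theorem Model.nonempty_HD_HC {K : Dual.D A} (S : Model K) (M : Type u) [AddCommGroup M] [Module A M] (j : ℤ) :
    Nonempty (Dual.HD A (DRing.toD (S.HC M)) j ≃ₗ[A] S.T M j) := by
  let G := (S.HC M).sc' (j - 1) j (j + 1)
  let e1 : LinearMap.ker G.g.hom ≃ₗ[A] S.Z M j := LinearEquiv.ofEq _ _ rfl
  have hB : (LinearMap.range G.moduleCatToCycles).map (e1 : LinearMap.ker G.g.hom →ₗ[A] S.Z M j) = S.B M j := by
    ext x
    constructor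
    · rintro ⟨_, ⟨g, rfl⟩, rfl⟩
      exact ⟨g, rfl⟩
    · rintro ⟨g, hg⟩
      exact ⟨_, ⟨g, rfl⟩, Subtype.ext hg⟩
  exact ⟨(((DerivedCategory.homologyFunctorFactors (ModuleCat.{u} A) j).app (S.HC M)) ≪≫
    (S.HC M).homologyIsoSc' (j - 1) j (j + 1) (by simp) (by simp) ≪≫ G.moduleCatHomologyIso).toLinearEquiv.trans
      (Submodule.Quotient.equiv _ _ e1 hB)⟩

theorem Model.finite_HD_HC {K : Dual.D A} (S : Model K) (hK : ∀ i : ℤ, Module.Finite A (Dual.HD A K i))
    (M : Type u) [AddCommGroup M] [Module A M] [Module.Finite A M] (j : ℤ) :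
    Module.Finite A (Dual.HD A (DRing.toD (S.HC M)) j) := by
  obtain ⟨e⟩ := S.nonempty_HD_HC M j
  haveI : Module.Finite A (HK K j M) :=
    finite_HK K (finite_HK_of_finite_HD K hK) S.a (fun N _ _ _ hi => S.subsingleton_HK (M := N) (Or.inl hi)) j M
  exact Module.Finite.equiv ((S.equivHK M j).symm.trans e.symm)

theorem Model.smul_ev {K : Dual.D A} (S : Model K) {M : Type u} [AddCommGroup M] [Module A M] (r : A) (m : M) :
    S.ev (r • m) = r • S.ev m := by
  rw [Model.ev, Model.ev, ← Linear.smul_comp, ← Functor.map_smul]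
  congr 2
  exact HomologicalComplex.hom_ext _ _ fun _ => ModuleCat.hom_ext (LinearMap.ext fun φ => φ.map_smul r m)

/-- Evaluation as a linear map. -/
def Model.evL {K : Dual.D A} (S : Model K) (M : Type u) [AddCommGroup M] [Module A M] :
    M →ₗ[A] (DRing.toD (S.HC M) ⟶ K) where
  toFun := S.ev
  map_add' := S.ev_add
  map_smul' := S.smul_ev

theorem Model.ev_ne_zero {K : Dual.D A} (S : Model K) {d : ℤ}
    (h : Nontrivial (S.T (A ⧸ maximalIdeal A) d)) : S.ev (1 : A ⧸ maximalIdeal A) ≠ 0 := by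
  intro h0
  haveI := S.isKInjective
  obtain ⟨f', hf'⟩ := exists_ne (0 : S.T (A ⧸ maximalIdeal A) d)
  obtain ⟨f, rfl⟩ := Submodule.Quotient.mk_surjective _ f'
  refine hf' ((Submodule.Quotient.mk_eq_zero _).2 ?_)
  have h1 : DerivedCategory.Q.map (S.evC (1 : A ⧸ maximalIdeal A)) = 0 := by
    rw [← cancel_mono S.iso.hom, zero_comp]
    exact h0
  have h2 : (HomotopyCategory.quotient _ _).map (S.evC (1 : A ⧸ maximalIdeal A)) =
      (HomotopyCategory.quotient _ _).map 0 := by
    refine Eq.trans ?_ (Functor.map_zero _ _ _).symm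
    exact (CochainComplex.IsKInjective.Qh_map_bijective
      ((HomotopyCategory.quotient (ModuleCat.{u} A) (ComplexShape.up ℤ)).obj (S.HC (A ⧸ maximalIdeal A))) S.E).1
      (h1.trans (Functor.map_zero _ _ _).symm)
  let H := HomotopyCategory.homotopyOfEq _ _ h2
  have h3 := H.comm d
  rw [dNext_eq _ (show (ComplexShape.up ℤ).Rel d (d + 1) from rfl),
    prevD_eq _ (show (ComplexShape.up ℤ).Rel (d - 1) d by simp), HomologicalComplex.zero_f, add_zero] at h3
  let w : S.E.X (d - 1) := (H.hom d (d - 1)).hom f.1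
  have hm : ∀ a ∈ maximalIdeal A, a • w = 0 := fun a ha => by
    show a • (H.hom d (d - 1)).hom f.1 = 0
    rw [← map_smul, show a • f.1 = 0 from LinearMap.ext fun t => by
      rw [LinearMap.smul_apply, ← map_smul, LinearMap.zero_apply]
      obtain ⟨t, rfl⟩ := Ideal.Quotient.mk_surjective t
      rw [show a • Ideal.Quotient.mk (maximalIdeal A) t = 0 from
        Ideal.Quotient.eq_zero_iff_mem.2 (Ideal.mul_mem_right t _ ha), map_zero], map_zero]
  let g : (A ⧸ maximalIdeal A) →ₗ[A] S.E.X (d - 1) := (maximalIdeal A).liftQ (LinearMap.toSpanSingleton A _ w) hm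
  refine ⟨g, Submodule.linearMap_qext _ (LinearMap.ext_ring ?_)⟩
  show (S.E.d (d - 1) d).hom ((1 : A) • w) = f.1 (1 : A ⧸ maximalIdeal A)
  rw [one_smul]
  have h4 := congr($(h3).hom f.1)
  have h5 : ((S.HC (A ⧸ maximalIdeal A)).d d (d + 1)).hom f.1 = 0 := LinearMap.ext ((S.mem_Z f.1).1 f.2)
  refine Eq.symm (h4.trans ?_)
  show (H.hom (d + 1) d).hom (((S.HC (A ⧸ maximalIdeal A)).d d (d + 1)).hom f.1) + (S.E.d (d - 1) d).hom w = _
  rw [h5, map_zero, zero_add]

omit [IsNoetherianRing A] [IsLocalRing A] in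
theorem eq_zero_of_subsingleton_shift {K : Dual.D A} {T : Triangle (Dual.D A)} (hT : T ∈ distTriang (Dual.D A))
    (h : Subsingleton (T.obj₁ ⟶ K⟦(-1 : ℤ)⟧)) (u : T.obj₃ ⟶ K) (hu : T.mor₂ ≫ u = 0) : u = 0 := by
  obtain ⟨g, hg⟩ := Triangle.yoneda_exact₃ T hT u hu
  let e := (shiftFunctorCompIsoId (Dual.D A) (-1 : ℤ) 1 (by omega)).app K
  obtain ⟨g', hg'⟩ := (shiftFunctor (Dual.D A) (1 : ℤ)).map_surjective (g ≫ e.inv)
  have h1 : g = 0 := by
    rw [← cancel_mono e.inv, zero_comp, ← hg', h.elim g' 0, Functor.map_zero]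
  rw [hg, h1, comp_zero]

/-- The evaluation property. -/
def Model.Good {K : Dual.D A} (S : Model K) (M : Type u) [AddCommGroup M] [Module A M] : Prop :=
  (∀ n : ℤ, n ≠ 0 → Subsingleton (DRing.toD (S.HC M) ⟶ K⟦n⟧)) ∧ Function.Bijective (S.evL M)

variable {K : Dual.D A} (S : Model K)

theorem Model.good_exact {M N P : Type u} [AddCommGroup M] [Module A M] [AddCommGroup N] [Module A N]
    [AddCommGroup P] [Module A P] {f : M →ₗ[A] N} {g : N →ₗ[A] P} (hf : Function.Injective f)
    (hfg : Function.Exact f g) (hg : Function.Surjective g) (hM : S.Good M) (hP : S.Good P) : S.Good N := by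
  have hT := DerivedCategory.triangleOfSES_distinguished (S.scHC_shortExact hf hfg hg)
  refine ⟨fun n hn => S.subsingleton_hom_HC_exact hf hfg hg (hM.1 n hn) (hP.1 n hn),
    (injective_iff_map_eq_zero _).2 fun z hz => ?_, fun u => ?_⟩
  · have hgz : g z = 0 := (injective_iff_map_eq_zero _).1 hP.2.1 _ ((S.comp_ev g z).symm.trans (by
      rw [show S.ev z = 0 from hz, comp_zero]))
    obtain ⟨m, rfl⟩ := (hfg z).1 hgz
    rw [(injective_iff_map_eq_zero _).1 hM.2.1 m (eq_zero_of_subsingleton_shift hT (hP.1 (-1) (by omega)) _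
      ((S.comp_ev f m).trans hz)), map_zero]
  · obtain ⟨y, hy⟩ := hP.2.2 (DerivedCategory.Q.map (S.HCmap g) ≫ u)
    obtain ⟨z, rfl⟩ := hg y
    obtain ⟨v, hv⟩ := Triangle.yoneda_exact₂ _ hT (u - S.ev z) (by
      refine (Preadditive.comp_sub (DerivedCategory.Q.map (S.HCmap g)) u (S.ev z)).trans ?_
      rw [S.comp_ev]
      exact sub_eq_zero.2 hy.symm)
    obtain ⟨m, hm⟩ := hM.2.2 v
    refine ⟨f m + z, ?_⟩
    show S.ev (f m + z) = u
    rw [S.ev_add, ← S.comp_ev f m, show S.ev m = v from hm, ← eq_sub_iff_add_eq]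
    exact hv.symm

theorem Model.good_of_equiv {M N : Type u} [AddCommGroup M] [Module A M] [AddCommGroup N] [Module A N]
    (e : M ≃ₗ[A] N) (hM : S.Good M) : S.Good N := by
  let I : S.HC M ≅ S.HC N := ⟨S.HCmap e.symm.toLinearMap, S.HCmap e.toLinearMap,
    HomologicalComplex.hom_ext _ _ fun j => ModuleCat.hom_ext (LinearMap.ext fun φ =>
      LinearMap.ext fun x => congrArg (fun z => (show M →ₗ[A] S.E.X j from φ) z) (e.symm_apply_apply x)),
    HomologicalComplex.hom_ext _ _ fun j => ModuleCat.hom_ext (LinearMap.ext fun φ =>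
      LinearMap.ext fun x => congrArg (fun z => (show N →ₗ[A] S.E.X j from φ) z) (e.apply_symm_apply x))⟩
  let J := DerivedCategory.Q.mapIso I
  refine ⟨fun n hn => (Iso.homFromEquiv (Z := K⟦n⟧) J).subsingleton_congr.1 (hM.1 n hn),
    (injective_iff_map_eq_zero _).2 fun z hz => ?_, fun u => ?_⟩
  · have : S.ev (e.symm z) = 0 := (S.comp_ev e.symm.toLinearMap z).symm.trans (by
      rw [show S.ev z = 0 from hz, comp_zero])
    exact e.symm.map_eq_zero_iff.1 ((injective_iff_map_eq_zero _).1 hM.2.1 _ this)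
  · obtain ⟨x, hx⟩ := hM.2.2 (J.hom ≫ u)
    refine ⟨e x, ?_⟩
    show S.ev (e x) = u
    refine (S.comp_ev e.toLinearMap x).symm.trans ?_
    rw [show S.ev x = J.hom ≫ u from hx]
    exact J.inv_hom_id_assoc u

theorem Model.good_residueField (d : ℤ)
    (hvan : ∀ i : ℤ, i ≠ d → Subsingleton (HK K i (A ⧸ maximalIdeal A)))
    (e : HK K d (A ⧸ maximalIdeal A) ≃ₗ[A] A ⧸ maximalIdeal A) : S.Good (A ⧸ maximalIdeal A) := by
  let k := A ⧸ maximalIdeal A
  let X := DRing.toD (S.HC k)
  have hz : ∀ j, j ≠ d → IsZero ((DerivedCategory.homologyFunctor (ModuleCat.{u} A) j).obj X) := fun j hj => by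
    obtain ⟨t⟩ := S.nonempty_HD_HC k j
    haveI := hvan j hj
    haveI : Subsingleton ((DerivedCategory.homologyFunctor (ModuleCat.{u} A) j).obj X) :=
      (t.trans (S.equivHK k j)).injective.subsingleton
    exact ModuleCat.isZero_of_subsingleton _
  haveI : X.IsGE d := (DerivedCategory.isGE_iff _ _).2 fun j hj => hz j hj.ne
  haveI : X.IsLE d := (DerivedCategory.isLE_iff _ _).2 fun j hj => hz j hj.ne'
  obtain ⟨Y, ⟨eY⟩⟩ := DerivedCategory.exists_iso_singleFunctor_obj_of_isGE_of_isLE X d
  obtain ⟨t⟩ := S.nonempty_HD_HC k d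
  let eYk : Y ≃ₗ[A] k := (((DerivedCategory.homologyFunctor (ModuleCat.{u} A) d).mapIso eY).trans
    ((DerivedCategory.singleFunctorCompHomologyFunctorIso (ModuleCat.{u} A) d).app Y)).toLinearEquiv.symm.trans
    ((t.trans (S.equivHK k d)).trans e)
  let Φ : ∀ n : ℤ, (X ⟶ K⟦n⟧) ≃ₗ[A] HK K (n + d) k := fun n =>
    (Linear.homCongr A eY (Iso.refl (K⟦n⟧))).trans
      ((singleHomEquiv K d n Y).trans (preEquiv K (n + d) eYk.symm))
  refine ⟨fun n hn => ?_, ?_⟩
  · haveI := hvan (n + d) (by omega)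
    exact (Φ n).injective.subsingleton
  haveI : IsSimpleModule A k :=
    isSimpleModule_iff_quot_maximal.mpr ⟨_, maximalIdeal.isMaximal A, ⟨LinearEquiv.refl _ _⟩⟩
  have h0 : IsSimpleModule A (X ⟶ K⟦(0 : ℤ)⟧) := by
    have := Φ 0
    rw [zero_add] at this
    exact IsSimpleModule.congr (this.trans e)
  haveI : IsSimpleModule A (X ⟶ K) :=
    IsSimpleModule.congr (Linear.homCongr A (Iso.refl X) ((shiftFunctorZero (Dual.D A) ℤ).app K).symm)
  have hne : S.evL k ≠ 0 := fun h => by
    refine S.ev_ne_zero (d := d) ?_ (LinearMap.congr_fun h (1 : k))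
    haveI : Nontrivial k := inferInstanceAs (Nontrivial (A ⧸ maximalIdeal A))
    exact ((S.equivHK k d).trans e).symm.injective.nontrivial
  exact LinearMap.bijective_of_ne_zero hne

theorem Model.good_quotient_prime (hK : ∀ i : ℤ, Module.Finite A (Dual.HD A K i)) (hres : S.Good (A ⧸ maximalIdeal A)) :
    ∀ Q : PrimeSpectrum A, S.Good (A ⧸ Q.asIdeal) := by
  intro Q
  induction Q using (wellFoundedGT_spec (A := A)).wf.induction with
  | _ Q ih =>
    by_cases hQ : Q.asIdeal = maximalIdeal A
    · obtain rfl : Q = closedPoint A := PrimeSpectrum.ext hQ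
      exact hres
    obtain ⟨x, hx, hxQ⟩ := SetLike.exists_of_lt (lt_of_le_of_ne (le_maximalIdeal Q.2.ne_top) hQ)
    let N := A ⧸ Q.asIdeal
    let f : N →ₗ[A] N := x • LinearMap.id
    have hf : Function.Injective f := by
      rw [injective_iff_map_eq_zero]
      intro y hy
      have hy' : Ideal.Quotient.mk Q.asIdeal x * y = 0 := hy
      exact (mul_eq_zero.1 hy').resolve_left fun h0 => hxQ (Ideal.Quotient.eq_zero_iff_mem.1 h0)
    let R := LinearMap.range f
    have hC : S.Good (N ⧸ R) := by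
      have key : ∀ (P : Type u) [AddCommGroup P] [Module A P] [Module.Finite A P],
          (∀ T ∈ Module.support A P, Q < T) → S.Good P := by
        intro P _ _ _
        apply IsNoetherianRing.induction_on_isQuotientEquivQuotientPrime A (M := P) ‹_›
          (motive := fun P _ _ _ => (∀ T ∈ Module.support A P, Q < T) → S.Good P)
        · intro P _ _ _ _ _
          refine ⟨fun n _ => subsingleton_of_forall_eq 0 fun u => ?_,
            Function.injective_of_subsingleton _, fun u => ⟨0, ?_⟩⟩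
          all_goals
            have h1 : 𝟙 (S.HC P) = 0 := HomologicalComplex.hom_ext _ _ fun j =>
              ModuleCat.hom_ext (LinearMap.ext fun φ => LinearMap.ext fun x => by
                rw [Subsingleton.elim x 0, map_zero, map_zero])
            have h2 : 𝟙 (DRing.toD (S.HC P)) = 0 := by
              rw [← CategoryTheory.Functor.map_id, h1, Functor.map_zero]
            rw [← Category.id_comp u, h2, zero_comp]
          exact map_zero _
        · intro P _ _ _ T e hsup
          refine S.good_of_equiv e.symm (ih T (hsup T ?_))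
          rw [e.support_eq, Module.mem_support_iff_of_finite, Ideal.annihilator_quotient]
        · intro P₁ _ _ _ P₂ _ _ _ P₃ _ _ _ a b ha hb hab h1 h3 hsup
          exact S.good_exact ha hab hb (h1 fun T hT => hsup T (Module.support_subset_of_injective (R := A) a ha hT))
            (h3 fun T hT => hsup T (Module.support_subset_of_surjective (R := A) b hb hT))
      refine key _ fun T hT => lt_of_le_of_ne (show Q.asIdeal ≤ T.asIdeal from fun c hc => ?_) ?_
      · refine Module.annihilator_le_of_mem_support hT (Module.mem_annihilator.2 fun y => ?_)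
        obtain ⟨y, rfl⟩ := Submodule.Quotient.mk_surjective _ y
        rw [← Submodule.Quotient.mk_smul, show c • y = 0 by
          obtain ⟨y, rfl⟩ := Ideal.Quotient.mk_surjective y
          exact Ideal.Quotient.eq_zero_iff_mem.2 (Q.asIdeal.mul_mem_right y hc), Submodule.Quotient.mk_zero]
      · rintro rfl
        refine hxQ (Module.annihilator_le_of_mem_support hT (Module.mem_annihilator.2 fun y => ?_))
        obtain ⟨y, rfl⟩ := Submodule.Quotient.mk_surjective _ y
        rw [← Submodule.Quotient.mk_smul, Submodule.Quotient.mk_eq_zero]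
        exact ⟨y, rfl⟩
    have hT := DerivedCategory.triangleOfSES_distinguished
      (S.scHC_shortExact hf (LinearMap.exact_map_mkQ_range f) R.mkQ_surjective)
    have hmul : DerivedCategory.Q.map (S.HCmap f) = x • 𝟙 (DRing.toD (S.HC N)) := by
      rw [← CategoryTheory.Functor.map_id, ← Functor.map_smul]
      congr 1
      exact HomologicalComplex.hom_ext _ _ fun j => ModuleCat.hom_ext (LinearMap.ext fun φ =>
        LinearMap.ext fun y => (show N →ₗ[A] S.E.X j from φ).map_smul x y)
    have hmul' : ∀ (Z : Dual.D A) (u : DRing.toD (S.HC N) ⟶ Z), DerivedCategory.Q.map (S.HCmap f) ≫ u = x • u :=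
      fun Z u => by rw [hmul, Linear.smul_comp, Category.id_comp]
    have hfin : ∀ j, Module.Finite A (Dual.HD A (DRing.toD (S.HC N)) j) := S.finite_HD_HC hK N
    refine ⟨fun n hn => ?_, (injective_iff_map_eq_zero _).2 ?_, ?_⟩
    · haveI := S.finite_hom hK _ hfin n
      rw [← zeroAt_maximal_iff (A := A)]
      refine zeroAt_of_smul_surjective hx fun y => ?_
      obtain ⟨v, hv⟩ := Triangle.yoneda_exact₂ _ hT y ((hC.1 n hn).elim _ _)
      exact ⟨1, fun h1 => (maximalIdeal.isMaximal A).ne_top ((Ideal.eq_top_iff_one _).2 h1), v, by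
        rw [one_smul]
        exact ((hmul' _ v).symm.trans hv.symm).symm⟩
    · intro z hz
      have hk : LinearMap.ker (S.evL N) ≤ maximalIdeal A • LinearMap.ker (S.evL N) := by
        intro z hz
        have hgz : R.mkQ z = 0 := (injective_iff_map_eq_zero _).1 hC.2.1 _ ((S.comp_ev R.mkQ z).symm.trans (by
          rw [show S.ev z = 0 from hz, comp_zero]))
        obtain ⟨z', rfl⟩ := (LinearMap.exact_map_mkQ_range f z).1 hgz
        refine Submodule.smul_mem_smul hx (eq_zero_of_subsingleton_shift hT (hC.1 (-1) (by omega)) _ ?_)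
        exact (S.comp_ev f z').trans hz
      exact (Submodule.eq_bot_iff _).1 (Submodule.eq_bot_of_le_smul_of_le_jacobson_bot (maximalIdeal A) _
        (IsNoetherian.noetherian _) hk (maximalIdeal_le_jacobson _)) z hz
    · haveI : Module.Finite A (DRing.toD (S.HC N) ⟶ K) := by
        haveI := S.finite_hom hK _ hfin 0
        exact Module.Finite.equiv (Linear.homCongr A (Iso.refl _) ((shiftFunctorZero (Dual.D A) ℤ).app K))
      rw [← LinearMap.range_eq_top]
      refine top_le_iff.1 (Submodule.le_of_le_smul_of_le_jacobson_bot Module.Finite.fg_top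
        (maximalIdeal_le_jacobson _) fun u _ => ?_)
      obtain ⟨c, hc⟩ := hC.2.2 (DerivedCategory.Q.map (S.HCmap R.mkQ) ≫ u)
      obtain ⟨z, rfl⟩ := R.mkQ_surjective c
      obtain ⟨v, hv⟩ := Triangle.yoneda_exact₂ _ hT (u - S.ev z) (by
        refine (Preadditive.comp_sub (DerivedCategory.Q.map (S.HCmap R.mkQ)) u (S.ev z)).trans ?_
        rw [S.comp_ev]
        exact sub_eq_zero.2 hc.symm)
      rw [show u = S.evL N z + x • (show DRing.toD (S.HC N) ⟶ K from v) from by
        rw [← hmul' _ v]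
        exact (sub_eq_iff_eq_add'.1 hv)]
      exact Submodule.add_mem_sup ⟨z, rfl⟩ (Submodule.smul_mem_smul hx Submodule.mem_top)

theorem Model.good_finite (hK : ∀ i : ℤ, Module.Finite A (Dual.HD A K i)) (hres : S.Good (A ⧸ maximalIdeal A))
    (M : Type u) [AddCommGroup M] [Module A M] [Module.Finite A M] : S.Good M := by
  apply IsNoetherianRing.induction_on_isQuotientEquivQuotientPrime A (M := M) ‹_›
    (motive := fun M _ _ _ => S.Good M)
  · intro P _ _ _ _
    refine ⟨fun n _ => subsingleton_of_forall_eq 0 fun u => ?_,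
      Function.injective_of_subsingleton _, fun u => ⟨0, ?_⟩⟩
    all_goals
      have h1 : 𝟙 (S.HC P) = 0 := HomologicalComplex.hom_ext _ _ fun j =>
        ModuleCat.hom_ext (LinearMap.ext fun φ => LinearMap.ext fun x => by
          rw [Subsingleton.elim x 0, map_zero, map_zero])
      have h2 : 𝟙 (DRing.toD (S.HC P)) = 0 := by
        rw [← CategoryTheory.Functor.map_id, h1, Functor.map_zero]
      rw [← Category.id_comp u, h2, zero_comp]
    exact map_zero _
  · exact fun P _ _ _ T e => S.good_of_equiv e.symm (S.good_quotient_prime hK hres T)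
  · exact fun P₁ _ _ _ P₂ _ _ _ P₃ _ _ _ a b ha hb hab h1 h3 => S.good_exact ha hab hb h1 h3

/-- The criterion. -/
theorem isDualizing_of_residueField (hK : ∀ i : ℤ, Module.Finite A (Dual.HD A K i)) (a : ℤ) [K.IsGE a] (d : ℤ)
    (hvan : ∀ i : ℤ, i ≠ d → Subsingleton (HK K i (ResidueField A)))
    (e : HK K d (ResidueField A) ≃ₗ[A] ResidueField A) : Dual.IsDualizing A K := by
  obtain ⟨S⟩ := nonempty_model K hK a d fun i hi => hvan i hi.ne'
  have hA := S.good_finite hK (S.good_residueField d hvan e) A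
  obtain ⟨-, hiso⟩ := S.HC_unit_iso
  let J := asIso (S.ev (1 : A))
  refine ⟨inferInstance, ⟨S.a, S.b, fun M _ _ i hi => S.subsingleton_HK (M := M) hi⟩, hK, ?_,
    fun i hi => (Iso.homFromEquiv (Z := K⟦i⟧) J).subsingleton_congr.1 (hA.1 i hi)⟩
  refine ⟨fun r s hrs => hA.2.1 ?_, fun u => ?_⟩
  · show S.ev r = S.ev s
    have h : ∀ t : A, S.ev t = J.hom ≫ (t • 𝟙 K) := fun t => by
      rw [Linear.comp_smul, Category.comp_id, show J.hom = S.ev (1 : A) from rfl, ← S.smul_ev, smul_eq_mul, mul_one]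
    rw [h, h]
    exact congrArg (J.hom ≫ ·) hrs
  · obtain ⟨r, hr⟩ := hA.2.2 (J.hom ≫ u)
    refine ⟨r, (cancel_epi J.hom).1 ?_⟩
    rw [Linear.comp_smul, Category.comp_id, show J.hom = S.ev (1 : A) from rfl, ← S.smul_ev, smul_eq_mul, mul_one]
    exact hr

end Groth.Agent.DualCxLib
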