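import Groth.Agent.DualCxLib.LocBound
import Mathlib.RingTheory.Ideal.MinimalPrime.Noetherian

/-!
# Dualizing complexes from local data
-/

set_option autoImplicit false
set_option backward.isDefEq.respectTransparency false
set_option linter.style.haveILetI false
set_option maxRecDepth 4000

universe u

open CategoryTheory Limits
attribute [local instance] HasDerivedCategory.standard

noncomputable section

namespace Groth.Agent.DualCxLib

theorem exists_ltSeries {A : Type u} [CommRing A] [IsNoetherianRing A] {ω : Dual.D A} (hω : Dual.IsDualizing A ω)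
    (p : PrimeSpectrum A) : ∀ q : PrimeSpectrum A, p ≤ q →
      ∃ l : LTSeries (PrimeSpectrum A), l.last = q ∧ dfn hω q - dfn hω p ≤ l.length := by
  intro q
  induction q using (wellFoundedLT_spec (A := A)).wf.induction with
  | _ q ih =>
    intro hpq
    rcases lt_or_eq_of_le hpq with hlt | rfl
    · obtain ⟨r, hpr, hr⟩ := exists_covBy_le_of_lt' hlt
      obtain ⟨l, hl, hlen⟩ := ih r hr.lt hpr
      refine ⟨l.snoc q (hl ▸ hr.lt), RelSeries.last_snoc _ _ _, ?_⟩
      rw [RelSeries.snoc_length, dfn_covBy hω hr]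
      push_cast
      omega
    · exact ⟨RelSeries.singleton _ p, rfl, by simp⟩

variable {A : Type u} [CommRing A] [IsNoetherianRing A] {ι : Type*} (Mf : ι → Submonoid A)
  (hcov : ∀ m : Ideal A, m.IsMaximal → ∃ j, ∀ s ∈ Mf j, s ∉ m)
  [hbc : ∀ j, DRing.HasLBaseChange (algebraMap A (Localization (Mf j)))]
include hcov

omit [IsNoetherianRing A] in
theorem subsingleton_HD_of_cover {K : Dual.D A} {j : ℤ}
    (h : ∀ k, Subsingleton (Dual.HD (Localization (Mf k))
      ((DRing.LBaseChange (algebraMap A (Localization (Mf k)))).obj K) j)) :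
    Subsingleton (Dual.HD A K j) :=
  subsingleton_of_forall_eq 0 fun x => eq_zero_of_forall_maximal (A := A) x fun m hm => by
    obtain ⟨k, hk⟩ := hcov m hm
    obtain ⟨s, hs, h0⟩ := exists_smul_eq_zero_of_subsingleton_HD_lbc (Mf k) (Localization (Mf k)) (h k) x
    exact ⟨s, hk s hs, h0⟩

/-- A bound on the injective dimension checked on a cover. -/
theorem nonempty_model_of_cover {K : Dual.D A} (hK : ∀ j, Module.Finite A (Dual.HD A K j)) (a b : ℤ) [K.IsGE a]
    (hb : ∀ (k : ι) (P : Type u) [AddCommGroup P] [Module (Localization (Mf k)) P]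
      [Module.Finite (Localization (Mf k)) P] (i : ℤ), b < i →
        Subsingleton (HK ((DRing.LBaseChange (algebraMap A (Localization (Mf k)))).obj K) i P)) :
    Nonempty (Model K) := by
  obtain ⟨S⟩ := exists_injRep K a
  have hI : ∀ (I : Ideal A) (i : ℤ), (i < a ∨ b < i) → Subsingleton (Dual.inD A (A ⧸ I) ⟶ K⟦i⟧) :=
    fun I i hi => hi.elim (fun hi => subsingleton_HK_of_isGE K hi (A ⧸ I)) fun hi =>
      subsingleton_of_forall_eq 0 fun u => eq_zero_of_forall_maximal (A := A) u fun m hm => by
        obtain ⟨k, hk⟩ := hcov m hm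
        obtain ⟨s, hs, h0⟩ := S.exists_smul_eq_zero (Mf k) (Localization (Mf k)) (A ⧸ I) i
          (fun P _ _ _ => hb k P i hi) u
        exact ⟨s, hk s hs, h0⟩
  obtain ⟨E, hE, hEi, ⟨e⟩⟩ := DRingLib.exists_injAmp (K := K) (a := a) (b := b) hI
  exact ⟨⟨E, a, b, hE, hEi, e⟩⟩

omit hcov
omit hbc

/-- A cover by basic opens. -/
theorem isDualizing_of_away {n : ℕ} (f : Fin n → A) (hf : Ideal.span (Set.range f) = ⊤) (K : Dual.D A)
    (h : ∀ i : Fin n, ∃ _ : DRing.HasLBaseChange (algebraMap A (Localization.Away (f i))),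
      Dual.IsDualizing (Localization.Away (f i))
        ((DRing.LBaseChange (algebraMap A (Localization.Away (f i)))).obj K)) :
    Dual.IsDualizing A K := by
  haveI hbc' : ∀ i, DRing.HasLBaseChange (algebraMap A (Localization (Submonoid.powers (f i)))) := fun i => (h i).fst
  have hd : ∀ i, Dual.IsDualizing (Localization (Submonoid.powers (f i)))
      ((DRing.LBaseChange (algebraMap A (Localization (Submonoid.powers (f i))))).obj K) := fun i => (h i).snd
  have hcov : ∀ m : Ideal A, m.IsMaximal → ∃ j, ∀ s ∈ Submonoid.powers (f j), s ∉ m := fun m hm => by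
    by_contra hc
    push Not at hc
    refine hm.ne_top (top_le_iff.1 (hf ▸ Ideal.span_le.2 ?_))
    rintro _ ⟨j, rfl⟩
    obtain ⟨s, ⟨k, rfl⟩, hs⟩ := hc j
    exact hm.isPrime.mem_of_pow_mem k hs
  have hK : ∀ j, Module.Finite A (Dual.HD A K j) := fun j => by
    have hsp : Ideal.span (Set.range f) = ⊤ := hf
    choose g hg using fun t : Set.range f => t.2
    refine Module.Finite.of_localizationSpan' (Set.range f) hsp
      (Rₚ := fun t => Localization (Submonoid.powers (f (g t))))
      (Mₚ := fun t => TensorProduct A (Localization (Submonoid.powers (f (g t)))) (Dual.HD A K j))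
      (h₁ := fun t => ?_)
      (fun t => TensorProduct.mk A (Localization (Submonoid.powers (f (g t)))) (Dual.HD A K j) 1)
      (h₂ := fun t => ?_) fun t => ?_
    · show IsLocalization (Submonoid.powers (t : A)) _
      rw [← hg t]
      infer_instance
    · show IsLocalizedModule (Submonoid.powers (t : A)) _
      rw [← hg t]
      infer_instance
    · obtain ⟨e⟩ := nonempty_HD_lbc (Submonoid.powers (f (g t))) (Localization (Submonoid.powers (f (g t)))) K j
      haveI := (hd (g t)).finite_cohomology j
      exact Module.Finite.equiv e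
  let a : ℤ := Finset.univ.sum fun i => min 0 (model (hd i)).a
  let b : ℤ := Finset.univ.sum fun i => max 0 (model (hd i)).b
  have ha : ∀ i, a ≤ (model (hd i)).a := fun i => by
    have h1 : a ≤ min 0 (model (hd i)).a := by
      show ∑ i, min 0 (model (hd i)).a ≤ _
      rw [← Finset.add_sum_erase _ _ (Finset.mem_univ i)]
      have := Finset.sum_nonpos (s := Finset.univ.erase i) (f := fun i => min 0 (model (hd i)).a) (fun j _ => min_le_left _ _)
      omega
    omega
  have hb : ∀ i, (model (hd i)).b ≤ b := fun i => by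
    have h1 : max 0 (model (hd i)).b ≤ b :=
      Finset.single_le_sum (f := fun i => max 0 (model (hd i)).b) (fun j _ => le_max_left _ _) (Finset.mem_univ i)
    omega
  haveI : DerivedCategory.IsGE K a := (DerivedCategory.isGE_iff _ _).2 fun j hj => by
    haveI : Subsingleton ((DerivedCategory.homologyFunctor (ModuleCat.{u} A) j).obj K) :=
      subsingleton_HD_of_cover _ hcov fun i => by
        haveI := (model (hd i)).isGE
        exact ModuleCat.subsingleton_of_isZero
          (DerivedCategory.isZero_of_isGE _ (model (hd i)).a j (by have := ha i; omega))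
    exact ModuleCat.isZero_of_subsingleton _
  obtain ⟨S⟩ := nonempty_model_of_cover _ hcov hK a b fun i P _ _ _ k hk =>
    (model (hd i)).subsingleton_HK (M := P) (Or.inr (by have := hb i; omega))
  exact isDualizing_of_cover S hK _ hcov hd

/-- Pointwise dualizing complexes on a ring of finite dimension. -/
theorem isDualizing_of_pointwise (hdim : ringKrullDim A < ⊤) (K : Dual.D A)
    (hK : ∀ i : ℤ, Module.Finite A (Dual.HD A K i)) (a : ℤ) [K.IsGE a]
    (h : ∀ p : PrimeSpectrum A, ∃ _ : DRing.HasLBaseChange (algebraMap A (Localization.AtPrime p.asIdeal)),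
      Dual.IsDualizing (Localization.AtPrime p.asIdeal)
        ((DRing.LBaseChange (algebraMap A (Localization.AtPrime p.asIdeal))).obj K)) :
    Dual.IsDualizing A K := by
  let Mf : MaximalSpectrum A → Submonoid A := fun m => m.asIdeal.primeCompl
  have hcov : ∀ m : Ideal A, m.IsMaximal → ∃ j, ∀ s ∈ Mf j, s ∉ m := fun m hm => ⟨⟨m, hm⟩, fun _ hs => hs⟩
  haveI hbc' : ∀ m, DRing.HasLBaseChange (algebraMap A (Localization (Mf m))) := fun m =>
    (h m.toPrimeSpectrum).fst
  have hd : ∀ m, Dual.IsDualizing (Localization (Mf m))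
      ((DRing.LBaseChange (algebraMap A (Localization (Mf m)))).obj K) := fun m => (h m.toPrimeSpectrum).snd
  -- bound at the minimal primes
  have hbd : ∀ p : PrimeSpectrum A, ∃ c : ℤ, ∀ i, c < i → ∀ x : Dual.HD A K i, ∃ t ∉ p.asIdeal, t • x = 0 :=
    fun p => by
    obtain ⟨hp, hdp⟩ := h p
    haveI := (model hdp).isLE
    exact ⟨(model hdp).b, fun i hi => exists_smul_eq_zero_of_subsingleton_HD_lbc p.asIdeal.primeCompl
      (Localization.AtPrime p.asIdeal) (ModuleCat.subsingleton_of_isZero
        (DerivedCategory.isZero_of_isLE _ (model hdp).b i hi))⟩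
  choose c hc using hbd
  haveI hfin : Finite ↥{p : PrimeSpectrum A | p.asIdeal ∈ minimalPrimes A} :=
    ((minimalPrimes.finite_of_isNoetherianRing A).preimage
      (fun p _ q _ h => PrimeSpectrum.ext h)).to_subtype
  obtain ⟨C, hC⟩ := (Set.toFinite (c '' {p : PrimeSpectrum A | p.asIdeal ∈ minimalPrimes A})).bddAbove
  obtain ⟨d, hd'⟩ : ∃ d : ℕ, ∀ l : LTSeries (PrimeSpectrum A), l.length ≤ d := by
    by_contra hc'
    push Not at hc'
    refine hdim.ne (top_unique ?_)
    rcases eq_or_ne (ringKrullDim A) ⊤ with hT | hT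
    · exact hT.ge
    · exfalso
      obtain ⟨l0, -⟩ := hc' 0
      have hne : ringKrullDim A ≠ ⊥ := fun hb => by
        have := Order.LTSeries.length_le_krullDim l0
        rw [show Order.krullDim (PrimeSpectrum A) = ringKrullDim A from rfl, hb] at this
        exact WithBot.not_coe_le_bot _ this
      obtain ⟨x, hx⟩ := WithBot.ne_bot_iff_exists.1 hne
      obtain ⟨k, hk⟩ : ∃ k : ℕ, (k : ℕ∞) = x := ENat.ne_top_iff_exists.1 fun hx' => hT (by rw [← hx, hx']; rfl)
      obtain ⟨l, hl⟩ := hc' k
      have h2 := Order.LTSeries.length_le_krullDim l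
      rw [show Order.krullDim (PrimeSpectrum A) = ringKrullDim A from rfl, ← hx, ← hk] at h2
      exact absurd (by exact_mod_cast h2 : l.length ≤ k) (by omega)
  obtain ⟨S⟩ := nonempty_model_of_cover Mf hcov hK a (C + d) fun m P _ _ _ i hi => by
    let B := Localization (Mf m)
    haveI hloc : IsLocalization m.asIdeal.primeCompl B := inferInstanceAs (IsLocalization (Mf m) (Localization (Mf m)))
    haveI : IsLocalRing B := IsLocalization.AtPrime.isLocalRing B m.asIdeal
    haveI : IsNoetherianRing B := IsLocalization.isNoetherianRing (Mf m) B ‹_›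
    let ω := (DRing.LBaseChange (algebraMap A B)).obj K
    have hω : Dual.IsDualizing B ω := hd m
    rw [← zeroAt_maximal_iff (A := B)]
    by_contra hz
    have h1 := le_dfn_of_not_zeroAt hω (M := P) (IsLocalRing.closedPoint B) hz
    -- a minimal prime of `B`
    obtain ⟨q, hqmin⟩ : ∃ q : PrimeSpectrum B, ∀ r, r ≤ q → r = q := by
      obtain ⟨q, -, hq⟩ := (wellFoundedLT_spec (A := B)).wf.has_min Set.univ ⟨IsLocalRing.closedPoint B, trivial⟩
      exact ⟨q, fun r hr => (hr.lt_or_eq).resolve_left (hq r trivial)⟩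
    obtain ⟨l, -, hl⟩ := exists_ltSeries hω q (IsLocalRing.closedPoint B)
      (IsLocalRing.le_maximalIdeal q.2.ne_top)
    have h2 : l.length ≤ d := hd' (l.map (PrimeSpectrum.comap (algebraMap A B))
      (Monotone.strictMono_of_injective (fun x y h => Ideal.comap_mono h)
        (PrimeSpectrum.localization_comap_injective B (Mf m))))
    let Pp : PrimeSpectrum A := PrimeSpectrum.comap (algebraMap A B) q
    have hPp : Pp.asIdeal ∈ minimalPrimes A := by
      refine ⟨⟨Pp.2, bot_le⟩, fun P' hP' hle => ?_⟩
      haveI := hP'.1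
      have hdisj : Disjoint (Mf m : Set A) (P' : Set A) := Set.disjoint_left.2 fun s hs hs' =>
        ((IsLocalization.isPrime_iff_isPrime_disjoint (Mf m) B q.asIdeal).1 q.2).2.le_bot ⟨hs, hle hs'⟩
      have h3 := hqmin ⟨P'.map (algebraMap A B),
        IsLocalization.isPrime_of_isPrime_disjoint (Mf m) B P' hP'.1 hdisj⟩ (Ideal.map_le_iff_le_comap.2 hle)
      show Pp.asIdeal ≤ P'
      rw [← IsLocalization.under_map_of_isPrime_disjoint (Mf m) B hP'.1 hdisj]
      exact Ideal.comap_mono (congrArg PrimeSpectrum.asIdeal h3).ge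
    have h4 : dfn hω q ≤ C := by
      refine le_trans ?_ (hC ⟨Pp, hPp, rfl⟩)
      by_contra hlt
      haveI hsupp : q ∈ Module.support B B := Module.mem_support_iff'.2 ⟨1, fun r hr h0 => hr (by
        rw [smul_eq_mul, mul_one] at h0
        rw [h0]
        exact zero_mem _)⟩
      refine not_zeroAt_of_minimal hω (M := B) q hsupp (fun r _ hr => hqmin r hr) ?_
      obtain ⟨e⟩ := (model hω).nonempty_HD_equiv (dfn hω q)
      rw [zeroAt_congr e]
      intro y
      obtain ⟨e'⟩ := nonempty_HD_lbc (Mf m) B K (dfn hω q)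
      obtain ⟨⟨x, s⟩, hx⟩ := IsLocalizedModule.surj (Mf m) (TensorProduct.mk A B (Dual.HD A K (dfn hω q)) 1) (e' y)
      obtain ⟨t, ht, ht0⟩ := hc Pp (dfn hω q) (not_le.1 hlt) x
      refine ⟨algebraMap A B (t * (s : A)), ?_, e'.injective ?_⟩
      · show algebraMap A B (t * (s : A)) ∉ q.asIdeal
        exact fun hh => (Pp.2.mem_or_mem (show t * (s : A) ∈ Pp.asIdeal from hh)).elim ht fun hs =>
          Set.disjoint_left.1 ((IsLocalization.isPrime_iff_isPrime_disjoint (Mf m) B q.asIdeal).1 q.2).2 s.2 hs
      · rw [map_smul, map_zero, algebraMap_smul, mul_smul]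
        show t • ((s : A) • e' y) = 0
        rw [show (s : A) • e' y = TensorProduct.mk A B _ 1 x from hx, ← map_smul, ht0, map_zero]
    omega
  exact isDualizing_of_cover S hK Mf hcov hd

end Groth.Agent.DualCxLib
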