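import Groth.Agent.DualCxLib.FlatDev
import Groth.Agent.DualCxLib.DimFn
import Groth.Agent.DualCxLib.LocCover
import Mathlib.RingTheory.Finiteness.Descent
import Mathlib.CategoryTheory.Adjunction.Unique
import Mathlib.RingTheory.Flat.FaithfullyFlat.Basic

/-!
# Flat base change of dualizing complexes
-/

set_option autoImplicit false
set_option backward.isDefEq.respectTransparency false
set_option linter.style.haveILetI false
set_option maxRecDepth 4000

universe u

open CategoryTheory Limits
open scoped TensorProduct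
attribute [local instance] HasDerivedCategory.standard

noncomputable section

namespace Groth.Agent.DualCxLib

open Groth.Agent.DRingLib

section

variable (A B : Type u) [CommRing A] [CommRing B] [Algebra A B] [Module.Flat A B]
  [DRing.HasLBaseChange (algebraMap A B)]

omit [Module.Flat A B] in
/-- Derived base change commutes with shifts. -/
def bcShiftIso (K : Dual.D A) (i : ℤ) : (bcD A B).obj (K⟦i⟧) ≅ ((bcD A B).obj K)⟦i⟧ :=
  let adj := DRingLib.lbcAdj (algebraMap A B)
  (Adjunction.leftAdjointUniq ((shiftEquiv (Dual.D A) i).toAdjunction.comp adj)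
    ((adj.comp (shiftEquiv (Dual.D B) i).toAdjunction).ofNatIsoRight
      ((DRing.restrictD (algebraMap A B)).commShiftIso (-i)))).app K

theorem bcΦ_smul {X Y : Dual.D A} (b : B) (x : B ⊗[A] (X ⟶ Y)) :
    bcΦ A B X Y (b • x) = b • bcΦ A B X Y x := by
  induction x using TensorProduct.induction_on with
  | zero => rw [smul_zero, map_zero, smul_zero]
  | tmul c v => rw [TensorProduct.smul_tmul', bcΦ_tmul, bcΦ_tmul, smul_eq_mul, mul_smul]
  | add x y hx hy => rw [smul_add, map_add, map_add, hx, hy, smul_add]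

/-- The comparison as a linear map. -/
def bcΦl (X Y : Dual.D A) : B ⊗[A] (X ⟶ Y) →ₗ[B] ((bcD A B).obj X ⟶ (bcD A B).obj Y) where
  toFun := bcΦ A B X Y
  map_add' := fun x y => (bcΦ A B X Y).map_add x y
  map_smul' := fun b x => bcΦ_smul A B b x

variable [IsNoetherianRing A]

/-- The base change isomorphism for morphism modules. -/
theorem nonempty_hom_bcD (X K : Dual.D A) (a b : ℤ) [K.IsGE a] [X.IsLE b]
    (hX : ∀ j, Module.Finite A (Dual.HD A X j)) (i : ℤ) :
    Nonempty (B ⊗[A] (X ⟶ K⟦i⟧) ≃ₗ[B] ((bcD A B).obj X ⟶ ((bcD A B).obj K)⟦i⟧)) := by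
  haveI : DerivedCategory.IsGE (K⟦i⟧) (a - i) :=
    DerivedCategory.TStructure.t.isGE_shift K a i (a - i) (by omega)
  let e1 : B ⊗[A] (X ⟶ K⟦i⟧) ≃ₗ[B] ((bcD A B).obj X ⟶ (bcD A B).obj (K⟦i⟧)) :=
    LinearEquiv.ofBijective (bcΦl A B X (K⟦i⟧)) (bijective_bcΦ A B X (K⟦i⟧) (a - i) b hX)
  let e2 : ((bcD A B).obj X ⟶ (bcD A B).obj (K⟦i⟧)) ≃ₗ[B] ((bcD A B).obj X ⟶ ((bcD A B).obj K)⟦i⟧) :=
    Linear.homCongr B (Iso.refl _) (bcShiftIso A B K i)
  exact ⟨e1.trans e2⟩

/-- Base change of morphisms out of a finite module. -/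
theorem nonempty_HK_bcD (K : Dual.D A) (a : ℤ) [K.IsGE a] (N : Type u) [AddCommGroup N] [Module A N]
    [Module.Finite A N] (i : ℤ) :
    Nonempty (B ⊗[A] HK K i N ≃ₗ[B] HK ((bcD A B).obj K) i (B ⊗[A] N)) := by
  have hN : ∀ j, Module.Finite A (Dual.HD A (Dual.inD A N) j) := fun j => by
    by_cases hj : j = 0
    · subst hj
      haveI : Module.Finite A ((𝟭 (ModuleCat.{u} A)).obj (ModuleCat.of A N)) :=
        inferInstanceAs (Module.Finite A N)
      exact Module.Finite.equiv
        ((DerivedCategory.singleFunctorCompHomologyFunctorIso (ModuleCat.{u} A) 0).app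
          (ModuleCat.of A N)).toLinearEquiv.symm
    · haveI : DerivedCategory.IsLE (Dual.inD A N) 0 :=
        inferInstanceAs (DerivedCategory.IsLE ((DerivedCategory.singleFunctor (ModuleCat.{u} A) 0).obj _) 0)
      haveI : DerivedCategory.IsGE (Dual.inD A N) 0 :=
        inferInstanceAs (DerivedCategory.IsGE ((DerivedCategory.singleFunctor (ModuleCat.{u} A) 0).obj _) 0)
      haveI : Subsingleton (Dual.HD A (Dual.inD A N) j) := ModuleCat.subsingleton_of_isZero (by
        rcases lt_or_gt_of_ne hj with h | h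
        · exact DerivedCategory.isZero_of_isGE _ 0 j h
        · exact DerivedCategory.isZero_of_isLE _ 0 j h)
      exact Module.Finite.of_surjective (0 : A →ₗ[A] _) fun _ => ⟨0, Subsingleton.elim _ _⟩
  haveI : DerivedCategory.IsLE (Dual.inD A N) 0 :=
    inferInstanceAs (DerivedCategory.IsLE ((DerivedCategory.singleFunctor (ModuleCat.{u} A) 0).obj _) 0)
  obtain ⟨e⟩ := nonempty_hom_bcD A B (Dual.inD A N) K a 0 hN i
  let c : (bcD A B).obj (Dual.inD A N) ≅ Dual.inD B (B ⊗[A] N) :=
    DRingLib.lbcInDIso (algebraMap A B) (flat_baseMod A B) (ModuleCat.of A N) ≪≫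
      (DerivedCategory.singleFunctor (ModuleCat.{u} B) 0).mapIso
        (DRingLib.extendScalarsTensorEquiv A B N).toModuleIso
  exact ⟨e.trans (Linear.homCongr B c (Iso.refl _))⟩

variable [IsNoetherianRing B]

/-- Flat base change of a dualizing complex is dualizing as soon as it has finite injective dimension. -/
theorem isDualizing_bcD {ω : Dual.D A} (hω : Dual.IsDualizing A ω) (SB : Model ((bcD A B).obj ω)) :
    Dual.IsDualizing B ((bcD A B).obj ω) := by
  let S := model hω
  haveI := S.isGE
  haveI := S.isLE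
  refine ⟨inferInstance, ⟨SB.a, SB.b, fun N _ _ i hi => SB.subsingleton_HK (M := N) hi⟩,
    fun j => finite_HD_bcD A B (hω.finite_cohomology j), ?_, fun i hi => ?_⟩
  · let e : A ≃ₗ[A] (ω ⟶ ω) := LinearEquiv.ofBijective (LinearMap.toSpanSingleton A _ (𝟙 ω)) hω.toEnd_bijective
    have h := (bijective_bcΦ A B ω ω S.a S.b hω.finite_cohomology).comp
      ((TensorProduct.rid A B).symm.bijective.comp Function.bijective_id |> fun h' =>
        ((LinearEquiv.lTensor B e).bijective.comp h'))
    convert h using 1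
    funext b
    show b • 𝟙 ((bcD A B).obj ω) = bcΦ A B ω ω (b ⊗ₜ[A] ((1 : A) • 𝟙 ω))
    rw [bcΦ_tmul, one_smul, CategoryTheory.Functor.map_id]
  · haveI := hω.ext_self_subsingleton i hi
    obtain ⟨e⟩ := nonempty_hom_bcD A B ω ω S.a S.b hω.finite_cohomology i
    haveI : Subsingleton (B ⊗[A] (ω ⟶ ω⟦i⟧)) := subsingleton_of_forall_eq 0 fun x => by
      induction x using TensorProduct.induction_on with
      | zero => rfl
      | tmul b m => rw [Subsingleton.elim m 0, TensorProduct.tmul_zero]
      | add x y hx hy => rw [hx, hy, add_zero]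
    exact e.symm.injective.subsingleton

omit [Module.Flat A B] in
/-- Faithfully flat descent of dualizing complexes. -/
theorem isDualizing_of_bcD [Module.FaithfullyFlat A B] {K : Dual.D A}
    (h : Dual.IsDualizing B ((bcD A B).obj K)) : Dual.IsDualizing A K := by
  let SB := model h
  haveI := SB.isGE
  haveI := SB.isLE
  have hH : ∀ j, (j < SB.a ∨ SB.b < j) → Subsingleton (Dual.HD A K j) := fun j hj => by
    have h0 : Subsingleton (Dual.HD B ((bcD A B).obj K) j) := ModuleCat.subsingleton_of_isZero (by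
      rcases hj with hj | hj
      · exact DerivedCategory.isZero_of_isGE _ SB.a j hj
      · exact DerivedCategory.isZero_of_isLE _ SB.b j hj)
    obtain ⟨e⟩ := nonempty_HD_bcD A B K j
    haveI := e.symm.injective.subsingleton
    exact (Module.FaithfullyFlat.subsingleton_tensorProduct_iff_right A B).1 inferInstance
  haveI : DerivedCategory.IsGE K SB.a := (DerivedCategory.isGE_iff _ _).2 fun j hj =>
    ModuleCat.isZero_iff_subsingleton.2 (hH j (Or.inl hj))
  haveI : DerivedCategory.IsLE K SB.b := (DerivedCategory.isLE_iff _ _).2 fun j hj =>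
    ModuleCat.isZero_iff_subsingleton.2 (hH j (Or.inr hj))
  have hK : ∀ j, Module.Finite A (Dual.HD A K j) := fun j => by
    obtain ⟨e⟩ := nonempty_HD_bcD A B K j
    haveI := h.finite_cohomology j
    haveI : Module.Finite B (B ⊗[A] (Dual.HD A K j)) := Module.Finite.equiv e
    exact Module.Finite.of_finite_tensorProduct_of_faithfullyFlat B
  have hI : ∀ (I : Ideal A) (i : ℤ), (i < SB.a ∨ SB.b < i) → Subsingleton (Dual.inD A (A ⧸ I) ⟶ K⟦i⟧) := fun I i hi => by
    obtain ⟨e⟩ := nonempty_HK_bcD A B K SB.a (A ⧸ I) i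
    haveI := SB.subsingleton_HK (M := B ⊗[A] (A ⧸ I)) hi
    haveI := e.injective.subsingleton
    exact (Module.FaithfullyFlat.subsingleton_tensorProduct_iff_right A B).1 inferInstance
  obtain ⟨E, hE, hEi, ⟨eE⟩⟩ := DRingLib.exists_injAmp (K := K) (a := SB.a) (b := SB.b) hI
  let S : Model K := ⟨E, SB.a, SB.b, hE, hEi, eE⟩
  refine ⟨inferInstance, ⟨S.a, S.b, fun N _ _ i hi => S.subsingleton_HK (M := N) hi⟩, hK, ?_, fun i hi => ?_⟩
  · let p : A →ₗ[A] (K ⟶ K) := LinearMap.toSpanSingleton A _ (𝟙 K)
    have h1 : Function.Bijective (bcΦ A B K K ∘ p.lTensor B ∘ (TensorProduct.rid A B).symm) := by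
      convert h.toEnd_bijective using 1
      funext b
      show bcΦ A B K K (b ⊗ₜ[A] ((1 : A) • 𝟙 K)) = b • 𝟙 _
      rw [bcΦ_tmul, one_smul, CategoryTheory.Functor.map_id]
    have h2 : Function.Bijective (p.lTensor B) :=
      (Function.Bijective.of_comp_iff' (bijective_bcΦ A B K K SB.a SB.b hK) _).1
        ((Function.Bijective.of_comp_iff _ (TensorProduct.rid A B).symm.bijective).1 h1)
    exact (Module.FaithfullyFlat.lTensor_bijective_iff_bijective A B p).1 h2
  · obtain ⟨e⟩ := nonempty_hom_bcD A B K K SB.a SB.b hK i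
    haveI := h.ext_self_subsingleton i hi
    haveI := e.injective.subsingleton
    exact (Module.FaithfullyFlat.subsingleton_tensorProduct_iff_right A B).1 inferInstance

end

/-- Vanishing of `HK` for finite modules is tested on residue fields of maximal ideals. -/
theorem subsingleton_HK_of_maximal {B : Type u} [CommRing B] [IsNoetherianRing B] (K : Dual.D B)
    (hK : ∀ i : ℤ, Module.Finite B (Dual.HD B K i)) (a : ℤ) [K.IsGE a] (d : ℤ)
    (h : ∀ m : Ideal B, m.IsMaximal → ∀ i : ℤ, d < i → Subsingleton (HK K i (B ⧸ m))) (M : Type u)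
    [AddCommGroup M] [Module B M] [Module.Finite B M] {i : ℤ} (hi : d < i) : Subsingleton (HK K i M) := by
  have key : ∀ Q : PrimeSpectrum B, ∀ i : ℤ, d < i → ∀ n : Ideal B, n.IsMaximal →
      ZeroAt n (HK K i (B ⧸ Q.asIdeal)) := by
    intro Q
    induction Q using (wellFoundedGT_spec (A := B)).wf.induction with
    | _ Q ih =>
      intro i hi n hn
      haveI := hn.isPrime
      by_cases hle : Q.asIdeal ≤ n
      swap
      · obtain ⟨s, hs, hsn⟩ := SetLike.not_le_iff_exists.1 hle
        refine .of_smul hsn fun y => smul_eq_zero_of_smul K i (fun z => ?_) y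
        obtain ⟨z, rfl⟩ := Ideal.Quotient.mk_surjective z
        exact Ideal.Quotient.eq_zero_iff_mem.2 (Q.asIdeal.mul_mem_right z hs)
      by_cases hQ : Q.asIdeal = n
      · haveI : Subsingleton (HK K i (B ⧸ Q.asIdeal)) := h _ (hQ ▸ hn) i hi
        exact .of_subsingleton
      obtain ⟨x, hx, hxQ⟩ := SetLike.exists_of_lt (lt_of_le_of_ne hle hQ)
      let f : (B ⧸ Q.asIdeal) →ₗ[B] (B ⧸ Q.asIdeal) := x • LinearMap.id
      have hf : Function.Injective f := by
        rw [injective_iff_map_eq_zero]
        intro y hy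
        have hy' : Ideal.Quotient.mk Q.asIdeal x * y = 0 := hy
        exact (mul_eq_zero.1 hy').resolve_left fun h0 => hxQ (Ideal.Quotient.eq_zero_iff_mem.1 h0)
      let R := LinearMap.range f
      have hC : ZeroAt n (HK K (i + 1) ((B ⧸ Q.asIdeal) ⧸ R)) := by
        refine zeroAt_HK_of_primes K (i + 1) n _ fun P _ hPs => ?_
        refine ih P (lt_of_le_of_ne (show Q.asIdeal ≤ P.asIdeal from fun c hc => ?_) ?_) (i + 1) (by omega) n hn
        · refine Module.annihilator_le_of_mem_support hPs (Module.mem_annihilator.2 fun y => ?_)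
          obtain ⟨y, rfl⟩ := Submodule.Quotient.mk_surjective _ y
          rw [← Submodule.Quotient.mk_smul, show c • y = 0 by
            obtain ⟨y, rfl⟩ := Ideal.Quotient.mk_surjective y
            exact Ideal.Quotient.eq_zero_iff_mem.2 (Q.asIdeal.mul_mem_right y hc), Submodule.Quotient.mk_zero]
        · rintro rfl
          refine hxQ (Module.annihilator_le_of_mem_support hPs (Module.mem_annihilator.2 fun y => ?_))
          obtain ⟨y, rfl⟩ := Submodule.Quotient.mk_surjective _ y
          rw [← Submodule.Quotient.mk_smul, Submodule.Quotient.mk_eq_zero]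
          exact ⟨y, rfl⟩
      haveI := finite_HK_of_bounded_below K hK a i (B ⧸ Q.asIdeal)
      refine zeroAt_of_smul_surjective hx fun y => ?_
      obtain ⟨s, hs, hs0⟩ := hC (δ K hf (LinearMap.exact_map_mkQ_range f) R.mkQ_surjective i y)
      obtain ⟨z, hz⟩ := exists_pre_eq K hf (LinearMap.exact_map_mkQ_range f) R.mkQ_surjective i (s • y)
        (by rw [map_smul, hs0])
      exact ⟨s, hs, z, by rw [← hz, pre_smul_id]⟩
  exact subsingleton_of_forall_eq 0 fun u => eq_zero_of_forall_maximal (A := B) u fun m hm =>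
    zeroAt_HK_of_primes K i m M (fun P _ _ => key P i hi m hm) u

/-- A model from vanishing at the maximal ideals. -/
theorem nonempty_model_of_maximal {B : Type u} [CommRing B] [IsNoetherianRing B] (K : Dual.D B)
    (hK : ∀ i : ℤ, Module.Finite B (Dual.HD B K i)) (a : ℤ) [K.IsGE a] (d : ℤ)
    (h : ∀ m : Ideal B, m.IsMaximal → ∀ i : ℤ, d < i → Subsingleton (HK K i (B ⧸ m))) : Nonempty (Model K) := by
  have hI : ∀ (I : Ideal B) (i : ℤ), (i < a ∨ d < i) → Subsingleton (Dual.inD B (B ⧸ I) ⟶ K⟦i⟧) :=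
    fun I i hi => hi.elim (fun hi => subsingleton_HK_of_isGE K hi (B ⧸ I))
      (fun hi => subsingleton_HK_of_maximal K hK a d h (B ⧸ I) hi)
  obtain ⟨E, hE, hEi, ⟨e⟩⟩ := DRingLib.exists_injAmp (K := K) (a := a) (b := d) hI
  exact ⟨⟨E, a, d, hE, hEi, e⟩⟩

section Criterion

variable (A B : Type u) [CommRing A] [CommRing B] [Algebra A B] [IsNoetherianRing A] [IsNoetherianRing B]
  [Module.Flat A B] [DRing.HasLBaseChange (algebraMap A B)]

/-- The quotient of `B` by an extended ideal. -/
def quotMapEquiv (I : Ideal A) : (B ⊗[A] (A ⧸ I)) ≃ₗ[B] (B ⧸ I.map (algebraMap A B)) :=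
  (Algebra.TensorProduct.quotIdealMapEquivTensorQuot B I).toLinearEquiv.symm

/-- Base change along a flat map whose maximal ideals are extended. -/
theorem isDualizing_bcD_of_maximal {ω : Dual.D A} (hω : Dual.IsDualizing A ω)
    (hmax : ∀ n : Ideal B, n.IsMaximal → ∃ m : Ideal A, m.map (algebraMap A B) = n) :
    Dual.IsDualizing B ((bcD A B).obj ω) := by
  let S := model hω
  haveI := S.isGE
  haveI := isGE_bcD A B ω S.a
  obtain ⟨SB⟩ := nonempty_model_of_maximal ((bcD A B).obj ω) (fun j => finite_HD_bcD A B (hω.finite_cohomology j))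
    S.a S.b (fun n hn i hi => by
      obtain ⟨m, rfl⟩ := hmax n hn
      obtain ⟨e⟩ := nonempty_HK_bcD A B ω S.a (A ⧸ m) i
      haveI := S.subsingleton_HK (M := A ⧸ m) (Or.inr hi : i < S.a ∨ S.b < i)
      haveI : Subsingleton (B ⊗[A] HK ω i (A ⧸ m)) := subsingleton_of_forall_eq 0 fun x => by
        induction x using TensorProduct.induction_on with
        | zero => rfl
        | tmul b y => rw [Subsingleton.elim y 0, TensorProduct.tmul_zero]
        | add x y hx hy => rw [hx, hy, add_zero]
      haveI := e.symm.injective.subsingleton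
      exact (preEquiv ((bcD A B).obj ω) i (quotMapEquiv A B m).symm).symm.injective.subsingleton)
  exact isDualizing_bcD A B hω SB

end Criterion

end Groth.Agent.DualCxLib
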