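import Groth.Agent.DualCxLib.LocDual
import Groth.Agent.DualCxLib.Local
import Groth.Agent.DualCxLib.Crit
import Mathlib.RingTheory.Localization.Finiteness

/-!
# Bounding injective dimension locally
-/

set_option autoImplicit false
set_option backward.isDefEq.respectTransparency false
set_option linter.style.haveILetI false
set_option maxRecDepth 4000

universe u

open CategoryTheory Limits
attribute [local instance] HasDerivedCategory.standard

noncomputable section

namespace Groth.Agent.DualCxLib

variable {A : Type u} [CommRing A]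

theorem exists_injRep (K : Dual.D A) (a : ℤ) [K.IsGE a] : Nonempty (InjRep K) := by
  let G := DerivedCategory.Q.objPreimage K
  let e₀ : DRing.toD G ≅ K := DerivedCategory.Q.objObjPreimageIso K
  haveI : G.IsGE a := (CochainComplex.isGE_iff _ _).2 fun i hi => by
    rw [DRingLib.exactAt_iff_isZero_homologyFunctor]
    exact IsZero.of_iso (DerivedCategory.isZero_of_isGE K a i hi)
      ((DerivedCategory.homologyFunctor _ i).mapIso e₀)
  haveI := DRingLib.isIso_Q_map (G.πTruncGE a) inferInstance
  obtain ⟨E, ι, h1, h2, h3⟩ :=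
    CochainComplex.Plus.modelCategoryQuillen.exists_quasiIso_injective (G.truncGE a) a
  haveI := h3
  haveI := DRingLib.isIso_Q_map ι h1
  exact ⟨⟨E, a, fun i hi => CochainComplex.isZero_of_isStrictlyGE E a i hi,
    fun i => (Module.injective_iff_injective_object A (E.X i)).2 (h2 i),
    (asIso (DerivedCategory.Q.map ι)).symm ≪≫ (asIso (DerivedCategory.Q.map (G.πTruncGE a))).symm ≪≫ e₀⟩⟩

variable (M : Submonoid A) (B : Type u) [CommRing B] [Algebra A B] [IsLocalization M B]
  [DRing.HasLBaseChange (algebraMap A B)]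

include M in
/-- Cohomology of a localization. -/
theorem nonempty_HD_lbc (K : Dual.D A) (j : ℤ) :
    Nonempty (Dual.HD B ((DRing.LBaseChange (algebraMap A B)).obj K) j ≃ₗ[B]
      TensorProduct A B (Dual.HD A K j)) := by
  haveI := IsLocalization.flat B M
  let G := DerivedCategory.Q.objPreimage K
  let e₀ : DRing.toD G ≅ K := DerivedCategory.Q.objObjPreimageIso K
  obtain ⟨e⟩ := nonempty_HD_extCx B G j
  exact ⟨((DerivedCategory.homologyFunctor (ModuleCat.{u} B) j).mapIso
    ((DRing.LBaseChange (algebraMap A B)).mapIso e₀.symm ≪≫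
      DRingLib.lbcIsoOfFlat (algebraMap A B) (flat_baseMod_loc M B) G)).toLinearEquiv.trans
    (e.trans (TensorProduct.AlgebraTensorModule.congr (LinearEquiv.refl B B)
      ((DerivedCategory.homologyFunctor (ModuleCat.{u} A) j).mapIso e₀).toLinearEquiv))⟩

include M in
theorem finite_HD_lbc {K : Dual.D A} {j : ℤ} (h : Module.Finite A (Dual.HD A K j)) :
    Module.Finite B (Dual.HD B ((DRing.LBaseChange (algebraMap A B)).obj K) j) := by
  obtain ⟨e⟩ := nonempty_HD_lbc M B K j
  haveI := h
  exact Module.Finite.equiv e.symm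

include M in
theorem exists_smul_eq_zero_of_subsingleton_HD_lbc {K : Dual.D A} {j : ℤ}
    (h : Subsingleton (Dual.HD B ((DRing.LBaseChange (algebraMap A B)).obj K) j)) (x : Dual.HD A K j) :
    ∃ s ∈ M, s • x = 0 := by
  obtain ⟨e⟩ := nonempty_HD_lbc M B K j
  haveI := e.symm.injective.subsingleton
  obtain ⟨s, hs⟩ := (IsLocalizedModule.eq_zero_iff M (TensorProduct.mk A B (Dual.HD A K j) 1) (m := x)).1
    (Subsingleton.elim _ _)
  exact ⟨s, s.2, hs⟩

variable [IsNoetherianRing A]

include M in
/-- Vanishing of localized morphisms out of a finite module. -/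
theorem InjRep.exists_smul_eq_zero {K : Dual.D A} (S : InjRep K) (N : Type u) [AddCommGroup N] [Module A N]
    [Module.Finite A N] (i : ℤ)
    (h : ∀ (P : Type u) [AddCommGroup P] [Module B P] [Module.Finite B P],
      Subsingleton (HK ((DRing.LBaseChange (algebraMap A B)).obj K) i P))
    (u : HK K i N) : ∃ s ∈ M, s • u = 0 := by
  obtain ⟨e, -⟩ := S.exists_homEquiv M B (Dual.inD A N) i
  let P := TensorProduct A B N
  haveI := h P
  let c : (DRing.LBaseChange (algebraMap A B)).obj (Dual.inD A N) ≅ Dual.inD B P :=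
    DRingLib.lbcInDIso (algebraMap A B) (flat_baseMod_loc M B) (ModuleCat.of A N) ≪≫
      (DerivedCategory.singleFunctor (ModuleCat.{u} B) 0).mapIso
        (DRingLib.extendScalarsTensorEquiv A B N).toModuleIso
  haveI : Subsingleton ((DRing.LBaseChange (algebraMap A B)).obj (Dual.inD A N) ⟶
      ((DRing.LBaseChange (algebraMap A B)).obj K)⟦i⟧) :=
    (c.homFromEquiv (Z := ((DRing.LBaseChange (algebraMap A B)).obj K)⟦i⟧)).subsingleton_congr.2 inferInstance
  haveI := e.symm.injective.subsingleton
  exact (S.isLoc_HK M B i N).inj u (Subsingleton.elim _ _)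

end Groth.Agent.DualCxLib
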