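import Groth.Agent.DualCxLib.ChangeRing
import Groth.Agent.DualCxLib.LocBound
import Groth.Agent.DualCxLib.FlatDual
import Groth.Agent.DTenLib.Base

/-!
# The right adjoint of restriction of scalars on derived categories
-/

set_option autoImplicit false
set_option backward.isDefEq.respectTransparency false
set_option linter.style.haveILetI false
set_option maxRecDepth 4000

universe u

open CategoryTheory Limits
attribute [local instance] HasDerivedCategory.standard

noncomputable section

namespace Groth.Agent.DualCxLib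

section Unit

variable {A : Type u} [CommRing A] {ω : Dual.D A} (S : InjRep ω)

theorem InjRep.nonempty_T_unit (i : ℤ) : Nonempty (S.T A i ≃ₗ[A] Dual.HD A ω i) := by
  let G := S.E.sc' (i - 1) i (i + 1)
  let ev := LinearMap.ringLmapEquivSelf A A (S.E.X i)
  have hZ : (S.Z A i).map ev.toLinearMap = LinearMap.ker G.g.hom := by
    ext x
    simp only [Submodule.mem_map, LinearEquiv.coe_coe, LinearMap.mem_ker, S.mem_Z]
    refine ⟨?_, fun hx => ⟨ev.symm x, fun r => ?_, ev.apply_symm_apply x⟩⟩
    · rintro ⟨f, hf, rfl⟩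
      exact hf 1
    · rw [show ev.symm x r = r • x from rfl, map_smul]
      exact (congrArg (r • ·) hx).trans (smul_zero r)
  let e1 : S.Z A i ≃ₗ[A] LinearMap.ker G.g.hom := ev.ofSubmodules _ _ hZ
  have hB : (S.B A i).map (e1 : S.Z A i →ₗ[A] LinearMap.ker G.g.hom) = LinearMap.range G.moduleCatToCycles := by
    ext x
    constructor
    · rintro ⟨f, ⟨g, hg⟩, rfl⟩
      exact ⟨g 1, Subtype.ext (LinearMap.congr_fun hg 1)⟩
    · rintro ⟨w, hw⟩
      refine ⟨e1.symm x, ⟨(LinearMap.ringLmapEquivSelf A A (S.E.X (i - 1))).symm w, ?_⟩, e1.apply_symm_apply x⟩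
      refine LinearMap.ext_ring ?_
      have h1 : (e1 (e1.symm x)).1 = (e1.symm x).1 1 := rfl
      rw [e1.apply_symm_apply] at h1
      replace h1 := (congrArg Subtype.val hw).trans h1
      exact (congrArg (S.E.d (i - 1) i).hom (one_smul A w)).trans h1
  exact ⟨(Submodule.Quotient.equiv _ _ e1 hB).trans
    (G.moduleCatHomologyIso.symm ≪≫ (S.E.homologyIsoSc' (i - 1) i (i + 1) (by simp) (by simp)).symm ≪≫
      ((DerivedCategory.homologyFunctorFactors (ModuleCat.{u} A) i).app S.E).symm ≪≫
      (DerivedCategory.homologyFunctor (ModuleCat.{u} A) i).mapIso S.iso).toLinearEquiv⟩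

include S in
theorem nonempty_HD_equiv_rep (i : ℤ) : Nonempty (HK ω i A ≃ₗ[A] Dual.HD A ω i) := by
  obtain ⟨e⟩ := S.nonempty_T_unit i
  exact ⟨(S.equivHK A i).symm.trans e⟩

end Unit

variable {A : Type u} [CommRing A] (B : Type u) [CommRing B] [Algebra A B]

/-- Restriction of scalars on modules. -/
abbrev resF : ModuleCat.{u} B ⥤ ModuleCat.{u} A := ModuleCat.restrictScalars.{u} (algebraMap A B)

/-- Coextension of scalars on modules. -/
abbrev coF : ModuleCat.{u} A ⥤ ModuleCat.{u} B := ModuleCat.coextendScalars.{u, u, u} (algebraMap A B)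

instance additive_coF : (coF (A := A) B).Additive :=
  (ModuleCat.restrictCoextendScalarsAdj (algebraMap A B)).right_adjoint_additive

variable {K : Dual.D A} (S : InjRep K)

/-- The counit on complexes. -/
def InjRep.εC : (DTen.resCx (algebraMap A B)).obj (S.coext B) ⟶ S.E where
  f i := (ModuleCat.restrictCoextendScalarsAdj (algebraMap A B)).counit.app (S.E.X i)
  comm' i j _ := ((ModuleCat.restrictCoextendScalarsAdj (algebraMap A B)).counit.naturality (S.E.d i j)).symm

theorem InjRep.εC_apply (i : ℤ) (g : (S.coext B).X i) : ((S.εC B).f i).hom g = S.coextEquiv B i g 1 := rfl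

/-- The unit on complexes. -/
def resUnit (P : DRing.Cx B) :
    P ⟶ ((coF (A := A) B).mapHomologicalComplex (ComplexShape.up ℤ)).obj
      ((DTen.resCx (algebraMap A B)).obj P) where
  f i := (ModuleCat.restrictCoextendScalarsAdj (algebraMap A B)).unit.app (P.X i)
  comm' i j _ := ((ModuleCat.restrictCoextendScalarsAdj (algebraMap A B)).unit.naturality (P.d i j)).symm

theorem InjRep.transpose_surjective {P : DRing.Cx B} (h : (DTen.resCx (algebraMap A B)).obj P ⟶ S.E) :
    ∃ g : P ⟶ S.coext B, (DTen.resCx (algebraMap A B)).map g ≫ S.εC B = h := by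
  refine ⟨resUnit B P ≫ ((coF (A := A) B).mapHomologicalComplex (ComplexShape.up ℤ)).map h,
    HomologicalComplex.hom_ext _ _ fun i => ?_⟩
  let adj := ModuleCat.restrictCoextendScalarsAdj (algebraMap A B)
  show (resF (A := A) B).map (adj.unit.app (P.X i) ≫ (coF B).map (h.f i)) ≫ adj.counit.app (S.E.X i) = h.f i
  exact (adj.homEquiv_counit _ _ _).symm.trans
    ((congrArg (adj.homEquiv _ _).symm (adj.homEquiv_unit _ _ _).symm).trans
      (Equiv.symm_apply_apply _ _))

theorem InjRep.transpose_eq {P : DRing.Cx B} (g : P ⟶ S.coext B) :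
    resUnit B P ≫ ((coF (A := A) B).mapHomologicalComplex (ComplexShape.up ℤ)).map
      ((DTen.resCx (algebraMap A B)).map g ≫ S.εC B) = g := by
  refine HomologicalComplex.hom_ext _ _ fun i => ?_
  let adj := ModuleCat.restrictCoextendScalarsAdj (algebraMap A B)
  show adj.unit.app (P.X i) ≫ (coF (A := A) B).map ((resF B).map (g.f i) ≫ adj.counit.app (S.E.X i)) = g.f i
  exact (adj.homEquiv_unit _ _ _).symm.trans
    ((congrArg (adj.homEquiv _ _) (adj.homEquiv_counit _ _ _).symm).trans (Equiv.apply_symm_apply _ _))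

/-- The evaluation `res (RHom(B, K)) → K`. -/
def InjRep.εD : (DRing.restrictD (algebraMap A B)).obj (DRing.toD (S.coext B)) ⟶ K :=
  (DTen.resFactors (algebraMap A B)).hom.app (S.coext B) ≫ DerivedCategory.Q.map (S.εC B) ≫ S.iso.hom

theorem InjRep.εD_map {P : DRing.Cx B} (g : P ⟶ S.coext B) :
    (DRing.restrictD (algebraMap A B)).map (DerivedCategory.Q.map g) ≫ S.εD B =
      (DTen.resFactors (algebraMap A B)).hom.app P ≫
        DerivedCategory.Q.map ((DTen.resCx (algebraMap A B)).map g ≫ S.εC B) ≫ S.iso.hom := by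
  rw [InjRep.εD, Functor.map_comp, Category.assoc]
  exact (DTen.resFactors (algebraMap A B)).hom.naturality_assoc g _

/-- `RHom(B, K)` corepresents maps from restrictions. -/
theorem InjRep.transpose_bijective (X : Dual.D B) :
    Function.Bijective fun f : X ⟶ DRing.toD (S.coext B) =>
      (DRing.restrictD (algebraMap A B)).map f ≫ S.εD B := by
  haveI := S.isKInjective
  haveI := (S.coextRep B).isKInjective
  let P := DerivedCategory.Q.objPreimage X
  let e : DRing.toD P ≅ X := DerivedCategory.Q.objObjPreimageIso X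
  suffices h : Function.Bijective fun f : DRing.toD P ⟶ DRing.toD (S.coext B) =>
      (DRing.restrictD (algebraMap A B)).map f ≫ S.εD B by
    let F := DRing.restrictD (algebraMap A B)
    have h2 : Function.Bijective fun f : X ⟶ DRing.toD (S.coext B) => F.map e.hom ≫ (F.map f ≫ S.εD B) := by
      have := h.comp (e.homFromEquiv (Z := DRing.toD (S.coext B))).symm.bijective
      convert this using 1
      funext f
      show F.map e.hom ≫ (F.map f ≫ S.εD B) = F.map (e.hom ≫ f) ≫ S.εD B
      rw [Functor.map_comp, Category.assoc]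
    refine ⟨fun f g hfg => h2.1 (congrArg (F.map e.hom ≫ ·) hfg), fun w => ?_⟩
    obtain ⟨f, hf⟩ := h2.2 (F.map e.hom ≫ w)
    exact ⟨f, (cancel_epi (F.map e.hom)).1 hf⟩
  let r := (DTen.resFactors (algebraMap A B)).app P
  refine ⟨fun f f' hff => ?_, fun w => ?_⟩
  · obtain ⟨g, rfl⟩ := (CochainComplex.IsKInjective.Qh_map_bijective
      ((HomotopyCategory.quotient (ModuleCat.{u} B) (ComplexShape.up ℤ)).obj P) (S.coextRep B).E).2 f
    obtain ⟨g, rfl⟩ := (HomotopyCategory.quotient _ _).map_surjective g
    obtain ⟨g', rfl⟩ := (CochainComplex.IsKInjective.Qh_map_bijective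
      ((HomotopyCategory.quotient (ModuleCat.{u} B) (ComplexShape.up ℤ)).obj P) (S.coextRep B).E).2 f'
    obtain ⟨g', rfl⟩ := (HomotopyCategory.quotient _ _).map_surjective g'
    let t : (P ⟶ S.coext B) → ((DTen.resCx (algebraMap A B)).obj P ⟶ S.E) :=
      fun g => (DTen.resCx (algebraMap A B)).map g ≫ S.εC B
    have h1 : DerivedCategory.Q.map (t g) = DerivedCategory.Q.map (t g') := by
      refine (cancel_mono S.iso.hom).1 ((cancel_epi r.hom).1 ?_)
      exact (S.εD_map B g).symm.trans (hff.trans (S.εD_map B g'))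
    have h2 : (HomotopyCategory.quotient _ _).map (t g) = (HomotopyCategory.quotient _ _).map (t g') :=
      (CochainComplex.IsKInjective.Qh_map_bijective
        ((HomotopyCategory.quotient (ModuleCat.{u} A) (ComplexShape.up ℤ)).obj
          ((DTen.resCx (algebraMap A B)).obj P)) S.E).1 h1
    have H := ((coF (A := A) B).mapHomotopy (HomotopyCategory.homotopyOfEq _ _ h2)).compLeft (resUnit B P)
    have h3 : (HomotopyCategory.quotient _ _).map g = (HomotopyCategory.quotient _ _).map g' :=
      HomotopyCategory.eq_of_homotopy _ _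
        ((Homotopy.ofEq (S.transpose_eq B g).symm).trans (H.trans (Homotopy.ofEq (S.transpose_eq B g'))))
    exact congrArg DerivedCategory.Qh.map h3
  · obtain ⟨h, hh⟩ := (CochainComplex.IsKInjective.Qh_map_bijective
      ((HomotopyCategory.quotient (ModuleCat.{u} A) (ComplexShape.up ℤ)).obj
        ((DTen.resCx (algebraMap A B)).obj P)) S.E).2 (r.inv ≫ w ≫ S.iso.inv)
    obtain ⟨h, rfl⟩ := (HomotopyCategory.quotient _ _).map_surjective h
    obtain ⟨g, hg⟩ := S.transpose_surjective B h
    refine ⟨DerivedCategory.Q.map g, (S.εD_map B g).trans ?_⟩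
    rw [hg, show DerivedCategory.Q.map h = r.inv ≫ w ≫ S.iso.inv from hh, Category.assoc, Category.assoc,
      Iso.inv_hom_id, Category.comp_id]
    exact r.hom_inv_id_assoc w

include S in
/-- Any right adjoint of restriction is computed by coextension. -/
theorem InjRep.nonempty_coindIso (R : Dual.D A ⥤ Dual.D B) (adj : DRing.restrictD (algebraMap A B) ⊣ R) :
    Nonempty (DRing.toD (S.coext B) ≅ R.obj K) := by
  let φ := adj.homEquiv _ _ (S.εD B)
  have h : ∀ X, Function.Bijective fun f : X ⟶ DRing.toD (S.coext B) => f ≫ φ := fun X => by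
    convert (adj.homEquiv X K).bijective.comp (S.transpose_bijective B X) using 1
    funext f
    exact (adj.homEquiv_naturality_left f (S.εD B)).symm
  obtain ⟨s, hs⟩ := (h (R.obj K)).2 (𝟙 _)
  dsimp only at hs
  exact ⟨⟨φ, s, (h _).1 (by
    show (φ ≫ s) ≫ φ = 𝟙 _ ≫ φ
    rw [Category.assoc, hs, Category.comp_id, Category.id_comp]), hs⟩⟩

variable (P : Type u) [AddCommGroup P] [Module B P] [Module A P] [IsScalarTower A B P]

/-- Cocycles against the coinduced complex are cocycles against `E`. -/
def InjRep.downZ (i : ℤ) : (S.coextRep B).Z P i →+ S.Z P i where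
  toFun f := ⟨{ toFun := fun m => S.coextEquiv B i (f.1 m) 1
                map_add' := fun m m' => by rw [map_add, map_add]; rfl
                map_smul' := fun r m => by
                  show S.coextEquiv B i (f.1 (r • m)) 1 = r • S.coextEquiv B i (f.1 m) 1
                  rw [← algebraMap_smul B r m, map_smul, ← map_smul (S.coextEquiv B i (f.1 m))]
                  refine (S.coextEquiv_smul B i _ _ _).trans (congrArg _ ?_)
                  rw [Algebra.smul_def, one_mul, mul_one] },
    (S.mem_Z _).2 fun m => (LinearMap.congr_fun (S.coextEquiv_d B i (i + 1) (f.1 m)) 1).symm.trans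
      (LinearMap.congr_fun ((congrArg (S.coextEquiv B (i + 1)) (((S.coextRep B).mem_Z f.1).1 f.2 m)).trans
        (map_zero _)) 1)⟩
  map_zero' := Subtype.ext (LinearMap.ext fun m => LinearMap.congr_fun (map_zero (S.coextEquiv B i)) 1)
  map_add' f f' := Subtype.ext (LinearMap.ext fun m =>
    LinearMap.congr_fun (map_add (S.coextEquiv B i) (f.1 m) (f'.1 m)) 1)

theorem InjRep.downZ_apply (i : ℤ) (f : (S.coextRep B).Z P i) (m : P) :
    (S.downZ B P i f).1 m = S.coextEquiv B i (f.1 m) 1 := rfl

theorem InjRep.downZ_smul (i : ℤ) (a : A) (f : (S.coextRep B).Z P i) :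
    S.downZ B P i (algebraMap A B a • f) = a • S.downZ B P i f := by
  refine Subtype.ext (LinearMap.ext fun m => ?_)
  refine (S.coextEquiv_smul B i _ _ _).trans ?_
  exact (congrArg (S.coextEquiv B i (f.1 m)) (show (1 : B) * algebraMap A B a = a • (1 : B) by
    rw [Algebra.smul_def, one_mul, mul_one])).trans (map_smul _ a (1 : B))

/-- Lift a map into `E` to a map into the coinduced complex. -/
def InjRep.upMap (i : ℤ) (φ : P →ₗ[A] S.E.X i) : P →ₗ[B] (S.coext B).X i where
  toFun m := (S.coextEquiv B i).symm (φ ∘ₗ (LinearMap.toSpanSingleton B P m).restrictScalars A)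
  map_add' m m' := (S.coextEquiv B i).injective (LinearMap.ext fun q => by simp [smul_add])
  map_smul' c m := (S.coextEquiv B i).injective (LinearMap.ext fun q => by
    rw [RingHom.id_apply, S.coextEquiv_smul B, AddEquiv.apply_symm_apply, AddEquiv.apply_symm_apply]
    simp [smul_smul])

theorem InjRep.coextEquiv_upMap (i : ℤ) (φ : P →ₗ[A] S.E.X i) (m : P) (q : B) :
    S.coextEquiv B i (S.upMap B P i φ m) q = φ (q • m) := by
  show S.coextEquiv B i ((S.coextEquiv B i).symm _) q = _
  rw [AddEquiv.apply_symm_apply]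
  rfl

theorem InjRep.downZ_surjective (i : ℤ) : Function.Surjective (S.downZ B P i) := fun φ => by
  refine ⟨⟨S.upMap B P i φ.1, ((S.coextRep B).mem_Z _).2 fun m => (S.coextEquiv B (i + 1)).injective
    (LinearMap.ext fun q => ?_)⟩, Subtype.ext (LinearMap.ext fun m =>
      (S.coextEquiv_upMap B P i φ.1 m 1).trans (by rw [one_smul]))⟩
  refine (LinearMap.congr_fun (S.coextEquiv_d B i (i + 1) _) q).trans ?_
  show (S.E.d i (i + 1)).hom (S.coextEquiv B i (S.upMap B P i φ.1 m) q) = _
  rw [S.coextEquiv_upMap B P, map_zero]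
  exact (S.mem_Z φ.1).1 φ.2 _

theorem InjRep.toHK_downZ_eq_zero_iff (i : ℤ) (f : (S.coextRep B).Z P i) :
    S.toHK i (S.downZ B P i f) = 0 ↔ (S.coextRep B).toHK i f = 0 := by
  rw [S.toHK_eq_zero_iff, (S.coextRep B).toHK_eq_zero_iff]
  constructor
  · rintro ⟨g, hg⟩
    refine ⟨S.upMap B P (i - 1) g, fun m => (S.coextEquiv B i).injective (LinearMap.ext fun q => ?_)⟩
    refine (LinearMap.congr_fun (S.coextEquiv_d B (i - 1) i _) q).trans ?_
    show (S.E.d (i - 1) i).hom (S.coextEquiv B (i - 1) (S.upMap B P (i - 1) g m) q) = _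
    rw [S.coextEquiv_upMap B P, hg, S.downZ_apply B P, map_smul, S.coextEquiv_smul B, one_mul]
  · rintro ⟨g, hg⟩
    refine ⟨{ toFun := fun m => S.coextEquiv B (i - 1) (g m) 1
              map_add' := fun m m' => by rw [map_add, map_add]; rfl
              map_smul' := fun r m => by
                show S.coextEquiv B (i - 1) (g (r • m)) 1 = r • S.coextEquiv B (i - 1) (g m) 1
                rw [← algebraMap_smul B r m, map_smul, ← map_smul (S.coextEquiv B (i - 1) (g m))]
                refine (S.coextEquiv_smul B (i - 1) _ _ _).trans (congrArg _ ?_)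
                rw [Algebra.smul_def, one_mul, mul_one] }, fun m => ?_⟩
    exact (LinearMap.congr_fun (S.coextEquiv_d B (i - 1) i (g m)) 1).symm.trans
      (congrArg (fun w => S.coextEquiv B i w 1) (hg m))

/-- `Hom(P, RHom(B, K)[i]) = Hom(P, K[i])`. -/
theorem InjRep.exists_HK_coext (i : ℤ) :
    ∃ e : HK (DRing.toD (S.coext B)) i P ≃+ HK K i P, ∀ (a : A) y, e (algebraMap A B a • y) = a • e y := by
  let p := (S.coextRep B).toHK (M := P) i
  let q : (S.coextRep B).Z P i →+ HK K i P := (S.toHK i).toAddMonoidHom.comp (S.downZ B P i)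
  have hp : Function.Surjective p := (S.coextRep B).toHK_surjective i
  let g := p.toAddMonoidHom.liftOfSurjective hp ⟨q, fun f hf => (S.toHK_downZ_eq_zero_iff B P i f).2 hf⟩
  have hg : ∀ f, g (p f) = q f := fun f =>
    AddMonoidHom.liftOfRightInverse_comp_apply _ _ _ _ f
  have hb : Function.Bijective g := by
    refine ⟨(injective_iff_map_eq_zero g).2 fun y hy => ?_, fun w => ?_⟩
    · obtain ⟨f, rfl⟩ := hp y
      rw [hg] at hy
      exact (S.toHK_downZ_eq_zero_iff B P i f).1 hy
    · obtain ⟨φ, rfl⟩ := S.toHK_surjective (M := P) i w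
      obtain ⟨f, rfl⟩ := S.downZ_surjective B P i φ
      exact ⟨p f, hg f⟩
  refine ⟨AddEquiv.ofBijective g hb, fun a y => ?_⟩
  obtain ⟨f, rfl⟩ := hp y
  show g (algebraMap A B a • p f) = a • g (p f)
  rw [← map_smul, hg, hg]
  show S.toHK i (S.downZ B P i (algebraMap A B a • f)) = a • S.toHK i (S.downZ B P i f)
  rw [S.downZ_smul B P, map_smul]

include S in
theorem InjRep.finite_HD_coext [IsNoetherianRing A] [Module.Finite A B] (hK : ∀ i, Module.Finite A (Dual.HD A K i))
    (a : ℤ) [K.IsGE a] (i : ℤ) : Module.Finite B (Dual.HD B (DRing.toD (S.coext B)) i) := by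
  haveI := finite_HK_of_bounded_below K hK a i B
  obtain ⟨e, he⟩ := S.exists_HK_coext B B i
  obtain ⟨n, s, hs⟩ := Module.Finite.exists_fin (R := A) (M := HK K i B)
  haveI : Module.Finite B (HK (DRing.toD (S.coext B)) i B) := by
    refine ⟨Submodule.fg_def.2 ⟨Set.range fun k => e.symm (s k), Set.finite_range _, top_le_iff.1 fun y _ => ?_⟩⟩
    obtain ⟨c, hc⟩ := Submodule.mem_span_range_iff_exists_fun A |>.1 (hs ▸ Submodule.mem_top (x := e y))
    have : y = ∑ k, algebraMap A B (c k) • e.symm (s k) := e.injective (by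
      rw [map_sum, ← hc]
      exact Finset.sum_congr rfl fun k _ => by rw [he, e.apply_symm_apply])
    rw [this]
    exact Submodule.sum_mem _ fun k _ => Submodule.smul_mem _ _ (Submodule.subset_span ⟨k, rfl⟩)
  obtain ⟨e'⟩ := nonempty_HD_equiv_rep (S.coextRep B) i
  exact Module.Finite.equiv e'

end Groth.Agent.DualCxLib
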