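import Groth.Agent.DualCxLib.Trunc

/-!
# Vanishing of `Hom(X, L[i])` from vanishing at each cohomology module of `X`
-/

set_option autoImplicit false
set_option backward.isDefEq.respectTransparency false

universe u

open CategoryTheory Limits Pretriangulated
attribute [local instance] HasDerivedCategory.standard

noncomputable section

namespace Groth.Agent.DualCxLib

variable {A : Type u} [CommRing A]

theorem HD_ltTri₁_bijective (n : ℤ) (X : Dual.D A) {j : ℤ} (hj : j < n) :
    Function.Bijective ((DerivedCategory.homologyFunctor (ModuleCat.{u} A) j).map (ltTri n X).mor₁).hom := by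
  refine ⟨HD_ltTri₁_injective n X hj.le, ?_⟩
  rw [← ModuleCat.epi_iff_surjective]
  refine (DerivedCategory.HomologySequence.epi_homologyMap_mor₁_iff (ltTri n X) (ltTri_mem n X) j).2 ?_
  exact (HD_ltTri₃_of_lt n X hj).eq_of_tgt _ _

theorem HD_ltTri₃_bijective (n : ℤ) (X : Dual.D A) {j : ℤ} (hj : n ≤ j) :
    Function.Bijective ((DerivedCategory.homologyFunctor (ModuleCat.{u} A) j).map (ltTri n X).mor₂).hom := by
  refine ⟨?_, HD_ltTri₃_surjective n X (by omega)⟩
  rw [← ModuleCat.mono_iff_injective]
  refine (DerivedCategory.HomologySequence.mono_homologyMap_mor₂_iff (ltTri n X) (ltTri_mem n X) j).2 ?_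
  exact (HD_ltTri₁_of_le n X hj).eq_of_src _ _

theorem subsingleton_hom_of_isGE_isLE_self (L : Dual.D A) (i a : ℤ) (X : Dual.D A) [X.IsGE a] [X.IsLE a]
    (h : Subsingleton (HK L (i + a) (Dual.HD A X a))) : Subsingleton (X ⟶ L⟦i⟧) := by
  obtain ⟨Y, ⟨e⟩⟩ := DerivedCategory.exists_iso_singleFunctor_obj_of_isGE_of_isLE X a
  let eY : Dual.HD A X a ≃ₗ[A] Y := (((DerivedCategory.homologyFunctor (ModuleCat.{u} A) a).mapIso e).trans
    ((DerivedCategory.singleFunctorCompHomologyFunctorIso (ModuleCat.{u} A) a).app Y)).toLinearEquiv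
  exact ((Linear.homCongr A e (Iso.refl (L⟦i⟧))).trans
    ((singleHomEquiv L a i Y).trans (preEquiv L (i + a) eY))).injective.subsingleton

theorem subsingleton_hom_of_HD (L : Dual.D A) (i : ℤ) :
    ∀ (k : ℕ) (a : ℤ) (X : Dual.D A), X.IsGE a → X.IsLE (a + k) →
      (∀ j, a ≤ j → j ≤ a + k → Subsingleton (HK L (i + j) (Dual.HD A X j))) →
      Subsingleton (X ⟶ L⟦i⟧) := by
  intro k
  induction k with
  | zero =>
    intro a X hge hle h
    rw [Nat.cast_zero, add_zero] at hle
    exact subsingleton_hom_of_isGE_isLE_self L i a X (h a le_rfl (by simp))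
  | succ k ih =>
    intro a X hge hle h
    let c : ℤ := a + (k + 1 : ℕ)
    let T := ltTri c X
    haveI h1 : Subsingleton (T.obj₁ ⟶ L⟦i⟧) := by
      refine ih a T.obj₁ ((DerivedCategory.isGE_iff _ a).2 fun j hj => ?_)
        ((DerivedCategory.isLE_iff _ _).2 fun j hj => HD_ltTri₁_of_le _ X (by push_cast; omega)) fun j hj hj' => ?_
      · haveI : Subsingleton ((DerivedCategory.homologyFunctor (ModuleCat.{u} A) j).obj T.obj₂) :=
          ModuleCat.subsingleton_of_isZero (DerivedCategory.isZero_of_isGE X a j hj)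
        haveI := (HD_ltTri₁_injective c X (j := j) (by omega)).subsingleton
        exact ModuleCat.isZero_of_subsingleton _
      · haveI : Subsingleton (HK L (i + j) ((DerivedCategory.homologyFunctor (ModuleCat.{u} A) j).obj T.obj₂)) :=
          h j hj (by push_cast; omega)
        exact (preEquiv L (i + j) (LinearEquiv.ofBijective _ (HD_ltTri₁_bijective c X (j := j) (by omega)))).symm.injective.subsingleton
    haveI : T.obj₃.IsGE c := (DerivedCategory.isGE_iff _ _).2 fun j hj => HD_ltTri₃_of_lt _ X hj
    haveI : T.obj₃.IsLE c := by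
      refine (DerivedCategory.isLE_iff _ _).2 fun j hj => ?_
      haveI : Subsingleton ((DerivedCategory.homologyFunctor (ModuleCat.{u} A) j).obj T.obj₂) :=
        ModuleCat.subsingleton_of_isZero (DerivedCategory.isZero_of_isLE X _ j hj)
      haveI := (HD_ltTri₃_bijective c X (j := j) (by omega)).2.subsingleton
      exact ModuleCat.isZero_of_subsingleton _
    haveI h3 : Subsingleton (T.obj₃ ⟶ L⟦i⟧) := by
      refine subsingleton_hom_of_isGE_isLE_self L i c T.obj₃ ?_
      haveI : Subsingleton (HK L (i + c) ((DerivedCategory.homologyFunctor (ModuleCat.{u} A) c).obj T.obj₂)) :=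
        h c (by omega) le_rfl
      exact (preEquiv L (i + c) (LinearEquiv.ofBijective _ (HD_ltTri₃_bijective c X (j := c) le_rfl))).injective.subsingleton
    refine subsingleton_of_forall_eq 0 fun v => ?_
    obtain ⟨w, hw⟩ := Triangle.yoneda_exact₂ T (ltTri_mem _ X) v (Subsingleton.elim _ _)
    rw [hw, Subsingleton.elim w 0, comp_zero]

end Groth.Agent.DualCxLib
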