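import Groth.Agent.DualCxLib.EquidimS2
import Groth.Agent.DualCxLib.TruncHD

/-!
# Endomorphisms of the dualizing module under `(S₂)`, and its first self-extension under `(S₃)`
-/

set_option autoImplicit false
set_option backward.isDefEq.respectTransparency false

universe u

open CategoryTheory Limits Pretriangulated IsLocalRing
attribute [local instance] HasDerivedCategory.standard

noncomputable section

namespace Groth.Agent.DualCxLib

variable {A : Type u} [CommRing A]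

theorem subsingleton_shift_neg_one {X L : Dual.D A} (i : ℤ) (h : Subsingleton (X ⟶ L⟦i + 1⟧)) :
    Subsingleton (X⟦(-1 : ℤ)⟧ ⟶ L⟦i⟧) := by
  refine subsingleton_of_forall_eq 0 fun g => (shiftFunctor (Dual.D A) (1 : ℤ)).map_injective ?_
  rw [Functor.map_zero]
  refine (cancel_epi ((shiftFunctorCompIsoId (Dual.D A) (-1 : ℤ) 1 (by norm_num)).inv.app X)).1 ?_
  refine (cancel_mono ((shiftFunctorAdd' (Dual.D A) i 1 (i + 1) rfl).inv.app L)).1 ?_
  exact @Subsingleton.elim _ h _ _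

theorem subsingleton_shiftZero {X L : Dual.D A} (h : Subsingleton (X ⟶ L⟦(0 : ℤ)⟧)) : Subsingleton (X ⟶ L) :=
  subsingleton_of_forall_eq 0 fun g =>
    (cancel_mono ((shiftFunctorZero (Dual.D A) ℤ).inv.app L)).1 (@Subsingleton.elim _ h _ _)

variable [IsLocalRing A] [IsNoetherianRing A] {ω : Dual.D A}
  (hω : Dual.IsDualizing A ω) (hn : Dual.IsNormalized A ω) (n : ℕ) (hd : ringKrullDim A = n)
include hω hn hd

theorem dual_isGE : ω.IsGE (-(n : ℤ)) := by
  refine (DerivedCategory.isGE_iff _ _).2 fun j hj => ?_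
  obtain ⟨e⟩ := (model hω).nonempty_HD_equiv j
  obtain ⟨h1, -⟩ := dim_bounds_local hω hn (M := A) (by rw [Module.supportDim_self_eq_ringKrullDim, hd])
  haveI : Subsingleton (Dual.HD A ω j) := not_nontrivial_iff_subsingleton.1 fun hnt => by
    have := e.toEquiv.nontrivial
    first
      | (have := h1 j this; omega)
      | (have := h1 j e.symm.toEquiv.nontrivial; omega)
  exact ModuleCat.isZero_of_subsingleton _

theorem dual_isLE : ω.IsLE 0 := by
  refine (DerivedCategory.isLE_iff _ _).2 fun j hj => ?_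
  obtain ⟨e⟩ := (model hω).nonempty_HD_equiv j
  obtain ⟨h1, -⟩ := dim_bounds_local hω hn (M := A) (by rw [Module.supportDim_self_eq_ringKrullDim, hd])
  haveI : Subsingleton (Dual.HD A ω j) := not_nontrivial_iff_subsingleton.1 fun hnt => by
    have := e.toEquiv.nontrivial
    first
      | (have := h1 j this; omega)
      | (have := h1 j e.symm.toEquiv.nontrivial; omega)
  exact ModuleCat.isZero_of_subsingleton _

theorem subsingleton_HK_HD (k : ℕ) (hk : 2 ≤ k) (h : LocCoh.HasSk k A A) (h2 : LocCoh.HasSk 2 A A)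
    (i j : ℤ) (hj : j ≠ -(n : ℤ)) (hi : i < k) : Subsingleton (HK ω (i + j) (Dual.HD A ω j)) := by
  rcases subsingleton_or_nontrivial (Dual.HD A ω j) with hs | hs
  · exact subsingleton_of_subsingleton ω _
  haveI := hω.finite_cohomology j
  obtain ⟨e⟩ := (model hω).nonempty_HD_equiv j
  have hδ : ∀ Q : PrimeSpectrum A, Q ∈ Module.support A A → (∀ Q' ∈ Module.support A A, Q' ≤ Q → Q' = Q) →
      dfn hω Q = -(n : ℤ) := fun Q hQ hmin => by
    refine dfn_minimal_of_hasSk hω hn n hd h2 Q ⟨⟨Q.2, bot_le⟩, fun y hy hyQ => ?_⟩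
    have hmem : (⟨y, hy.1⟩ : PrimeSpectrum A) ∈ Module.support A A := Module.mem_support_iff_of_finite.2 fun a ha => by
      have : a • (1 : A) = 0 := Module.mem_annihilator.1 ha 1
      rw [smul_eq_mul, mul_one] at this
      exact this ▸ y.zero_mem
    exact le_of_eq (congrArg PrimeSpectrum.asIdeal (hmin ⟨y, hy.1⟩ hmem hyQ)).symm
  obtain ⟨h1, h3⟩ := (hasSk_iff_supportDim hω (dfn_eq_zero_of_isNormalized hω hn) n hδ k (by omega)).1 h j hj
  have hneg : 0 ≤ -j - (k : ℤ) := by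
    by_contra hc
    haveI := h1 (by omega)
    first
      | exact not_subsingleton (Dual.HD A ω j) e.toEquiv.subsingleton
      | exact not_subsingleton (Dual.HD A ω j) e.symm.toEquiv.subsingleton
  obtain ⟨d, hd'⟩ : ∃ d : ℕ, Module.supportDim A (Dual.HD A ω j) = d ∧ d ≤ (-j - (k : ℤ)).toNat := by
    have hle : Module.supportDim A (Dual.HD A ω j) ≤ ((-j - (k : ℤ)).toNat : WithBot ℕ∞) := by
      first
        | exact (Module.supportDim_eq_of_equiv e).le.trans (h3 hneg)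
        | exact (Module.supportDim_eq_of_equiv e.symm).le.trans (h3 hneg)
    obtain ⟨d, hd', -⟩ := exists_supportDim_localized hω (M := Dual.HD A ω j) (closedPoint A)
      (IsLocalRing.closedPoint_mem_support A _)
    have heq := (supportDim_localized_maximal (M := Dual.HD A ω j)).symm.trans hd'
    refine ⟨d, heq, ?_⟩
    rw [heq] at hle
    exact_mod_cast hle
  obtain ⟨hd', hdle⟩ := hd'
  obtain ⟨hb, -⟩ := dim_bounds_local hω hn hd'
  refine not_nontrivial_iff_subsingleton.1 fun hnt => ?_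
  have := hb _ hnt
  omega

/-- The truncation triangle at the bottom cohomology. -/
abbrev botTri : Triangle (Dual.D A) := ltTri (-(n : ℤ) + 1) ω

theorem subsingleton_top_hom (k : ℕ) (hk : 2 ≤ k) (h : LocCoh.HasSk k A A) (h2 : LocCoh.HasSk 2 A A)
    (i : ℤ) (hi : i < k) : Subsingleton ((ltTri (-(n : ℤ) + 1) ω).obj₃ ⟶ ω⟦i⟧) := by
  let T := ltTri (-(n : ℤ) + 1) ω
  haveI hle0 := dual_isLE hω hn n hd
  refine subsingleton_hom_of_HD ω i n (-(n : ℤ) + 1) T.obj₃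
    ((DerivedCategory.isGE_iff _ _).2 fun j hj => HD_ltTri₃_of_lt _ ω hj)
    ((DerivedCategory.isLE_iff _ _).2 fun j hj => ?_) fun j hj _ => ?_
  · haveI : Subsingleton ((DerivedCategory.homologyFunctor (ModuleCat.{u} A) j).obj T.obj₂) :=
      ModuleCat.subsingleton_of_isZero (DerivedCategory.isZero_of_isLE ω 0 j (by omega))
    haveI := (HD_ltTri₃_bijective (-(n : ℤ) + 1) ω (j := j) (by omega)).2.subsingleton
    exact ModuleCat.isZero_of_subsingleton _
  · haveI : Subsingleton (HK ω (i + j) ((DerivedCategory.homologyFunctor (ModuleCat.{u} A) j).obj T.obj₂)) :=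
      subsingleton_HK_HD hω hn n hd k hk h h2 i j (by omega) hi
    exact (preEquiv ω (i + j) (LinearEquiv.ofBijective _
      (HD_ltTri₃_bijective (-(n : ℤ) + 1) ω (j := j) hj))).injective.subsingleton

theorem obj₁_isGE : (ltTri (-(n : ℤ) + 1) ω).obj₁.IsGE (-(n : ℤ)) := by
  let T := ltTri (-(n : ℤ) + 1) ω
  haveI := dual_isGE hω hn n hd
  refine (DerivedCategory.isGE_iff _ _).2 fun j hj => ?_
  haveI : Subsingleton ((DerivedCategory.homologyFunctor (ModuleCat.{u} A) j).obj T.obj₂) :=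
    ModuleCat.subsingleton_of_isZero (DerivedCategory.isZero_of_isGE ω (-(n : ℤ)) j hj)
  haveI := (HD_ltTri₁_injective (-(n : ℤ) + 1) ω (j := j) (by omega)).subsingleton
  exact ModuleCat.isZero_of_subsingleton _

omit hn hd in
theorem obj₁_obj₃ (m : ℤ) (hm : m ≤ 0) :
    Subsingleton ((ltTri (-(n : ℤ) + 1) ω).obj₁ ⟶ (ltTri (-(n : ℤ) + 1) ω).obj₃⟦m⟧) := by
  let T := ltTri (-(n : ℤ) + 1) ω
  haveI h1 : T.obj₁.IsLE (-(n : ℤ)) :=
    (DerivedCategory.isLE_iff _ _).2 fun j hj => HD_ltTri₁_of_le _ ω (by omega)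
  haveI h3 : T.obj₃.IsGE (-(n : ℤ) + 1) := (DerivedCategory.isGE_iff _ _).2 fun j hj => HD_ltTri₃_of_lt _ ω hj
  haveI : DerivedCategory.TStructure.t.IsGE (T.obj₃⟦m⟧) (-(n : ℤ) + 1 - m) :=
    DerivedCategory.TStructure.t.isGE_shift T.obj₃ (-(n : ℤ) + 1) m _ (by omega)
  exact subsingleton_of_forall_eq 0 fun g => DerivedCategory.TStructure.t.zero_of_isLE_of_isGE g (-(n : ℤ))
    (-(n : ℤ) + 1 - m) (by omega) inferInstance inferInstance

theorem toEnd_obj₁_bijective (h : LocCoh.HasSk 2 A A) :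
    Function.Bijective (fun a : A => a • (𝟙 (ltTri (-(n : ℤ) + 1) ω).obj₁)) := by
  let T := ltTri (-(n : ℤ) + 1) ω
  have hT : T ∈ distTriang (Dual.D A) := ltTri_mem _ ω
  haveI hA : Subsingleton (T.obj₃ ⟶ ω) :=
    subsingleton_shiftZero (subsingleton_top_hom hω hn n hd 2 le_rfl h h 0 (by norm_num))
  haveI hB : Subsingleton (T.obj₃⟦(-1 : ℤ)⟧ ⟶ ω) :=
    subsingleton_shiftZero (subsingleton_shift_neg_one 0
      (subsingleton_top_hom hω hn n hd 2 le_rfl h h (0 + 1) (by norm_num)))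
  haveI hC := obj₁_obj₃ hω n (-1) (by norm_num)
  have hmono : ∀ x y : T.obj₁ ⟶ T.obj₁, x ≫ T.mor₁ = y ≫ T.mor₁ → x = y := fun x y hxy => by
    obtain ⟨w, hw⟩ := Triangle.coyoneda_exact₂ T.invRotate (inv_rot_of_distTriang _ hT) (x - y)
      (show (x - y) ≫ T.mor₁ = 0 by rw [Preadditive.sub_comp, hxy, sub_self])
    rw [show w = 0 from hC.elim _ _, Limits.zero_comp] at hw
    exact sub_eq_zero.1 hw
  refine ⟨fun a b hab => hω.toEnd_bijective.1 (sub_eq_zero.1 ?_), fun f => ?_⟩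
  · obtain ⟨w, hw⟩ := Triangle.yoneda_exact₂ T hT (a • 𝟙 ω - b • 𝟙 ω) (by
      show T.mor₁ ≫ (a • 𝟙 T.obj₂ - b • 𝟙 T.obj₂) = 0
      rw [Preadditive.comp_sub, Linear.comp_smul, Linear.comp_smul, Category.comp_id, sub_eq_zero]
      have h' := congrArg (fun z => z ≫ T.mor₁) hab
      simp only [Linear.smul_comp, Category.id_comp] at h'
      exact h')
    exact hw.trans (by rw [show w = 0 from hA.elim _ _, Limits.comp_zero])
  · obtain ⟨g, hg⟩ := Triangle.yoneda_exact₂ T.invRotate (inv_rot_of_distTriang _ hT) (f ≫ T.mor₁)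
      (hB.elim _ _)
    obtain ⟨a, ha⟩ := hω.toEnd_bijective.2 g
    refine ⟨a, hmono _ _ ?_⟩
    show (a • 𝟙 T.obj₁) ≫ T.mor₁ = f ≫ T.mor₁
    rw [hg, ← ha]
    show (a • 𝟙 T.obj₁) ≫ T.mor₁ = T.mor₁ ≫ (a • 𝟙 T.obj₂)
    rw [Linear.smul_comp, Linear.comp_smul, Category.id_comp, Category.comp_id]

theorem ext_one_obj₁ (h3 : LocCoh.HasSk 3 A A) (h2 : LocCoh.HasSk 2 A A) :
    Subsingleton ((ltTri (-(n : ℤ) + 1) ω).obj₁ ⟶ (ltTri (-(n : ℤ) + 1) ω).obj₁⟦(1 : ℤ)⟧) := by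
  let T := ltTri (-(n : ℤ) + 1) ω
  have hT : T ∈ distTriang (Dual.D A) := ltTri_mem _ ω
  haveI hB : Subsingleton (T.obj₃⟦(-1 : ℤ)⟧ ⟶ ω⟦(1 : ℤ)⟧) :=
    subsingleton_shift_neg_one 1 (subsingleton_top_hom hω hn n hd 3 (by norm_num) h3 h2 (1 + 1) (by norm_num))
  haveI hW : Subsingleton (ω ⟶ ω⟦(1 : ℤ)⟧) := hω.ext_self_subsingleton 1 (by norm_num)
  haveI hC : Subsingleton (T.obj₁ ⟶ T.obj₃) := subsingleton_shiftZero (obj₁_obj₃ hω n 0 le_rfl)
  refine subsingleton_of_forall_eq 0 fun f => ?_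
  obtain ⟨g, hg⟩ := Triangle.yoneda_exact₂ T.invRotate (inv_rot_of_distTriang _ hT) (f ≫ T.mor₁⟦(1 : ℤ)⟧')
    (hB.elim _ _)
  rw [show g = 0 from hW.elim _ _, Limits.comp_zero] at hg
  obtain ⟨w, hw⟩ := Triangle.coyoneda_exact₃ T.rotate (rot_of_distTriang _ hT) f (by
    show f ≫ (-T.mor₁⟦(1 : ℤ)⟧') = 0
    rw [Preadditive.comp_neg, hg, neg_zero])
  rw [hw, show w = 0 from hC.elim _ _, Limits.zero_comp]

theorem nonempty_obj₁_iso : Nonempty ((ltTri (-(n : ℤ) + 1) ω).obj₁ ≅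
    (DerivedCategory.singleFunctor (ModuleCat.{u} A) (-(n : ℤ))).obj (ModuleCat.of A (Dual.HD A ω (-(n : ℤ))))) := by
  let T := ltTri (-(n : ℤ) + 1) ω
  haveI := obj₁_isGE hω hn n hd
  haveI : T.obj₁.IsLE (-(n : ℤ)) :=
    (DerivedCategory.isLE_iff _ _).2 fun j hj => HD_ltTri₁_of_le _ ω (by omega)
  obtain ⟨Y, ⟨e⟩⟩ := DerivedCategory.exists_iso_singleFunctor_obj_of_isGE_of_isLE T.obj₁ (-(n : ℤ))
  let eY := (((DerivedCategory.homologyFunctor (ModuleCat.{u} A) (-(n : ℤ))).mapIso e).trans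
    ((DerivedCategory.singleFunctorCompHomologyFunctorIso (ModuleCat.{u} A) (-(n : ℤ))).app Y)).toLinearEquiv
  let eK := LinearEquiv.ofBijective _ (HD_ltTri₁_bijective (-(n : ℤ) + 1) ω (j := -(n : ℤ)) (by omega))
  exact ⟨e ≪≫ (DerivedCategory.singleFunctor (ModuleCat.{u} A) (-(n : ℤ))).mapIso (eY.symm.trans eK).toModuleIso⟩

theorem toEnd_dualizingModule_bijective (h : LocCoh.HasSk 2 A A) :
    Function.Bijective (fun r : A => r • (LinearMap.id : Dual.HD A ω (-(n : ℤ)) →ₗ[A] Dual.HD A ω (-(n : ℤ)))) := by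
  obtain ⟨hinj, hsurj⟩ := toEnd_obj₁_bijective hω hn n hd h
  obtain ⟨e⟩ := nonempty_obj₁_iso hω hn n hd
  let F := DerivedCategory.singleFunctor (ModuleCat.{u} A) (-(n : ℤ))
  let K := Dual.HD A ω (-(n : ℤ))
  let Φ : (K →ₗ[A] K) → ((ltTri (-(n : ℤ) + 1) ω).obj₁ ⟶ (ltTri (-(n : ℤ) + 1) ω).obj₁) :=
    fun f => e.hom ≫ F.map (ModuleCat.ofHom f) ≫ e.inv
  have hΦ : ∀ r : A, Φ (r • LinearMap.id) = r • 𝟙 _ := fun r => by
    show e.hom ≫ F.map (r • 𝟙 (ModuleCat.of A K)) ≫ e.inv = _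
    rw [Functor.map_smul, F.map_id, Linear.smul_comp, Linear.comp_smul, Category.id_comp, Iso.hom_inv_id]
  have hΦi : Function.Injective Φ := fun f g hfg =>
    congrArg ModuleCat.Hom.hom (F.map_injective ((cancel_mono e.inv).1 ((cancel_epi e.hom).1 hfg)))
  refine ⟨fun a b hab => hinj ((hΦ a).symm.trans ((congrArg Φ hab).trans (hΦ b))), fun f => ?_⟩
  obtain ⟨a, ha⟩ := hsurj (Φ f)
  exact ⟨a, hΦi ((hΦ a).trans ha)⟩

theorem ext_one_dualizingModule (h3 : LocCoh.HasSk 3 A A) (h2 : LocCoh.HasSk 2 A A) :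
    Subsingleton (Dual.inD A (Dual.HD A ω (-(n : ℤ))) ⟶ (Dual.inD A (Dual.HD A ω (-(n : ℤ))))⟦(1 : ℤ)⟧) := by
  haveI := ext_one_obj₁ hω hn n hd h3 h2
  obtain ⟨e⟩ := nonempty_obj₁_iso hω hn n hd
  let F := shiftFunctor (Dual.D A) (n : ℤ)
  let K := Dual.inD A (Dual.HD A ω (-(n : ℤ)))
  let i1 : F.obj K ≅ (ltTri (-(n : ℤ) + 1) ω).obj₁ :=
    ((DerivedCategory.singleFunctors (ModuleCat.{u} A)).shiftIso (n : ℤ) (-(n : ℤ)) 0 (by omega)).app _ ≪≫ e.symm
  refine subsingleton_of_forall_eq 0 fun f => F.map_injective ?_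
  rw [Functor.map_zero]
  refine (cancel_mono (((shiftFunctorComm (Dual.D A) (1 : ℤ) (n : ℤ)).app K).hom ≫ (shiftFunctor (Dual.D A) (1 : ℤ)).map i1.hom)).1 ?_
  exact (cancel_epi i1.inv).1 (Subsingleton.elim _ _)

end Groth.Agent.DualCxLib
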