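import Groth.Agent.DualCxLib.CMLocus
import Groth.Agent.TildeD.Homology
import Groth.Agent.CMCat.Polynomial
import Groth.Prelude.Def_DualSch

/-!
# Cohen–Macaulay points of a scheme with a dualizing complex
-/

set_option autoImplicit false
set_option backward.isDefEq.respectTransparency false

universe u

open CategoryTheory Limits AlgebraicGeometry
attribute [local instance] HasDerivedCategory.standard

noncomputable section

namespace Groth.Agent.DualCxLib

theorem nontrivial_stalk_aux {R : CommRingCat.{u}} {X : Scheme.{u}} (j : Spec R ⟶ X) [IsOpenImmersion j]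
    [PreservesFiniteLimits (Scheme.Modules.restrictFunctor j)] [PreservesFiniteLimits (tilde.functor R)]
    {K : DCoh.D X} {ω : Dual.D R}
    (e : (DCoh.restrictD j).obj K ≅ (DCoh.tildeD R).obj ω) (p : PrimeSpectrum R) (i : ℤ) :
    Nontrivial ((DCoh.HD K i).presheaf.stalk (j p)) ↔ p ∈ Module.support R (Dual.HD R ω i) := by
  let Φ := Scheme.Modules.toPresheaf (Spec R) ⋙ TopCat.Presheaf.stalkFunctor AddCommGrpCat.{u} p
  let M : ModuleCat.{u} R := (DerivedCategory.homologyFunctor (ModuleCat.{u} R) i).obj ω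
  let i1 : (Scheme.Modules.restrictFunctor j).obj (DCoh.HD K i) ≅ (tilde.functor R).obj M :=
    ((TildeD.nu (Scheme.Modules.restrictFunctor j) i).app K).symm ≪≫
      (DerivedCategory.homologyFunctor _ i).mapIso e ≪≫ (TildeD.nu (tilde.functor R) i).app ω
  let i2 := ((Scheme.Modules.restrictStalkNatIso j p).app (DCoh.HD K i)).symm ≪≫ Φ.mapIso i1
  rw [Module.mem_support_iff]
  exact i2.addCommGroupIsoToAddEquiv.toEquiv.nontrivial_congr.trans
    (IsLocalizedModule.iso p.asIdeal.primeCompl (tilde.toStalk M p).hom).symm.toEquiv.nontrivial_congr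

variable {X : Scheme.{u}}
  [∀ (U : Scheme.{u}) (j : U ⟶ X) [IsOpenImmersion j], PreservesFiniteLimits (Scheme.Modules.restrictFunctor j)]
  [∀ (R : CommRingCat.{u}), PreservesFiniteLimits (tilde.functor R)]
  {A : Type u} [CommRing A] {K : DCoh.D X} {ω : Dual.D A} (j : Spec (CommRingCat.of A) ⟶ X) [IsOpenImmersion j]

theorem nontrivial_stalk_HD_iff (e : (DCoh.restrictD j).obj K ≅ (DCoh.tildeD (CommRingCat.of A)).obj ω)
    (p : PrimeSpectrum A) (i : ℤ) :
    Nontrivial ((DCoh.HD K i).presheaf.stalk (j p)) ↔ p ∈ Module.support A (Dual.HD A ω i) :=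
  nontrivial_stalk_aux (R := CommRingCat.of A) j e p i

omit [∀ (U : Scheme.{u}) (j : U ⟶ X) [IsOpenImmersion j], PreservesFiniteLimits (Scheme.Modules.restrictFunctor j)]
  [∀ (R : CommRingCat.{u}), PreservesFiniteLimits (tilde.functor R)] in
theorem cm_stalk_iff (p : PrimeSpectrum A) :
    LocCoh.IsCohenMacaulayLocalRing (X.presheaf.stalk (j p)) ↔
      LocCoh.IsCohenMacaulayLocalRing (Localization.AtPrime p.asIdeal) := by
  let e : X.presheaf.stalk (j p) ≃+* Localization.AtPrime p.asIdeal :=
    ((asIso (j.stalkMap p) ≪≫ Spec.stalkIso (CommRingCat.of A) p).commRingCatIsoToRingEquiv : _)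
  constructor
  · intro h
    exact CMCat.isCohenMacaulayLocalRing_of_ringEquiv e
  · intro h
    exact CMCat.isCohenMacaulayLocalRing_of_ringEquiv e.symm

end Groth.Agent.DualCxLib
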