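import Groth.Agent.DualCxLib.Gamma
import Groth.Prelude.Def_DualLC
import Mathlib.Algebra.Category.ModuleCat.FilteredColimits
import Mathlib.CategoryTheory.Limits.ConcreteCategory.Basic

/-!
# Local cohomology of a normalised dualizing complex
-/

set_option autoImplicit false
set_option backward.isDefEq.respectTransparency false

universe u

open CategoryTheory Limits IsLocalRing Opposite
attribute [local instance] HasDerivedCategory.standard

noncomputable section

namespace Groth.Agent.DualCxLib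

variable {A : Type u} [CommRing A]

instance preservesColimitsOfShape_pow :
    PreservesColimitsOfShape ℕᵒᵖᵒᵖ (forget (ModuleCat.{u + 1} A)) := by
  haveI : PreservesFilteredColimitsOfSize.{0, 0} (forget AddCommGrpCat.{u + 1}) :=
    preservesFilteredColimitsOfSize_of_univLE.{u + 1, u + 1} _
  exact comp_preservesColimitsOfShape (forget₂ (ModuleCat.{u + 1} A) AddCommGrpCat.{u + 1})
    (forget AddCommGrpCat.{u + 1})

/-- The diagram `n ↦ Hom_D(A/I^n, K[i])` defining `HDI`. -/
abbrev hdiDiagram (I : Ideal A) (K : Dual.D A) (i : ℤ) : ℕᵒᵖᵒᵖ ⥤ ModuleCat.{u + 1} A :=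
  (localCohomology.ringModIdeals (localCohomology.idealPowersDiagram I) ⋙
      DerivedCategory.singleFunctor (ModuleCat.{u} A) 0).op ⋙ (linearYoneda A (Dual.D A)).obj (K⟦i⟧)

/-- The transition map of `A/I^n`. -/
abbrev powMapQ (I : Ideal A) {n m : ℕ} (h : n ≤ m) : (A ⧸ I ^ m) →ₗ[A] (A ⧸ I ^ n) :=
  Submodule.mapQ (I ^ m) (I ^ n) LinearMap.id (fun _ ha => Ideal.pow_le_pow_right h ha)

theorem hdiDiagram_map (I : Ideal A) (K : Dual.D A) (i : ℤ) {j k : ℕᵒᵖᵒᵖ} (φ : j ⟶ k)
    (x : HK K i (A ⧸ I ^ (unop (unop j)))) :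
    ((hdiDiagram I K i).map φ).hom x = pre K i (powMapQ I (leOfHom φ.unop.unop)) x :=
  rfl

variable [IsLocalRing A] [IsNoetherianRing A] {ω : Dual.D A} (hω : Dual.IsDualizing A ω)
  (hn : Dual.IsNormalized A ω)
include hω hn

theorem subsingleton_HDI {i : ℤ} (hi : i ≠ 0) : Subsingleton (Dual2.HDI A (maximalIdeal A) ω i) := by
  refine ModuleCat.isZero_iff_subsingleton.1 ((IsZero.iff_id_eq_zero _).2 (colimit.hom_ext fun j => ?_))
  haveI : Subsingleton ((hdiDiagram (maximalIdeal A) ω i).obj j) :=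
    subsingleton_HK_of_torsion hω hn (finite_quot_pow (A := A) (unop (unop j))).2 hi
  exact (ModuleCat.isZero_of_subsingleton ((hdiDiagram (maximalIdeal A) ω i).obj j)).eq_of_src _ _

variable {E : Type u} [AddCommGroup E] [Module A E] {f : ResidueField A →ₗ[A] E}

theorem nonempty_HDI_equiv (hf : InjHull.IsInjectiveHull f) :
    Nonempty (Dual2.HDI A (maximalIdeal A) ω 0 ≃ₗ[A] E) := by
  let S := model hω
  obtain ⟨e⟩ := S.nonempty_E0_equiv hω hn hf
  let F := hdiDiagram (maximalIdeal A) ω 0
  let c : ∀ j : ℕᵒᵖᵒᵖ, HK ω 0 (A ⧸ maximalIdeal A ^ (unop (unop j))) →ₗ[A] ULift.{u + 1} E := fun j =>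
    ULift.moduleEquiv.symm.toLinearMap ∘ₗ e.toLinearMap ∘ₗ LinearMap.applyₗ (1 : A ⧸ maximalIdeal A ^ (unop (unop j))) ∘ₗ
      (S.equivE0 hω hn (finite_quot_pow (A := A) (unop (unop j))).2).toLinearMap
  let C : Cocone F :=
    { pt := ModuleCat.of A (ULift.{u + 1} E)
      ι := { app := fun j => ModuleCat.ofHom (c j)
             naturality := fun j k φ => ModuleCat.hom_ext (LinearMap.ext fun x => by
               show c k ((F.map φ).hom x) = c j x
               exact congrArg (fun t : (A ⧸ maximalIdeal A ^ (unop (unop k))) →ₗ[A] S.E0 =>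
                 (ULift.moduleEquiv (R := A) (M := E)).symm (e (t 1)))
                 (S.equivE0_pre hω hn (finite_quot_pow (A := A) (unop (unop k))).2
                   (finite_quot_pow (A := A) (unop (unop j))).2 (powMapQ _ (leOfHom φ.unop.unop)) x)) } }
  have hbij : Function.Bijective (colimit.desc F C).hom := by
    refine ⟨(injective_iff_map_eq_zero _).2 fun x hx => ?_, fun y => ?_⟩
    · obtain ⟨j, y, rfl⟩ := Concrete.colimit_exists_rep F x
      have h2 : c j y = 0 := (congr($(colimit.ι_desc C j).hom y)).symm.trans hx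
      have h3 : S.equivE0 hω hn (finite_quot_pow (A := A) (unop (unop j))).2 y 1 = 0 :=
        e.map_eq_zero_iff.1 (congrArg ULift.down h2)
      have hy : y = 0 := by
        refine (S.equivE0 hω hn (finite_quot_pow (A := A) (unop (unop j))).2).map_eq_zero_iff.1 ?_
        exact Submodule.linearMap_qext _ (LinearMap.ext_ring h3)
      rw [hy, map_zero]
    · obtain ⟨n, hn'⟩ := S.E0_torsion (e.symm y.down)
      let g : (A ⧸ maximalIdeal A ^ n) →ₗ[A] S.E0 :=
        (maximalIdeal A ^ n).liftQ (LinearMap.toSpanSingleton A _ (e.symm y.down)) hn'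
      let j : ℕᵒᵖᵒᵖ := op (op n)
      let z : F.obj j := (S.equivE0 hω hn (finite_quot_pow (A := A) n).2).symm g
      refine ⟨(colimit.ι F j).hom z, (congr($(colimit.ι_desc C j).hom z)).trans ?_⟩
      show c j z = y
      refine ULift.ext _ _ ?_
      show e (S.equivE0 hω hn (finite_quot_pow (A := A) n).2
        ((S.equivE0 hω hn (finite_quot_pow (A := A) n).2).symm g) 1) = y.down
      rw [LinearEquiv.apply_symm_apply]
      exact (congrArg e (one_smul A (e.symm y.down))).trans (e.apply_symm_apply _)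
  exact ⟨(LinearEquiv.ofBijective _ hbij).trans ULift.moduleEquiv⟩

end Groth.Agent.DualCxLib
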