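import Groth.Agent.DualCxLib.KRep
import Groth.Agent.DualCxLib.HDI
import Groth.Agent.KInj.Lifting
import Groth.Agent.KInj.Derived
import Groth.Prelude.Def_DRing3
import Mathlib.CategoryTheory.Abelian.GrothendieckCategory.EnoughInjectives

/-!
# `H^q RΓ_I` as a direct limit of Ext
-/

set_option autoImplicit false
set_option backward.isDefEq.respectTransparency false
set_option linter.style.haveILetI false
set_option maxRecDepth 4000

universe u

open CategoryTheory Limits Opposite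
attribute [local instance] HasDerivedCategory.standard

noncomputable section

namespace Groth.Agent.DualCxLib

variable {A : Type u} [CommRing A]

theorem exists_kRep (K : Dual.D A) : Nonempty (KRep K) := by
  let P := DerivedCategory.Q.objPreimage K
  obtain ⟨J, f, hJ, hf, -, -⟩ := Groth.Agent.KInj.exists_isKInjective_resolution P
  haveI := hf
  exact ⟨⟨J, hJ, (asIso (DerivedCategory.Q.map f)).symm ≪≫ DerivedCategory.Q.objObjPreimageIso K⟩⟩

variable {K : Dual.D A} (S : KRep K) (I : Ideal A)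

/-- `Γ_I E`. -/
abbrev KRep.gamma : DRing.Cx A :=
  ((DRing.gammaI I).mapHomologicalComplex (ComplexShape.up ℤ)).obj S.E

theorem KRep.nonempty_RgammaI_iso [DRing.HasRgammaI I] :
    Nonempty ((DRing.RgammaI I).obj K ≅ DRing.toD (S.gamma I)) := by
  haveI := S.isKInjective
  haveI := Groth.Agent.KInj.isIso_app_of_isKInjective
    (fun K => let ⟨J, f, h1, h2, _⟩ := Groth.Agent.KInj.exists_isKInjective_resolution K; ⟨J, f, h1, h2⟩)
    (DRing.gammaIKh I) (DRing.RgammaI I)
    ((DRing.gammaIKh I).totalRightDerivedUnit DerivedCategory.Qh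
      (HomotopyCategory.quasiIso (ModuleCat.{u} A) (ComplexShape.up ℤ))) S.E
  exact ⟨(asIso (((DRing.gammaIKh I).totalRightDerivedUnit DerivedCategory.Qh
      (HomotopyCategory.quasiIso (ModuleCat.{u} A) (ComplexShape.up ℤ))).app
      ((HomotopyCategory.quotient _ _).obj S.E)) ≪≫ (DRing.RgammaI I).mapIso S.iso).symm⟩

theorem KRep.mem_torsion {n : ℕ} {i : ℤ} (f : (A ⧸ I ^ n) →ₗ[A] S.E.X i) : f 1 ∈ DRing.torsionSub I (S.E.X i) :=
  ⟨n, fun a ha => by
    rw [← map_smul, show a • (1 : A ⧸ I ^ n) = 0 by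
      rw [Algebra.smul_def, mul_one]
      exact Ideal.Quotient.eq_zero_iff_mem.2 ha, map_zero]⟩

/-- The short complex computing `H^q Γ_I E`. -/
abbrev KRep.gammaSc (q : ℤ) : ShortComplex (ModuleCat.{u} A) := (S.gamma I).sc' (q - 1) q (q + 1)

/-- The homology of `Γ_I E`. -/
abbrev KRep.gammaH (q : ℤ) : Type u :=
  LinearMap.ker (S.gammaSc I q).g.hom ⧸ LinearMap.range (S.gammaSc I q).moduleCatToCycles

/-- Evaluation at one. -/
def KRep.evZ (q : ℤ) (n : ℕ) : S.Z (A ⧸ I ^ n) q →ₗ[A] LinearMap.ker (S.gammaSc I q).g.hom where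
  toFun f := ⟨⟨f.1 1, S.mem_torsion I f.1⟩, Subtype.ext ((S.mem_Z f.1).1 f.2 1)⟩
  map_add' _ _ := rfl
  map_smul' _ _ := rfl

theorem KRep.ker_toHK_le (q : ℤ) (n : ℕ) :
    S.B (A ⧸ I ^ n) q ≤ LinearMap.ker
      ((LinearMap.range (S.gammaSc I q).moduleCatToCycles).mkQ ∘ₗ S.evZ I q n) := by
  rintro f ⟨g, hg⟩
  refine (Submodule.Quotient.mk_eq_zero _).2 ⟨⟨g 1, S.mem_torsion I g⟩, Subtype.ext (Subtype.ext ?_)⟩
  exact LinearMap.congr_fun hg 1

/-- The map `Hom(A/I^n, K[q]) → H^q Γ_I E`. -/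
def KRep.toGammaH (q : ℤ) (n : ℕ) : HK K q (A ⧸ I ^ n) →ₗ[A] S.gammaH I q :=
  ((S.B (A ⧸ I ^ n) q).liftQ _ (S.ker_toHK_le I q n)) ∘ₗ (S.equivHK (A ⧸ I ^ n) q).symm.toLinearMap

theorem KRep.toGammaH_toHK (q : ℤ) (n : ℕ) (f : S.Z (A ⧸ I ^ n) q) :
    S.toGammaH I q n (S.toHK q f) = Submodule.Quotient.mk (S.evZ I q n f) := by
  rw [KRep.toGammaH, LinearMap.comp_apply, LinearEquiv.coe_coe, ← S.equivHK_mk, LinearEquiv.symm_apply_apply]
  rfl

theorem KRep.toGammaH_pre (q : ℤ) {n m : ℕ} (h : n ≤ m) (y : HK K q (A ⧸ I ^ n)) :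
    S.toGammaH I q m (pre K q (powMapQ I h) y) = S.toGammaH I q n y := by
  obtain ⟨f, rfl⟩ := S.toHK_surjective q y
  rw [← S.toHK_comp q (powMapQ I h) f, S.toGammaH_toHK, S.toGammaH_toHK]
  rfl

/-- The cocone over the diagram of `HDI`. -/
def KRep.gammaCocone (q : ℤ) : Cocone (hdiDiagram I K q) :=
  { pt := ModuleCat.of A (ULift.{u + 1} (S.gammaH I q))
    ι := { app := fun j => ModuleCat.ofHom (ULift.moduleEquiv.symm.toLinearMap ∘ₗ S.toGammaH I q (unop (unop j)))
           naturality := fun j k φ => ModuleCat.hom_ext (LinearMap.ext fun x => by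
             show (ULift.up (S.toGammaH I q (unop (unop k)) (((hdiDiagram I K q).map φ).hom x)) : ULift.{u + 1} (S.gammaH I q)) =
               ULift.up (S.toGammaH I q (unop (unop j)) x)
             exact congrArg ULift.up ((congrArg (S.toGammaH I q (unop (unop k))) (hdiDiagram_map I K q φ x)).trans
               (S.toGammaH_pre I q (leOfHom φ.unop.unop) x))) } }

include S in
theorem KRep.nonempty_HDI_equiv [DRing.HasRgammaI I] (q : ℤ) :
    Nonempty (Dual.HD A ((DRing.RgammaI I).obj K) q ≃ₗ[A] Dual2.HDI A I K q) := by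
  obtain ⟨c⟩ := S.nonempty_RgammaI_iso I
  let F := hdiDiagram I K q
  let C := S.gammaCocone I q
  have hbij : Function.Bijective (colimit.desc F C).hom := by
    refine ⟨(injective_iff_map_eq_zero _).2 fun x hx => ?_, fun y => ?_⟩
    · obtain ⟨j, x, rfl⟩ := Concrete.colimit_exists_rep F x
      obtain ⟨k, rfl⟩ : ∃ k : ℕ, j = op (op k) := ⟨unop (unop j), rfl⟩
      change HK K q (A ⧸ I ^ k) at x
      obtain ⟨f, rfl⟩ := S.toHK_surjective q x
      have h2 : S.toGammaH I q k (S.toHK q f) = 0 :=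
        congrArg ULift.down ((congr($(colimit.ι_desc C (op (op k))).hom (S.toHK q f))).symm.trans hx)
      rw [S.toGammaH_toHK, Submodule.Quotient.mk_eq_zero] at h2
      obtain ⟨⟨w, m, hm⟩, hw⟩ := h2
      let l := max m k
      have hl : S.toHK q (⟨f.1 ∘ₗ powMapQ I (le_max_right m k),
          S.comp_mem_Z _ f⟩ : S.Z (A ⧸ I ^ l) q) = 0 := by
        refine (S.toHK_eq_zero_iff q _).2 ⟨(I ^ l).liftQ (LinearMap.toSpanSingleton A _ w)
          fun a ha => hm a (Ideal.pow_le_pow_right (le_max_left _ _) ha), fun z => ?_⟩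
        obtain ⟨z, rfl⟩ := Ideal.Quotient.mk_surjective z
        show (S.E.d (q - 1) q).hom (z • w) = f.1 (Ideal.Quotient.mk _ z)
        rw [map_smul, show Ideal.Quotient.mk (I ^ k) z = z • (1 : A ⧸ I ^ k) by
          rw [Algebra.smul_def, mul_one]; rfl, map_smul]
        exact congrArg (z • ·) (congrArg Subtype.val (congrArg Subtype.val hw))
      let φ : (op (op k) : ℕᵒᵖᵒᵖ) ⟶ op (op l) := (homOfLE (le_max_right m k)).op.op
      have h3 : (F.map φ).hom (S.toHK q f) = 0 :=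
        (hdiDiagram_map I K q φ (S.toHK q f)).trans ((S.toHK_comp q (powMapQ I (le_max_right m k)) f).symm.trans hl)
      rw [← ConcreteCategory.congr_hom (colimit.w F φ) (S.toHK q f)]
      show (colimit.ι F (op (op l))).hom ((F.map φ).hom (S.toHK q f)) = 0
      rw [h3, map_zero]
    · obtain ⟨⟨⟨x, n, hn⟩, hx⟩, hxy⟩ := Submodule.Quotient.mk_surjective _ y.down
      let g : (A ⧸ I ^ n) →ₗ[A] S.E.X q := (I ^ n).liftQ (LinearMap.toSpanSingleton A _ x) hn
      have hg : g ∈ S.Z (A ⧸ I ^ n) q := (S.mem_Z _).2 fun z => by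
        obtain ⟨z, rfl⟩ := Ideal.Quotient.mk_surjective z
        show (S.E.d q (q + 1)).hom (z • x) = 0
        rw [map_smul]
        exact (congrArg (z • ·) (congrArg Subtype.val hx)).trans (smul_zero z)
      let z : F.obj (op (op n)) := S.toHK q ⟨g, hg⟩
      refine ⟨(colimit.ι F (op (op n))).hom z, (congr($(colimit.ι_desc C (op (op n))).hom z)).trans ?_⟩
      refine ULift.ext _ _ ?_
      show S.toGammaH I q n (S.toHK q ⟨g, hg⟩) = y.down
      rw [S.toGammaH_toHK, ← hxy]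
      exact congrArg Submodule.Quotient.mk (Subtype.ext (Subtype.ext (one_smul A x)))
  let eH : Dual.HD A (DRing.toD (S.gamma I)) q ≃ₗ[A] S.gammaH I q :=
    (((DerivedCategory.homologyFunctorFactors (ModuleCat.{u} A) q).app (S.gamma I)) ≪≫
      (S.gamma I).homologyIsoSc' (q - 1) q (q + 1) (by simp) (by simp) ≪≫
      (S.gammaSc I q).moduleCatHomologyIso).toLinearEquiv
  exact ⟨(((DerivedCategory.homologyFunctor (ModuleCat.{u} A) q).mapIso c).toLinearEquiv.trans eH).trans
    (ULift.moduleEquiv.symm.trans (LinearEquiv.ofBijective (colimit.desc F C).hom hbij).symm)⟩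

/-- `H^q RΓ_I K` is the limit of `Hom(A/I^n, K[q])`. -/
theorem nonempty_HD_RgammaI (I : Ideal A) [DRing.HasRgammaI I] (K : Dual.D A) (q : ℤ) :
    Nonempty (Dual.HD A ((DRing.RgammaI I).obj K) q ≃ₗ[A] Dual2.HDI A I K q) :=
  let ⟨S⟩ := exists_kRep K
  S.nonempty_HDI_equiv I q

end Groth.Agent.DualCxLib
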