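import Groth.Agent.DualCxLib.Model

/-!
# Maps out of the ring; annihilators of the cohomology
-/

set_option autoImplicit false
set_option backward.isDefEq.respectTransparency false

universe u

open CategoryTheory Limits
attribute [local instance] HasDerivedCategory.standard

noncomputable section

namespace Groth.Agent.DualCxLib

variable {A : Type u} [CommRing A] {ω : Dual.D A} (S : Model ω)

theorem Model.nonempty_T_unit (i : ℤ) : Nonempty (S.T A i ≃ₗ[A] Dual.HD A ω i) := by
  let G := S.E.sc' (i - 1) i (i + 1)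
  let ev := LinearMap.ringLmapEquivSelf A A (S.E.X i)
  have hZ : (S.Z A i).map ev.toLinearMap = LinearMap.ker G.g.hom := by
    ext x
    simp only [Submodule.mem_map, LinearEquiv.coe_coe, LinearMap.mem_ker, S.mem_Z]
    refine ⟨?_, fun hx => ⟨ev.symm x, fun r => ?_, ev.apply_symm_apply x⟩⟩
    · rintro ⟨f, hf, rfl⟩
      exact hf 1
    · rw [show ev.symm x r = r • x from rfl, map_smul]
      exact (congrArg (r • ·) hx).trans (smul_zero r)
  let e1 : S.Z A i ≃ₗ[A] LinearMap.ker G.g.hom := ev.ofSubmodules _ _ hZ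
  have hB : (S.B A i).map (e1 : S.Z A i →ₗ[A] LinearMap.ker G.g.hom) = LinearMap.range G.moduleCatToCycles := by
    ext x
    constructor
    · rintro ⟨f, ⟨g, hg⟩, rfl⟩
      exact ⟨g 1, Subtype.ext (LinearMap.congr_fun hg 1)⟩
    · rintro ⟨w, hw⟩
      refine ⟨e1.symm x, ⟨(LinearMap.ringLmapEquivSelf A A (S.E.X (i - 1))).symm w, ?_⟩, e1.apply_symm_apply x⟩
      refine LinearMap.ext_ring ?_
      have h1 : (e1 (e1.symm x)).1 = (e1.symm x).1 1 := rfl
      rw [e1.apply_symm_apply] at h1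
      replace h1 := (congrArg Subtype.val hw).trans h1
      exact (congrArg (S.E.d (i - 1) i).hom (one_smul A w)).trans h1
  exact ⟨(Submodule.Quotient.equiv _ _ e1 hB).trans
    (G.moduleCatHomologyIso.symm ≪≫ (S.E.homologyIsoSc' (i - 1) i (i + 1) (by simp) (by simp)).symm ≪≫
      ((DerivedCategory.homologyFunctorFactors (ModuleCat.{u} A) i).app S.E).symm ≪≫
      (DerivedCategory.homologyFunctor (ModuleCat.{u} A) i).mapIso S.iso).toLinearEquiv⟩

include S in
theorem Model.nonempty_HD_equiv (i : ℤ) : Nonempty (HK ω i A ≃ₗ[A] Dual.HD A ω i) := by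
  obtain ⟨e⟩ := S.nonempty_T_unit i
  exact ⟨(S.equivHK A i).symm.trans e⟩

theorem Model.exists_boundary_of_smul {i : ℤ} {s : A} (hs : ∀ u : HK ω i A, s • u = 0) (x : S.E.X i)
    (hx : (S.E.d i (i + 1)).hom x = 0) : ∃ w, (S.E.d (i - 1) i).hom w = s • x := by
  have hf : LinearMap.toSpanSingleton A _ x ∈ S.Z A i := (S.mem_Z _).2 fun r => by
    rw [LinearMap.toSpanSingleton_apply, map_smul, hx, smul_zero]
  obtain ⟨g, hg⟩ := (S.toHK_eq_zero_iff i (s • ⟨_, hf⟩)).1 (by rw [map_smul, hs])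
  exact ⟨g 1, (hg 1).trans (congrArg (s • ·) (one_smul A x))⟩

theorem Model.exists_homotopic_zero (s : A)
    (hs : ∀ (i : ℤ) (x : S.E.X i), (S.E.d i (i + 1)).hom x = 0 → ∃ w, (S.E.d (i - 1) i).hom w = s • x) :
    ∀ k : ℕ, ∃ ψ : S.E ⟶ S.E, (HomotopyCategory.quotient _ _).map ψ =
      (HomotopyCategory.quotient _ _).map ((s ^ k) • 𝟙 S.E) ∧ ∀ i, i < S.a + k → ψ.f i = 0
  | 0 => ⟨(s ^ 0) • 𝟙 S.E, rfl, fun i hi => (S.vanishes i (Or.inl (by omega))).eq_of_src _ _⟩
  | k + 1 => by
    obtain ⟨ψ, hψ, hψ0⟩ := Model.exists_homotopic_zero s hs k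
    generalize hi₀ : S.a + k = i₀ at hψ0
    let p := ((s • ψ).f i₀).hom
    have hp : LinearMap.ker (S.E.d i₀ (i₀ + 1)).hom ≤ LinearMap.ker p := fun z hz => by
      obtain ⟨w, hw⟩ := hs i₀ z hz
      show s • (ψ.f i₀).hom z = 0
      rw [← map_smul, ← hw]
      have hc := congr($(ψ.comm (i₀ - 1) i₀).hom w)
      rw [hψ0 (i₀ - 1) (by omega)] at hc
      exact hc.symm.trans (by simp)
    let d := (S.E.d i₀ (i₀ + 1)).hom
    let q : LinearMap.range d →ₗ[A] S.E.X i₀ :=
      (LinearMap.ker d).liftQ p hp ∘ₗ d.quotKerEquivRange.symm.toLinearMap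
    obtain ⟨h₀, hh₀⟩ := (S.inj i₀).out (LinearMap.range d).subtype Subtype.val_injective q
    have hh : ∀ x, h₀ (d x) = p x := fun x => by
      refine (hh₀ ⟨d x, x, rfl⟩).trans ?_
      show (LinearMap.ker d).liftQ p hp (d.quotKerEquivRange.symm ⟨d x, _⟩) = p x
      rw [show d.quotKerEquivRange.symm ⟨d x, x, rfl⟩ = Submodule.Quotient.mk x from
        d.quotKerEquivRange.symm_apply_eq.2 (Subtype.ext rfl), Submodule.liftQ_apply]
    let hom : ∀ i j, (ComplexShape.up ℤ).Rel j i → (S.E.X i ⟶ S.E.X j) := fun i j hij =>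
      if hj : j = i₀ then
        eqToHom (congrArg S.E.X (show i = i₀ + 1 by simp only [ComplexShape.up_Rel] at hij; omega)) ≫
          ModuleCat.ofHom h₀ ≫ eqToHom (congrArg S.E.X hj.symm)
      else 0
    refine ⟨s • ψ - Homotopy.nullHomotopicMap' hom, ?_, fun i hi => ?_⟩
    · rw [Functor.map_sub, HomotopyCategory.eq_of_homotopy _ _ (Homotopy.nullHomotopy' hom), Functor.map_zero,
        sub_zero, Functor.map_smul, hψ, ← Functor.map_smul, smul_smul, ← pow_succ']
    · rw [HomologicalComplex.sub_f_apply, Homotopy.nullHomotopicMap'_f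
        (show (ComplexShape.up ℤ).Rel (i - 1) i by simp) (show (ComplexShape.up ℤ).Rel i (i + 1) from rfl)]
      simp only [hom, dif_neg (show ¬ i - 1 = i₀ by push_cast at hi; omega), Limits.zero_comp, add_zero]
      rcases lt_or_eq_of_le (show i ≤ i₀ by push_cast at hi; omega) with hlt | heq
      · rw [dif_neg hlt.ne, Limits.comp_zero, HomologicalComplex.smul_f_apply, hψ0 i hlt, smul_zero, sub_zero]
      · subst heq
        rw [dif_pos rfl, eqToHom_refl, eqToHom_refl, Category.id_comp, Category.comp_id, sub_eq_zero]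
        exact ModuleCat.hom_ext (LinearMap.ext fun x => (hh x).symm)

include S in
/-- If `s` kills every `Hom(A, ω[i])` then a power of `s` is zero in `End ω`. -/
theorem Model.exists_pow_smul_id (s : A) (hs : ∀ (i : ℤ) (u : HK ω i A), s • u = 0) :
    ∃ N : ℕ, (s ^ N) • 𝟙 ω = 0 := by
  obtain ⟨ψ, hψ, hψ0⟩ := S.exists_homotopic_zero s (fun i x hx => S.exists_boundary_of_smul (hs i) x hx)
    (S.b - S.a).toNat.succ
  refine ⟨(S.b - S.a).toNat.succ, ?_⟩
  have hz : ψ = 0 := HomologicalComplex.hom_ext _ _ fun i => by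
    by_cases hi : i < S.a + (S.b - S.a).toNat.succ
    · exact hψ0 i hi
    · exact (S.vanishes i (Or.inr (by push_cast at hi; omega))).eq_of_src _ _
  rw [hz, Functor.map_zero] at hψ
  have h2 : DerivedCategory.Q.map ((s ^ (S.b - S.a).toNat.succ) • 𝟙 S.E) = 0 := by
    show DerivedCategory.Qh.map ((HomotopyCategory.quotient _ _).map _) = 0
    rw [← hψ, Functor.map_zero]
  rw [Functor.map_smul] at h2
  erw [CategoryTheory.Functor.map_id] at h2
  have h3 : S.iso.inv ≫ ((s ^ (S.b - S.a).toNat.succ) • 𝟙 (DerivedCategory.Q.obj S.E)) ≫ S.iso.hom =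
      (s ^ (S.b - S.a).toNat.succ) • 𝟙 ω := by
    rw [Linear.smul_comp, Linear.comp_smul, Category.id_comp, Iso.inv_hom_id]
  rw [← h3]
  exact (congrArg (fun t => S.iso.inv ≫ t ≫ S.iso.hom) h2).trans (by rw [Limits.zero_comp, Limits.comp_zero])

end Groth.Agent.DualCxLib
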