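import Groth.Agent.DualCxLib.Local
import Groth.Agent.LocCohLib.Torsion
import Groth.Agent.InjHullLib.Matlis
import Groth.Agent.InjHullLib.Noetherian

/-!
# The torsion part of a normalised dualizing complex is an injective hull of the residue field
-/

set_option autoImplicit false
set_option backward.isDefEq.respectTransparency false

universe u

open CategoryTheory IsLocalRing
attribute [local instance] HasDerivedCategory.standard

noncomputable section

namespace Groth.Agent.DualCxLib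

theorem exists_retraction {A : Type u} [CommRing A] {V : Type u} [AddCommGroup V] [Module A V]
    (W : Submodule A V) [Module.Injective A W] : ∃ r : V →ₗ[A] W, ∀ w : W, r w = w := by
  obtain ⟨r, hr⟩ := (‹Module.Injective A W›).out W.subtype Subtype.val_injective LinearMap.id
  exact ⟨r, hr⟩

theorem exists_section {A : Type u} [CommRing A] {V : Type u} [AddCommGroup V] [Module A V] {W : Type u}
    [AddCommGroup W] [Module A W] (g : V →ₗ[A] W) (hg : Function.Surjective g)
    [Module.Injective A (LinearMap.ker g)] : ∃ σ : W →ₗ[A] V, ∀ w, g (σ w) = w := by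
  obtain ⟨r, hr⟩ := exists_retraction (LinearMap.ker g)
  let h : V →ₗ[A] V := LinearMap.id - (LinearMap.ker g).subtype ∘ₗ r
  have hh : LinearMap.ker g ≤ LinearMap.ker h := fun v hv => by
    show v - (r v : V) = 0
    have e : r v = ⟨v, hv⟩ := hr ⟨v, hv⟩
    rw [e, sub_self]
  refine ⟨(LinearMap.ker g).liftQ h hh ∘ₗ (g.quotKerEquivOfSurjective hg).symm.toLinearMap, fun w => ?_⟩
  obtain ⟨v, rfl⟩ := hg w
  show g ((LinearMap.ker g).liftQ h hh ((g.quotKerEquivOfSurjective hg).symm (g v))) = g v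
  rw [show (g.quotKerEquivOfSurjective hg).symm (g v) = Submodule.Quotient.mk v from
    (g.quotKerEquivOfSurjective hg).symm_apply_eq.2 rfl, Submodule.liftQ_apply]
  show g (v - (r v : V)) = g v
  rw [map_sub, LinearMap.mem_ker.1 (r v).2, sub_zero]

theorem injective_of_split {A : Type u} [CommRing A] {V W : Type u} [AddCommGroup V] [Module A V]
    [AddCommGroup W] [Module A W] [Module.Injective A V] (g : V →ₗ[A] W) (hg : Function.Surjective g)
    [Module.Injective A (LinearMap.ker g)] : Module.Injective A W := by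
  obtain ⟨σ, hσ⟩ := exists_section g hg
  exact InjHullLib.injective_of_retract σ g (LinearMap.ext hσ)

variable {A : Type u} [CommRing A] [IsLocalRing A] {ω : Dual.D A} (S : Model ω)

/-- The `𝔪`-torsion of the terms of the model. -/
abbrev Model.tors (i : ℤ) : Submodule A (S.E.X i) := DRing.torsionSub (maximalIdeal A) (S.E.X i)

/-- Torsion cocycles. -/
def Model.tZ (i : ℤ) : Submodule A (S.E.X i) := S.tors i ⊓ LinearMap.ker (S.E.d i (i + 1)).hom

/-- Torsion coboundaries. -/
def Model.tB (j i : ℤ) : Submodule A (S.E.X i) := (S.tors j).map (S.E.d j i).hom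

theorem Model.tB_le_tZ (j i : ℤ) : S.tB j i ≤ S.tZ i := by
  rintro _ ⟨w, ⟨n, hn⟩, rfl⟩
  exact ⟨⟨n, fun a ha => by rw [← map_smul, hn a ha, map_zero]⟩, congr($(S.E.d_comp_d j i (i + 1)).hom w)⟩

theorem Model.mem_tors_of_hom {N : Type u} [AddCommGroup N] [Module A N]
    (hN : LocCoh.IsPowerTorsion (maximalIdeal A) N) {i : ℤ} (g : N →ₗ[A] S.E.X i) (y : N) : g y ∈ S.tors i := by
  obtain ⟨n, hn⟩ := hN y
  exact ⟨n, fun a ha => by rw [← map_smul, hn a ha, map_zero]⟩

/-- `H^0` of the torsion complex. -/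
abbrev Model.E0 : Type u := S.tZ 0 ⧸ (S.tB (-1) 0).comap (S.tZ 0).subtype

theorem Model.E0_torsion : LocCoh.IsPowerTorsion (maximalIdeal A) S.E0 := fun x => by
  obtain ⟨z, rfl⟩ := Submodule.Quotient.mk_surjective _ x
  obtain ⟨n, hn⟩ := z.2.1
  exact ⟨n, fun a ha => (Submodule.Quotient.mk_smul _ a z).symm.trans
    (congrArg Submodule.Quotient.mk (show a • z = 0 from Subtype.ext (hn a ha)))⟩

theorem torsion_of_isFiniteLength [IsNoetherianRing A] {N : Type u} [AddCommGroup N] [Module A N]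
    (h : IsFiniteLength A N) : Module.Finite A N ∧ LocCoh.IsPowerTorsion (maximalIdeal A) N := by
  obtain ⟨hN, hA⟩ := isFiniteLength_iff_isNoetherian_isArtinian.1 h
  haveI : Module.Finite A N := inferInstance
  obtain ⟨n, hn⟩ := IsArtinian.monotone_stabilizes
    ⟨fun k => OrderDual.toDual (maximalIdeal A ^ k • (⊤ : Submodule A N)), fun i j hij =>
      Submodule.smul_mono_left (Ideal.pow_le_pow_right hij)⟩
  have h1 : maximalIdeal A ^ n • (⊤ : Submodule A N) = maximalIdeal A ^ (n + 1) • ⊤ :=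
    congrArg OrderDual.ofDual (hn (n + 1) (Nat.le_succ n))
  have h0 : maximalIdeal A ^ n • (⊤ : Submodule A N) = ⊥ := by
    refine Submodule.eq_bot_of_le_smul_of_le_jacobson_bot (maximalIdeal A) _
      (IsNoetherian.noetherian _) ?_ (maximalIdeal_le_jacobson _)
    conv_lhs => rw [h1, pow_succ', ← smul_eq_mul, Submodule.smul_assoc]
  exact ⟨inferInstance, fun x => ⟨n, fun a ha =>
    (Submodule.mem_bot A).1 (h0 ▸ Submodule.smul_mem_smul ha Submodule.mem_top)⟩⟩

variable [IsNoetherianRing A] (hω : Dual.IsDualizing A ω) (hn : Dual.IsNormalized A ω)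
include hω hn

theorem subsingleton_HK_of_torsion {N : Type u} [AddCommGroup N] [Module A N] [Module.Finite A N]
    (hN : LocCoh.IsPowerTorsion (maximalIdeal A) N) {i : ℤ} (hi : i ≠ 0) : Subsingleton (HK ω i N) := by
  rw [← zeroAt_maximal_iff (A := A)]
  refine zeroAt_HK_of_primes ω i (maximalIdeal A) N fun Q hQ hQs => ?_
  obtain ⟨y, hy⟩ := Module.mem_support_iff'.1 hQs
  obtain ⟨n, hn'⟩ := hN y
  have hle : maximalIdeal A ≤ Q.asIdeal := Q.2.le_of_pow_le (n := n) fun a ha => by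
    by_contra hc
    exact hy a hc (hn' a ha)
  obtain rfl : Q = IsLocalRing.closedPoint A := PrimeSpectrum.ext (le_antisymm hQ hle)
  exact zeroAt_of_ne_dfn hω (p := IsLocalRing.closedPoint A) (by rwa [dfn_closedPoint hω hn])

omit hω hn in
theorem finite_quot_pow (n : ℕ) : Module.Finite A (A ⧸ maximalIdeal A ^ n) ∧
    LocCoh.IsPowerTorsion (maximalIdeal A) (A ⧸ maximalIdeal A ^ n) :=
  ⟨inferInstance, fun x => ⟨n, fun a ha => by
    obtain ⟨x, rfl⟩ := Ideal.Quotient.mk_surjective x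
    exact Ideal.Quotient.eq_zero_iff_mem.2 (Ideal.mul_mem_right _ _ ha)⟩⟩

theorem Model.tZ_le_tB {j i : ℤ} (hji : j + 1 = i) (hi : i ≠ 0) : S.tZ i ≤ S.tB j i := by
  rintro z ⟨⟨n, hn'⟩, hz⟩
  obtain rfl : j = i - 1 := by omega
  haveI := subsingleton_HK_of_torsion hω hn (finite_quot_pow (A := A) n).2 hi
  let f : (A ⧸ maximalIdeal A ^ n) →ₗ[A] S.E.X i := (maximalIdeal A ^ n).liftQ (LinearMap.toSpanSingleton A _ z) hn'
  have hf : f ∈ S.Z (A ⧸ maximalIdeal A ^ n) i := (S.mem_Z f).2 fun x => by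
    obtain ⟨x, rfl⟩ := Submodule.Quotient.mk_surjective _ x
    show (S.E.d i (i + 1)).hom (x • z) = 0
    rw [map_smul, LinearMap.mem_ker.1 hz, smul_zero]
  obtain ⟨g, hg⟩ := (S.toHK_eq_zero_iff i ⟨f, hf⟩).1 (Subsingleton.elim _ _)
  exact ⟨g 1, S.mem_tors_of_hom (finite_quot_pow (A := A) n).2 g 1, (hg 1).trans (one_smul A z)⟩

theorem Model.injective_tB : ∀ (k : ℕ) (j i : ℤ), j + 1 = i → i ≤ 0 → i ≤ S.a + k →
    Module.Injective A (S.tB j i) := by
  intro k
  induction k with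
  | zero =>
    intro j i hji _ hk
    haveI : Subsingleton (S.E.X j) := ModuleCat.subsingleton_of_isZero (S.vanishes j (Or.inl (by omega)))
    haveI : Subsingleton (S.tB j i) := ⟨fun ⟨x, u, _, hx⟩ ⟨y, v, _, hy⟩ => Subtype.ext
      (hx.symm.trans ((congrArg (S.E.d j i).hom (Subsingleton.elim u v)).trans hy))⟩
    exact ⟨fun _ _ _ _ _ _ _ _ _ => ⟨0, fun _ => Subsingleton.elim _ _⟩⟩
  | succ k ih =>
    intro j i hji hi hk
    let g : S.tors j →ₗ[A] S.tB j i :=
      ((S.E.d j i).hom.domRestrict (S.tors j)).codRestrict _ fun w => ⟨w.1, w.2, rfl⟩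
    have hg : Function.Surjective g := by
      rintro ⟨_, w, hw, rfl⟩
      exact ⟨⟨w, hw⟩, rfl⟩
    haveI := S.inj j
    haveI : Module.Injective A (S.tors j) := LocCohLib.injective_torsionSub (maximalIdeal A) (S.E.X j)
    have hker : (LinearMap.ker g).map (S.tors j).subtype = S.tB (j - 1) j := by
      refine le_antisymm ?_ ?_
      · rintro _ ⟨⟨w, hw⟩, hgw, rfl⟩
        refine S.tZ_le_tB hω hn (show j - 1 + 1 = j by omega) (by omega) ⟨hw, ?_⟩
        subst hji
        exact congrArg Subtype.val (LinearMap.mem_ker.1 hgw)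
      · intro x hx
        obtain ⟨hxt, hxd⟩ := S.tB_le_tZ (j - 1) j hx
        refine ⟨⟨x, hxt⟩, Subtype.ext ?_, rfl⟩
        subst hji
        exact hxd
    haveI : Module.Injective A (LinearMap.ker g) := by
      haveI := ih (j - 1) j (by omega) (by omega) (by push_cast at hk; omega)
      let e : LinearMap.ker g ≃ₗ[A] S.tB (j - 1) j :=
        (Submodule.equivMapOfInjective _ (S.tors j).injective_subtype _).trans (LinearEquiv.ofEq _ _ hker)
      exact InjHullLib.injective_of_retract e.toLinearMap e.symm.toLinearMap (LinearMap.ext e.symm_apply_apply)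
    exact injective_of_split g hg

theorem Model.injective_tB_zero : Module.Injective A (S.tB (-1) 0) :=
  S.injective_tB hω hn (-S.a).toNat (-1) 0 (by norm_num) le_rfl (by omega)

theorem Model.exists_proj : ∃ s : S.E0 →ₗ[A] S.tZ 0, ∀ x, Submodule.Quotient.mk (s x) = x := by
  haveI := S.injective_tB_zero hω hn
  haveI : Module.Injective A (LinearMap.ker ((S.tB (-1) 0).comap (S.tZ 0).subtype).mkQ) := by
    rw [Submodule.ker_mkQ]
    let e := Submodule.comapSubtypeEquivOfLe (S.tB_le_tZ (-1) 0)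
    exact InjHullLib.injective_of_retract e.toLinearMap e.symm.toLinearMap (LinearMap.ext e.symm_apply_apply)
  exact exists_section _ (Submodule.mkQ_surjective _)

theorem Model.exists_lift_tB : ∃ σ : S.tB (-1) 0 →ₗ[A] S.E.X (-1), ∀ b, (S.E.d (-1) 0).hom (σ b) = b.1 := by
  let g : S.tors (-1) →ₗ[A] S.tB (-1) 0 :=
    ((S.E.d (-1) 0).hom.domRestrict (S.tors (-1))).codRestrict _ fun w => ⟨w.1, w.2, rfl⟩
  have hg : Function.Surjective g := by
    rintro ⟨_, w, hw, rfl⟩
    exact ⟨⟨w, hw⟩, rfl⟩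
  haveI : Module.Injective A (LinearMap.ker g) := by
    haveI := S.injective_tB hω hn (-S.a).toNat (-2) (-1) (by norm_num) (by norm_num) (by omega)
    have hker : (LinearMap.ker g).map (S.tors (-1)).subtype = S.tB (-2) (-1) := by
      refine le_antisymm ?_ ?_
      · rintro _ ⟨⟨w, hw⟩, hgw, rfl⟩
        refine S.tZ_le_tB hω hn (show (-2 : ℤ) + 1 = -1 by norm_num) (by norm_num) ⟨hw, ?_⟩
        exact congrArg Subtype.val (LinearMap.mem_ker.1 hgw)
      · intro x hx
        obtain ⟨hxt, hxd⟩ := S.tB_le_tZ (-2) (-1) hx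
        exact ⟨⟨x, hxt⟩, Subtype.ext hxd, rfl⟩
    let e : LinearMap.ker g ≃ₗ[A] S.tB (-2) (-1) :=
      (Submodule.equivMapOfInjective _ (S.tors (-1)).injective_subtype _).trans (LinearEquiv.ofEq _ _ hker)
    exact InjHullLib.injective_of_retract e.toLinearMap e.symm.toLinearMap (LinearMap.ext e.symm_apply_apply)
  obtain ⟨σ, hσ⟩ := exists_section g hg
  exact ⟨(S.tors (-1)).subtype ∘ₗ σ, fun b => congrArg Subtype.val (hσ b)⟩

variable {N N' : Type u} [AddCommGroup N] [Module A N] [AddCommGroup N'] [Module A N']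

omit hω hn [IsNoetherianRing A] in
/-- Cocycles on a torsion module give maps into `H^0` of the torsion complex. -/
def Model.toE0 (hN : LocCoh.IsPowerTorsion (maximalIdeal A) N) : S.Z N 0 →ₗ[A] (N →ₗ[A] S.E0) where
  toFun f := Submodule.mkQ _ ∘ₗ f.1.codRestrict (S.tZ 0) fun y => ⟨S.mem_tors_of_hom hN f.1 y, (S.mem_Z f.1).1 f.2 y⟩
  map_add' _ _ := LinearMap.ext fun _ => rfl
  map_smul' _ _ := LinearMap.ext fun _ => rfl

theorem Model.ker_toE0 (hN : LocCoh.IsPowerTorsion (maximalIdeal A) N) :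
    LinearMap.ker (S.toE0 (N := N) hN) = S.B N 0 := by
  rw [← S.ker_toHK N 0]
  ext f
  rw [LinearMap.mem_ker, LinearMap.mem_ker, S.toHK_eq_zero_iff]
  refine ⟨fun h => ?_, fun ⟨g, hg⟩ => LinearMap.ext fun y =>
    (Submodule.Quotient.mk_eq_zero _).2 ⟨g y, S.mem_tors_of_hom hN g y, hg y⟩⟩
  have hmem : ∀ y, f.1 y ∈ S.tB (-1) 0 := fun y =>
    ((Submodule.Quotient.mk_eq_zero ((S.tB (-1) 0).comap (S.tZ 0).subtype)).1
      (LinearMap.congr_fun h y) : _)
  obtain ⟨σ, hσ⟩ := S.exists_lift_tB hω hn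
  exact ⟨σ ∘ₗ f.1.codRestrict _ hmem, fun y => hσ _⟩

theorem Model.toE0_surjective (hN : LocCoh.IsPowerTorsion (maximalIdeal A) N) :
    Function.Surjective (S.toE0 (N := N) hN) := by
  intro φ
  obtain ⟨s, hs⟩ := S.exists_proj hω hn
  refine ⟨⟨(S.tZ 0).subtype ∘ₗ s ∘ₗ φ, (S.mem_Z _).2 fun y => (s (φ y)).2.2⟩, LinearMap.ext fun y => ?_⟩
  exact hs (φ y)

/-- `Hom_D(N, ω) ≅ Hom(N, H^0 Γ E)` for torsion `N`. -/
def Model.equivE0 (hN : LocCoh.IsPowerTorsion (maximalIdeal A) N) : HK ω 0 N ≃ₗ[A] (N →ₗ[A] S.E0) :=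
  (S.equivHK N 0).symm.trans ((Submodule.quotEquivOfEq _ _ (S.ker_toE0 hω hn hN).symm).trans
    ((S.toE0 hN).quotKerEquivOfSurjective (S.toE0_surjective hω hn hN)))

theorem Model.equivE0_toHK (hN : LocCoh.IsPowerTorsion (maximalIdeal A) N) (f : S.Z N 0) :
    S.equivE0 hω hn hN (S.toHK 0 f) = S.toE0 hN f := by
  rw [Model.equivE0, LinearEquiv.trans_apply, ← S.equivHK_mk N 0 f, LinearEquiv.symm_apply_apply]
  rfl

theorem Model.equivE0_pre (hN : LocCoh.IsPowerTorsion (maximalIdeal A) N)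
    (hN' : LocCoh.IsPowerTorsion (maximalIdeal A) N') (g : N →ₗ[A] N') (u : HK ω 0 N') :
    S.equivE0 hω hn hN (pre ω 0 g u) = S.equivE0 hω hn hN' u ∘ₗ g := by
  obtain ⟨f, rfl⟩ := S.toHK_surjective (M := N') 0 u
  rw [← S.toHK_comp, S.equivE0_toHK, S.equivE0_toHK]
  rfl

theorem Model.injective_E0 : Module.Injective A S.E0 := by
  refine InjHullLib.injective_of_powerTorsion (maximalIdeal A) S.E0_torsion fun n P g => ?_
  obtain ⟨hfin, htor⟩ := finite_quot_pow (A := A) n
  have htP : LocCoh.IsPowerTorsion (maximalIdeal A) P := fun x => by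
    obtain ⟨m, hm⟩ := htor x.1
    exact ⟨m, fun a ha => Subtype.ext (hm a ha)⟩
  have htQ : LocCoh.IsPowerTorsion (maximalIdeal A) ((A ⧸ maximalIdeal A ^ n) ⧸ P) := fun x => by
    obtain ⟨x, rfl⟩ := Submodule.Quotient.mk_surjective _ x
    obtain ⟨m, hm⟩ := htor x
    exact ⟨m, fun a ha => by rw [← Submodule.Quotient.mk_smul, hm a ha, Submodule.Quotient.mk_zero]⟩
  haveI : Subsingleton (HK ω (0 + 1) ((A ⧸ maximalIdeal A ^ n) ⧸ P)) :=
    subsingleton_HK_of_torsion hω hn htQ (by norm_num)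
  obtain ⟨v, hv⟩ := exists_pre_eq ω P.injective_subtype (LinearMap.exact_subtype_mkQ P) P.mkQ_surjective 0
    ((S.equivE0 hω hn htP).symm g) (Subsingleton.elim _ _)
  refine ⟨S.equivE0 hω hn htor v, ?_⟩
  rw [← S.equivE0_pre hω hn htP htor, hv, LinearEquiv.apply_symm_apply]

omit hn in
theorem nonempty_HK_residueField (h0 : Dual.IsNormalized A ω) :
    Nonempty (HK ω 0 (ResidueField A) ≃ₗ[A] ResidueField A) := by
  have h : Nontrivial ((model hω).T (A ⧸ maximalIdeal A) 0) := by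
    by_contra hc
    haveI := not_nontrivial_iff_subsingleton.1 hc
    haveI hs0 : Subsingleton (HK ω 0 (A ⧸ (IsLocalRing.closedPoint A).asIdeal)) :=
      ((model hω).equivHK (A ⧸ maximalIdeal A) 0).symm.injective.subsingleton
    refine not_zeroAt_dfn hω (IsLocalRing.closedPoint A) ?_
    rw [dfn_closedPoint hω h0]
    exact .of_subsingleton
  obtain ⟨e⟩ := (model hω).nonempty_T_equiv hω (maximalIdeal A) h
  exact ⟨((model hω).equivHK (A ⧸ maximalIdeal A) 0).symm.trans e⟩

/-- `H^0 Γ E` is an injective hull of the residue field. -/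
theorem Model.exists_hull_E0 : ∃ s : ResidueField A →ₗ[A] S.E0, InjHull.IsInjectiveHull s := by
  have hk : LocCoh.IsPowerTorsion (maximalIdeal A) (ResidueField A) := fun x => ⟨1, fun a ha => by
    obtain ⟨x, rfl⟩ := residue_surjective x
    rw [pow_one] at ha
    exact Ideal.Quotient.eq_zero_iff_mem.2 (Ideal.mul_mem_right _ _ ha)⟩
  obtain ⟨e⟩ := nonempty_HK_residueField hω hn
  haveI : IsSimpleModule A (ResidueField A) := isSimpleModule_iff_quot_maximal.mpr ⟨_, maximalIdeal.isMaximal A, ⟨LinearEquiv.refl _ _⟩⟩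
  have hsimple : IsSimpleModule A (ResidueField A →ₗ[A] S.E0) :=
    IsSimpleModule.congr ((S.equivE0 hω hn hk).symm.trans e)
  obtain ⟨s, hs, hsoc⟩ := InjHullLib.exists_socle hsimple
  exact ⟨s, { InjHullLib.isEssentialInj_of_socle S.E0_torsion hs hsoc with isInjective := S.injective_E0 hω hn }⟩

/-- The comparison of `H^0 Γ E` with a given injective hull. -/
theorem Model.nonempty_E0_equiv {E : Type u} [AddCommGroup E] [Module A E] {f : ResidueField A →ₗ[A] E}
    (hf : InjHull.IsInjectiveHull f) : Nonempty (S.E0 ≃ₗ[A] E) := by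
  obtain ⟨s, hs⟩ := S.exists_hull_E0 hω hn
  obtain ⟨e, -⟩ := InjHullLib.exists_linearEquiv hs hf
  exact ⟨e⟩

end Groth.Agent.DualCxLib
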