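import Groth.Agent.DualCxLib.CoindD
import Groth.Agent.DualCxLib.Gamma
import Mathlib.Algebra.Homology.HomologicalComplexAbelian
import Mathlib.Algebra.Homology.DerivedCategory.ShortExact

/-!
# The triangle of a dualizing complex along an ideal of finite length
-/

set_option autoImplicit false
set_option backward.isDefEq.respectTransparency false
set_option linter.style.haveILetI false
set_option maxRecDepth 4000

universe u

open CategoryTheory Limits Pretriangulated IsLocalRing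
attribute [local instance] HasDerivedCategory.standard

noncomputable section

namespace Groth.Agent.DualCxLib

variable {A : Type u} [CommRing A] {ω : Dual.D A} (S : InjRep ω) (M : Type u) [AddCommGroup M] [Module A M]

/-- The complex `Hom(M, E)`. -/
def InjRep.homCx : DRing.Cx A where
  X i := ModuleCat.of A (M →ₗ[A] S.E.X i)
  d i j := ModuleCat.ofHom (S.D M i j)
  shape i j h := ModuleCat.hom_ext (LinearMap.ext fun f => LinearMap.ext fun m => by
    show (S.E.d i j).hom (f m) = 0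
    rw [S.E.shape i j h]
    rfl)
  d_comp_d' i j k _ _ := ModuleCat.hom_ext (LinearMap.ext fun f => LinearMap.ext fun m => by
    show (S.E.d i j ≫ S.E.d j k).hom (f m) = 0
    rw [S.E.d_comp_d]
    rfl)

theorem InjRep.subsingleton_HD_homCx (i : ℤ) (h : Subsingleton (HK ω i M)) :
    Subsingleton (Dual.HD A (DRing.toD (S.homCx M)) i) := by
  rw [DRingLib.subsingleton_HD_iff]
  intro f hf
  haveI := h
  obtain ⟨g, hg⟩ := (S.toHK_eq_zero_iff i ⟨f, (S.mem_Z f).2 fun m => LinearMap.congr_fun hf m⟩).1 (Subsingleton.elim _ _)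
  exact ⟨g, LinearMap.ext hg⟩

theorem InjRep.nonempty_HD_homCx (i : ℤ) : Nonempty (S.T M i ≃ₗ[A] Dual.HD A (DRing.toD (S.homCx M)) i) := by
  let C := S.homCx M
  let G := C.sc' (i - 1) i (i + 1)
  let e1 : S.Z M i ≃ₗ[A] LinearMap.ker G.g.hom := LinearEquiv.ofEq _ _ rfl
  have hB : (S.B M i).map (e1 : S.Z M i →ₗ[A] LinearMap.ker G.g.hom) = LinearMap.range G.moduleCatToCycles := by
    ext x
    constructor
    · rintro ⟨f, ⟨g, hg⟩, rfl⟩
      exact ⟨g, Subtype.ext hg⟩
    · rintro ⟨w, hw⟩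
      exact ⟨e1.symm x, ⟨w, congrArg Subtype.val hw⟩, e1.apply_symm_apply x⟩
  exact ⟨(Submodule.Quotient.equiv _ _ e1 hB).trans
    (G.moduleCatHomologyIso.symm ≪≫ (C.homologyIsoSc' (i - 1) i (i + 1) (by simp) (by simp)).symm ≪≫
      ((DerivedCategory.homologyFunctorFactors (ModuleCat.{u} A) i).app C).symm).toLinearEquiv⟩

/-- Restriction of `E = Hom(A, E)` to an ideal. -/
def InjRep.resHom (I : Ideal A) : S.E ⟶ S.homCx I where
  f i := ModuleCat.ofHom (LinearMap.lcomp A (S.E.X i) I.subtype ∘ₗ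
    (LinearMap.ringLmapEquivSelf A A (S.E.X i)).symm.toLinearMap)
  comm' i j _ := ModuleCat.hom_ext (LinearMap.ext fun x => LinearMap.ext fun a => by
    show (S.E.d i j).hom ((a : A) • x) = (a : A) • (S.E.d i j).hom x
    rw [map_smul])

theorem InjRep.εC_resHom (I : Ideal A) : S.εC (A ⧸ I) ≫ S.resHom I = 0 :=
  HomologicalComplex.hom_ext _ _ fun i => ModuleCat.hom_ext (LinearMap.ext fun g => LinearMap.ext fun a => by
    show (a : A) • (S.coextEquiv (A ⧸ I) i g 1) = 0
    rw [← map_smul, Algebra.smul_def, mul_one, Ideal.Quotient.algebraMap_eq,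
      Ideal.Quotient.eq_zero_iff_mem.2 a.2, map_zero])

/-- The short complex `Hom(A/I, E) → E → Hom(I, E)`. -/
abbrev InjRep.artinSC (I : Ideal A) : ShortComplex (DRing.Cx A) :=
  ShortComplex.mk (S.εC (A ⧸ I)) (S.resHom I) (S.εC_resHom I)

theorem InjRep.artinSC_shortExact (I : Ideal A) : (S.artinSC I).ShortExact := by
  refine HomologicalComplex.shortExact_of_degreewise_shortExact _ fun i => ShortComplex.ShortExact.mk'
    ((ShortComplex.moduleCat_exact_iff _).2 fun x hx => ?_)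
    ((ModuleCat.mono_iff_injective _).2 fun g g' hg => ?_) ((ModuleCat.epi_iff_surjective _).2 fun f => ?_)
  · refine ⟨(S.coextEquiv (A ⧸ I) i).symm (I.liftQ (LinearMap.toSpanSingleton A _ x) fun a ha => ?_), ?_⟩
    · exact LinearMap.congr_fun hx (⟨a, ha⟩ : I)
    · refine (S.εC_apply (A ⧸ I) i _).trans ?_
      rw [AddEquiv.apply_symm_apply]
      exact one_smul A x
  · refine (S.coextEquiv (A ⧸ I) i).injective (LinearMap.ext fun q => ?_)
    obtain ⟨a, rfl⟩ := Ideal.Quotient.mk_surjective q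
    rw [show Ideal.Quotient.mk I a = a • (1 : A ⧸ I) by rw [Algebra.smul_def, mul_one]; rfl, map_smul, map_smul]
    exact congrArg (a • ·) hg
  · haveI := S.inj i
    obtain ⟨h, hh⟩ := Module.Injective.out (R := A) (Q := S.E.X i) I.subtype I.injective_subtype f
    refine ⟨h 1, LinearMap.ext fun a => ?_⟩
    refine Eq.trans ?_ (hh a)
    show (a : A) • h 1 = h (a : A)
    rw [← map_smul, smul_eq_mul, mul_one]

variable [IsLocalRing A] [IsNoetherianRing A] (hω : Dual.IsDualizing A ω) (hn : Dual.IsNormalized A ω)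
include hω hn

theorem exists_artin_triangle (I : Ideal A) (hIl : IsFiniteLength A I) (E : Type u) [AddCommGroup E] [Module A E]
    (e : ResidueField A →ₗ[A] E) (he : InjHull.IsInjectiveHull e)
    (R : Dual.D A ⥤ Dual.D (A ⧸ I)) (adj : DRing.restrictD (Ideal.Quotient.mk I) ⊣ R) :
    ∃ (u : (DRing.restrictD (Ideal.Quotient.mk I)).obj (R.obj ω) ⟶ ω) (v : ω ⟶ Dual.inD A (I →ₗ[A] E))
      (w : Dual.inD A (I →ₗ[A] E) ⟶ ((DRing.restrictD (Ideal.Quotient.mk I)).obj (R.obj ω))⟦(1 : ℤ)⟧),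
      Triangle.mk u v w ∈ distinguishedTriangles := by
  let M := model hω
  let S := M.rep
  obtain ⟨hfin, htor⟩ := torsion_of_isFiniteLength hIl
  haveI := hfin
  have hvan : ∀ j : ℤ, j ≠ 0 → Subsingleton (HK ω j I) := fun j hj => subsingleton_HK_of_torsion hω hn htor hj
  let C := DRing.toD (S.homCx I)
  haveI : C.IsGE 0 := (DerivedCategory.isGE_iff _ _).2 fun j hj =>
    ModuleCat.isZero_iff_subsingleton.2 (S.subsingleton_HD_homCx I j (hvan j hj.ne))
  haveI : C.IsLE 0 := (DerivedCategory.isLE_iff _ _).2 fun j hj =>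
    ModuleCat.isZero_iff_subsingleton.2 (S.subsingleton_HD_homCx I j (hvan j hj.ne'))
  obtain ⟨Y, ⟨eY⟩⟩ := DerivedCategory.exists_iso_singleFunctor_obj_of_isGE_of_isLE C 0
  let eY' : Dual.HD A C 0 ≃ₗ[A] Y := (((DerivedCategory.homologyFunctor (ModuleCat.{u} A) 0).mapIso eY).trans
    ((DerivedCategory.singleFunctorCompHomologyFunctorIso (ModuleCat.{u} A) 0).app Y)).toLinearEquiv
  obtain ⟨eT⟩ := S.nonempty_HD_homCx I 0
  obtain ⟨eE⟩ := M.nonempty_E0_equiv hω hn he
  let eH : Y ≃ₗ[A] (I →ₗ[A] E) := eY'.symm.trans (eT.symm.trans ((S.equivHK I 0).trans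
    ((M.equivE0 hω hn htor).trans eE.congrRight)))
  obtain ⟨e0⟩ := S.nonempty_coindIso (A ⧸ I) R adj
  let T := DerivedCategory.triangleOfSES (S.artinSC_shortExact I)
  let e1 : T.obj₁ ≅ (DRing.restrictD (Ideal.Quotient.mk I)).obj (R.obj ω) :=
    ((DTen.resFactors (algebraMap A (A ⧸ I))).app (S.coext (A ⧸ I))).symm ≪≫
      (DRing.restrictD (Ideal.Quotient.mk I)).mapIso e0
  let e2 : T.obj₂ ≅ ω := S.iso
  let e3 : T.obj₃ ≅ Dual.inD A (I →ₗ[A] E) :=
    eY ≪≫ (DerivedCategory.singleFunctor (ModuleCat.{u} A) 0).mapIso (eH.toModuleIso (X₁ := Y) (X₂ := (I →ₗ[A] E)))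
  refine ⟨e1.inv ≫ T.mor₁ ≫ e2.hom, e2.inv ≫ T.mor₂ ≫ e3.hom, e3.inv ≫ T.mor₃ ≫ e1.hom⟦(1 : ℤ)⟧', ?_⟩
  refine isomorphic_distinguished _ (DerivedCategory.triangleOfSES_distinguished _) _
    (Triangle.isoMk _ T e1.symm e2.symm e3.symm ?_ ?_ ?_)
  · simp
  · simp
  · simp only [Triangle.mk_mor₃, Iso.symm_hom, Category.assoc, ← Functor.map_comp, Iso.hom_inv_id]
    erw [CategoryTheory.Functor.map_id, Category.comp_id]

end Groth.Agent.DualCxLib
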