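import Groth.Agent.DualCxLib.HomD
import Mathlib.RingTheory.Ideal.AssociatedPrime.Finiteness
import Mathlib.RingTheory.Support
import Mathlib.RingTheory.Noetherian.Basic
import Mathlib.RingTheory.LocalRing.Module
import Mathlib.RingTheory.Nakayama

/-!
# Vanishing after localisation, dévissage and finiteness
-/

set_option autoImplicit false

universe u v w x

open CategoryTheory
attribute [local instance] HasDerivedCategory.standard

noncomputable section

namespace Groth.Agent.DualCxLib

variable {A : Type u} [CommRing A]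

/-- The module vanishes after localising at `p`. -/
def ZeroAt (p : Ideal A) (T : Type v) [AddCommGroup T] [Module A T] : Prop :=
  ∀ y : T, ∃ s ∉ p, s • y = 0

variable {p q : Ideal A} {T : Type v} [AddCommGroup T] [Module A T] {T' : Type w} [AddCommGroup T']
  [Module A T'] {T'' : Type x} [AddCommGroup T''] [Module A T'']

theorem ZeroAt.of_le (h : q ≤ p) (hT : ZeroAt p T) : ZeroAt q T := fun y =>
  let ⟨s, hs, hsy⟩ := hT y
  ⟨s, fun hq => hs (h hq), hsy⟩

theorem ZeroAt.of_subsingleton [p.IsPrime] [Subsingleton T] : ZeroAt p T := fun _ =>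
  ⟨1, fun h => Ideal.IsPrime.ne_top ‹_› ((Ideal.eq_top_iff_one p).2 h), Subsingleton.elim _ _⟩

theorem ZeroAt.of_smul {s : A} (hs : s ∉ p) (h : ∀ y : T, s • y = 0) : ZeroAt p T := fun y => ⟨s, hs, h y⟩

theorem ZeroAt.of_injective {f : T →ₗ[A] T'} (hf : Function.Injective f) (h : ZeroAt p T') : ZeroAt p T :=
  fun y =>
    let ⟨s, hs, hsy⟩ := h (f y)
    ⟨s, hs, hf (by rw [map_smul, hsy, map_zero])⟩

theorem ZeroAt.of_surjective {f : T →ₗ[A] T'} (hf : Function.Surjective f) (h : ZeroAt p T) : ZeroAt p T' :=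
  fun y => by
    obtain ⟨x, rfl⟩ := hf y
    obtain ⟨s, hs, hsx⟩ := h x
    exact ⟨s, hs, by rw [← map_smul, hsx, map_zero]⟩

theorem zeroAt_congr (e : T ≃ₗ[A] T') : ZeroAt p T ↔ ZeroAt p T' :=
  ⟨fun h => h.of_surjective (f := e.toLinearMap) e.surjective,
    fun h => h.of_injective (f := e.toLinearMap) e.injective⟩

theorem ZeroAt.of_exact [p.IsPrime] {f : T →ₗ[A] T'} {g : T' →ₗ[A] T''} (h : Function.Exact f g)
    (h1 : ZeroAt p T) (h3 : ZeroAt p T'') : ZeroAt p T' := fun y => by
  obtain ⟨s, hs, hsy⟩ := h3 (g y)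
  obtain ⟨x, hx⟩ := (h (s • y)).1 (by rw [map_smul, hsy])
  obtain ⟨t, ht, htx⟩ := h1 x
  refine ⟨t * s, fun hc => (Ideal.IsPrime.mem_or_mem ‹_› hc).elim ht hs, ?_⟩
  rw [mul_smul, ← hx, ← map_smul, htx, map_zero]

theorem zeroAt_iff_notMem_support (P : PrimeSpectrum A) :
    ZeroAt P.asIdeal T ↔ P ∉ Module.support A T :=
  Module.notMem_support_iff'.symm

theorem not_zeroAt_iff_mem_support (P : PrimeSpectrum A) :
    ¬ ZeroAt P.asIdeal T ↔ P ∈ Module.support A T := by
  rw [zeroAt_iff_notMem_support, not_not]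

theorem zeroAt_iff_subsingleton [p.IsPrime] :
    ZeroAt p T ↔ Subsingleton (LocalizedModule p.primeCompl T) :=
  (LocalizedModule.subsingleton_iff (R := A) (S := p.primeCompl) (M := T)).symm

theorem not_zeroAt_iff_nontrivial [p.IsPrime] :
    ¬ ZeroAt p T ↔ Nontrivial (LocalizedModule p.primeCompl T) := by
  rw [zeroAt_iff_subsingleton, not_subsingleton_iff_nontrivial]

theorem exists_annihilator_of_zeroAt [p.IsPrime] [Module.Finite A T] (h : ZeroAt p T) :
    ∃ s ∉ p, ∀ y : T, s • y = 0 := by
  have h' : (⟨p, ‹_›⟩ : PrimeSpectrum A) ∉ Module.support A T := (zeroAt_iff_notMem_support ⟨p, ‹_›⟩).1 h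
  rw [Module.mem_support_iff_of_finite, SetLike.le_def] at h'
  push Not at h'
  obtain ⟨s, hs, hsp⟩ := h'
  exact ⟨s, hsp, fun y => Module.mem_annihilator.1 hs y⟩

/-- Nakayama at a prime. -/
theorem zeroAt_of_smul_surjective [p.IsPrime] [Module.Finite A T] {x : A} (hx : x ∈ p)
    (h : ∀ y : T, ∃ s ∉ p, ∃ z : T, s • y = x • z) : ZeroAt p T := by
  rw [zeroAt_iff_subsingleton]
  have htop : (⊤ : Submodule (Localization.AtPrime p) (LocalizedModule p.primeCompl T)) ≤
      IsLocalRing.maximalIdeal (Localization.AtPrime p) • ⊤ := by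
    intro y _
    induction y using LocalizedModule.induction_on with
    | _ m s =>
      obtain ⟨t, ht, z, hz⟩ := h m
      have hy : LocalizedModule.mk m s = algebraMap A (Localization.AtPrime p) x •
          LocalizedModule.mk z (⟨t, ht⟩ * s : p.primeCompl) := by
        rw [IsScalarTower.algebraMap_smul, LocalizedModule.smul'_mk, LocalizedModule.mk_eq]
        refine ⟨1, ?_⟩
        simp only [one_smul, Submonoid.smul_def, Submonoid.coe_mul]
        rw [← hz, smul_smul, mul_comm]
      rw [hy]
      exact Submodule.smul_mem_smul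
        ((IsLocalization.AtPrime.to_map_mem_maximal_iff _ p x).2 hx) Submodule.mem_top
  haveI : Module.Finite (Localization.AtPrime p) (LocalizedModule p.primeCompl T) :=
    Module.Finite.of_isLocalizedModule p.primeCompl (LocalizedModule.mkLinearMap p.primeCompl T)
  have hbot := Submodule.eq_bot_of_le_smul_of_le_jacobson_bot _ _ Module.Finite.fg_top htop
    (IsLocalRing.maximalIdeal_le_jacobson _)
  exact (Submodule.subsingleton_iff (Localization.AtPrime p)).1 (subsingleton_of_bot_eq_top hbot.symm)

variable [IsNoetherianRing A] (K : Dual.D A)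

/-- Vanishing at `p` is detected on the quotients by primes in the support. -/
theorem zeroAt_HK_of_primes (i : ℤ) (p : Ideal A) [p.IsPrime] (M : Type u) [AddCommGroup M] [Module A M]
    [Module.Finite A M]
    (h : ∀ Q : PrimeSpectrum A, Q.asIdeal ≤ p → Q ∈ Module.support A M →
      ZeroAt p (HK K i (A ⧸ Q.asIdeal))) : ZeroAt p (HK K i M) := by
  revert h
  apply IsNoetherianRing.induction_on_isQuotientEquivQuotientPrime A (M := M) ‹_›
    (motive := fun N _ _ _ => (∀ Q : PrimeSpectrum A, Q.asIdeal ≤ p → Q ∈ Module.support A N →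
      ZeroAt p (HK K i (A ⧸ Q.asIdeal))) → ZeroAt p (HK K i N))
  · intro N _ _ _ _ _
    haveI := subsingleton_of_subsingleton (M₁ := N) K i
    exact .of_subsingleton
  · intro N _ _ _ Q e h
    by_cases hQ : Q.asIdeal ≤ p
    · refine (zeroAt_congr (preEquiv K i e)).1 (h Q hQ ?_)
      rw [e.support_eq, Module.mem_support_iff_of_finite, Ideal.annihilator_quotient]
    · obtain ⟨s, hs, hsp⟩ := SetLike.not_le_iff_exists.1 hQ
      refine .of_smul hsp fun u => smul_eq_zero_of_smul K i (fun y => e.injective ?_) u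
      obtain ⟨a, ha⟩ := Ideal.Quotient.mk_surjective (e y)
      rw [map_smul, map_zero, ← ha]
      exact Ideal.Quotient.eq_zero_iff_mem.2 (Q.asIdeal.mul_mem_right a hs)
  · intro N₁ _ _ _ N₂ _ _ _ N₃ _ _ _ f g hf hg hfg h1 h3 h
    exact .of_exact (exact_mid K hf hfg hg i)
      (h3 fun Q hQ hQs => h Q hQ (Module.support_subset_of_surjective g hg hQs))
      (h1 fun Q hQ hQs => h Q hQ (Module.support_subset_of_injective f hf hQs))

theorem finite_of_exact {f : T →ₗ[A] T'} {g : T' →ₗ[A] T''} (h : Function.Exact f g) [Module.Finite A T]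
    [Module.Finite A T''] : Module.Finite A T' := by
  haveI : IsNoetherian A T := isNoetherian_of_isNoetherianRing_of_finite A T
  haveI : IsNoetherian A T'' := isNoetherian_of_isNoetherianRing_of_finite A T''
  haveI : IsNoetherian A T' := isNoetherian_of_range_eq_ker f g h.linearMap_ker_eq.symm
  infer_instance

theorem finite_HK_free (i : ℤ) (hA : Module.Finite A (HK K i A)) :
    ∀ q : ℕ, Module.Finite A (HK K i (Fin q → A))
  | 0 => by
    haveI := subsingleton_of_subsingleton (M₁ := Fin 0 → A) K i
    exact .of_finite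
  | q + 1 => by
    haveI := finite_HK_free i hA q
    haveI := hA
    haveI : Module.Finite A (HK K i (A × (Fin q → A))) :=
      finite_of_exact (exact_mid K (f := LinearMap.inl A A (Fin q → A)) (g := LinearMap.snd A A (Fin q → A))
        LinearMap.inl_injective .inl_snd LinearMap.snd_surjective i)
    exact Module.Finite.equiv (preEquiv K i (Fin.consLinearEquiv A (fun _ : Fin (q + 1) => A)).symm)

/-- Finiteness of `Hom_D(M, K[i])` for finite `M`. -/
theorem finite_HK (hA : ∀ i, Module.Finite A (HK K i A)) (a : ℤ)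
    (ha : ∀ (M : Type u) [AddCommGroup M] [Module A M] (i : ℤ), i < a → Subsingleton (HK K i M)) :
    ∀ (i : ℤ) (M : Type u) [AddCommGroup M] [Module A M] [Module.Finite A M], Module.Finite A (HK K i M) := by
  suffices H : ∀ (n : ℕ) (M : Type u) [AddCommGroup M] [Module A M] [Module.Finite A M],
      Module.Finite A (HK K (a - 1 + n) M) by
    intro i M _ _ _
    by_cases hi : i < a
    · haveI := ha M i hi
      exact .of_finite
    · have := H (i - (a - 1)).toNat M
      rwa [show a - 1 + ((i - (a - 1)).toNat : ℤ) = i by omega] at this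
  intro n
  induction n with
  | zero =>
    intro M _ _ _
    haveI := ha M (a - 1 + ((0 : ℕ) : ℤ)) (by omega)
    exact .of_finite
  | succ n ih =>
    intro M _ _ _
    obtain ⟨q, π, hπ⟩ := Module.Finite.exists_fin' A M
    rw [show a - 1 + ((n + 1 : ℕ) : ℤ) = a - 1 + n + 1 by push_cast; ring]
    haveI := ih (LinearMap.ker π)
    haveI := finite_HK_free K (a - 1 + n + 1) (hA _) q
    exact finite_of_exact (exact_right K (f := (LinearMap.ker π).subtype) Subtype.val_injective
      (LinearMap.exact_subtype_ker_map π) hπ (a - 1 + n))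

end Groth.Agent.DualCxLib
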