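import Groth.Agent.DualCxLib.Ann
import Groth.Agent.DualCxLib.Devissage
import Mathlib.Algebra.Homology.DerivedCategory.ShortExact
import Mathlib.Algebra.Homology.HomologicalComplexAbelian
import Mathlib.LinearAlgebra.Dual.Lemmas

/-!
# Evaluation into the bidual, and the residue fields
-/

set_option autoImplicit false
set_option backward.isDefEq.respectTransparency false

universe u

open CategoryTheory Limits Pretriangulated
attribute [local instance] HasDerivedCategory.standard

noncomputable section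

namespace Groth.Agent.DualCxLib

variable {A : Type u} [CommRing A]

/-- The functor `Hom(M, -)`. -/
def homF (M : Type u) [AddCommGroup M] [Module A M] : ModuleCat.{u} A ⥤ ModuleCat.{u} A where
  obj N := ModuleCat.of A (M →ₗ[A] N)
  map g := ModuleCat.ofHom (LinearMap.llcomp A M _ _ g.hom)
  map_id N := ModuleCat.hom_ext (LinearMap.ext fun f => rfl)
  map_comp g h := ModuleCat.hom_ext (LinearMap.ext fun f => rfl)

instance (M : Type u) [AddCommGroup M] [Module A M] : (homF (A := A) M).Additive where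
  map_add := ModuleCat.hom_ext (LinearMap.ext fun _ => LinearMap.ext fun _ => rfl)

variable {ω : Dual.D A} (S : Model ω)

/-- The complex `Hom(M, E)`. -/
abbrev Model.HC (M : Type u) [AddCommGroup M] [Module A M] : DRing.Cx A :=
  ((homF (A := A) M).mapHomologicalComplex (ComplexShape.up ℤ)).obj S.E

variable {M N P : Type u} [AddCommGroup M] [Module A M] [AddCommGroup N] [Module A N] [AddCommGroup P]
  [Module A P]

/-- Functoriality of `Hom(M, E)`. -/
def Model.HCmap (g : M →ₗ[A] N) : S.HC N ⟶ S.HC M where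
  f j := ModuleCat.ofHom (LinearMap.lcomp A (S.E.X j) g)
  comm' i j _ := ModuleCat.hom_ext (LinearMap.ext fun φ => LinearMap.ext fun x => rfl)

/-- Evaluation at an element. -/
def Model.evC (m : M) : S.HC M ⟶ S.E where
  f j := ModuleCat.ofHom (LinearMap.applyₗ (R := A) m)
  comm' i j _ := ModuleCat.hom_ext (LinearMap.ext fun φ => rfl)

theorem Model.HCmap_evC (g : M →ₗ[A] N) (m : M) : S.HCmap g ≫ S.evC m = S.evC (g m) :=
  HomologicalComplex.hom_ext _ _ fun _ => ModuleCat.hom_ext (LinearMap.ext fun _ => rfl)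

theorem Model.HCmap_comp (g : M →ₗ[A] N) (h : N →ₗ[A] P) : S.HCmap h ≫ S.HCmap g = S.HCmap (h ∘ₗ g) :=
  HomologicalComplex.hom_ext _ _ fun _ => ModuleCat.hom_ext (LinearMap.ext fun _ => rfl)

theorem Model.HCmap_eq_zero (g : M →ₗ[A] N) (h : g = 0) : S.HCmap g = 0 :=
  HomologicalComplex.hom_ext _ _ fun j => ModuleCat.hom_ext (LinearMap.ext fun φ => LinearMap.ext fun x => by
    subst h
    exact φ.map_zero)

/-- The evaluation `M → Hom_D(Hom(M, E), ω)`. -/
def Model.ev (m : M) : DRing.toD (S.HC M) ⟶ ω := DerivedCategory.Q.map (S.evC m) ≫ S.iso.hom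

theorem Model.ev_add (m m' : M) : S.ev (m + m') = S.ev m + S.ev m' := by
  rw [Model.ev, Model.ev, Model.ev, ← Preadditive.add_comp, ← Functor.map_add]
  congr 2
  exact HomologicalComplex.hom_ext _ _ fun _ =>
    ModuleCat.hom_ext (LinearMap.ext fun φ => φ.map_add m m')

theorem Model.comp_ev (g : M →ₗ[A] N) (m : M) :
    DerivedCategory.Q.map (S.HCmap g) ≫ S.ev m = S.ev (g m) := by
  rw [Model.ev, Model.ev, ← Functor.map_comp_assoc, S.HCmap_evC]

variable {f : M →ₗ[A] N} {g : N →ₗ[A] P}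

/-- `Hom(-, E)` applied to a short exact sequence. -/
abbrev Model.scHC (hfg : Function.Exact f g) : ShortComplex (DRing.Cx A) :=
  ShortComplex.mk (S.HCmap g) (S.HCmap f)
    ((S.HCmap_comp f g).trans (S.HCmap_eq_zero _ hfg.linearMap_comp_eq_zero))

theorem Model.scHC_shortExact (hf : Function.Injective f) (hfg : Function.Exact f g)
    (hg : Function.Surjective g) : (S.scHC hfg).ShortExact := by
  refine HomologicalComplex.shortExact_of_degreewise_shortExact _ fun j => ShortComplex.ShortExact.mk' ?_ ?_ ?_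
  · rw [ShortComplex.moduleCat_exact_iff]
    intro φ0 hφ
    obtain ⟨φ, rfl⟩ : ∃ φ : N →ₗ[A] S.E.X j, φ = φ0 := ⟨φ0, rfl⟩
    have hle : LinearMap.range f ≤ LinearMap.ker φ := by
      rintro _ ⟨y, rfl⟩
      exact LinearMap.congr_fun hφ y
    refine ⟨((LinearMap.range f).liftQ φ hle) ∘ₗ
      (((Submodule.quotEquivOfEq _ _ hfg.linearMap_ker_eq.symm).trans
        (g.quotKerEquivOfSurjective hg)).symm).toLinearMap, LinearMap.ext fun x => ?_⟩
    · show (LinearMap.range f).liftQ φ hle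
        (((Submodule.quotEquivOfEq _ _ hfg.linearMap_ker_eq.symm).trans
          (g.quotKerEquivOfSurjective hg)).symm (g x)) = φ x
      rw [((Submodule.quotEquivOfEq _ _ hfg.linearMap_ker_eq.symm).trans
          (g.quotKerEquivOfSurjective hg)).symm_apply_eq.2 (show g x =
            ((Submodule.quotEquivOfEq _ _ hfg.linearMap_ker_eq.symm).trans
              (g.quotKerEquivOfSurjective hg)) (Submodule.Quotient.mk x) from rfl)]
      rfl
  · rw [ModuleCat.mono_iff_injective]
    intro φ ψ h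
    refine LinearMap.ext fun y => ?_
    obtain ⟨x, rfl⟩ := hg y
    exact LinearMap.congr_fun h x
  · rw [ModuleCat.epi_iff_surjective]
    intro φ
    obtain ⟨ψ, hψ⟩ := (S.inj j).out f hf φ
    exact ⟨ψ, LinearMap.ext hψ⟩

theorem exists_extend {T : Triangle (Dual.D A)} (hT : T ∈ distTriang (Dual.D A)) {K : Dual.D A}
    (h : Subsingleton (T.obj₃ ⟶ K⟦(1 : ℤ)⟧)) (u : T.obj₁ ⟶ K) : ∃ v, T.mor₁ ≫ v = u := by
  obtain ⟨w, hw⟩ := Triangle.yoneda_exact₃ _ (rot_of_distTriang _ hT) (u⟦(1 : ℤ)⟧') (h.elim _ _)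
  let w' : T.obj₂⟦(1 : ℤ)⟧ ⟶ K⟦(1 : ℤ)⟧ := w
  refine ⟨-(shiftFunctor (Dual.D A) (1 : ℤ)).preimage w', (shiftFunctor (Dual.D A) (1 : ℤ)).map_injective ?_⟩
  rw [Functor.map_comp, Functor.map_neg, Functor.map_preimage]
  refine Eq.trans ?_ hw.symm
  exact (Preadditive.comp_neg _ _).trans (Preadditive.neg_comp _ _).symm

theorem subsingleton_shift_succ (X : Dual.D A) (K : Dual.D A) (n : ℤ)
    (h : Subsingleton (X ⟶ K⟦n + 1⟧)) : Subsingleton (X ⟶ (K⟦n⟧)⟦(1 : ℤ)⟧) :=
  (((shiftFunctorAdd' (Dual.D A) n 1 (n + 1) rfl).app K).homToEquiv (Z := X)).subsingleton_congr.1 h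

variable [IsNoetherianRing A]

theorem Model.subsingleton_hom_HC_of_gt (n : ℤ) (hn : S.b - S.a < n) (M : Type u) [AddCommGroup M]
    [Module A M] : Subsingleton (DRing.toD (S.HC M) ⟶ ω⟦n⟧) := by
  haveI := S.isKInjective
  suffices h : Subsingleton (DerivedCategory.Q.obj (S.HC M) ⟶ DerivedCategory.Q.obj (S.E⟦n⟧)) from
    (Iso.homToEquiv (Z := DRing.toD (S.HC M)) (((DerivedCategory.Q.commShiftIso n).app S.E) ≪≫
      (shiftFunctor (Dual.D A) n).mapIso S.iso)).subsingleton_congr.1 h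
  refine subsingleton_of_forall_eq 0 fun u => ?_
  obtain ⟨g, rfl⟩ := (CochainComplex.IsKInjective.Qh_map_bijective
    ((HomotopyCategory.quotient (ModuleCat.{u} A) (ComplexShape.up ℤ)).obj (S.HC M)) (S.E⟦n⟧)).2 u
  obtain ⟨φ, rfl⟩ := (HomotopyCategory.quotient _ _).map_surjective g
  have h0 : φ = 0 := HomologicalComplex.hom_ext _ _ fun i => by
    by_cases hi : i < S.a ∨ S.b < i
    · exact ((homF (A := A) M).map_isZero (S.vanishes i hi)).eq_of_src _ _
    · exact ((S.vanishes (i + n) (Or.inr (by omega))).of_iso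
        (S.E.shiftFunctorObjXIso n i (i + n) rfl)).eq_of_tgt _ _
  rw [h0, Functor.map_zero, Functor.map_zero]

theorem Model.subsingleton_hom_HC_exact {n : ℤ} (hf : Function.Injective f) (hfg : Function.Exact f g)
    (hg : Function.Surjective g) (hM : Subsingleton (DRing.toD (S.HC M) ⟶ ω⟦n⟧))
    (hP : Subsingleton (DRing.toD (S.HC P) ⟶ ω⟦n⟧)) : Subsingleton (DRing.toD (S.HC N) ⟶ ω⟦n⟧) := by
  refine subsingleton_of_forall_eq 0 fun u => ?_
  obtain ⟨v, rfl⟩ := Triangle.yoneda_exact₂ _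
    (DerivedCategory.triangleOfSES_distinguished (S.scHC_shortExact hf hfg hg)) u (hP.elim _ _)
  exact (congrArg (_ ≫ ·) (hM.elim v 0)).trans Limits.comp_zero

theorem Model.HC_unit_iso : Nonempty (DRing.toD (S.HC A) ≅ ω) ∧ IsIso (S.ev (1 : A)) := by
  have h : ∀ j, IsIso ((S.evC (1 : A)).f j) := fun j =>
    (LinearMap.ringLmapEquivSelf A A (S.E.X j)).toModuleIso.isIso_hom
  haveI : IsIso (S.evC (1 : A)) := HomologicalComplex.Hom.isIso_of_components _
  exact ⟨⟨DerivedCategory.Q.mapIso (asIso (S.evC (1 : A))) ≪≫ S.iso⟩, by rw [Model.ev]; infer_instance⟩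

variable (hω : Dual.IsDualizing A ω)
include hω

theorem Model.subsingleton_hom_HC_unit (n : ℤ) (hn : n ≠ 0) :
    Subsingleton (DRing.toD (S.HC A) ⟶ ω⟦n⟧) := by
  obtain ⟨⟨e⟩, -⟩ := S.HC_unit_iso
  exact e.homFromEquiv.subsingleton_congr.2 (hω.ext_self_subsingleton n hn)

theorem Model.subsingleton_hom_HC_free (n : ℤ) (hn : 0 < n) :
    ∀ q : ℕ, Subsingleton (DRing.toD (S.HC (Fin q → A)) ⟶ ω⟦n⟧)
  | 0 => subsingleton_of_forall_eq 0 fun u => by
    have h : 𝟙 (S.HC (Fin 0 → A)) = 0 := HomologicalComplex.hom_ext _ _ fun j =>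
      ModuleCat.hom_ext (LinearMap.ext fun φ => LinearMap.ext fun x => by
        rw [Subsingleton.elim x 0, map_zero, map_zero])
    have h' : 𝟙 (DRing.toD (S.HC (Fin 0 → A))) = 0 := by
      rw [← CategoryTheory.Functor.map_id, h, Functor.map_zero]
    rw [← Category.id_comp u, h', Limits.zero_comp]
  | q + 1 => by
    let e := (Fin.consLinearEquiv A (fun _ : Fin (q + 1) => A))
    have := S.subsingleton_hom_HC_exact (f := LinearMap.inl A A (Fin q → A))
      (g := LinearMap.snd A A (Fin q → A)) LinearMap.inl_injective .inl_snd LinearMap.snd_surjective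
      (S.subsingleton_hom_HC_unit hω n hn.ne') (Model.subsingleton_hom_HC_free n hn q)
    refine (Iso.homFromEquiv (Z := ω⟦n⟧) (DerivedCategory.Q.mapIso
      (⟨S.HCmap e.symm.toLinearMap, S.HCmap e.toLinearMap, ?_, ?_⟩ :
        S.HC (A × (Fin q → A)) ≅ S.HC (Fin (q + 1) → A)))).subsingleton_congr.1 this
    · exact HomologicalComplex.hom_ext _ _ fun j => ModuleCat.hom_ext (LinearMap.ext fun φ =>
        LinearMap.ext fun x => congrArg (fun z => (show (A × (Fin q → A)) →ₗ[A] S.E.X j from φ) z)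
          (e.symm_apply_apply x))
    · exact HomologicalComplex.hom_ext _ _ fun j => ModuleCat.hom_ext (LinearMap.ext fun φ =>
        LinearMap.ext fun x => congrArg (fun z => (show (Fin (q + 1) → A) →ₗ[A] S.E.X j from φ) z)
          (e.apply_symm_apply x))

theorem Model.subsingleton_hom_HC_pos : ∀ (k : ℕ) (n : ℤ), 0 < n → S.b - S.a < n + k →
    ∀ (M : Type u) [AddCommGroup M] [Module A M] [Module.Finite A M],
      Subsingleton (DRing.toD (S.HC M) ⟶ ω⟦n⟧)
  | 0, n, _, hk, M, _, _, _ => S.subsingleton_hom_HC_of_gt n (by omega) M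
  | k + 1, n, hn, hk, M, _, _, _ => by
    obtain ⟨q, π, hπ⟩ := Module.Finite.exists_fin' A M
    haveI hK : Subsingleton (DRing.toD (S.HC (LinearMap.ker π)) ⟶ ω⟦n + 1⟧) :=
      Model.subsingleton_hom_HC_pos k (n + 1) (by omega) (by push_cast at hk ⊢; omega) (LinearMap.ker π)
    haveI hF := S.subsingleton_hom_HC_free hω n hn q
    refine subsingleton_of_forall_eq 0 fun u => ?_
    obtain ⟨v, rfl⟩ := exists_extend (DerivedCategory.triangleOfSES_distinguished
      (S.scHC_shortExact (f := (LinearMap.ker π).subtype) Subtype.val_injective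
        (LinearMap.exact_subtype_ker_map π) hπ)) (subsingleton_shift_succ _ ω n hK) u
    exact (congrArg (_ ≫ ·) (hF.elim v 0)).trans Limits.comp_zero

theorem Model.ev_surjective_unit : Function.Surjective (S.ev (M := A)) := by
  intro u
  haveI := S.HC_unit_iso.2
  obtain ⟨a, ha⟩ := hω.toEnd_bijective.2 (inv (S.ev (1 : A)) ≫ u)
  refine ⟨a, ?_⟩
  have h : S.ev a = S.ev (1 : A) ≫ (a • 𝟙 ω) := by
    rw [Linear.comp_smul, Category.comp_id, Model.ev, Model.ev, ← Linear.smul_comp, ← Functor.map_smul]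
    congr 2
    refine HomologicalComplex.hom_ext _ _ fun j => ModuleCat.hom_ext (LinearMap.ext fun φ0 => ?_)
    obtain ⟨φ, rfl⟩ : ∃ φ : A →ₗ[A] S.E.X j, φ = φ0 := ⟨φ0, rfl⟩
    show φ a = a • φ 1
    rw [← map_smul, smul_eq_mul, mul_one]
  rw [h]
  exact (congrArg (S.ev (1 : A) ≫ ·) ha).trans (IsIso.hom_inv_id_assoc _ _)

theorem Model.ev_surjective_free : ∀ q : ℕ, Function.Surjective (S.ev (M := Fin q → A))
  | 0 => fun u => by
    refine ⟨0, ?_⟩
    have h : 𝟙 (S.HC (Fin 0 → A)) = 0 := HomologicalComplex.hom_ext _ _ fun j =>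
      ModuleCat.hom_ext (LinearMap.ext fun φ => LinearMap.ext fun x => by
        rw [Subsingleton.elim x 0, map_zero, map_zero])
    have h' : 𝟙 (DRing.toD (S.HC (Fin 0 → A))) = 0 := by
      rw [← CategoryTheory.Functor.map_id, h, Functor.map_zero]
    rw [← Category.id_comp u, ← Category.id_comp (S.ev (0 : Fin 0 → A)), h', Limits.zero_comp,
      Limits.zero_comp]
  | q + 1 => fun u => by
    let f₁ : A →ₗ[A] (Fin (q + 1) → A) :=
      (Fin.consLinearEquiv A (fun _ : Fin (q + 1) => A)).toLinearMap ∘ₗ LinearMap.inl A A (Fin q → A)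
    let g₁ : (Fin (q + 1) → A) →ₗ[A] (Fin q → A) :=
      LinearMap.snd A A (Fin q → A) ∘ₗ (Fin.consLinearEquiv A (fun _ : Fin (q + 1) => A)).symm.toLinearMap
    have hf₁ : Function.Injective f₁ :=
      (Fin.consLinearEquiv A (fun _ : Fin (q + 1) => A)).injective.comp LinearMap.inl_injective
    have hg₁ : Function.Surjective g₁ :=
      (LinearMap.snd_surjective : Function.Surjective (LinearMap.snd A A (Fin q → A))).comp (Fin.consLinearEquiv A (fun _ : Fin (q + 1) => A)).symm.surjective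
    have hex : Function.Exact f₁ g₁ := fun x => by
      obtain ⟨y, rfl⟩ := (Fin.consLinearEquiv A (fun _ : Fin (q + 1) => A)).surjective x
      simp only [f₁, g₁, LinearMap.coe_comp, LinearEquiv.coe_coe, Function.comp_apply,
        LinearEquiv.symm_apply_apply, Set.mem_range, EmbeddingLike.apply_eq_iff_eq]
      obtain ⟨y₁, y₂⟩ := y
      exact ⟨fun h => ⟨y₁, Prod.ext rfl (show (0 : Fin q → A) = y₂ from (show y₂ = 0 from h).symm)⟩,
        fun ⟨z, hz⟩ => (congrArg Prod.snd hz).symm⟩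
    obtain ⟨y, hy⟩ := Model.ev_surjective_free q (DerivedCategory.Q.map (S.HCmap g₁) ≫ u)
    obtain ⟨x, hx⟩ := hg₁ y
    obtain ⟨v, hv⟩ := Triangle.yoneda_exact₂ _
      (DerivedCategory.triangleOfSES_distinguished (S.scHC_shortExact hf₁ hex hg₁)) (u - S.ev x) (by
        refine (Preadditive.comp_sub (DerivedCategory.Q.map (S.HCmap g₁)) u (S.ev x)).trans ?_
        rw [S.comp_ev, hx, hy, sub_self])
    obtain ⟨a, ha⟩ := S.ev_surjective_unit hω v
    refine ⟨f₁ a + x, ?_⟩
    rw [S.ev_add, ← S.comp_ev f₁ a, ha, ← eq_sub_iff_add_eq]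
    exact hv.symm

theorem Model.ev_surjective (M : Type u) [AddCommGroup M] [Module A M] [Module.Finite A M] :
    Function.Surjective (S.ev (M := M)) := by
  intro u
  obtain ⟨q, π, hπ⟩ := Module.Finite.exists_fin' A M
  have hK : Subsingleton (DRing.toD (S.HC (LinearMap.ker π)) ⟶ ω⟦(1 : ℤ)⟧) :=
    S.subsingleton_hom_HC_pos hω (S.b - S.a).toNat 1 one_pos (by omega) (LinearMap.ker π)
  obtain ⟨v, hv⟩ := exists_extend (DerivedCategory.triangleOfSES_distinguished
    (S.scHC_shortExact (f := (LinearMap.ker π).subtype) Subtype.val_injective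
      (LinearMap.exact_subtype_ker_map π) hπ)) hK u
  obtain ⟨x, rfl⟩ := S.ev_surjective_free hω q v
  exact ⟨π x, (S.comp_ev π x).symm.trans hv⟩

end Groth.Agent.DualCxLib
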