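import Groth.Agent.DualCxLib.EvalK
import Groth.Agent.DualCxLib.CoindDual
import Groth.Agent.DCohLib.FiveCx
import Groth.Agent.DRingLib.TorGE
import Groth.Agent.BoundedRoofLib
import Groth.Agent.DRingLib.DualPerfect
import Mathlib.Algebra.Homology.DerivedCategory.Fractions

/-!
# Biduality for complexes with finite cohomology
-/

set_option autoImplicit false
set_option linter.style.haveILetI false
set_option backward.isDefEq.respectTransparency false
set_option maxRecDepth 4000

universe u

open CategoryTheory Limits CochainComplex CochainComplex.HomComplex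
attribute [local instance] HasDerivedCategory.standard

noncomputable section

namespace Groth.Agent.DualCxLib

open DRingLib

variable {A : Type u} [CommRing A] {ω : Dual.D A} (S : Model ω)

/-- The complex is reflexive for `Hom•(-, E)`. -/
def Refl (K : DRing.Cx A) : Prop := QuasiIso (evK S.E K)

theorem refl_iff_of_quasiIso {K K' : DRing.Cx A} (f : K ⟶ K') (hf : QuasiIso f) : Refl S K ↔ Refl S K' := by
  haveI := S.isKInjective
  haveI := hf
  haveI := quasiIso_homCxPre (homCxPre f S.E) S.E (quasiIso_homCxPre f S.E hf)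
  rw [Refl, Refl, ← quasiIso_iff_comp_right (evK S.E K) (homCxPre (homCxPre f S.E) S.E), evK_natural f,
    quasiIso_iff_comp_left f (evK S.E K')]

theorem double_shortExact {C : ShortComplex (DRing.Cx A)} (hC : C.ShortExact) :
    (homShortComplex S.E (homShortComplex S.E C)).ShortExact :=
  homShortComplex_shortExact S.inj (homShortComplex_shortExact S.inj hC)

theorem refl_τ₂ {C : ShortComplex (DRing.Cx A)} (hC : C.ShortExact) (h₁ : Refl S C.X₁) (h₃ : Refl S C.X₃) :
    Refl S C.X₂ :=
  DCohLib.quasiIso_τ₂ (evShort C) hC (double_shortExact S hC) h₁ h₃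

theorem refl_τ₃ {C : ShortComplex (DRing.Cx A)} (hC : C.ShortExact) (h₁ : Refl S C.X₁) (h₂ : Refl S C.X₂) :
    Refl S C.X₃ :=
  HomologicalComplex.HomologySequence.quasiIso_τ₃ (evShort C) hC (double_shortExact S hC) h₁ h₂

open HomologicalComplex CategoryTheory.ComposableArrows in
theorem quasiIso_τ₁ {C : Type*} [Category C] [Abelian C] {S₁ S₂ : ShortComplex (CochainComplex C ℤ)}
    (φ : S₁ ⟶ S₂) (hS₁ : S₁.ShortExact) (hS₂ : S₂.ShortExact) (h₂ : QuasiIso φ.τ₂) (h₃ : QuasiIso φ.τ₃) :
    QuasiIso φ.τ₁ := by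
  refine ⟨fun i => (quasiIsoAt_iff_isIso_homologyMap φ.τ₁ i).2 ?_⟩
  have g₂ : ∀ j, IsIso (homologyMap φ.τ₂ j) := fun j => (quasiIsoAt_iff_isIso_homologyMap φ.τ₂ j).1 (h₂.quasiIsoAt j)
  have g₃ : ∀ j, IsIso (homologyMap φ.τ₃ j) := fun j => (quasiIsoAt_iff_isIso_homologyMap φ.τ₃ j).1 (h₃.quasiIsoAt j)
  have r : (ComplexShape.up ℤ).Rel (i - 1) i := by simp
  exact Abelian.isIso_of_epi_of_isIso_of_isIso_of_mono (φ := δ₀Functor.map
      (HomologySequence.mapComposableArrows₅ φ hS₁ hS₂ (i - 1) i r))
    (HomologySequence.composableArrows₅_exact hS₁ (i - 1) i r).δ₀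
    (HomologySequence.composableArrows₅_exact hS₂ (i - 1) i r).δ₀
    (@IsIso.epi_of_iso _ _ _ _ _ (g₂ (i - 1))) (g₃ (i - 1)) (g₂ i) (@IsIso.mono_of_iso _ _ _ _ _ (g₃ i))

theorem refl_τ₁ {C : ShortComplex (DRing.Cx A)} (hC : C.ShortExact) (h₂ : Refl S C.X₂) (h₃ : Refl S C.X₃) :
    Refl S C.X₁ :=
  quasiIso_τ₁ (evShort C) hC (double_shortExact S hC) h₂ h₃

theorem isZero_double_hom {K : DRing.Cx A} (hK : IsZero K) (E : DRing.Cx A) :
    IsZero (DRing.homCx (DRing.homCx K E) E) := by
  rw [IsZero.iff_id_eq_zero] at hK ⊢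
  rw [← homCxPre_id E (P := DRing.homCx K E), ← homCxPre_id E (P := K), hK, homCxPre_zero, homCxPre_zero]

theorem refl_of_isZero {K : DRing.Cx A} (hK : IsZero K) : Refl S K := by
  haveI : IsIso (evK S.E K) :=
    ⟨0, hK.eq_of_src _ _, (isZero_double_hom hK S.E).eq_of_src _ _⟩
  exact inferInstanceAs (QuasiIso (evK S.E K))

open scoped ZeroObject in
theorem refl_of_acyclic {K : DRing.Cx A} (hK : K.Acyclic) : Refl S K := by
  let Z : DRing.Cx A := 0
  have hZ : IsZero Z := isZero_zero _
  have h : QuasiIso (0 : K ⟶ Z) := ⟨fun i => by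
    rw [quasiIsoAt_iff_exactAt _ _ (hK i)]
    exact HomologicalComplex.ExactAt.of_isZero
      ((HomologicalComplex.eval (ModuleCat.{u} A) (ComplexShape.up ℤ) i).map_isZero hZ)⟩
  exact (refl_iff_of_quasiIso S (0 : K ⟶ Z) h).2 (refl_of_isZero S hZ)

section Base

variable (M : Type u) [AddCommGroup M] [Module A M]

/-- A module in degree zero. -/
abbrev sng₀ : DRing.Cx A := (CochainComplex.singleFunctor (ModuleCat.{u} A) 0).obj (ModuleCat.of A M)

/-- The terms of the Hom complex out of a module. -/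
def homSingleEquiv (n : ℤ) : Cochain (sng₀ (A := A) M) S.E n ≃ₗ[A] (M →ₗ[A] S.E.X n) where
  toFun z := (Cochain.fromSingleEquiv (zero_add n) z).hom
  map_add' z z' := by rw [map_add]; rfl
  map_smul' a z := LinearMap.ext fun x => rfl
  invFun f := (Cochain.fromSingleEquiv (zero_add n)).symm (ModuleCat.ofHom f)
  left_inv z := AddEquiv.symm_apply_apply _ _
  right_inv f := by
    show (Cochain.fromSingleEquiv (zero_add n) ((Cochain.fromSingleEquiv (zero_add n)).symm (ModuleCat.ofHom f))).hom = f
    rw [AddEquiv.apply_symm_apply]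
    rfl

/-- The Hom complex out of a module. -/
def homSingleIso : DRing.homCx (sng₀ (A := A) M) S.E ≅ S.HC M :=
  HomologicalComplex.Hom.isoOfComponents (fun n => (homSingleEquiv S M n).toModuleIso) fun i j hij => by
    obtain rfl : i + 1 = j := hij
    refine ModuleCat.hom_ext (LinearMap.ext fun (z : Cochain (sng₀ (A := A) M) S.E i) => ?_)
    obtain ⟨f, rfl⟩ := Cochain.fromSingleMk_surjective z i (zero_add i)
    show LinearMap.llcomp A M _ _ (S.E.d i (i + 1)).hom (homSingleEquiv S M i (Cochain.fromSingleMk f (zero_add i))) =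
      homSingleEquiv S M (i + 1) (CochainComplex.HomComplex.δ i (i + 1) (Cochain.fromSingleMk f (zero_add i)))
    rw [Cochain.δ_fromSingleMk f (zero_add i) (i + 1) (i + 1) (zero_add (i + 1))]
    show _ = (Cochain.fromSingleEquiv (zero_add (i + 1)) (Cochain.fromSingleMk (f ≫ S.E.d i (i + 1)) (zero_add (i + 1)))).hom
    rw [Cochain.fromSingleEquiv_fromSingleMk]
    show LinearMap.llcomp A M _ _ (S.E.d i (i + 1)).hom
      ((Cochain.fromSingleEquiv (zero_add i) (Cochain.fromSingleMk f (zero_add i))).hom) = _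
    rw [Cochain.fromSingleEquiv_fromSingleMk]
    rfl

/-- An element as an element of degree zero. -/
def elt₀ (m : M) : (sng₀ (A := A) M).X 0 :=
  (HomologicalComplex.singleObjXSelf (ComplexShape.up ℤ) 0 (ModuleCat.of A M)).inv.hom m

theorem evCochain_elt₀ (m : M) : evCochain (E := S.E) (sng₀ (A := A) M) 0 (elt₀ M m) =
    Cochain.ofHom ((homSingleIso S M).hom ≫ S.evC m) := by
  refine Cochain.ext _ _ fun p q h => ModuleCat.hom_ext (LinearMap.ext fun φ => ?_)
  obtain rfl : p = q := by omega
  rw [evCochain_v (sng₀ (A := A) M) 0 (elt₀ M m) p p h φ, Cochain.ofHom_v, zero_mul, Int.negOnePow_zero,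
    Units.val_one, one_smul]
  rfl

theorem refl_single [IsNoetherianRing A] [Module.Finite A M] (hω : Dual.IsDualizing A ω) :
    Refl S (sng₀ (A := A) M) := by
  haveI := S.isKInjective
  let K := sng₀ (A := A) M
  let H := DRing.homCx K S.E
  let ι := homSingleIso S M
  have hK : ∀ n : ℤ, n ≠ 0 → Subsingleton (K.X n) := fun n hn => ModuleCat.subsingleton_of_isZero
    (HomologicalComplex.isZero_single_obj_X (ComplexShape.up ℤ) 0 (ModuleCat.of A M) n hn)
  have hd : ∀ (i j : ℤ) (x : K.X i), (K.d i j).hom x = 0 := fun i j x => by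
    rw [show K.d i j = 0 from HomologicalComplex.single_obj_d _ _ _ _ _]
    rfl
  refine quasiIso_of_elements (evK S.E K) (fun n x _ hw => ?_) (fun n y hy => ?_)
  · refine ⟨0, ?_⟩
    rw [map_zero]
    by_cases hn : n = 0
    · subst hn
      rw [show (0 : ℤ) - 1 = -1 by norm_num] at hw
      obtain ⟨w, hw⟩ := hw
      obtain ⟨m, rfl⟩ : ∃ m : M, elt₀ M m = x :=
        (HomologicalComplex.singleObjXSelf (ComplexShape.up ℤ) 0 (ModuleCat.of A M)).symm.toLinearEquiv.surjective x
      have hw' : Cochain.ofHom (ι.hom ≫ S.evC m) = CochainComplex.HomComplex.δ (-1) 0 (w : Cochain H S.E (-1)) + Cochain.ofHom (0 : H ⟶ S.E) := by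
        rw [Cochain.ofHom_zero, add_zero, ← evCochain_elt₀]
        exact hw.symm
      have h0 : DerivedCategory.Q.map (ι.hom ≫ S.evC m) = 0 := by
        rw [DerivedCategory.Q_map_eq_of_homotopy (C := ModuleCat.{u} A)
          ((Cochain.equivHomotopy (ι.hom ≫ S.evC m) 0).symm ⟨w, hw'⟩), Functor.map_zero]
      rw [Functor.map_comp] at h0
      have h1 : S.ev m = 0 := by
        rw [Model.ev, ← cancel_epi (DerivedCategory.Q.map ι.hom), ← Category.assoc, h0, zero_comp, comp_zero]
      rw [(S.ev_bijective hω M).1 (h1.trans (S.ev_zero M).symm)]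
      exact ((HomologicalComplex.singleObjXSelf (ComplexShape.up ℤ) 0 (ModuleCat.of A M)).inv.hom.map_zero).symm
    · haveI := hK n hn
      exact Subsingleton.elim _ _
  · let z : Cocycle H S.E n := Cocycle.mk (y : Cochain H S.E n) (n + 1) rfl hy
    by_cases hn : n = 0
    · subst hn
      let g := Cocycle.homOf z
      obtain ⟨m, hm⟩ := (S.ev_bijective hω M).2 (DerivedCategory.Q.map (ι.inv ≫ g) ≫ S.iso.hom)
      rw [Model.ev, cancel_mono] at hm
      have h1 : DerivedCategory.Q.map (ι.hom ≫ S.evC m) = DerivedCategory.Q.map g := by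
        rw [Functor.map_comp, hm, ← Functor.map_comp, ι.hom_inv_id_assoc]
      have h2 := (CochainComplex.IsKInjective.Qh_map_bijective
        ((HomotopyCategory.quotient (ModuleCat.{u} A) (ComplexShape.up ℤ)).obj H) S.E).1
        (a₁ := (HomotopyCategory.quotient _ _).map (ι.hom ≫ S.evC m))
        (a₂ := (HomotopyCategory.quotient _ _).map g) h1
      obtain ⟨w, hw⟩ := Cochain.equivHomotopy _ _ (HomotopyCategory.homotopyOfEq _ _ h2)
      rw [show (0 : ℤ) - 1 = -1 by norm_num]
      refine ⟨elt₀ M m, w, hd _ _ _, ?_⟩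
      refine (evCochain_elt₀ S M m).trans (hw.trans ?_)
      rw [add_comm, show Cochain.ofHom g = (z : Cochain H S.E 0) from Cocycle.cochain_ofHom_homOf_eq_coe z]
      rfl
    · haveI := S.subsingleton_hom_HC hω n hn M
      haveI : Subsingleton (DerivedCategory.Q.obj H ⟶ DerivedCategory.Q.obj (S.E⟦n⟧)) :=
        (Iso.homCongr (DerivedCategory.Q.mapIso ι) ((DerivedCategory.Q.commShiftIso n).app S.E ≪≫
          (CategoryTheory.shiftFunctor (Dual.D A) n).mapIso S.iso)).subsingleton
      have h0 : CohomologyClass.toHom (CohomologyClass.mk z) = 0 :=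
        (CochainComplex.IsKInjective.Qh_map_bijective
          ((HomotopyCategory.quotient (ModuleCat.{u} A) (ComplexShape.up ℤ)).obj H) (S.E⟦n⟧)).1
          (@Subsingleton.elim (DerivedCategory.Q.obj H ⟶ DerivedCategory.Q.obj (S.E⟦n⟧)) _ _ _)
      obtain ⟨m, hm, β, hβ⟩ := (CohomologyClass.toHom_mk_eq_zero_iff z).1 h0
      obtain rfl : m = n - 1 := by omega
      refine ⟨0, -β, map_zero _, ?_⟩
      have h1 : (0 : Cochain H S.E n) = (z : Cochain H S.E n) + CochainComplex.HomComplex.δ (n - 1) n (-β) := by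
        rw [δ_neg, hβ, add_neg_cancel]
      exact (map_zero ((evK S.E K).f n).hom).trans h1

end Base

section Bounded

variable [IsNoetherianRing A] (hω : Dual.IsDualizing A ω)

omit [IsNoetherianRing A] in
open HomologicalComplex in
theorem single_step (M : ModuleCat.{u} A) (a : ℤ) :
    Refl S ((single (ModuleCat.{u} A) (ComplexShape.up ℤ) a).obj M) ↔
      Refl S ((single (ModuleCat.{u} A) (ComplexShape.up ℤ) (a - 1)).obj M) := by
  have hr : (ComplexShape.up ℤ).Rel (a - 1) a := by simp
  have hne : a - 1 ≠ a := by omega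
  let D := double (𝟙 M) hr
  let f : (single (ModuleCat.{u} A) (ComplexShape.up ℤ) a).obj M ⟶ D :=
    mkHomFromSingle (doubleXIso₁ _ hr hne).inv fun k hk =>
      (isZero_double_X (𝟙 M) hr k (by simp at hk; omega) (by simp at hk; omega)).eq_of_tgt _ _
  let g : D ⟶ (single (ModuleCat.{u} A) (ComplexShape.up ℤ) (a - 1)).obj M :=
    mkHomToSingle (doubleXIso₀ _ hr).hom fun k hk => by
      rw [double_d_eq_zero₀ _ _ _ _ (by simp at hk; omega), zero_comp]
  haveI hfi : IsIso (f.f a) := by
    rw [show f.f a = (singleObjXSelf (ComplexShape.up ℤ) a M).hom ≫ (doubleXIso₁ (𝟙 M) hr hne).inv from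
      mkHomFromSingle_f _ _]
    infer_instance
  haveI hgi : IsIso (g.f (a - 1)) := by
    rw [show g.f (a - 1) = (doubleXIso₀ (𝟙 M) hr).hom ≫ (singleObjXSelf (ComplexShape.up ℤ) (a - 1) M).inv from
      mkHomToSingle_f _ _]
    infer_instance
  have hfg : f ≫ g = 0 := HomologicalComplex.hom_ext _ _ fun i => by
    by_cases h : i = a
    · exact (isZero_single_obj_X (ComplexShape.up ℤ) (a - 1) M i (by omega)).eq_of_tgt _ _
    · exact (isZero_single_obj_X (ComplexShape.up ℤ) a M i h).eq_of_src _ _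
  have hC : (ShortComplex.mk f g hfg).ShortExact := by
    refine shortExact_of_degreewise_shortExact _ fun i => ?_
    have z1 : i ≠ a → IsZero (((single (ModuleCat.{u} A) (ComplexShape.up ℤ) a).obj M).X i) :=
      fun h => isZero_single_obj_X (ComplexShape.up ℤ) a M i h
    have z3 : i ≠ a - 1 → IsZero (((single (ModuleCat.{u} A) (ComplexShape.up ℤ) (a - 1)).obj M).X i) :=
      fun h => isZero_single_obj_X (ComplexShape.up ℤ) (a - 1) M i h
    have z2 : i ≠ a → i ≠ a - 1 → IsZero (D.X i) := fun h h' => isZero_double_X (𝟙 M) hr i h' h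
    by_cases h : i = a
    · subst h
      exact (ShortComplex.Splitting.ofIsIsoOfIsZero _ hfi (z3 (by omega))).shortExact
    · by_cases h' : i = a - 1
      · subst h'
        exact (ShortComplex.Splitting.ofIsZeroOfIsIso _ (z1 h) hgi).shortExact
      · exact ShortComplex.Splitting.shortExact
          { r := 0, s := 0, f_r := (z1 h).eq_of_src _ _
            s_g := (z3 h').eq_of_src _ _
            id := (z2 h h').eq_of_src _ _ }
  have hD : D.Acyclic := fun i => by
    by_cases h : i = a
    · subst h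
      rw [exactAt_iff' _ (i - 1) i (i + 1) (by simp) (by simp)]
      haveI : IsIso (D.d (i - 1) i) := by rw [show D.d (i - 1) i = _ from double_d _ hr hne]; infer_instance
      exact ((D.sc' (i - 1) i (i + 1)).exact_iff_epi
        ((isZero_double_X (𝟙 M) hr (i + 1) (by omega) (by omega)).eq_of_tgt _ _)).2 (inferInstanceAs (Epi (D.d (i - 1) i)))
    · by_cases h' : i = a - 1
      · subst h'
        rw [exactAt_iff' _ (a - 1 - 1) (a - 1) a (by simp) (by simp)]
        haveI : IsIso (D.d (a - 1) a) := by rw [show D.d (a - 1) a = _ from double_d _ hr hne]; infer_instance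
        exact ((D.sc' (a - 1 - 1) (a - 1) a).exact_iff_mono
          ((isZero_double_X (𝟙 M) hr (a - 1 - 1) (by omega) (by omega)).eq_of_src _ _)).2
          (inferInstanceAs (Mono (D.d (a - 1) a)))
      · exact ExactAt.of_isZero (isZero_double_X (𝟙 M) hr i h' h)
  exact ⟨fun h => refl_τ₃ S hC h (refl_of_acyclic S hD), fun h => refl_τ₁ S hC (refl_of_acyclic S hD) h⟩

include hω

open HomologicalComplex in
theorem refl_single_any (M : ModuleCat.{u} A) [Module.Finite A M] (a : ℤ) :
    Refl S ((single (ModuleCat.{u} A) (ComplexShape.up ℤ) a).obj M) := by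
  induction a using Int.induction_on with
  | zero => exact refl_single S M hω
  | succ i ih => exact (single_step S M ((i : ℤ) + 1)).2 (by rwa [add_sub_cancel_right])
  | pred i ih => exact (single_step S M (-(i : ℤ))).1 ih

omit hω in
omit [IsNoetherianRing A] in
theorem finite_homology_of_quasiIsoAt {K L : DRing.Cx A} (f : K ⟶ L) (i : ℤ) (hf : QuasiIsoAt f i)
    (h : Module.Finite A (L.homology i)) : Module.Finite A (K.homology i) := by
  haveI := hf
  haveI := h
  exact Module.Finite.equiv (isoOfQuasiIsoAt f i).symm.toLinearEquiv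

omit hω in
omit [IsNoetherianRing A] in
theorem finite_homology_of_quasiIsoAt' {K L : DRing.Cx A} (f : K ⟶ L) (i : ℤ) (hf : QuasiIsoAt f i)
    (h : Module.Finite A (K.homology i)) : Module.Finite A (L.homology i) := by
  haveI := hf
  haveI := h
  exact Module.Finite.equiv (isoOfQuasiIsoAt f i).toLinearEquiv

omit hω in
omit [IsNoetherianRing A] in
theorem finite_homology_of_exactAt {K : DRing.Cx A} (i : ℤ) (h : K.ExactAt i) : Module.Finite A (K.homology i) := by
  haveI : Subsingleton (K.homology i) := ModuleCat.subsingleton_of_isZero h.isZero_homology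
  infer_instance

omit hω in
omit [IsNoetherianRing A] in
theorem finite_truncLE {K : DRing.Cx A} (hK : ∀ i, Module.Finite A (K.homology i)) (n i : ℤ) :
    Module.Finite A ((K.truncLE n).homology i) := by
  rcases le_or_gt i n with hi | hi
  · exact finite_homology_of_quasiIsoAt (K.ιTruncLE n) i (K.quasiIsoAt_ιTruncLE n i hi) (hK i)
  · exact finite_homology_of_exactAt i (HomologicalComplex.ExactAt.of_isZero ((K.truncLE n).isZero_of_isStrictlyLE n i hi))

omit hω in
omit [IsNoetherianRing A] in
theorem finite_truncGE {K : DRing.Cx A} (hK : ∀ i, Module.Finite A (K.homology i)) (n i : ℤ) :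
    Module.Finite A ((K.truncGE n).homology i) := by
  rcases le_or_gt n i with hi | hi
  · exact finite_homology_of_quasiIsoAt' (K.πTruncGE n) i (K.quasiIsoAt_πTruncGE n i hi) (hK i)
  · exact finite_homology_of_exactAt i (HomologicalComplex.ExactAt.of_isZero ((K.truncGE n).isZero_of_isStrictlyGE n i hi))

omit hω in
omit [IsNoetherianRing A] in
theorem finiteCx_induction (P : DRing.Cx A → Prop) (hiso : ∀ {K L : DRing.Cx A} (f : K ⟶ L), QuasiIso f → (P K ↔ P L))
    (hext : ∀ {C : ShortComplex (DRing.Cx A)}, C.ShortExact → P C.X₁ → P C.X₃ → P C.X₂)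
    (hsingle : ∀ (M : ModuleCat.{u} A) [Module.Finite A M] (a : ℤ),
      P ((HomologicalComplex.single (ModuleCat.{u} A) (ComplexShape.up ℤ) a).obj M)) :
    ∀ (k : ℕ) (a : ℤ) (K : DRing.Cx A), (∀ i, i < a ∨ a + k < i → K.ExactAt i) →
      (∀ i, Module.Finite A (K.homology i)) → P K
  | 0, a, K, hex, hfin => by
    let K' := K.truncLE a
    have hι : QuasiIso (K.ιTruncLE a) := ⟨fun i => by
      rcases le_or_gt i a with hi | hi
      · exact K.quasiIsoAt_ιTruncLE a i hi
      · exact (quasiIsoAt_iff_exactAt' _ _ (hex i (Or.inr (by omega)))).2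
          (HomologicalComplex.ExactAt.of_isZero (K'.isZero_of_isStrictlyLE a i hi))⟩
    have hπ : QuasiIso (K'.πTruncGE a) := ⟨fun i => by
      rcases le_or_gt a i with hi | hi
      · exact K'.quasiIsoAt_πTruncGE a i hi
      · refine (quasiIsoAt_iff_exactAt' _ _ (HomologicalComplex.ExactAt.of_isZero
          ((K'.truncGE a).isZero_of_isStrictlyGE a i hi))).2 ?_
        haveI := hι.quasiIsoAt i
        exact (exactAt_iff_of_quasiIsoAt (K.ιTruncLE a) i).2 (hex i (Or.inl hi))⟩
    refine (hiso _ hι).1 ((hiso _ hπ).2 ?_)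
    obtain ⟨M, ⟨e⟩⟩ := CochainComplex.exists_iso_single (K'.truncGE a) a
    haveI : Module.Finite A M := by
      haveI : Module.Finite A ((HomologicalComplex.homologyFunctor (ModuleCat.{u} A) (ComplexShape.up ℤ) a).obj
        (K'.truncGE a)) := finite_truncGE (finite_truncLE hfin a) a a
      exact Module.Finite.equiv ((HomologicalComplex.homologyFunctor (ModuleCat.{u} A) (ComplexShape.up ℤ) a).mapIso e ≪≫
        HomologicalComplex.singleObjHomologySelfIso (ComplexShape.up ℤ) a M).toLinearEquiv
    exact (hiso e.hom inferInstance).2 (hsingle M a)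
  | k + 1, a, K, hex, hfin => by
    refine hext (K.shortComplexTruncLE_shortExact a) ?_ ?_
    · refine finiteCx_induction P hiso hext hsingle 0 a (K.truncLE a) (fun i hi => ?_) (finite_truncLE hfin a)
      rcases le_or_gt i a with h | h
      · haveI := K.quasiIsoAt_ιTruncLE a i h
        exact (exactAt_iff_of_quasiIsoAt (K.ιTruncLE a) i).2 (hex i (by omega))
      · exact HomologicalComplex.ExactAt.of_isZero ((K.truncLE a).isZero_of_isStrictlyLE a i h)
    · refine (hiso (K.shortComplexTruncLEX₃ToTruncGE a (a + 1)) inferInstance).2 ?_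
      refine finiteCx_induction P hiso hext hsingle k (a + 1) (K.truncGE (a + 1)) (fun i hi => ?_) (finite_truncGE hfin (a + 1))
      rcases le_or_gt (a + 1) i with h | h
      · haveI := K.quasiIsoAt_πTruncGE (a + 1) i h
        exact (exactAt_iff_of_quasiIsoAt (K.πTruncGE (a + 1)) i).1 (hex i (by push_cast; omega))
      · exact HomologicalComplex.ExactAt.of_isZero ((K.truncGE (a + 1)).isZero_of_isStrictlyGE (a + 1) i h)

theorem refl_bounded (k : ℕ) (a : ℤ) (K : DRing.Cx A) (hex : ∀ i, i < a ∨ a + k < i → K.ExactAt i)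
    (hfin : ∀ i, Module.Finite A (K.homology i)) : Refl S K :=
  finiteCx_induction (Refl S) (fun f hf => refl_iff_of_quasiIso S f hf) (fun hC h1 h3 => refl_τ₂ S hC h1 h3)
    (fun M _ a => refl_single_any S hω M a) k a K hex hfin

/-- Complexes with finite cohomology are reflexive. -/
theorem refl_of_finite (K : DRing.Cx A) (hfin : ∀ i, Module.Finite A (K.homology i)) : Refl S K := by
  refine ⟨fun j => ?_⟩
  let N := (S.b - S.a).toNat
  let lo : ℤ := j - 2 - N
  let hi : ℤ := j + 2 + N
  let K' := K.truncLE hi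
  have h1 := quasiIsoAt_evK_iff (K.ιTruncLE hi) S.vanishes j N (Int.self_le_toNat _) fun p _ h2 =>
    BoundedRoofLib.isIso_ιTruncLE_f K hi p (by omega)
  have h2 := quasiIsoAt_evK_iff (K'.πTruncGE lo) S.vanishes j N (Int.self_le_toNat _) fun p h1 _ =>
    DRingLib.isIso_πTruncGE_f K' lo p (by omega)
  refine h1.1 (h2.2 ((refl_bounded S hω (hi - lo).toNat lo (K'.truncGE lo) (fun i hi' => ?_)
    (finite_truncGE (finite_truncLE hfin hi) lo)).quasiIsoAt j))
  rcases le_or_gt lo i with h | h
  · haveI := K'.quasiIsoAt_πTruncGE lo i h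
    refine (exactAt_iff_of_quasiIsoAt (K'.πTruncGE lo) i).1
      (HomologicalComplex.ExactAt.of_isZero (K'.isZero_of_isStrictlyLE hi i ?_))
    omega
  · exact HomologicalComplex.ExactAt.of_isZero ((K'.truncGE lo).isZero_of_isStrictlyGE lo i h)

/-- The dual of a complex. -/
abbrev dualK (K : DRing.Cx A) : DRing.Cx A := DRing.homCx K S.E

theorem finite_dual_single (M : ModuleCat.{u} A) [Module.Finite A M] (a n : ℤ) :
    Module.Finite A ((dualK S ((HomologicalComplex.single (ModuleCat.{u} A) (ComplexShape.up ℤ) a).obj M)).homology n) := by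
  let K := (HomologicalComplex.single (ModuleCat.{u} A) (ComplexShape.up ℤ) a).obj M
  let D := dualK S K
  let T := D.sc' (n - 1) n (n + 1)
  haveI : Module.Finite A (S.T M (a + n)) := by
    haveI := finite_HK' hω (a + n) M
    exact Module.Finite.equiv (S.equivHK M (a + n)).symm
  suffices Module.Finite A T.moduleCatLeftHomologyData.H from
    Module.Finite.equiv (HomologicalComplex.homologyIsoSc' D (n - 1) n (n + 1) (by simp) (by simp) ≪≫
      T.moduleCatHomologyIso).toLinearEquiv.symm
  let mk : (M →ₗ[A] S.E.X (a + n)) →ₗ[A] Cochain K S.E n :=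
    { toFun := fun f => Cochain.fromSingleMk (ModuleCat.ofHom f) rfl
      map_add' := fun f g => Cochain.fromSingleMk_add (ModuleCat.ofHom f) (ModuleCat.ofHom g) rfl
      map_smul' := fun r f => by
        rw [RingHom.id_apply]
        refine Cochain.ext _ _ fun p q h => ?_
        rw [Cochain.smul_v]
        by_cases hp : p = a
        · subst hp
          obtain rfl : p + n = q := h
          rw [Cochain.fromSingleMk_v, Cochain.fromSingleMk_v]
          exact CategoryTheory.Linear.comp_smul _ _ _ _ r _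
        · exact (HomologicalComplex.isZero_single_obj_X (ComplexShape.up ℤ) a M p hp).eq_of_src _ _ }
  have hmk : ∀ f : S.Z M (a + n), mk f.1 ∈ LinearMap.ker T.g.hom := fun f => by
    show CochainComplex.HomComplex.δ n (n + 1) (Cochain.fromSingleMk (ModuleCat.ofHom f.1) rfl) = 0
    rw [Cochain.δ_fromSingleMk _ rfl (n + 1) (a + n + 1) (by ring), S.comp_d_eq_zero f]
    exact Cochain.fromSingleMk_zero _ _ _ _ _ _
  let Ψ : S.Z M (a + n) →ₗ[A] (LinearMap.ker T.g.hom ⧸ LinearMap.range T.moduleCatToCycles) :=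
    (LinearMap.range T.moduleCatToCycles).mkQ ∘ₗ (mk ∘ₗ (S.Z M (a + n)).subtype).codRestrict (LinearMap.ker T.g.hom) hmk
  have hB : S.B M (a + n) ≤ LinearMap.ker Ψ := fun f hf => by
    obtain ⟨g, hg⟩ := hf
    refine (Submodule.Quotient.mk_eq_zero _).2 ⟨Cochain.fromSingleMk (ModuleCat.ofHom g)
      (show a + (n - 1) = a + n - 1 by ring), Subtype.ext ?_⟩
    show CochainComplex.HomComplex.δ (n - 1) n _ = mk f.1
    rw [Cochain.δ_fromSingleMk _ _ n (a + n) rfl]
    show Cochain.fromSingleMk _ (rfl : a + n = a + n) = Cochain.fromSingleMk (ModuleCat.ofHom f.1) (rfl : a + n = a + n)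
    congr 1
    exact ModuleCat.hom_ext hg
  refine Module.Finite.of_surjective ((S.B M (a + n)).liftQ Ψ hB) fun x => ?_
  obtain ⟨⟨z, hz⟩, rfl⟩ := Submodule.Quotient.mk_surjective _ x
  obtain ⟨f, rfl⟩ := Cochain.fromSingleMk_surjective (show Cochain K S.E n from z) (a + n) rfl
  have hf : f.hom ∈ S.Z M (a + n) := (S.mem_Z _).2 fun x => by
    have h1 : CochainComplex.HomComplex.δ n (n + 1) (Cochain.fromSingleMk f (rfl : a + n = a + n)) = 0 := hz
    rw [Cochain.δ_fromSingleMk _ _ (n + 1) (a + n + 1) (by ring)] at h1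
    have h2 := congrArg (Cochain.fromSingleEquiv (show a + (n + 1) = a + n + 1 by ring)) h1
    rw [map_zero] at h2
    erw [Cochain.fromSingleEquiv_fromSingleMk] at h2
    exact congr($(h2).hom x)
  exact ⟨Submodule.Quotient.mk ⟨f.hom, hf⟩, rfl⟩

omit hω in
omit [IsNoetherianRing A] in
theorem finite_dual_iff_of_quasiIso {K L : DRing.Cx A} (f : K ⟶ L) (hf : QuasiIso f) (n : ℤ) :
    Module.Finite A ((dualK S K).homology n) ↔ Module.Finite A ((dualK S L).homology n) := by
  haveI := S.isKInjective
  haveI := quasiIso_homCxPre f S.E hf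
  exact ⟨fun h => finite_homology_of_quasiIsoAt (homCxPre f S.E) n inferInstance h,
    fun h => finite_homology_of_quasiIsoAt' (homCxPre f S.E) n inferInstance h⟩

theorem finite_dual (K : DRing.Cx A) (hfin : ∀ i, Module.Finite A (K.homology i)) (n : ℤ) :
    Module.Finite A ((dualK S K).homology n) := by
  let lo : ℤ := S.a - n - 2
  let hi : ℤ := S.b - n + 2
  let K' := K.truncLE hi
  have h1 : QuasiIsoAt (homCxPre (K.ιTruncLE hi) S.E) n := quasiIsoAt_of_isIso_f _ n fun p _ _ =>
    isIso_homCxPre_f _ S.vanishes p fun q _ _ => BoundedRoofLib.isIso_ιTruncLE_f K hi q (by omega)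
  have h2 : QuasiIsoAt (homCxPre (K'.πTruncGE lo) S.E) n := quasiIsoAt_of_isIso_f _ n fun p _ _ =>
    isIso_homCxPre_f _ S.vanishes p fun q _ _ => DRingLib.isIso_πTruncGE_f K' lo q (by omega)
  refine finite_homology_of_quasiIsoAt _ n h1 (finite_homology_of_quasiIsoAt' _ n h2 ?_)
  refine finiteCx_induction (fun L => ∀ m, Module.Finite A ((dualK S L).homology m))
    (fun f hf => forall_congr' fun m => finite_dual_iff_of_quasiIso S f hf m) (fun hC h1 h3 m => ?_)
    (fun M _ a m => finite_dual_single S hω M a m) (hi - lo).toNat lo (K'.truncGE lo) (fun i hi' => ?_)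
    (finite_truncGE (finite_truncLE hfin hi) lo) n
  · haveI : Module.Finite A ((homShortComplex S.E _).X₃.homology m) := h1 m
    haveI : Module.Finite A ((homShortComplex S.E _).X₁.homology m) := h3 m
    exact finite_of_exact
      ((ShortComplex.ShortExact.moduleCat_exact_iff_function_exact _).1 ((homShortComplex_shortExact S.inj hC).homology_exact₂ m))
  · rcases le_or_gt lo i with h | h
    · haveI := K'.quasiIsoAt_πTruncGE lo i h
      refine (exactAt_iff_of_quasiIsoAt (K'.πTruncGE lo) i).1
        (HomologicalComplex.ExactAt.of_isZero (K'.isZero_of_isStrictlyLE hi i ?_))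
      omega
    · exact HomologicalComplex.ExactAt.of_isZero ((K'.truncGE lo).isZero_of_isStrictlyGE lo i h)

end Bounded

section Derived

theorem nonempty_RHomCx_model (K : DRing.Cx A) [DRing.HasRHomCx K] :
    Nonempty ((DRing.RHomCx K).obj ω ≅ DRing.toD (dualK S K)) := by
  haveI := S.isKInjective
  obtain ⟨e⟩ := nonempty_RHomCx_kInjective K S.E
  exact ⟨(DRing.RHomCx K).mapIso S.iso.symm ≪≫ e⟩

theorem nonempty_dualK_congr {K L : DRing.Cx A} (e : DRing.toD K ≅ DRing.toD L) :
    Nonempty (DRing.toD (dualK S K) ≅ DRing.toD (dualK S L)) := by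
  haveI := S.isKInjective
  let φ : DerivedCategory.Q.obj K ⟶ DerivedCategory.Q.obj L := e.hom
  haveI : IsIso φ := inferInstanceAs (IsIso e.hom)
  obtain ⟨X, s, hs, g, hg⟩ := DerivedCategory.right_fac φ
  haveI := hs
  haveI : IsIso (DerivedCategory.Q.map g) := by
    rw [show DerivedCategory.Q.map g = DerivedCategory.Q.map s ≫ φ by rw [hg, IsIso.hom_inv_id_assoc]]
    infer_instance
  haveI := isIso_Q_of_qis _ (quasiIso_homCxPre s S.E ((DerivedCategory.isIso_Q_map_iff_quasiIso (φ := s)).1 hs))
  haveI := isIso_Q_of_qis _ (quasiIso_homCxPre g S.E ((DerivedCategory.isIso_Q_map_iff_quasiIso (φ := g)).1 inferInstance))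
  exact ⟨asIso (DerivedCategory.Q.map (homCxPre s S.E)) ≪≫ (asIso (DerivedCategory.Q.map (homCxPre g S.E))).symm⟩

/-- Cohomology in the derived category of the class of a complex. -/
def hdToDEquiv (K : DRing.Cx A) (i : ℤ) : Dual.HD A (DRing.toD K) i ≃ₗ[A] K.homology i :=
  ((DerivedCategory.homologyFunctorFactors (ModuleCat.{u} A) i).app K).toLinearEquiv

theorem finite_homology_of_HD {K : DRing.Cx A} (h : ∀ i, Module.Finite A (Dual.HD A (DRing.toD K) i)) (i : ℤ) :
    Module.Finite A (K.homology i) := by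
  haveI := h i
  exact Module.Finite.equiv (hdToDEquiv K i)

include S in
/-- Finiteness and biduality. -/
theorem biduality [IsNoetherianRing A] (hω : Dual.IsDualizing A ω) (K : DRing.Cx A) [DRing.HasRHomCx K]
    (hK : ∀ i : ℤ, Module.Finite A (Dual.HD A (DRing.toD K) i)) :
    (∀ i : ℤ, Module.Finite A (Dual.HD A ((DRing.RHomCx K).obj ω) i)) ∧
      ∀ (E : DRing.Cx A) [DRing.HasRHomCx E], Nonempty (DRing.toD E ≅ (DRing.RHomCx K).obj ω) →
        Nonempty ((DRing.RHomCx E).obj ω ≅ DRing.toD K) := by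
  obtain ⟨eK⟩ := nonempty_RHomCx_model S K
  have hK' := finite_homology_of_HD hK
  refine ⟨fun i => ?_, fun E _ ⟨e⟩ => ?_⟩
  · haveI := finite_dual S hω K hK' i
    exact Module.Finite.equiv ((hdToDEquiv (dualK S K) i).symm.trans
      ((DerivedCategory.homologyFunctor (ModuleCat.{u} A) i).mapIso eK).toLinearEquiv.symm)
  · obtain ⟨eE⟩ := nonempty_RHomCx_model S E
    obtain ⟨c⟩ := nonempty_dualK_congr S (e ≪≫ eK)
    haveI := isIso_Q_of_qis _ (refl_of_finite S hω K hK')
    exact ⟨eE ≪≫ c ≪≫ (asIso (DerivedCategory.Q.map (evK S.E K))).symm⟩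

end Derived

end Groth.Agent.DualCxLib
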