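import Groth.Agent.DualCxLib.Local
import Groth.Agent.CAlgBasics.ReflexiveDepth
import Mathlib.RingTheory.Spectrum.Prime.Topology

/-!
# The Cohen–Macaulay locus through a dualizing complex
-/

set_option autoImplicit false
set_option backward.isDefEq.respectTransparency false

universe u

open CategoryTheory IsLocalRing
attribute [local instance] HasDerivedCategory.standard

noncomputable section

namespace Groth.Agent.DualCxLib

variable {A : Type u} [CommRing A] [IsNoetherianRing A] {ω : Dual.D A} (hω : Dual.IsDualizing A ω)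
include hω

theorem cm_localization_iff (p : PrimeSpectrum A) :
    LocCoh.IsCohenMacaulayLocalRing (Localization.AtPrime p.asIdeal) ↔
      ∃! i : ℤ, p ∈ Module.support A (Dual.HD A ω i) := by
  have hsupp : p ∈ Module.support A A := Module.mem_support_iff_of_finite.2 fun a ha => by
    have : a • (1 : A) = 0 := Module.mem_annihilator.1 ha 1
    rw [smul_eq_mul, mul_one] at this
    exact this ▸ p.asIdeal.zero_mem
  obtain ⟨d, hd, -⟩ := exists_supportDim_localized hω (M := A) p hsupp
  obtain ⟨D, hD⟩ := exists_depth_localized (M := A) p hsupp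
  obtain ⟨h1, h2⟩ := dim_bounds hω (M := A) p d hd
  obtain ⟨h3, h4⟩ := depth_bounds hω p D A hD
  have hiff : ∀ i, p ∈ Module.support A (Dual.HD A ω i) ↔ ¬ ZeroAt p.asIdeal (HK ω i A) := fun i => by
    rw [← not_zeroAt_iff_mem_support, not_zeroAt_HD_iff hω]
  simp only [hiff]
  have key : LocCoh.IsCohenMacaulayLocalRing (Localization.AtPrime p.asIdeal) ↔ d = D := by
    let e : LocalizedModule p.asIdeal.primeCompl A ≃ₗ[Localization.AtPrime p.asIdeal] Localization.AtPrime p.asIdeal :=
      LinearEquiv.refl _ _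
    rw [Module.supportDim_eq_of_equiv e] at hd
    rw [CAlgBasics.depth_congr e] at hD
    refine ⟨fun h => ?_, fun h => ⟨?_⟩⟩
    · have := h.supportDim_eq_depth
      rw [hd, hD] at this
      exact_mod_cast this
    · rw [hd, hD, h]
      rfl
  rw [key]
  constructor
  · rintro rfl
    refine ⟨dfn hω p - d, h2, fun i hi => ?_⟩
    have := (h1 i hi).1
    have := h3 i hi
    omega
  · rintro ⟨i, -, huniq⟩
    have := huniq _ h2
    have := huniq _ h4
    omega

theorem isOpen_cmLocus : IsOpen {p : PrimeSpectrum A | LocCoh.IsCohenMacaulayLocalRing (Localization.AtPrime p.asIdeal)} := by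
  let S := model hω
  haveI : ∀ i, Module.Finite A (Dual.HD A ω i) := hω.finite_cohomology
  have hrange : ∀ (i : ℤ) (p : PrimeSpectrum A), p ∈ Module.support A (Dual.HD A ω i) → S.a ≤ i ∧ i ≤ S.b := fun i p hp =>
    mem_range_of_not_zeroAt hω ((not_zeroAt_HD_iff hω p.asIdeal i).1 ((not_zeroAt_iff_mem_support p).2 hp))
  have : {p : PrimeSpectrum A | LocCoh.IsCohenMacaulayLocalRing (Localization.AtPrime p.asIdeal)} =
      (⋃ ij ∈ ((Finset.Icc S.a S.b ×ˢ Finset.Icc S.a S.b).filter fun ij => ij.1 ≠ ij.2 : Finset (ℤ × ℤ)),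
        Module.support A (Dual.HD A ω ij.1) ∩ Module.support A (Dual.HD A ω ij.2))ᶜ := by
    ext p
    simp only [Set.mem_ofPred_eq, Set.mem_compl_iff, Set.mem_iUnion₂, not_exists, Finset.mem_filter, Finset.mem_product,
      Finset.mem_Icc, Set.mem_inter_iff, cm_localization_iff hω]
    refine ⟨fun ⟨i, hi, huniq⟩ ij ⟨_, hne⟩ ⟨h1, h2⟩ => hne ((huniq _ h1).trans (huniq _ h2).symm), fun h => ?_⟩
    obtain ⟨i, hi⟩ := exists_not_zeroAt_unit hω p.asIdeal
    have hi' : p ∈ Module.support A (Dual.HD A ω i) :=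
      (not_zeroAt_iff_mem_support p).1 ((not_zeroAt_HD_iff hω p.asIdeal i).2 hi)
    refine ⟨i, hi', fun j hj => ?_⟩
    by_contra hne
    exact h (j, i) ⟨⟨hrange j p hj, hrange i p hi'⟩, hne⟩ ⟨hj, hi'⟩
  rw [this, isOpen_compl_iff]
  refine Set.Finite.isClosed_biUnion (Finset.finite_toSet _) fun ij _ => ?_
  exact Module.isClosed_support.inter Module.isClosed_support

end Groth.Agent.DualCxLib
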