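import Groth.Agent.DualCxLib.Duality
import Groth.Agent.DualCxLib.HDI
import Groth.Agent.RatliffLib.Converse.Colon

/-!
# Vanishing of `H^0_I(ω)` bounds the cohomological dimension
-/

set_option autoImplicit false
set_option backward.isDefEq.respectTransparency false
set_option maxRecDepth 4000

universe u

open CategoryTheory Limits IsLocalRing Opposite
attribute [local instance] HasDerivedCategory.standard

noncomputable section

namespace Groth.Agent.DualCxLib

variable {A : Type u} [CommRing A] [IsLocalRing A] [IsNoetherianRing A] {ω : Dual.D A}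
  (hω : Dual.IsDualizing A ω) (hn : Dual.IsNormalized A ω)

/-- The map on torsion parts induced by `A/I^m → A/I^n`. -/
abbrev torsMap (I : Ideal A) {n m : ℕ} (h : n ≤ m) :
    DRing.torsionSub (maximalIdeal A) (A ⧸ I ^ m) →ₗ[A] DRing.torsionSub (maximalIdeal A) (A ⧸ I ^ n) :=
  (powMapQ I h).restrict fun x ⟨k, hk⟩ => ⟨k, fun a ha => by rw [← map_smul, hk a ha, map_zero]⟩

include hω hn

theorem exists_torsMap_eq_zero (I : Ideal A) (h0 : Subsingleton (Dual2.HDI A I ω 0)) (n : ℕ) :
    ∃ (m : ℕ) (h : n ≤ m), torsMap I h = 0 := by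
  classical
  let S := model hω
  obtain ⟨s, hs⟩ := S.exists_hull_E0 hω hn
  let T : ℕ → Type u := fun k => DRing.torsionSub (maximalIdeal A) (A ⧸ I ^ k)
  have htor := fun k => torsion_torsionSub (A := A) (A ⧸ I ^ k)
  haveI : IsArtinian A (DRing.torsionSub (maximalIdeal A) (A ⧸ I ^ n)) :=
    (isFiniteLength_iff_isNoetherian_isArtinian.1 (isFiniteLength_of_torsion _ (htor n))).2
  -- the images stabilise
  let V : ℕ →o (Submodule A (DRing.torsionSub (maximalIdeal A) (A ⧸ I ^ n)))ᵒᵈ :=
    ⟨fun k => OrderDual.toDual (LinearMap.range (torsMap I (Nat.le_add_right n k))), fun a b hab => by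
      rintro _ ⟨x, rfl⟩
      refine ⟨torsMap I (show n + a ≤ n + b by omega) x, Subtype.ext ?_⟩
      obtain ⟨y, hy⟩ := x
      obtain ⟨z, rfl⟩ := Submodule.Quotient.mk_surjective _ y
      rfl⟩
  obtain ⟨k, hk⟩ := IsArtinian.monotone_stabilizes V
  refine ⟨n + k, Nat.le_add_right n k, ?_⟩
  by_contra hne
  obtain ⟨y, hy⟩ : ∃ y, torsMap I (Nat.le_add_right n k) y ≠ 0 := by
    by_contra hc
    exact hne (LinearMap.ext fun y => by
      by_contra hy
      exact hc ⟨y, hy⟩)
  obtain ⟨φ, hφ⟩ := InjHullLib.exists_ne_zero hs hy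
  -- extend the class to `A/I^n`
  let T₀ := DRing.torsionSub (maximalIdeal A) (A ⧸ I ^ n)
  haveI : Module.Finite A (A ⧸ I ^ n) := inferInstance
  haveI := subsingleton_HK_pos hω hn ((A ⧸ I ^ n) ⧸ T₀) (show (0 : ℤ) < 0 + 1 by norm_num)
  obtain ⟨v, hv⟩ := exists_pre_eq ω T₀.injective_subtype (LinearMap.exact_subtype_mkQ T₀) T₀.mkQ_surjective 0
    ((S.equivE0 hω hn (htor n)).symm φ) (Subsingleton.elim _ _)
  let F := hdiDiagram I ω 0
  let j : ℕᵒᵖᵒᵖ := op (op n)
  have hz : (colimit.ι F j).hom v = (colimit.ι F j).hom 0 := h0.elim _ _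
  obtain ⟨l, f, g, hfg⟩ := Concrete.colimit_exists_of_rep_eq F _ _ hz
  rw [map_zero] at hfg
  obtain ⟨m, rfl⟩ : ∃ m, op (op m) = l := ⟨unop (unop l), rfl⟩
  have hnm : n ≤ m := leOfHom f.unop.unop
  have hfg' : pre ω 0 (powMapQ I hnm) v = 0 := (hdiDiagram_map I ω 0 f v).symm.trans hfg
  -- compare at a large stage
  have hbig : pre ω 0 (powMapQ I (show n ≤ n + (k + m) by omega)) v = 0 := by
    have hc : powMapQ I (show n ≤ n + (k + m) by omega) =
        powMapQ I hnm ∘ₗ powMapQ I (show m ≤ n + (k + m) by omega) := by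
      refine Submodule.linearMap_qext _ ?_
      rfl
    rw [hc, ← pre_pre, hfg', map_zero]
  have hkey : φ ∘ₗ torsMap I (show n ≤ n + (k + m) by omega) = 0 := by
    have h1 : pre ω 0 (torsMap I (show n ≤ n + (k + m) by omega)) ((S.equivE0 hω hn (htor n)).symm φ) = 0 := by
      rw [← hv, pre_pre]
      have hc : T₀.subtype ∘ₗ torsMap I (show n ≤ n + (k + m) by omega) =
          powMapQ I (show n ≤ n + (k + m) by omega) ∘ₗ (DRing.torsionSub (maximalIdeal A) (A ⧸ I ^ (n + (k + m)))).subtype := by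
        rfl
      rw [hc, ← pre_pre, hbig, map_zero]
    have h2 := S.equivE0_pre hω hn (htor _) (htor n) (torsMap I (show n ≤ n + (k + m) by omega))
      ((S.equivE0 hω hn (htor n)).symm φ)
    rw [h1, map_zero, LinearEquiv.apply_symm_apply] at h2
    exact h2.symm
  have hstab : LinearMap.range (torsMap I (show n ≤ n + (k + m) by omega)) =
      LinearMap.range (torsMap I (Nat.le_add_right n k)) := (congrArg OrderDual.ofDual (hk (k + m) (Nat.le_add_right k m))).symm
  obtain ⟨z, hz⟩ := hstab.ge ⟨y, rfl⟩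
  exact hφ (by rw [← hz]; exact LinearMap.congr_fun hkey z)

/-- Symbolic saturations of powers of `I` are cofinal with the powers. -/
theorem exists_saturation_le (I : Ideal A) (h0 : Subsingleton (Dual2.HDI A I ω 0)) (n : ℕ) :
    ∃ m, ∀ (l : ℕ) (x : A), (∀ a ∈ maximalIdeal A ^ l, a * x ∈ I ^ m) → x ∈ I ^ n := by
  obtain ⟨m, h, hm⟩ := exists_torsMap_eq_zero hω hn I h0 n
  refine ⟨m, fun l x hx => ?_⟩
  have hx' : (Ideal.Quotient.mk (I ^ m) x : A ⧸ I ^ m) ∈ DRing.torsionSub (maximalIdeal A) (A ⧸ I ^ m) :=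
    ⟨l, fun a ha => Ideal.Quotient.eq_zero_iff_mem.2 (hx a ha)⟩
  exact Ideal.Quotient.eq_zero_iff_mem.1 (congrArg Subtype.val (LinearMap.congr_fun hm ⟨_, hx'⟩))

theorem one_le_ringKrullDim_quot (I : Ideal A) (hI : I ≠ ⊤) (h0 : Subsingleton (Dual2.HDI A I ω 0))
    (P : Ideal (AdicCompletion (maximalIdeal A) A))
    (hP : P ∈ minimalPrimes (AdicCompletion (maximalIdeal A) A)) :
    1 ≤ ringKrullDim (AdicCompletion (maximalIdeal A) A ⧸
      (I.map (algebraMap A (AdicCompletion (maximalIdeal A) A)) ⊔ P)) := by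
  obtain ⟨hloc, hnoe, _, hlh, hmax⟩ := RatliffLib.compl_facts A
  let R := AdicCompletion (maximalIdeal A) A
  let J := I.map (algebraMap A R)
  have hJ : J ≤ maximalIdeal R := by
    rw [hmax]
    exact Ideal.map_mono (le_maximalIdeal hI)
  haveI hPp : P.IsPrime := Ideal.minimalPrimes_isPrime hP
  by_contra hlt
  -- `J + P` is primary to the maximal ideal
  have hrad : maximalIdeal R ≤ (J ⊔ P).radical := by
    rw [Ideal.radical_eq_sInf]
    refine le_sInf fun Q ⟨hQ, hQp⟩ => ?_
    by_contra hc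
    refine hlt ?_
    refine le_of_le_of_eq ?_ (_root_.ringKrullDim_quotient (J ⊔ P)).symm
    let c0 : PrimeSpectrum.zeroLocus ((J ⊔ P : Ideal R) : Set R) := ⟨⟨Q, hQp⟩, hQ⟩
    let c1 : PrimeSpectrum.zeroLocus ((J ⊔ P : Ideal R) : Set R) :=
      ⟨closedPoint R, hQ.trans (le_maximalIdeal hQp.ne_top)⟩
    have h01 : c0 < c1 := lt_of_le_of_ne (le_maximalIdeal hQp.ne_top) fun h => hc (congrArg (fun z => z.1.asIdeal) h).ge
    exact_mod_cast Order.LTSeries.length_le_krullDim ((RelSeries.singleton _ c0).snoc c1 h01)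
  obtain ⟨k, hk⟩ := Ideal.exists_pow_le_of_le_radical_of_fg hrad (IsNoetherian.noetherian _)
  -- `P` is an annihilator
  obtain ⟨-, s, hs⟩ := isAssociatedPrime_iff.1
    (Module.associatedPrimes.minimalPrimes_annihilator_subset_associatedPrimes R R
      (show P ∈ (Module.annihilator R R).minimalPrimes by rwa [Module.annihilator_eq_bot.2 inferInstance]))
  have hPs : ∀ z ∈ P, z * s = 0 := fun z hz => by
    rw [hs, Submodule.mem_colon_singleton] at hz
    exact (Submodule.mem_bot R).1 hz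
  have hs0 : s ≠ 0 := fun h => hPp.ne_top (by
    rw [Ideal.eq_top_iff_one, hs, Submodule.mem_colon_singleton, Submodule.mem_bot, h, smul_zero])
  refine hs0 ?_
  have hall : ∀ n, s ∈ J ^ n := fun n => by
    obtain ⟨m, hm⟩ := exists_saturation_le hω hn I h0 n
    have hkm : maximalIdeal R ^ (k * m) ≤ J ^ m ⊔ P := by
      rw [pow_mul]
      refine (Ideal.pow_right_mono hk m).trans ?_
      clear hm
      induction m with
      | zero => simp
      | succ m ih =>
        rw [pow_succ, pow_succ]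
        refine (Ideal.mul_mono_left ih).trans ?_
        rw [Ideal.sup_mul, Ideal.mul_sup, Ideal.mul_sup]
        exact sup_le (sup_le le_sup_left (Ideal.mul_le_right.trans le_sup_right))
          (sup_le (Ideal.mul_le_left.trans le_sup_right) (Ideal.mul_le_left.trans le_sup_right))
    obtain ⟨c, g, hg⟩ := Submodule.fg_iff_exists_fin_generating_family.1
      (IsNoetherian.noetherian (maximalIdeal A ^ (k * m)))
    have hcol := RatliffLib.mem_map_colon_of_flat (S := R) (I ^ m) g s fun i => by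
      have hgi : algebraMap A R (g i) ∈ maximalIdeal R ^ (k * m) := by
        rw [hmax, ← Ideal.map_pow]
        exact Ideal.mem_map_of_mem _ (hg.le (Submodule.subset_span ⟨i, rfl⟩))
      obtain ⟨u, hu, v, hv, huv⟩ := Submodule.mem_sup.1 (hkm hgi)
      rw [← huv, add_mul, hPs v hv, add_zero, Ideal.map_pow]
      exact Ideal.mul_mem_right _ _ hu
    refine (Ideal.map_pow (algebraMap A R) I n).le (Ideal.map_mono (fun x hx => hm (k * m) x fun a ha => ?_) hcol)
    have h1 := Submodule.mem_colon.1 hx a (hg.ge ha)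
    rwa [smul_eq_mul, mul_comm] at h1
  have hbot := Ideal.iInf_pow_eq_bot_of_isLocalRing J (fun h => (maximalIdeal.isMaximal R).ne_top (top_le_iff.1 (h ▸ hJ)))
  exact (Submodule.mem_bot R).1 (hbot ▸ Submodule.mem_iInf _ |>.2 hall)

omit [CommRing A] [IsLocalRing A] [IsNoetherianRing A] hω hn in
/-- Local cohomology for the unit ideal. -/
theorem subsingleton_H_top {R : Type u} [CommRing R] (M : Type u) [AddCommGroup M] [Module R M] (i : ℕ) :
    Subsingleton (LocCoh.H (⊤ : Ideal R) i M) := by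
  refine LocCohLib.subsingleton_of_forall_ext fun n x => ⟨n, le_rfl, ?_⟩
  haveI : Subsingleton (LocCohLib.quot (⊤ : Ideal R) n : Type u) :=
    Ideal.Quotient.subsingleton_iff.2 (Ideal.top_pow R n)
  rw [(ModuleCat.isZero_of_subsingleton (LocCohLib.quot (⊤ : Ideal R) n)).eq_of_src
    (LocCohLib.qmap (⊤ : Ideal R) le_rfl) 0]
  simp

end Groth.Agent.DualCxLib
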