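import Groth.Prelude.Def_Wider
import Mathlib.Algebra.Homology.DerivedCategory.SingleTriangle
import Mathlib.Algebra.Homology.DerivedCategory.Linear
import Mathlib.Algebra.Homology.ShortComplex.ModuleCat

/-!
# Maps `M → K[i]` in the derived category as a contravariant δ-functor of `M`
-/

set_option autoImplicit false

universe u

open CategoryTheory Limits Pretriangulated
attribute [local instance] HasDerivedCategory.standard

noncomputable section

namespace Groth.Agent.DualCxLib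

variable {A : Type u} [CommRing A]

/-- `Hom_{D(A)}(M, K[i])`. -/
abbrev HK (K : Dual.D A) (i : ℤ) (M : Type u) [AddCommGroup M] [Module A M] : Type (u + 1) :=
  Dual.inD A M ⟶ K⟦i⟧

variable {M₁ M₂ M₃ : Type u} [AddCommGroup M₁] [Module A M₁] [AddCommGroup M₂] [Module A M₂]
  [AddCommGroup M₃] [Module A M₃] (K : Dual.D A)

/-- The module map placed in degree `0`. -/
abbrev sMap (g : M₁ →ₗ[A] M₂) : Dual.inD A M₁ ⟶ Dual.inD A M₂ :=
  (DerivedCategory.singleFunctor (ModuleCat.{u} A) 0).map (ModuleCat.ofHom g)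

theorem sMap_comp (f : M₁ →ₗ[A] M₂) (g : M₂ →ₗ[A] M₃) : sMap (g ∘ₗ f) = sMap f ≫ sMap g := by
  rw [sMap, sMap, sMap, ← Functor.map_comp]
  rfl

theorem sMap_smul (r : A) (g : M₁ →ₗ[A] M₂) : sMap (r • g) = r • sMap g := by
  rw [sMap, sMap, ← Functor.map_smul]
  rfl

/-- Precomposition. -/
def pre (i : ℤ) (g : M₁ →ₗ[A] M₂) : HK K i M₂ →ₗ[A] HK K i M₁ :=
  Linear.leftComp A (K⟦i⟧) (sMap g)

theorem pre_apply (i : ℤ) (g : M₁ →ₗ[A] M₂) (u : HK K i M₂) : pre K i g u = sMap g ≫ u := rfl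

theorem pre_pre (i : ℤ) (f : M₁ →ₗ[A] M₂) (g : M₂ →ₗ[A] M₃) (u : HK K i M₃) :
    pre K i f (pre K i g u) = pre K i (g ∘ₗ f) u := by
  rw [pre_apply, pre_apply, pre_apply, sMap_comp, Category.assoc]

theorem pre_id (i : ℤ) (u : HK K i M₁) : pre K i (LinearMap.id : M₁ →ₗ[A] M₁) u = u := by
  exact (congrArg (· ≫ u)
    ((DerivedCategory.singleFunctor (ModuleCat.{u} A) 0).map_id (ModuleCat.of A M₁))).trans (Category.id_comp u)

theorem pre_smul (i : ℤ) (r : A) (g : M₁ →ₗ[A] M₂) : pre K i (r • g) = r • pre K i g := by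
  refine LinearMap.ext fun u => ?_
  rw [LinearMap.smul_apply, pre_apply, pre_apply, sMap_smul, Linear.smul_comp]

theorem pre_smul_id (i : ℤ) (r : A) (u : HK K i M₁) :
    pre K i (r • (LinearMap.id : M₁ →ₗ[A] M₁)) u = r • u := by
  rw [pre_smul, LinearMap.smul_apply, pre_id]

theorem pre_zero (i : ℤ) : pre K i (0 : M₁ →ₗ[A] M₂) = 0 := by
  rw [← zero_smul A (0 : M₁ →ₗ[A] M₂), pre_smul, zero_smul]

theorem smul_eq_zero_of_smul (i : ℤ) {r : A} (h : ∀ x : M₁, r • x = 0) (u : HK K i M₁) : r • u = 0 := by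
  rw [← pre_smul_id, show r • (LinearMap.id : M₁ →ₗ[A] M₁) = 0 from LinearMap.ext h, pre_zero,
    LinearMap.zero_apply]

theorem subsingleton_of_subsingleton (i : ℤ) [Subsingleton M₁] : Subsingleton (HK K i M₁) :=
  subsingleton_of_forall_eq 0 fun u => by
    rw [← one_smul A u]
    exact smul_eq_zero_of_smul K i (fun x => Subsingleton.elim _ _) u

/-- Transport along an isomorphism of modules. -/
def preEquiv (i : ℤ) (e : M₁ ≃ₗ[A] M₂) : HK K i M₂ ≃ₗ[A] HK K i M₁ :=
  { pre K i e.toLinearMap with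
    invFun := pre K i e.symm.toLinearMap
    left_inv := fun u => by
      show pre K i e.symm.toLinearMap (pre K i e.toLinearMap u) = u
      rw [pre_pre, show e.toLinearMap ∘ₗ e.symm.toLinearMap = LinearMap.id from LinearMap.ext e.apply_symm_apply]
      exact pre_id K i u
    right_inv := fun u => by
      show pre K i e.toLinearMap (pre K i e.symm.toLinearMap u) = u
      rw [pre_pre, show e.symm.toLinearMap ∘ₗ e.toLinearMap = LinearMap.id from LinearMap.ext e.symm_apply_apply]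
      exact pre_id K i u }

variable {f : M₁ →ₗ[A] M₂} {g : M₂ →ₗ[A] M₃}

/-- The short complex of an exact pair. -/
abbrev sc (hfg : Function.Exact f g) : ShortComplex (ModuleCat.{u} A) :=
  ShortComplex.mk (ModuleCat.ofHom f) (ModuleCat.ofHom g) (ModuleCat.hom_ext hfg.linearMap_comp_eq_zero)

theorem sc_shortExact (hf : Function.Injective f) (hfg : Function.Exact f g) (hg : Function.Surjective g) :
    (sc hfg).ShortExact :=
  ShortComplex.ShortExact.mk'
    ((ShortComplex.moduleCat_exact_iff _).2 fun x hx => (hfg x).1 hx)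
    ((ModuleCat.mono_iff_injective _).2 hf) ((ModuleCat.epi_iff_surjective _).2 hg)

variable (hf : Function.Injective f) (hfg : Function.Exact f g) (hg : Function.Surjective g)

/-- The connecting map. -/
def δ (i : ℤ) : HK K i M₁ →ₗ[A] HK K (i + 1) M₃ where
  toFun u := ShiftedHom.comp (sc_shortExact hf hfg hg).singleδ u rfl
  map_add' _ _ := ShiftedHom.comp_add _ _ _ _
  map_smul' _ _ := ShiftedHom.comp_smul _ _ _ _

theorem δ_apply (i : ℤ) (u : HK K i M₁) :
    δ K hf hfg hg i u = (sc_shortExact hf hfg hg).singleδ ≫ u⟦(1 : ℤ)⟧' ≫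
      (shiftFunctorAdd' (Dual.D A) i 1 (i + 1) rfl).inv.app K := rfl

include hf hfg hg in
/-- Exactness in the middle. -/
theorem exact_mid (i : ℤ) : Function.Exact (pre K i g) (pre K i f) := by
  intro u
  refine ⟨fun h => ?_, ?_⟩
  · obtain ⟨v, hv⟩ := Triangle.yoneda_exact₂ _ (sc_shortExact hf hfg hg).singleTriangle_distinguished u h
    exact ⟨v, hv.symm⟩
  · rintro ⟨v, rfl⟩
    rw [pre_pre, hfg.linearMap_comp_eq_zero, pre_zero, LinearMap.zero_apply]

include hf hfg hg in
/-- Exactness at `M₁`. -/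
theorem exists_pre_eq (i : ℤ) (u : HK K i M₁) (h : δ K hf hfg hg i u = 0) : ∃ v, pre K i f v = u := by
  have hT := (sc_shortExact hf hfg hg).singleTriangle_distinguished
  have h' : (sc_shortExact hf hfg hg).singleTriangle.rotate.mor₂ ≫ u⟦(1 : ℤ)⟧' = 0 := by
    rw [δ_apply] at h
    have := h =≫ (shiftFunctorAdd' (Dual.D A) i 1 (i + 1) rfl).hom.app K
    rw [Category.assoc, Category.assoc, Limits.zero_comp] at this
    erw [Iso.inv_hom_id_app] at this
    erw [Category.comp_id] at this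
    exact this
  obtain ⟨w, hw⟩ := Triangle.yoneda_exact₃ _ (rot_of_distTriang _ hT) (u⟦(1 : ℤ)⟧') h'
  let w' : (Dual.inD A M₂)⟦(1 : ℤ)⟧ ⟶ (K⟦i⟧)⟦(1 : ℤ)⟧ := w
  let v : HK K i M₂ := -(shiftFunctor (Dual.D A) (1 : ℤ)).preimage w'
  refine ⟨v, (shiftFunctor (Dual.D A) (1 : ℤ)).map_injective ?_⟩
  have hv : (shiftFunctor (Dual.D A) (1 : ℤ)).map v = -w' := by
    rw [show v = -(shiftFunctor (Dual.D A) (1 : ℤ)).preimage w' from rfl, Functor.map_neg, Functor.map_preimage]
  rw [pre_apply, Functor.map_comp, hv]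
  refine Eq.trans ?_ hw.symm
  exact (Preadditive.comp_neg _ _).trans (Preadditive.neg_comp _ _).symm

include hf hfg hg in
/-- Exactness at `M₃`. -/
theorem exists_δ_eq (i : ℤ) (u : HK K (i + 1) M₃) (h : pre K (i + 1) g u = 0) :
    ∃ v, δ K hf hfg hg i v = u := by
  obtain ⟨w, hw⟩ := Triangle.yoneda_exact₃ _ (sc_shortExact hf hfg hg).singleTriangle_distinguished u h
  refine ⟨(shiftFunctor (Dual.D A) (1 : ℤ)).preimage
    (w ≫ (shiftFunctorAdd' (Dual.D A) i 1 (i + 1) rfl).hom.app K), ?_⟩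
  rw [δ_apply, Functor.map_preimage, Category.assoc, Iso.hom_inv_id_app, Category.comp_id]
  exact hw.symm

include hf hfg hg in
theorem δ_pre (i : ℤ) (v : HK K i M₂) : δ K hf hfg hg i (pre K i f v) = 0 := by
  rw [δ_apply, pre_apply, Functor.map_comp]
  rw [Category.assoc, ← Category.assoc]
  exact (congrArg (· ≫ _) (comp_distTriang_mor_zero₃₁ _ (sc_shortExact hf hfg hg).singleTriangle_distinguished)).trans
    Limits.zero_comp

include hf hfg hg in
theorem pre_δ (i : ℤ) (u : HK K i M₁) : pre K (i + 1) g (δ K hf hfg hg i u) = 0 := by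
  rw [δ_apply, pre_apply, ← Category.assoc]
  exact (congrArg (· ≫ _) (comp_distTriang_mor_zero₂₃ _ (sc_shortExact hf hfg hg).singleTriangle_distinguished)).trans
    Limits.zero_comp

include hf hfg hg in
theorem exact_left (i : ℤ) : Function.Exact (pre K i f) (δ K hf hfg hg i) := fun u =>
  ⟨exists_pre_eq K hf hfg hg i u, by rintro ⟨v, rfl⟩; exact δ_pre K hf hfg hg i v⟩

include hf hfg hg in
theorem exact_right (i : ℤ) : Function.Exact (δ K hf hfg hg i) (pre K (i + 1) g) := fun u =>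
  ⟨exists_δ_eq K hf hfg hg i u, by rintro ⟨v, rfl⟩; exact pre_δ K hf hfg hg i v⟩

end Groth.Agent.DualCxLib
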