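import Groth.Agent.DualCxLib.InjRep
import Groth.Agent.DualCxLib.HomD
import Groth.Agent.DRingLib.FlatBC
import Mathlib.Algebra.Category.ModuleCat.ChangeOfRings

/-!
# Change of rings for injective dimension
-/

set_option autoImplicit false
set_option backward.isDefEq.respectTransparency false
set_option linter.style.haveILetI false
set_option maxRecDepth 4000

universe u

open CategoryTheory Limits
attribute [local instance] HasDerivedCategory.standard

noncomputable section

namespace Groth.Agent.DualCxLib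

variable {R : Type u} [CommRing R] (Q : Type u) [CommRing Q] [Algebra R Q]
  {K : Dual.D R} (S : InjRep K)

/-- The complex `Hom_R(Q, E)`. -/
abbrev InjRep.coext : DRing.Cx Q :=
  ((ModuleCat.coextendScalars.{u, u, u} (algebraMap R Q)).mapHomologicalComplex (ComplexShape.up ℤ)).obj S.E

theorem InjRep.injective_coext (i : ℤ) : Module.Injective Q ((S.coext Q).X i) := by
  refine (Module.injective_iff_injective_object Q _).2 ?_
  haveI := (Module.injective_iff_injective_object R (S.E.X i)).1 (S.inj i)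
  exact (ModuleCat.restrictCoextendScalarsAdj (algebraMap R Q)).map_injective (S.E.X i) inferInstance

/-- The representative over the quotient ring. -/
def InjRep.coextRep : InjRep (DRing.toD (S.coext Q)) :=
  ⟨S.coext Q, S.a, fun i hi => (ModuleCat.coextendScalars.{u, u, u} (algebraMap R Q)).map_isZero (S.vanishes i hi),
    S.injective_coext Q, Iso.refl _⟩

/-- Elements of `Hom_R(Q, E^i)`. -/
def InjRep.coextEquiv (i : ℤ) : (S.coext Q).X i ≃+ (Q →ₗ[R] S.E.X i) :=
  (ModuleCat.CoextendScalars.equiv (algebraMap R Q) (S.E.X i)).toAddEquiv.trans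
    ((DRingLib.baseModEquiv R Q).congrLeft (S.E.X i) R).toAddEquiv

theorem InjRep.coextEquiv_apply (i : ℤ) (g : (S.coext Q).X i) (q : Q) :
    S.coextEquiv Q i g q = (ModuleCat.CoextendScalars.equiv (algebraMap R Q) (S.E.X i) g) q := rfl

theorem InjRep.coextEquiv_d (i j : ℤ) (g : (S.coext Q).X i) :
    S.coextEquiv Q j ((S.coext Q).d i j g) = (S.E.d i j).hom ∘ₗ S.coextEquiv Q i g := rfl

theorem InjRep.coextEquiv_smul (i : ℤ) (c : Q) (g : (S.coext Q).X i) (q : Q) :
    S.coextEquiv Q i (c • g) q = S.coextEquiv Q i g (q * c) := rfl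

theorem InjRep.coext_cycle_iff (j : ℤ) (g : (S.coext Q).X j) :
    ((S.coext Q).d j (j + 1)).hom g = 0 ↔ S.coextEquiv Q j g ∈ S.Z Q j := by
  rw [S.mem_Z]
  refine ⟨fun h x => ?_, fun h => (S.coextEquiv Q (j + 1)).injective ?_⟩
  · exact LinearMap.congr_fun ((S.coextEquiv_d Q j (j + 1) g).symm.trans
      ((congrArg (S.coextEquiv Q (j + 1)) h).trans (map_zero _))) x
  · rw [map_zero, S.coextEquiv_d Q]
    exact LinearMap.ext h

/-- If `RHom(Q, K)` is `Q` in degree `d`, the coinduced complex is `Q` shifted. -/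
theorem InjRep.nonempty_coextIso (hsurj : Function.Surjective (algebraMap R Q)) {d : ℤ}
    (hvan : ∀ j, j ≠ d → Subsingleton (HK K j Q)) (e : HK K d Q ≃ₗ[R] Q) :
    Nonempty ((DRing.toD (S.coext Q))⟦d⟧ ≅ Dual.inD Q Q) := by
  let C := S.coext Q
  have hcyc := S.coext_cycle_iff Q
  -- homology away from `d`
  have hH : ∀ j, j ≠ d → Subsingleton (Dual.HD Q (DRing.toD C) j) := fun j hj => by
    rw [DRingLib.subsingleton_HD_iff]
    intro g hg
    haveI := hvan j hj
    obtain ⟨w, hw⟩ := (S.toHK_eq_zero_iff j ⟨_, (hcyc j g).1 hg⟩).1 (Subsingleton.elim _ _)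
    refine ⟨(S.coextEquiv Q (j - 1)).symm w, (S.coextEquiv Q j).injective ?_⟩
    rw [S.coextEquiv_d Q, AddEquiv.apply_symm_apply]
    exact LinearMap.ext hw
  haveI : DerivedCategory.IsGE (DRing.toD C) d := (DerivedCategory.isGE_iff _ _).2 fun j hj =>
    ModuleCat.isZero_iff_subsingleton.2 (hH j hj.ne)
  haveI : DerivedCategory.IsLE (DRing.toD C) d := (DerivedCategory.isLE_iff _ _).2 fun j hj =>
    ModuleCat.isZero_iff_subsingleton.2 (hH j (ne_of_gt hj))
  obtain ⟨Y, ⟨eY⟩⟩ := DerivedCategory.exists_iso_singleFunctor_obj_of_isGE_of_isLE (DRing.toD C) d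
  -- homology at `d`
  obtain ⟨f, hf⟩ := S.toHK_surjective (M := Q) d (e.symm 1)
  let g₀ : C.X d := (S.coextEquiv Q d).symm f.1
  have hg₀ : (C.d d (d + 1)).hom g₀ = 0 := (hcyc d g₀).2 (by rw [AddEquiv.apply_symm_apply]; exact f.2)
  let G := C.sc' (d - 1) d (d + 1)
  let eH : Dual.HD Q (DRing.toD C) d ≃ₗ[Q] (LinearMap.ker G.g.hom ⧸ LinearMap.range G.moduleCatToCycles) :=
    (((DerivedCategory.homologyFunctorFactors (ModuleCat.{u} Q) d).app C) ≪≫
      C.homologyIsoSc' (d - 1) d (d + 1) (by simp) (by simp) ≪≫ G.moduleCatHomologyIso).toLinearEquiv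
  let h₀ : LinearMap.ker G.g.hom ⧸ LinearMap.range G.moduleCatToCycles := Submodule.Quotient.mk ⟨g₀, hg₀⟩
  have hsm : ∀ (r : R) (g : C.X d), S.coextEquiv Q d (algebraMap R Q r • g) = r • S.coextEquiv Q d g := fun r g =>
    LinearMap.ext fun q => by
      rw [S.coextEquiv_smul Q, LinearMap.smul_apply, ← map_smul, Algebra.smul_def, mul_comm]
  have hbij : Function.Bijective (LinearMap.toSpanSingleton Q _ h₀) := by
    refine ⟨(injective_iff_map_eq_zero _).2 fun q hq => ?_, fun y => ?_⟩
    · obtain ⟨r, rfl⟩ := hsurj q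
      rw [LinearMap.toSpanSingleton_apply, ← Submodule.Quotient.mk_smul, Submodule.Quotient.mk_eq_zero] at hq
      obtain ⟨w, hw⟩ := hq
      have h1 : S.toHK d (r • f) = 0 := (S.toHK_eq_zero_iff d _).2 ⟨S.coextEquiv Q (d - 1) w, fun x => by
        have hw' : (C.d (d - 1) d).hom w = algebraMap R Q r • g₀ := congrArg Subtype.val hw
        have h2 := LinearMap.congr_fun ((S.coextEquiv_d Q (d - 1) d w).symm.trans
          (congrArg (S.coextEquiv Q d) hw')) x
        refine h2.trans ?_
        rw [hsm, AddEquiv.apply_symm_apply]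
        rfl⟩
      have h3 : e (r • e.symm 1) = 0 := by rw [← hf, ← map_smul (S.toHK d), h1, map_zero]
      rwa [map_smul, LinearEquiv.apply_symm_apply, Algebra.smul_def, mul_one] at h3
    · obtain ⟨⟨g, hg⟩, rfl⟩ := Submodule.Quotient.mk_surjective _ y
      obtain ⟨r, hr⟩ := hsurj (e (S.toHK d ⟨_, (hcyc d g).1 hg⟩))
      have h1 : S.toHK d (⟨_, (hcyc d g).1 hg⟩ - r • f) = 0 := e.injective (by
        rw [map_sub, map_sub, map_smul, map_smul, hf, LinearEquiv.apply_symm_apply, Algebra.smul_def, mul_one,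
          ← hr, sub_self, map_zero])
      obtain ⟨w, hw⟩ := (S.toHK_eq_zero_iff d _).1 h1
      refine ⟨algebraMap R Q r, ?_⟩
      rw [LinearMap.toSpanSingleton_apply, ← Submodule.Quotient.mk_smul, eq_comm, Submodule.Quotient.eq]
      refine ⟨(S.coextEquiv Q (d - 1)).symm w, Subtype.ext ((S.coextEquiv Q d).injective ?_)⟩
      show S.coextEquiv Q d ((C.d (d - 1) d).hom ((S.coextEquiv Q (d - 1)).symm w)) =
        S.coextEquiv Q d ((show C.X d from g) - algebraMap R Q r • g₀)
      rw [S.coextEquiv_d Q, AddEquiv.apply_symm_apply, map_sub, hsm, AddEquiv.apply_symm_apply]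
      exact LinearMap.ext hw
  let eY' : Y ≃ₗ[Q] Q :=
    ((DerivedCategory.singleFunctorCompHomologyFunctorIso (ModuleCat.{u} Q) d).app Y).toLinearEquiv.symm.trans
      (((DerivedCategory.homologyFunctor (ModuleCat.{u} Q) d).mapIso eY.symm).toLinearEquiv.trans
        (eH.trans (LinearEquiv.ofBijective _ hbij).symm))
  let eC : (DRing.toD C)⟦d⟧ ≅ Dual.inD Q Q :=
    (shiftFunctor (Dual.D Q) d).mapIso eY ≪≫
      ((DerivedCategory.singleFunctors (ModuleCat.{u} Q)).shiftIso d 0 d (add_zero d)).app Y ≪≫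
      (DerivedCategory.singleFunctor (ModuleCat.{u} Q) 0).mapIso eY'.toModuleIso
  exact ⟨eC⟩

/-- Morphisms into the coinduced complex against morphisms into `Q`. -/
theorem InjRep.subsingleton_coext_iff (hsurj : Function.Surjective (algebraMap R Q)) {d : ℤ}
    (hvan : ∀ j, j ≠ d → Subsingleton (HK K j Q)) (e : HK K d Q ≃ₗ[R] Q)
    (P : Type u) [AddCommGroup P] [Module Q P] (i : ℤ) :
    Subsingleton (HK (DRing.toD (S.coext Q)) i P) ↔ Subsingleton (HK (Dual.inD Q Q) (i - d) P) := by
  obtain ⟨eC⟩ := S.nonempty_coextIso Q hsurj hvan e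
  exact ((Iso.refl (Dual.inD Q P)).homCongr
    ((shiftFunctorAdd' (Dual.D Q) d (i - d) i (by omega)).app (DRing.toD (S.coext Q)) ≪≫
      (shiftFunctor (Dual.D Q) (i - d)).mapIso eC)).subsingleton_congr

include S in
/-- If `RHom(Q, K)` is `Q` in degree `d` and `K` has injective dimension at most `b`, then `Q` has injective
dimension at most `b - d`. -/
theorem InjRep.subsingleton_HK_self_of_quotient (hsurj : Function.Surjective (algebraMap R Q)) {d : ℤ}
    (hvan : ∀ j, j ≠ d → Subsingleton (HK K j Q)) (e : HK K d Q ≃ₗ[R] Q) {b : ℤ}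
    (hb : ∀ i, b < i → IsZero (S.E.X i)) (P : Type u) [AddCommGroup P] [Module Q P] {i : ℤ} (hi : b < d + i) :
    Subsingleton (HK (Dual.inD Q Q) i P) := by
  have h : Subsingleton (HK (DRing.toD (S.coext Q)) (d + i) P) := by
    refine subsingleton_of_forall_eq 0 fun u => ?_
    obtain ⟨φ, rfl⟩ := (S.coextRep Q).toHK_surjective (M := P) (d + i) u
    haveI : Subsingleton ((S.coext Q).X (d + i)) := ModuleCat.subsingleton_of_isZero
      ((ModuleCat.coextendScalars.{u, u, u} (algebraMap R Q)).map_isZero (hb _ hi))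
    rw [show φ = 0 from Subtype.ext (LinearMap.ext fun x =>
      Subsingleton.elim (α := (S.coext Q).X (d + i)) _ _), map_zero]
  rw [S.subsingleton_coext_iff Q hsurj hvan e, add_sub_cancel_left] at h
  exact h

include S in
/-- If `RHom(Q, K)` is `Q` in degree `d` and `Q` has injective dimension at most `N` over itself, then
morphisms from `Q`-modules into `K` vanish above `d + N`. -/
theorem InjRep.subsingleton_HK_of_quotient (hsurj : Function.Surjective (algebraMap R Q)) {d N : ℤ}
    (hvan : ∀ j, j ≠ d → Subsingleton (HK K j Q)) (e : HK K d Q ≃ₗ[R] Q)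
    (hinj : ∀ (P : Type u) [AddCommGroup P] [Module Q P] (i : ℤ), N < i →
      Subsingleton (HK (Dual.inD Q Q) i P))
    (P : Type u) [AddCommGroup P] [Module Q P] [Module R P] [IsScalarTower R Q P] {i : ℤ} (hi : d + N < i) :
    Subsingleton (HK K i P) := by
  let C := S.coext Q
  let C' := S.coextRep Q
  have hcyc := S.coext_cycle_iff Q
  haveI hC : Subsingleton (HK (DRing.toD C) i P) :=
    (S.subsingleton_coext_iff Q hsurj hvan e P i).2 (hinj P (i - d) (by omega))
  -- back to `K`
  refine subsingleton_of_forall_eq 0 fun u => ?_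
  obtain ⟨φ, rfl⟩ := S.toHK_surjective (M := P) i u
  let ψ : P →ₗ[Q] C.X i :=
    { toFun := fun m => (S.coextEquiv Q i).symm (φ.1 ∘ₗ (LinearMap.toSpanSingleton Q P m).restrictScalars R)
      map_add' := fun m m' => (S.coextEquiv Q i).injective (LinearMap.ext fun q => by simp [smul_add])
      map_smul' := fun c m => (S.coextEquiv Q i).injective (LinearMap.ext fun q => by
        rw [RingHom.id_apply, S.coextEquiv_smul Q, AddEquiv.apply_symm_apply, AddEquiv.apply_symm_apply]
        simp [smul_smul]) }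
  have hψ : ψ ∈ C'.Z P i := (C'.mem_Z ψ).2 fun m => (hcyc i (ψ m)).2 ((S.mem_Z _).2 fun q => by
    show (S.E.d i (i + 1)).hom (S.coextEquiv Q i ((S.coextEquiv Q i).symm _) q) = 0
    rw [AddEquiv.apply_symm_apply]
    exact (S.mem_Z φ.1).1 φ.2 _)
  obtain ⟨w, hw⟩ := (C'.toHK_eq_zero_iff i ⟨ψ, hψ⟩).1 (@Subsingleton.elim _ hC _ _)
  refine (S.toHK_eq_zero_iff i φ).2 ⟨
    { toFun := fun m => S.coextEquiv Q (i - 1) (w m) 1
      map_add' := fun m m' => by rw [map_add, map_add]; rfl
      map_smul' := fun r m => by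
        show S.coextEquiv Q (i - 1) (w (r • m)) 1 = r • S.coextEquiv Q (i - 1) (w m) 1
        rw [← algebraMap_smul Q r m, map_smul, ← map_smul (S.coextEquiv Q (i - 1) (w m))]
        refine (S.coextEquiv_smul Q (i - 1) _ _ _).trans (congrArg _ ?_)
        rw [Algebra.smul_def, one_mul, mul_one] }, fun m => ?_⟩
  have h1 := congrArg (fun g => S.coextEquiv Q i g 1) (hw m)
  refine ((LinearMap.congr_fun (S.coextEquiv_d Q (i - 1) i (w m)) 1).symm.trans h1).trans ?_
  show S.coextEquiv Q i ((S.coextEquiv Q i).symm _) 1 = _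
  rw [AddEquiv.apply_symm_apply]
  simp

end Groth.Agent.DualCxLib
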