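import Groth.Agent.DualCxLib.Duality
import Mathlib.RingTheory.AdicCompletion.Functoriality

/-!
# The completion of a finite module is its Matlis bidual
-/

set_option autoImplicit false

universe u

open IsLocalRing

noncomputable section

namespace Groth.Agent.DualCxLib

variable {A : Type u} [CommRing A] [IsLocalRing A] [IsNoetherianRing A]
  {E : Type u} [AddCommGroup E] [Module A E] {f : ResidueField A →ₗ[A] E} (hf : InjHull.IsInjectiveHull f)
  {N : Type u} [AddCommGroup N] [Module A N] [Module.Finite A N]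

omit [IsNoetherianRing A] [Module.Finite A N] in
theorem isPowerTorsion_quot (n : ℕ) :
    LocCoh.IsPowerTorsion (maximalIdeal A) (N ⧸ (maximalIdeal A ^ n • ⊤ : Submodule A N)) := fun x => by
  obtain ⟨x, rfl⟩ := Submodule.Quotient.mk_surjective _ x
  exact ⟨n, fun a ha => (Submodule.Quotient.mk_eq_zero _).2 (Submodule.smul_mem_smul ha Submodule.mem_top)⟩

include hf

theorem evalQuot_bijective (n : ℕ) : Function.Bijective
    (LinearMap.applyₗ : (N ⧸ (maximalIdeal A ^ n • ⊤ : Submodule A N)) →ₗ[A]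
      ((N ⧸ (maximalIdeal A ^ n • ⊤ : Submodule A N)) →ₗ[A] E) →ₗ[A] E) :=
  InjHullLib.eval_bijective_of_isFiniteLength hf (isFiniteLength_of_torsion _ (isPowerTorsion_quot n))

theorem exists_pow_le_ker (φ : N →ₗ[A] E) : ∃ n, (maximalIdeal A ^ n • ⊤ : Submodule A N) ≤ LinearMap.ker φ := by
  obtain ⟨s, hs⟩ := Module.Finite.fg_top (R := A) (M := N)
  choose k hk using fun u => InjHullLib.isPowerTorsion_of_hull (maximalIdeal A) hf.toIsEssentialInj (φ u)
  refine ⟨s.sup k, Submodule.smul_le.2 fun a ha x _ => ?_⟩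
  have h : a • φ = 0 := LinearMap.ext_on (hs : Submodule.span A (s : Set N) = ⊤) fun u hu =>
    hk u a (Ideal.pow_le_pow_right (Finset.le_sup hu) ha)
  rw [LinearMap.mem_ker, map_smul]
  exact LinearMap.congr_fun h x

/-- The `n`-th component of an element of the bidual. -/
def bidualComp (n : ℕ) :
    ((N →ₗ[A] E) →ₗ[A] E) →ₗ[A] N ⧸ (maximalIdeal A ^ n • ⊤ : Submodule A N) :=
  (LinearEquiv.ofBijective _ (evalQuot_bijective hf n)).symm.toLinearMap ∘ₗ
    LinearMap.lcomp A E (LinearMap.lcomp A E (Submodule.mkQ (maximalIdeal A ^ n • ⊤ : Submodule A N)))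

theorem bidualComp_spec (n : ℕ) (h : (N →ₗ[A] E) →ₗ[A] E)
    (ψ : (N ⧸ (maximalIdeal A ^ n • ⊤ : Submodule A N)) →ₗ[A] E) :
    ψ (bidualComp hf n h) = h (ψ ∘ₗ Submodule.mkQ _) :=
  LinearMap.congr_fun ((LinearEquiv.ofBijective _ (evalQuot_bijective hf n)).apply_symm_apply
    (LinearMap.lcomp A E (LinearMap.lcomp A E (Submodule.mkQ (maximalIdeal A ^ n • ⊤ : Submodule A N))) h)) ψ

theorem bidualComp_compat {m n : ℕ} (hle : m ≤ n) :
    AdicCompletion.transitionMap (maximalIdeal A) N hle ∘ₗ bidualComp (E := E) hf n = bidualComp hf m := by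
  refine LinearMap.ext fun h => (evalQuot_bijective (N := N) hf m).1 (LinearMap.ext fun ψ => ?_)
  refine Eq.trans ?_ (bidualComp_spec hf m h ψ).symm
  refine (bidualComp_spec hf n h (ψ ∘ₗ AdicCompletion.transitionMap (maximalIdeal A) N hle)).trans ?_
  refine congrArg h (LinearMap.ext fun x => ?_)
  rfl

/-- The bidual maps to the completion. -/
def bidualToCompletion : ((N →ₗ[A] E) →ₗ[A] E) →ₗ[A] AdicCompletion (maximalIdeal A) N :=
  AdicCompletion.lift _ (bidualComp hf) fun hle => bidualComp_compat hf hle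

theorem bidualToCompletion_bijective : Function.Bijective (bidualToCompletion (N := N) hf) := by
  refine ⟨(injective_iff_map_eq_zero _).2 fun h hh => LinearMap.ext fun φ => ?_, fun x => ?_⟩
  · obtain ⟨n, hn⟩ := exists_pow_le_ker hf φ
    have h0 : bidualComp hf n h = 0 := congr(($hh).1 n)
    have h1 := bidualComp_spec hf n h (Submodule.liftQ _ φ hn)
    rw [h0, map_zero, Submodule.liftQ_mkQ] at h1
    exact h1.symm
  · choose k hk using exists_pow_le_ker (N := N) hf
    have indep : ∀ (φ : N →ₗ[A] E) (n : ℕ) (hn : (maximalIdeal A ^ n • ⊤ : Submodule A N) ≤ LinearMap.ker φ)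
        (n' : ℕ) (hn' : (maximalIdeal A ^ n' • ⊤ : Submodule A N) ≤ LinearMap.ker φ),
        Submodule.liftQ _ φ hn (x.1 n) = Submodule.liftQ _ φ hn' (x.1 n') := by
      intro φ
      suffices key : ∀ (n : ℕ) (hn : (maximalIdeal A ^ n • ⊤ : Submodule A N) ≤ LinearMap.ker φ)
          (n' : ℕ) (hn' : (maximalIdeal A ^ n' • ⊤ : Submodule A N) ≤ LinearMap.ker φ), n ≤ n' →
          Submodule.liftQ _ φ hn (x.1 n) = Submodule.liftQ _ φ hn' (x.1 n') by
        intro n hn n' hn'
        rcases le_total n n' with h | h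
        · exact key n hn n' hn' h
        · exact (key n' hn' n hn h).symm
      intro n hn n' hn' h
      rw [← x.2 h]
      obtain ⟨y, hy⟩ := Submodule.Quotient.mk_surjective _ (x.1 n')
      rw [← hy]
      rfl
    let H : (N →ₗ[A] E) →ₗ[A] E :=
      { toFun := fun φ => Submodule.liftQ _ φ (hk φ) (x.1 (k φ))
        map_add' := fun φ ψ => by
          let n := max (k φ) (max (k ψ) (k (φ + ψ)))
          have e : ∀ θ : N →ₗ[A] E, k θ ≤ n → (maximalIdeal A ^ n • ⊤ : Submodule A N) ≤ LinearMap.ker θ :=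
            fun θ hθ => le_trans (Submodule.smul_mono_left (Ideal.pow_le_pow_right hθ)) (hk θ)
          have h1 : k φ ≤ n := le_max_left _ _
          have h2 : k ψ ≤ n := le_trans (le_max_left _ _) (le_max_right _ _)
          have h3 : k (φ + ψ) ≤ n := le_trans (le_max_right _ _) (le_max_right _ _)
          show _ = Submodule.liftQ _ φ (hk φ) (x.1 (k φ)) + Submodule.liftQ _ ψ (hk ψ) (x.1 (k ψ))
          rw [indep _ _ (hk φ) n (e φ h1), indep _ _ (hk ψ) n (e ψ h2), indep _ _ (hk (φ + ψ)) n (e _ h3)]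
          obtain ⟨y, hy⟩ := Submodule.Quotient.mk_surjective _ (x.1 n)
          rw [← hy]
          rfl
        map_smul' := fun r φ => by
          let n := max (k φ) (k (r • φ))
          have e : ∀ θ : N →ₗ[A] E, k θ ≤ n → (maximalIdeal A ^ n • ⊤ : Submodule A N) ≤ LinearMap.ker θ :=
            fun θ hθ => le_trans (Submodule.smul_mono_left (Ideal.pow_le_pow_right hθ)) (hk θ)
          show _ = r • Submodule.liftQ _ φ (hk φ) (x.1 (k φ))
          rw [indep _ _ (hk φ) n (e φ (le_max_left _ _)), indep _ _ (hk (r • φ)) n (e _ (le_max_right _ _))]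
          obtain ⟨y, hy⟩ := Submodule.Quotient.mk_surjective _ (x.1 n)
          rw [← hy]
          rfl }
    refine ⟨H, AdicCompletion.ext fun n => (evalQuot_bijective (N := N) hf n).1 (LinearMap.ext fun ψ => ?_)⟩
    refine (bidualComp_spec hf n H ψ).trans ?_
    show Submodule.liftQ _ (ψ ∘ₗ Submodule.mkQ _) (hk _) (x.1 _) = ψ (x.1 n)
    rw [indep _ _ (hk _) n (fun y hy => by
      rw [LinearMap.mem_ker, LinearMap.comp_apply, Submodule.mkQ_apply, (Submodule.Quotient.mk_eq_zero _).2 hy,
        map_zero])]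
    obtain ⟨y, hy⟩ := Submodule.Quotient.mk_surjective _ (x.1 n)
    rw [← hy]
    rfl

/-- The completion of a finite module is its Matlis bidual. -/
def completionBidual : AdicCompletion (maximalIdeal A) N ≃ₗ[A] ((N →ₗ[A] E) →ₗ[A] E) :=
  (LinearEquiv.ofBijective _ (bidualToCompletion_bijective hf)).symm

end Groth.Agent.DualCxLib
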