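import Groth.Agent.DualCxLib.DimFn
import Groth.Agent.GorLib.SupportChain
import Groth.Agent.FlatDepth.Basic
import Mathlib.Algebra.Module.LocalizedModule.Exact

/-!
# Depth and dimension read off from a dualizing complex
-/

set_option autoImplicit false
set_option backward.isDefEq.respectTransparency false

universe u

open CategoryTheory Order
open scoped Pointwise
attribute [local instance] HasDerivedCategory.standard

noncomputable section

namespace Groth.Agent.DualCxLib

variable {A : Type u} [CommRing A] [IsNoetherianRing A] {ω : Dual.D A} (hω : Dual.IsDualizing A ω)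
include hω

theorem le_height_Ici (q : PrimeSpectrum A) : ∀ p : PrimeSpectrum A, ∀ h : q ≤ p,
    ((dfn hω p - dfn hω q).toNat : ℕ∞) ≤ height (⟨p, h⟩ : Set.Ici q) := by
  intro p
  induction p using (wellFoundedLT_spec (A := A)).wf.induction with
  | _ p ih =>
    intro h
    rcases lt_or_eq_of_le h with hlt | rfl
    · obtain ⟨r, hqr, hr⟩ := exists_covBy_le_of_lt' hlt
      have h1 := ih r hr.lt hqr
      have h2 := dfn_covBy hω hr
      have h3 := dfn_le hω hqr
      rw [show (dfn hω p - dfn hω q).toNat = (dfn hω r - dfn hω q).toNat + 1 by omega, Nat.cast_add, Nat.cast_one]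
      refine (add_le_add_left h1 1).trans ?_
      exact Order.height_add_one_le (show (⟨r, hqr⟩ : Set.Ici q) < ⟨p, h⟩ from hr.lt)
    · simp

variable {M : Type u} [AddCommGroup M] [Module A M] [Module.Finite A M]

theorem supportDim_localized_le (p : PrimeSpectrum A) (d : ℕ)
    (hlo : ∀ Q ∈ Module.support A M, Q ≤ p → dfn hω p - d ≤ dfn hω Q) :
    Module.supportDim (Localization.AtPrime p.asIdeal) (LocalizedModule p.asIdeal.primeCompl M) ≤
      (d : WithBot ℕ∞) := by
  rw [Module.supportDim, Order.krullDim]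
  refine iSup_le fun l => ?_
  let F : Module.support (Localization.AtPrime p.asIdeal) (LocalizedModule p.asIdeal.primeCompl M) →
      PrimeSpectrum A := fun Q => PrimeSpectrum.comap (algebraMap A _) Q.1
  have hF : StrictMono F := fun a b hab => by
    refine lt_of_le_of_ne (Ideal.comap_mono hab.le) fun he => hab.ne (Subtype.ext ?_)
    exact PrimeSpectrum.localization_comap_injective _ p.asIdeal.primeCompl he
  have hle : ∀ Q, F Q ≤ p := fun Q x hx => by
    by_contra hxp
    exact Q.1.isPrime.ne_top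
      (Ideal.eq_top_of_isUnit_mem _ hx (IsLocalization.map_units _ (⟨x, hxp⟩ : p.asIdeal.primeCompl)))
  have h1 := dfn_ltSeries hω (l.map F hF)
  have h2 := hlo (F l.head) ((QGorLib.mem_support_localized_iff p.asIdeal l.head.1).1 l.head.2) (hle _)
  have h3 := dfn_le hω (hle l.last)
  rw [LTSeries.last_map, LTSeries.head_map, LTSeries.map_length] at h1
  exact_mod_cast show l.length ≤ d by omega

theorem le_supportDim_localized (p Q : PrimeSpectrum A) (hQ : Q ∈ Module.support A M) (h : Q ≤ p) :
    ((dfn hω p - dfn hω Q).toNat : WithBot ℕ∞) ≤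
      Module.supportDim (Localization.AtPrime p.asIdeal) (LocalizedModule p.asIdeal.primeCompl M) := by
  refine le_trans ?_ (GorLib.height_Ici_le_supportDim_localized M Q p
    (Module.mem_support_iff_of_finite.1 hQ) h)
  exact WithBot.coe_le_coe.2 (le_height_Ici hω Q p h)

/-- The dimension of `M_p`. -/
theorem exists_supportDim_localized (p : PrimeSpectrum A) (hp : p ∈ Module.support A M) :
    ∃ d : ℕ, Module.supportDim (Localization.AtPrime p.asIdeal) (LocalizedModule p.asIdeal.primeCompl M) =
        (d : WithBot ℕ∞) ∧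
      (∀ Q ∈ Module.support A M, Q ≤ p → dfn hω p - d ≤ dfn hω Q) ∧
      ∃ P ∈ Module.support A M, P ≤ p ∧ dfn hω P = dfn hω p - d ∧
        ∀ Q ∈ Module.support A M, Q ≤ P → Q = P := by
  classical
  obtain ⟨lo, ⟨P, hP, hPp, rfl⟩, hmin⟩ := Int.exists_least_of_bdd
    (P := fun z => ∃ P ∈ Module.support A M, P ≤ p ∧ dfn hω P = z)
    ⟨(model hω).a, fun z ⟨P, _, _, hz⟩ => hz ▸ (dfn_mem hω P).1⟩ ⟨_, p, hp, le_rfl, rfl⟩
  refine ⟨(dfn hω p - dfn hω P).toNat, le_antisymm ?_ (le_supportDim_localized hω p P hP hPp), ?_, P, hP, hPp, ?_, ?_⟩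
  · refine supportDim_localized_le hω p _ fun Q hQ hQp => ?_
    have := hmin _ ⟨Q, hQ, hQp, rfl⟩
    have := dfn_le hω hPp
    omega
  · intro Q hQ hQp
    have := hmin _ ⟨Q, hQ, hQp, rfl⟩
    have := dfn_le hω hPp
    omega
  · have := dfn_le hω hPp
    omega
  · intro Q hQ hQP
    by_contra hne
    have := hmin _ ⟨Q, hQ, hQP.trans hPp, rfl⟩
    have := dfn_lt hω (lt_of_le_of_ne hQP hne)
    omega

theorem dim_bounds (p : PrimeSpectrum A) (d : ℕ)
    (hd : Module.supportDim (Localization.AtPrime p.asIdeal) (LocalizedModule p.asIdeal.primeCompl M) =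
      (d : WithBot ℕ∞)) :
    (∀ i, ¬ ZeroAt p.asIdeal (HK ω i M) → dfn hω p - d ≤ i ∧ i ≤ dfn hω p) ∧
      ¬ ZeroAt p.asIdeal (HK ω (dfn hω p - d) M) := by
  have hp : p ∈ Module.support A M := by
    rw [← not_zeroAt_iff_mem_support, not_zeroAt_iff_nontrivial]
    exact (Module.supportDim_ne_bot_iff_nontrivial (Localization.AtPrime p.asIdeal)
      (LocalizedModule p.asIdeal.primeCompl M)).1 (by rw [hd]; exact WithBot.coe_ne_bot)
  obtain ⟨d', hd', hlo, P, hP, hPp, hPn, hPmin⟩ := exists_supportDim_localized hω p hp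
  obtain rfl : d' = d := by exact_mod_cast hd'.symm.trans hd
  refine ⟨fun i hi => ⟨le_of_not_zeroAt hω p hlo hi, le_dfn_of_not_zeroAt hω p hi⟩, fun h => ?_⟩
  rw [← hPn] at h
  exact not_zeroAt_of_minimal hω P hP hPmin (h.of_le hPp)

omit hω

theorem zeroAt_ker_smul {p : Ideal A} [p.IsPrime] {N : Type u} [AddCommGroup N] [Module A N] {x : A}
    (hx : IsSMulRegular (LocalizedModule p.primeCompl N) (algebraMap A (Localization.AtPrime p) x))
    {y : N} (hy : x • y = 0) : ∃ s ∉ p, s • y = 0 := by
  have h0 : LocalizedModule.mkLinearMap p.primeCompl N y = 0 := by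
    refine hx ?_
    show algebraMap A (Localization.AtPrime p) x • LocalizedModule.mkLinearMap p.primeCompl N y =
      algebraMap A (Localization.AtPrime p) x • (0 : LocalizedModule p.primeCompl N)
    rw [smul_zero, algebraMap_smul, ← map_smul, hy, map_zero]
  obtain ⟨⟨s, hs⟩, hsy⟩ := (IsLocalizedModule.eq_zero_iff p.primeCompl
    (LocalizedModule.mkLinearMap p.primeCompl N)).1 h0
  exact ⟨s, hs, hsy⟩

include hω

theorem depth_zero_case (p : PrimeSpectrum A)
    (hp : LocCoh.depth (Localization.AtPrime p.asIdeal) (LocalizedModule p.asIdeal.primeCompl M) = 0) :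
    ¬ ZeroAt p.asIdeal (HK ω (dfn hω p) M) := by
  haveI : Module.Finite (Localization.AtPrime p.asIdeal) (LocalizedModule p.asIdeal.primeCompl M) :=
    Module.Finite.of_isLocalizedModule p.asIdeal.primeCompl (LocalizedModule.mkLinearMap p.asIdeal.primeCompl M)
  haveI : Nontrivial (LocalizedModule p.asIdeal.primeCompl M) := by
    by_contra hc
    haveI := not_nontrivial_iff_subsingleton.1 hc
    rw [CAlgBasics.depth_eq_top] at hp
    exact ENat.top_ne_zero hp
  obtain ⟨z, hz0, hz⟩ := FlatDepth.depth_eq_zero_iff.1 hp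
  obtain ⟨⟨y, s⟩, rfl⟩ := IsLocalizedModule.mk'_surjective p.asIdeal.primeCompl
    (LocalizedModule.mkLinearMap p.asIdeal.primeCompl M) z
  simp only [Function.uncurry_apply_pair] at hz0 hz
  have hy : ∀ a ∈ p.asIdeal, ∃ t ∉ p.asIdeal, t • a • y = 0 := fun a ha => by
    have h1 := hz _ ((IsLocalization.AtPrime.to_map_mem_maximal_iff _ p.asIdeal a).2 ha)
    rw [algebraMap_smul, ← IsLocalizedModule.mk'_smul, IsLocalizedModule.mk'_eq_zero'] at h1
    obtain ⟨⟨t, ht⟩, hty⟩ := h1
    exact ⟨t, ht, hty⟩
  choose! t ht hty using hy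
  obtain ⟨S, hS⟩ := (p.asIdeal.fg_of_isNoetherianRing : p.asIdeal.FG)
  classical
  let c := ∏ a ∈ S, t a
  have hc : c ∉ p.asIdeal := fun h => by
    obtain ⟨a, ha, hta⟩ := (Ideal.IsPrime.prod_mem_iff).1 h
    exact ht a (hS ▸ Ideal.subset_span ha) hta
  have hkill : ∀ a ∈ p.asIdeal, a • c • y = 0 := by
    intro a ha
    rw [← hS] at ha
    induction ha using Submodule.span_induction with
    | mem a ha =>
      obtain ⟨c', hc'⟩ := Finset.dvd_prod_of_mem t ha
      have hc'' : c = c' * t a := hc'.trans (mul_comm _ _)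
      rw [smul_smul, hc'', show a * (c' * t a) = c' * (t a * a) by ring, mul_smul, mul_smul,
        hty a (hS ▸ Ideal.subset_span ha), smul_zero]
    | zero => rw [zero_smul]
    | add u v _ _ hu hv => rw [add_smul, hu, hv, add_zero]
    | smul r u _ hu => rw [smul_eq_mul, mul_smul, hu, smul_zero]
  let f : (A ⧸ p.asIdeal) →ₗ[A] M := p.asIdeal.liftQ (LinearMap.toSpanSingleton A M (c • y)) hkill
  have hf : Function.Injective f := by
    rw [injective_iff_map_eq_zero]
    intro u hu
    obtain ⟨r, rfl⟩ := Ideal.Quotient.mk_surjective u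
    rw [Ideal.Quotient.eq_zero_iff_mem]
    by_contra hr
    have hu' : r • c • y = 0 := hu
    refine hz0 ((IsLocalizedModule.mk'_eq_zero' _ _).2 ⟨⟨r * c, fun h => ?_⟩, ?_⟩)
    · exact (p.2.mem_or_mem h).elim hr hc
    · show (r * c) • y = 0
      rw [mul_smul, hu']
  intro hzero
  refine not_zeroAt_dfn hω p (ZeroAt.of_exact
    (exact_left ω hf (LinearMap.exact_map_mkQ_range f) (Submodule.mkQ_surjective _) (dfn hω p)) hzero ?_)
  by_contra hc'
  have := le_dfn_of_not_zeroAt hω p hc'
  omega

/-- Vanishing above `n(p) - depth M_p` and nonvanishing there. -/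
theorem depth_bounds (p : PrimeSpectrum A) : ∀ (D : ℕ) (M : Type u) [AddCommGroup M] [Module A M] [Module.Finite A M],
    LocCoh.depth (Localization.AtPrime p.asIdeal) (LocalizedModule p.asIdeal.primeCompl M) = D →
    (∀ i, ¬ ZeroAt p.asIdeal (HK ω i M) → i ≤ dfn hω p - D) ∧
      ¬ ZeroAt p.asIdeal (HK ω (dfn hω p - D) M) := by
  intro D
  induction D with
  | zero =>
    intro M _ _ _ hD
    refine ⟨fun i hi => by have := le_dfn_of_not_zeroAt hω p hi; push_cast; omega, ?_⟩
    rw [Nat.cast_zero, sub_zero]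
    exact depth_zero_case hω p (by exact_mod_cast hD)
  | succ D ih =>
    intro M _ _ _ hD
    let Mp := LocalizedModule p.asIdeal.primeCompl M
    haveI : Module.Finite (Localization.AtPrime p.asIdeal) Mp :=
      Module.Finite.of_isLocalizedModule p.asIdeal.primeCompl (LocalizedModule.mkLinearMap p.asIdeal.primeCompl M)
    haveI : Nontrivial Mp := by
      by_contra hc
      haveI := not_nontrivial_iff_subsingleton.1 hc
      rw [CAlgBasics.depth_eq_top] at hD
      exact ENat.top_ne_coe _ hD
    obtain ⟨r, hr, hreg⟩ := FlatDepth.exists_regular_of_depth hD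
    obtain ⟨⟨x, s⟩, rfl⟩ := IsLocalization.mk'_surjective p.asIdeal.primeCompl r
    simp only [Function.uncurry_apply_pair] at hr hreg
    have hx : x ∈ p.asIdeal := (IsLocalization.AtPrime.mk'_mem_maximal_iff _ p.asIdeal x s).1 hr
    have hreg' : IsSMulRegular Mp (algebraMap A (Localization.AtPrime p.asIdeal) x) := by
      rw [← IsLocalization.mk'_spec (Localization.AtPrime p.asIdeal) x s]
      exact hreg.mul (IsUnit.isSMulRegular _ (IsLocalization.map_units _ s))
    let xM : M →ₗ[A] M := x • LinearMap.id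
    let R := LinearMap.range xM
    let a : M →ₗ[A] R := xM.rangeRestrict
    have hK : ZeroAt p.asIdeal (LinearMap.ker a) := fun y => by
      obtain ⟨s, hs, hsy⟩ := zeroAt_ker_smul hreg' (congrArg Subtype.val y.2)
      exact ⟨s, hs, Subtype.ext hsy⟩
    have hKT : ∀ i, ZeroAt p.asIdeal (HK ω i (LinearMap.ker a)) := fun i => by
      obtain ⟨s, hs, hsy⟩ := exists_annihilator_of_zeroAt hK
      exact .of_smul hs fun u => smul_eq_zero_of_smul ω i hsy u
    -- the quotient
    let q := LocalizedModule.map p.asIdeal.primeCompl R.mkQ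
    have hqsurj : Function.Surjective q :=
      LocalizedModule.map_surjective p.asIdeal.primeCompl R.mkQ R.mkQ_surjective
    have hqker : LinearMap.ker q = (algebraMap A (Localization.AtPrime p.asIdeal) x) • (⊤ : Submodule (Localization.AtPrime p.asIdeal) Mp) := by
      ext z
      have hex := LocalizedModule.map_exact p.asIdeal.primeCompl xM R.mkQ (LinearMap.exact_map_mkQ_range xM)
      rw [LinearMap.mem_ker, show q z = 0 ↔ z ∈ Set.range (LocalizedModule.map p.asIdeal.primeCompl xM) from hex z,
        Set.mem_range, Submodule.mem_smul_pointwise_iff_exists]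
      refine exists_congr fun w => ?_
      rw [show LocalizedModule.map p.asIdeal.primeCompl xM w = x • w by
        induction w using LocalizedModule.induction_on with
        | _ m t =>
          rw [LocalizedModule.map_mk, LocalizedModule.smul'_mk]
          rfl, algebraMap_smul]
      exact ⟨fun h => ⟨Submodule.mem_top, h⟩, fun h => h.2⟩
    have hQD : LocCoh.depth (Localization.AtPrime p.asIdeal) (LocalizedModule p.asIdeal.primeCompl (M ⧸ R)) =
        (D : ℕ∞) := by
      rw [FlatDepth.depth_congr (((Submodule.quotEquivOfEq _ _ hqker).symm.trans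
        (q.quotKerEquivOfSurjective hqsurj)).symm)]
      have h1 := FlatDepth.depth_quotSMulTop (M := Mp)
        ((IsLocalization.AtPrime.to_map_mem_maximal_iff _ p.asIdeal x).2 hx) hreg'
      rw [hD, Nat.cast_add, Nat.cast_one] at h1
      exact WithTop.add_right_cancel (by simp) h1
    obtain ⟨hQ1, hQ2⟩ := ih (M ⧸ R) hQD
    -- the two sequences
    have hS1 : ∀ i, Function.Exact (δ ω Subtype.val_injective (LinearMap.exact_subtype_ker_map a)
        xM.surjective_rangeRestrict i) (pre ω (i + 1) a) := fun i => exact_right ω _ _ _ i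
    have hS1' : ∀ i, Function.Exact (pre ω i a) (pre ω i (LinearMap.ker a).subtype) := fun i =>
      exact_mid ω Subtype.val_injective (LinearMap.exact_subtype_ker_map a) xM.surjective_rangeRestrict i
    have hvan : ∀ i, dfn hω p - (D + 1 : ℕ) < i → ZeroAt p.asIdeal (HK ω i M) := by
      intro i hi
      have hC : ZeroAt p.asIdeal (HK ω (i + 1) (M ⧸ R)) := by
        by_contra hc
        have := hQ1 _ hc
        omega
      haveI := finite_HK' hω i M
      refine zeroAt_of_smul_surjective hx fun y => ?_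
      obtain ⟨s₁, hs₁, hsy⟩ := hKT i (pre ω i (LinearMap.ker a).subtype y)
      obtain ⟨u, hu⟩ := (hS1' i (s₁ • y)).1 (by rw [map_smul, hsy])
      obtain ⟨s₂, hs₂, hsu⟩ := hC (δ ω R.injective_subtype (LinearMap.exact_subtype_mkQ R) R.mkQ_surjective i u)
      obtain ⟨w, hw⟩ := exists_pre_eq ω R.injective_subtype (LinearMap.exact_subtype_mkQ R) R.mkQ_surjective i
        (s₂ • u) (by rw [map_smul, hsu])
      refine ⟨s₂ * s₁, fun h => (p.2.mem_or_mem h).elim hs₂ hs₁, w, ?_⟩
      rw [mul_smul, ← hu, ← map_smul, ← hw, pre_pre, show R.subtype ∘ₗ a = xM from xM.subtype_comp_codRestrict _ _]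
      exact pre_smul_id ω i x w
    refine ⟨fun i hi => ?_, fun hz => hQ2 ?_⟩
    · by_contra hc
      exact hi (hvan i (by omega))
    · obtain ⟨j, hj⟩ : ∃ j, dfn hω p - (D : ℤ) = j + 1 := ⟨dfn hω p - D - 1, by omega⟩
      rw [show dfn hω p - ((D + 1 : ℕ) : ℤ) = j by push_cast; omega] at hz
      rw [hj]
      refine ZeroAt.of_exact (exact_right ω R.injective_subtype (LinearMap.exact_subtype_mkQ R) R.mkQ_surjective j)
        ?_ (hvan (j + 1) (by push_cast; omega))
      intro u
      obtain ⟨s, hs, hsu⟩ := hz (pre ω j a u)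
      -- `pre a` is injective at `p`
      obtain ⟨k, hk⟩ : ∃ k, j = k + 1 := ⟨j - 1, by omega⟩
      subst hk
      obtain ⟨v, hv⟩ := (hS1 k (s • u)).1 (by rw [map_smul, hsu])
      obtain ⟨t, ht, htv⟩ := hKT k v
      refine ⟨t * s, fun h => (p.2.mem_or_mem h).elim ht hs, ?_⟩
      rw [mul_smul, ← hv, ← map_smul, htv, map_zero]

end Groth.Agent.DualCxLib
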