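import Groth.Agent.DualCxLib.Pairing
import Groth.Agent.LocCohLib.Torsion
import Groth.Agent.LocCohLib.MaxIdeal
import Groth.Agent.LocCohLib.Artinian

/-!
# Local duality
-/

set_option autoImplicit false
set_option backward.isDefEq.respectTransparency false
set_option maxRecDepth 4000

universe u v w

open CategoryTheory IsLocalRing
attribute [local instance] HasDerivedCategory.standard

noncomputable section

namespace Groth.Agent.DualCxLib

/-- The dual of an exact pair into an injective module, elementwise. -/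
theorem exists_factor {A : Type u} [CommRing A] {E : Type u} [AddCommGroup E] [Module A E] [Small.{v} A]
    [Module.Injective A E] {V : Type v} {W : Type w} {U : Type v} [AddCommGroup V] [Module A V]
    [AddCommGroup W] [Module A W] [AddCommGroup U] [Module A U]
    {a : V →ₗ[A] W} {b : W →ₗ[A] U} (h : Function.Exact a b) (φ : W →ₗ[A] E) (hφ : φ ∘ₗ a = 0) :
    ∃ ψ : U →ₗ[A] E, ψ ∘ₗ b = φ := by
  have hle : LinearMap.ker b ≤ LinearMap.ker φ := fun y hy => by
    obtain ⟨x, rfl⟩ := (h y).1 hy
    exact LinearMap.congr_fun hφ x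
  obtain ⟨ψ, hψ⟩ := (Module.Baer.of_injective ‹Module.Injective A E›).extension_property (LinearMap.range b).subtype
    Subtype.val_injective ((LinearMap.ker b).liftQ φ hle ∘ₗ b.quotKerEquivRange.symm.toLinearMap)
  refine ⟨ψ, LinearMap.ext fun y => ?_⟩
  refine (LinearMap.congr_fun hψ ⟨b y, y, rfl⟩).trans ?_
  show (LinearMap.ker b).liftQ φ hle (b.quotKerEquivRange.symm ⟨b y, _⟩) = φ y
  rw [show b.quotKerEquivRange.symm ⟨b y, y, rfl⟩ = Submodule.Quotient.mk y from
    b.quotKerEquivRange.symm_apply_eq.2 (Subtype.ext rfl), Submodule.liftQ_apply]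

variable {A : Type u} [CommRing A] [IsLocalRing A] [IsNoetherianRing A]

theorem isFiniteLength_of_torsion (N : Type u) [AddCommGroup N] [Module A N] [Module.Finite A N]
    (h : LocCoh.IsPowerTorsion (maximalIdeal A) N) : IsFiniteLength A N := by
  haveI : IsNoetherian A N := isNoetherian_of_isNoetherianRing_of_finite A N
  haveI : IsArtinian A N := by
    refine LocCohLib.isArtinian_of_isPowerTorsion (maximalIdeal A) (maximalIdeal A).fg_of_isNoetherianRing h ?_
    refine LocCohLib.isArtinian_of_finite_annihilated _ fun a ha x => Subtype.ext ?_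
    exact (Submodule.mem_torsionBySet_iff _ _).1 x.2 ⟨a, ha⟩
  exact isFiniteLength_iff_isNoetherian_isArtinian.2 ⟨inferInstance, inferInstance⟩

omit [IsNoetherianRing A] in
theorem torsion_torsionSub (M : Type u) [AddCommGroup M] [Module A M] :
    LocCoh.IsPowerTorsion (maximalIdeal A) (DRing.torsionSub (maximalIdeal A) M) := fun x =>
  let ⟨n, hn⟩ := x.2
  ⟨n, fun a ha => Subtype.ext (hn a ha)⟩

/-- The map induced on local cohomology. -/
abbrev Hmap {M M' : Type u} [AddCommGroup M] [Module A M] [AddCommGroup M'] [Module A M'] (i : ℕ)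
    (g : M →ₗ[A] M') : LocCoh.H (maximalIdeal A) i M →ₗ[A] LocCoh.H (maximalIdeal A) i M' :=
  ((localCohomology (maximalIdeal A) i).map (ModuleCat.ofHom g)).hom

variable {ω : Dual.D A} (S : Model ω)
  (hω : Dual.IsDualizing A ω) (hn : Dual.IsNormalized A ω)
  {E : Type u} [AddCommGroup E] [Module A E] (e : S.E0 ≃ₗ[A] E) {f : ResidueField A →ₗ[A] E}
  (hf : InjHull.IsInjectiveHull f)

theorem exact_smul {M : Type u} [AddCommGroup M] [Module A M] (x : A) :
    Function.Exact (x • (LinearMap.id : M →ₗ[A] M)) (LinearMap.range (x • (LinearMap.id : M →ₗ[A] M))).mkQ :=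
  LinearMap.exact_map_mkQ_range _

include hω hn in
theorem subsingleton_HK_pos (M : Type u) [AddCommGroup M] [Module A M] [Module.Finite A M] {i : ℤ} (hi : 0 < i) :
    Subsingleton (HK ω i M) := by
  rw [← zeroAt_maximal_iff (A := A)]
  by_contra hc
  have h : i ≤ dfn hω (closedPoint A) := le_dfn_of_not_zeroAt hω (closedPoint A) hc
  rw [dfn_closedPoint hω hn] at h
  omega

include hω hn in
theorem bijective_pre_mkQ (M : Type u) [AddCommGroup M] [Module A M] [Module.Finite A M] {j : ℤ} (hj : j < 0) :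
    Function.Bijective (pre ω j (DRing.torsionSub (maximalIdeal A) M).mkQ) := by
  let T := DRing.torsionSub (maximalIdeal A) M
  haveI := subsingleton_HK_of_torsion hω hn (torsion_torsionSub (A := A) M) hj.ne
  haveI := subsingleton_HK_of_torsion hω hn (torsion_torsionSub (A := A) M) (show j - 1 ≠ 0 by omega)
  refine ⟨(injective_iff_map_eq_zero _).2 fun u hu => ?_, fun u => ?_⟩
  · obtain ⟨j, rfl⟩ : ∃ k, j = k + 1 := ⟨j - 1, by omega⟩
    obtain ⟨v, rfl⟩ := exists_δ_eq ω T.injective_subtype (LinearMap.exact_subtype_mkQ T) T.mkQ_surjective j u hu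
    haveI : Subsingleton (HK ω j T) := by
      rwa [show j + 1 - 1 = j by omega] at *
    rw [Subsingleton.elim v 0, map_zero]
  · exact (exact_mid ω T.injective_subtype (LinearMap.exact_subtype_mkQ T) T.mkQ_surjective j u).1
      (Subsingleton.elim _ _)

include hω hn in
theorem subsingleton_HK_zero_of_socleZero (M : Type u) [AddCommGroup M] [Module A M] [Module.Finite A M]
    (h : CAlgBasics.SocleZero A M) : Subsingleton (HK ω 0 M) := by
  rcases subsingleton_or_nontrivial M with hM | hM
  · exact subsingleton_of_subsingleton _ _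
  obtain ⟨x, hx, hreg⟩ := h.exists_isSMulRegular
  haveI := finite_HK' hω 0 M
  haveI := subsingleton_HK_pos hω hn (M ⧸ LinearMap.range (x • (LinearMap.id : M →ₗ[A] M))) (show (0 : ℤ) < 0 + 1 by norm_num)
  rw [← zeroAt_maximal_iff (A := A)]
  refine zeroAt_of_smul_surjective hx fun y => ?_
  obtain ⟨z, hz⟩ := exists_pre_eq ω (f := x • (LinearMap.id : M →ₗ[A] M)) hreg (exact_smul x)
    (Submodule.mkQ_surjective _) 0 y (Subsingleton.elim _ _)
  exact ⟨1, fun h1 => (maximalIdeal.isMaximal A).ne_top ((Ideal.eq_top_iff_one _).2 h1), z, by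
    rw [one_smul, ← hz, pre_smul_id]⟩

theorem socleZero_quot (M : Type u) [AddCommGroup M] [Module A M] :
    CAlgBasics.SocleZero A (M ⧸ DRing.torsionSub (maximalIdeal A) M) :=
  LocCohLib.socleZero_quot_torsion M

include hf

theorem Model.bijective_phi_torsion (N : Type u) [AddCommGroup N] [Module A N] [Module.Finite A N]
    (hN : LocCoh.IsPowerTorsion (maximalIdeal A) N) :
    ∀ (i : ℕ) (j : ℤ) (hj : j + i = 0), Function.Bijective (S.phi hω hn e (ModuleCat.of A N) i j hj)
  | 0, j, hj => by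
    obtain rfl : j = 0 := by simpa using hj
    let ε : HK ω 0 N ≃ₗ[A] (N →ₗ[A] E) := (S.equivE0 hω hn hN).trans e.congrRight
    have h : (S.phi hω hn e (ModuleCat.of A N) 0 0 hj : LocCoh.H (maximalIdeal A) 0 N → (HK ω 0 N →ₗ[A] E)) =
        (fun φ => φ ∘ₗ ε.toLinearMap) ∘ (LinearMap.applyₗ : N →ₗ[A] (N →ₗ[A] E) →ₗ[A] E) ∘
          LocCohLib.h0 (maximalIdeal A) (ModuleCat.of A N) := by
      funext z
      exact LinearMap.ext fun u => S.phi_h0 hω hn e (ModuleCat.of A N) hN z u
    rw [h]
    refine Function.Bijective.comp ⟨fun a b hab => ?_, fun ψ => ⟨ψ ∘ₗ ε.symm.toLinearMap, ?_⟩⟩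
      ((InjHullLib.eval_bijective_of_isFiniteLength hf (isFiniteLength_of_torsion N hN)).comp
        (LocCohLib.h0_bijective (ModuleCat.of A N) hN))
    · refine LinearMap.ext fun y => ?_
      obtain ⟨u, rfl⟩ := ε.surjective y
      exact LinearMap.congr_fun hab u
    · exact LinearMap.ext fun u => congrArg ψ (ε.symm_apply_apply u)
  | i + 1, j, hj => by
    haveI := LocCohLib.subsingleton_of_torsion (ModuleCat.of A N) hN i
    haveI := subsingleton_HK_of_torsion hω hn hN (show j ≠ 0 by omega)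
    exact ⟨Function.injective_of_subsingleton _, fun y => ⟨0, LinearMap.ext fun u => by
      rw [Subsingleton.elim u 0, map_zero, map_zero]⟩⟩

theorem Model.bijective_phi_zero (M : Type u) [AddCommGroup M] [Module A M] [Module.Finite A M] (j : ℤ)
    (hj : j + (0 : ℕ) = 0) : Function.Bijective (S.phi hω hn e (ModuleCat.of A M) 0 j hj) := by
  obtain rfl : j = 0 := by simpa using hj
  let T := DRing.torsionSub (maximalIdeal A) M
  haveI := subsingleton_HK_zero_of_socleZero hω hn (M ⧸ T) (socleZero_quot M)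
  haveI := subsingleton_HK_pos hω hn (M ⧸ T) (show (0 : ℤ) < 0 + 1 by norm_num)
  have hpre : Function.Bijective (pre ω 0 T.subtype) := by
    refine ⟨(injective_iff_map_eq_zero _).2 fun u hu => ?_, fun u =>
      exists_pre_eq ω T.injective_subtype (LinearMap.exact_subtype_mkQ T) T.mkQ_surjective 0 u (Subsingleton.elim _ _)⟩
    obtain ⟨v, rfl⟩ := (exact_mid ω T.injective_subtype (LinearMap.exact_subtype_mkQ T) T.mkQ_surjective 0 u).1 hu
    rw [Subsingleton.elim v 0, map_zero]
  have hmap : Function.Bijective (Hmap 0 T.subtype) := by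
    refine ⟨(injective_iff_map_eq_zero _).2 fun z hz => LocCohLib.h0_injective ?_, fun z => ?_⟩
    · rw [map_zero]
      refine T.injective_subtype ?_
      exact ((LocCohLib.h0_map (ModuleCat.ofHom T.subtype) z).symm.trans (congrArg _ hz)).trans
        (by rw [map_zero, map_zero])
    · obtain ⟨w, hw⟩ : ∃ w, LocCohLib.h0 (maximalIdeal A) (ModuleCat.of A T) w =
          ⟨LocCohLib.h0 (maximalIdeal A) (ModuleCat.of A M) z, LocCohLib.range_h0.le ⟨z, rfl⟩⟩ :=
        (LocCohLib.h0_bijective (ModuleCat.of A T) (torsion_torsionSub M)).2 _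
      refine ⟨w, LocCohLib.h0_injective ?_⟩
      exact (LocCohLib.h0_map (ModuleCat.ofHom T.subtype) w).trans (congrArg Subtype.val hw)
  have hb := S.bijective_phi_torsion hω hn e hf T (torsion_torsionSub M) 0 0 hj
  refine ⟨(injective_iff_map_eq_zero _).2 fun z hz => ?_, fun y => ?_⟩
  · obtain ⟨w, rfl⟩ := hmap.2 z
    rw [S.phi_natural hω hn e (ModuleCat.ofHom T.subtype) 0 0 hj] at hz
    have h0 : S.phi hω hn e (ModuleCat.of A T) 0 0 hj w = 0 := LinearMap.ext fun u => by
      obtain ⟨v, rfl⟩ := hpre.2 u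
      exact LinearMap.congr_fun hz v
    rw [(injective_iff_map_eq_zero _).1 hb.1 w h0, map_zero]
  · let eq := LinearEquiv.ofBijective _ hpre
    obtain ⟨w, hw⟩ := hb.2 (y ∘ₗ eq.symm.toLinearMap)
    refine ⟨Hmap 0 T.subtype w, (S.phi_natural hω hn e (ModuleCat.ofHom T.subtype) 0 0 hj w).trans ?_⟩
    rw [hw]
    exact LinearMap.ext fun u => congrArg y (eq.symm_apply_apply u)

theorem Model.bijective_phi_reduce (M : Type u) [AddCommGroup M] [Module A M] [Module.Finite A M] (k : ℕ)
    (j : ℤ) (hj : j + ((k + 1 : ℕ) : ℤ) = 0) :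
    (Function.Injective (S.phi hω hn e (ModuleCat.of A (M ⧸ DRing.torsionSub (maximalIdeal A) M)) (k + 1) j hj) →
      Function.Injective (S.phi hω hn e (ModuleCat.of A M) (k + 1) j hj)) ∧
    (Function.Surjective (S.phi hω hn e (ModuleCat.of A (M ⧸ DRing.torsionSub (maximalIdeal A) M)) (k + 1) j hj) →
      Function.Surjective (S.phi hω hn e (ModuleCat.of A M) (k + 1) j hj)) := by
  let T := DRing.torsionSub (maximalIdeal A) M
  have hpre := bijective_pre_mkQ hω hn M (show j < 0 by omega)
  have hs := sc_shortExact T.injective_subtype (LinearMap.exact_subtype_mkQ T) T.mkQ_surjective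
  haveI := LocCohLib.subsingleton_of_torsion (ModuleCat.of A T) (torsion_torsionSub M) k
  haveI := LocCohLib.subsingleton_of_torsion (ModuleCat.of A T) (torsion_torsionSub M) (k + 1)
  have hnat := fun z => S.phi_natural hω hn e (ModuleCat.ofHom T.mkQ) (k + 1) j hj z
  refine ⟨fun h => (injective_iff_map_eq_zero _).2 fun z hz => ?_, fun h y => ?_⟩
  · have h1 : Hmap (k + 1) T.mkQ z = 0 := h ((hnat z).trans (by rw [hz, LinearMap.zero_comp, map_zero]))
    obtain ⟨w, rfl⟩ := LocCohLib.exists_of_map_g_eq_zero (maximalIdeal A) hs (k + 1) z h1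
    rw [Subsingleton.elim w 0, map_zero]
  · obtain ⟨z', hz'⟩ := h (y ∘ₗ pre ω j T.mkQ)
    obtain ⟨z, rfl⟩ := LocCohLib.exists_of_δ_eq_zero (maximalIdeal A) hs (k + 1) z' (Subsingleton.elim _ _)
    refine ⟨z, LinearMap.ext fun u => ?_⟩
    obtain ⟨v, rfl⟩ := hpre.2 u
    exact (LinearMap.congr_fun (hnat z) v).symm.trans (LinearMap.congr_fun hz' v)

theorem Model.injective_phi_succ (k : ℕ)
    (ih : ∀ (M : Type u) [AddCommGroup M] [Module A M] [Module.Finite A M] (j : ℤ) (hj : j + k = 0),
      Function.Bijective (S.phi hω hn e (ModuleCat.of A M) k j hj))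
    (M : Type u) [AddCommGroup M] [Module A M] [Module.Finite A M] (j : ℤ) (hj : j + ((k + 1 : ℕ) : ℤ) = 0) :
    Function.Injective (S.phi hω hn e (ModuleCat.of A M) (k + 1) j hj) := by
  haveI := hf.isInjective
  refine (S.bijective_phi_reduce hω hn e hf M k j hj).1 ?_
  generalize hM' : DRing.torsionSub (maximalIdeal A) M = T
  have hsoc : CAlgBasics.SocleZero A (M ⧸ T) := hM' ▸ socleZero_quot M
  rcases subsingleton_or_nontrivial (M ⧸ T) with h | h
  · exact (S.bijective_phi_torsion hω hn e hf (M ⧸ T) (fun _ => ⟨0, fun _ _ => Subsingleton.elim _ _⟩) (k + 1) j hj).1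
  obtain ⟨x, hx, hreg⟩ := hsoc.exists_isSMulRegular
  let xM : (M ⧸ T) →ₗ[A] (M ⧸ T) := x • LinearMap.id
  have hs := sc_shortExact (f := xM) hreg (exact_smul x) (Submodule.mkQ_surjective _)
  have key : ∀ z, S.phi hω hn e (ModuleCat.of A (M ⧸ T)) (k + 1) j hj z = 0 → x • z = 0 → z = 0 := by
    intro z hz hxz
    obtain ⟨w, rfl⟩ := LocCohLib.exists_of_map_f_eq_zero (maximalIdeal A) hs k z
      ((LocCohLib.map_smul_id (maximalIdeal A) (k + 1) _ x z).trans hxz)
    have hz' : S.phi hω hn e _ k (j + 1) (by omega) w ∘ₗ δ ω (f := xM) hreg (exact_smul x) (Submodule.mkQ_surjective _) j = 0 :=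
      (S.phi_δ hω hn e (f := xM) hreg (exact_smul x) (Submodule.mkQ_surjective _) k j (by omega) hj w).symm.trans hz
    obtain ⟨ψ, hψ⟩ := exists_factor (exact_right ω (f := xM) hreg (exact_smul x) (Submodule.mkQ_surjective _) j)
      (S.phi hω hn e _ k (j + 1) (by omega) w) hz'
    obtain ⟨v, rfl⟩ := (ih (M ⧸ T) (j + 1) (by omega)).2 ψ
    have hw : w = Hmap k (LinearMap.range xM).mkQ v := (ih _ (j + 1) (by omega)).1
      (hψ.symm.trans (S.phi_natural hω hn e (ModuleCat.ofHom (LinearMap.range xM).mkQ) k (j + 1) (by omega) v).symm)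
    rw [hw]
    exact LocCohLib.δ_map_g (maximalIdeal A) hs k v
  refine (injective_iff_map_eq_zero _).2 fun z hz => ?_
  obtain ⟨n, hn'⟩ := LocCohLib.isPowerTorsion_H (maximalIdeal A) (k + 1) (ModuleCat.of A (M ⧸ T)) z
  have hpow := hn' (x ^ n) (Ideal.pow_mem_pow hx n)
  clear hn'
  induction n generalizing z with
  | zero => rwa [pow_zero, one_smul] at hpow
  | succ n ihn =>
    refine key z hz (ihn (x • z) (by rw [map_smul, hz, smul_zero]) ?_)
    rwa [smul_smul, ← pow_succ]

theorem Model.bijective_phi : ∀ (k : ℕ) (M : Type u) [AddCommGroup M] [Module A M] [Module.Finite A M] (j : ℤ)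
    (hj : j + k = 0), Function.Bijective (S.phi hω hn e (ModuleCat.of A M) k j hj) := by
  intro k
  induction k with
  | zero => exact fun M _ _ _ j hj => S.bijective_phi_zero hω hn e hf M j hj
  | succ k ih =>
    intro M _ _ _ j hj
    haveI := hf.isInjective
    have hinj := fun (N : Type u) [AddCommGroup N] [Module A N] [Module.Finite A N] =>
      S.injective_phi_succ hω hn e hf k ih N j hj
    refine ⟨hinj M, (S.bijective_phi_reduce hω hn e hf M k j hj).2 ?_⟩
    generalize hM' : DRing.torsionSub (maximalIdeal A) M = T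
    have hsoc : CAlgBasics.SocleZero A (M ⧸ T) := hM' ▸ socleZero_quot M
    rcases subsingleton_or_nontrivial (M ⧸ T) with h | h
    · exact (S.bijective_phi_torsion hω hn e hf (M ⧸ T) (fun _ => ⟨0, fun _ _ => Subsingleton.elim _ _⟩) (k + 1) j hj).2
    obtain ⟨x, hx, hreg⟩ := hsoc.exists_isSMulRegular
    let xM : (M ⧸ T) →ₗ[A] (M ⧸ T) := x • LinearMap.id
    have hs := sc_shortExact (f := xM) hreg (exact_smul x) (Submodule.mkQ_surjective _)
    let φ := S.phi hω hn e (ModuleCat.of A (M ⧸ T)) (k + 1) j hj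
    have key : ∀ y : HK ω j (M ⧸ T) →ₗ[A] E, x • y = 0 → ∃ z, φ z = y := by
      intro y hy
      have hy' : y ∘ₗ pre ω j xM = 0 := LinearMap.ext fun u => by
        rw [LinearMap.comp_apply, pre_smul_id, map_smul]
        exact LinearMap.congr_fun hy u
      obtain ⟨ψ, hψ⟩ := exists_factor (exact_left ω (f := xM) hreg (exact_smul x) (Submodule.mkQ_surjective _) j) y hy'
      obtain ⟨w, hw⟩ := (ih _ (j + 1) (by omega)).2 ψ
      refine ⟨LocCohLib.δ (maximalIdeal A) hs k w, ?_⟩
      refine (S.phi_δ hω hn e (f := xM) hreg (exact_smul x) (Submodule.mkQ_surjective _) k j (by omega) hj w).trans ?_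
      rw [hw, hψ]
    haveI := finite_HK' hω j (M ⧸ T)
    have htor : ∀ y : HK ω j (M ⧸ T) →ₗ[A] E, ∃ n : ℕ, x ^ n • y = 0 := by
      intro y
      obtain ⟨s, hs'⟩ := Module.Finite.fg_top (R := A) (M := HK ω j (M ⧸ T))
      choose N hN using fun u => InjHullLib.isPowerTorsion_of_hull (maximalIdeal A) hf.toIsEssentialInj (y u)
      refine ⟨s.sup N, LinearMap.ext_on (hs' : Submodule.span A (s : Set _) = ⊤) fun u hu => ?_⟩
      exact hN u (x ^ s.sup N) (Ideal.pow_le_pow_right (Finset.le_sup hu) (Ideal.pow_mem_pow hx _))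
    intro y
    obtain ⟨n, hpow⟩ := htor y
    induction n generalizing y with
    | zero => exact ⟨0, by rw [map_zero, ← hpow, pow_zero, one_smul]⟩
    | succ n ihn =>
      obtain ⟨z, hz⟩ := ihn (x • y) (by rwa [smul_smul, ← pow_succ])
      have hg : Hmap (k + 1) (LinearMap.range xM).mkQ z = 0 := by
        refine hinj _ ((S.phi_natural hω hn e (ModuleCat.ofHom (LinearMap.range xM).mkQ) (k + 1) j hj z).trans ?_)
        rw [map_zero]
        refine LinearMap.ext fun u => ?_
        show φ z (pre ω j (LinearMap.range xM).mkQ u) = 0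
        rw [hz, LinearMap.smul_apply, ← map_smul, ← map_smul, smul_eq_zero_of_smul ω j (fun q => ?_) u, map_zero, map_zero]
        obtain ⟨q, rfl⟩ := Submodule.Quotient.mk_surjective _ q
        rw [← Submodule.Quotient.mk_smul, Submodule.Quotient.mk_eq_zero]
        exact ⟨q, rfl⟩
      obtain ⟨z', hz'⟩ := LocCohLib.exists_of_map_g_eq_zero (maximalIdeal A) hs (k + 1) z hg
      have hz'' : x • z' = z := (LocCohLib.map_smul_id (maximalIdeal A) (k + 1) _ x z').symm.trans hz'
      obtain ⟨z₂, hz₂⟩ := key (y - φ z') (by rw [smul_sub, ← map_smul, hz'', hz, sub_self])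
      exact ⟨z₂ + z', by rw [map_add, hz₂, sub_add_cancel]⟩

end Groth.Agent.DualCxLib
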