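import Groth.Agent.DualCxLib.SkCrit
import Groth.Agent.DualCxLib.Shift
import Groth.Agent.S0335

/-!
# A local ring with a dualizing complex and `(S₂)` is equidimensional
-/

set_option autoImplicit false
set_option backward.isDefEq.respectTransparency false

universe u

open CategoryTheory IsLocalRing
attribute [local instance] HasDerivedCategory.standard

noncomputable section

namespace Groth.Agent.DualCxLib

variable {A : Type u} [CommRing A] [IsNoetherianRing A] {ω : Dual.D A} (hω : Dual.IsDualizing A ω)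
include hω

/-- Two minimal primes contained in a common prime have the same value of `dfn`. -/
theorem dfn_minimal_eq_of_hasSk [IsLocalRing A] (h : LocCoh.HasSk 2 A A) (P Q : PrimeSpectrum A)
    (hP : P.asIdeal ∈ minimalPrimes A) (hQ : Q.asIdeal ∈ minimalPrimes A) : dfn hω P = dfn hω Q := by
  classical
  by_contra hne
  let V : (PrimeSpectrum A → Prop) → Set (PrimeSpectrum A) := fun φ =>
    {q | ∃ M : PrimeSpectrum A, M.asIdeal ∈ minimalPrimes A ∧ φ M ∧ M ≤ q}
  have hclosed : ∀ φ, IsClosed (V φ) := fun φ => by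
    let S : Set (PrimeSpectrum A) := {M | M.asIdeal ∈ minimalPrimes A ∧ φ M}
    have hS : S.Finite := ((minimalPrimes.finite_of_isNoetherianRing A).preimage
      (fun a _ b _ hab => PrimeSpectrum.ext hab)).subset fun M hM => hM.1
    have : V φ = ⋃ M ∈ S, PrimeSpectrum.zeroLocus (M.asIdeal : Set A) := by
      ext q
      simp only [Set.mem_iUnion₂, PrimeSpectrum.mem_zeroLocus, SetLike.coe_subset_coe]
      exact ⟨fun ⟨M, h1, h2, h3⟩ => ⟨M, ⟨h1, h2⟩, h3⟩, fun ⟨M, ⟨h1, h2⟩, h3⟩ => ⟨M, h1, h2, h3⟩⟩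
    rw [this]
    exact hS.isClosed_biUnion fun M _ => PrimeSpectrum.isClosed_zeroLocus _
  let V1 := V fun M => dfn hω M = dfn hω P
  let V2 := V fun M => dfn hω M ≠ dfn hω P
  have hmax : ∀ M : PrimeSpectrum A, M ≤ closedPoint A := fun M => IsLocalRing.le_maximalIdeal M.2.ne_top
  obtain ⟨p, ⟨⟨P', hP', hPv, hPp⟩, Q', hQ', hQv, hQp⟩, hmin⟩ := (wellFoundedLT_spec (A := A)).wf.has_min
    (V1 ∩ V2) ⟨closedPoint A, ⟨P, hP, rfl, hmax P⟩, Q, hQ, Ne.symm hne, hmax Q⟩
  have hne' : ∀ M M' : PrimeSpectrum A, M'.asIdeal ∈ minimalPrimes A → M ≤ M' → M.asIdeal ∈ minimalPrimes A → M = M' :=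
    fun M M' hM' hle hM => le_antisymm hle (hM'.2 ⟨M.2, bot_le⟩ hle)
  have hPlt : P' < p := lt_of_le_of_ne hPp fun he => by
    subst he
    exact hQv ((hne' Q' P' hP' hQp hQ') ▸ hPv)
  have hQlt : Q' < p := lt_of_le_of_ne hQp fun he => by
    subst he
    exact hQv ((hne' P' Q' hQ' hPp hP') ▸ hPv)
  have hsupp : ∀ q : PrimeSpectrum A, q ∈ Module.support A A := fun q =>
    Module.mem_support_iff_of_finite.2 fun a ha => by
      have : a • (1 : A) = 0 := Module.mem_annihilator.1 ha 1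
      rw [smul_eq_mul, mul_one] at this
      exact this ▸ q.asIdeal.zero_mem
  obtain ⟨d, hd, -⟩ := exists_supportDim_localized hω (M := A) p (hsupp p)
  have hdP := le_supportDim_localized hω (M := A) p P' (hsupp P') hPp
  have hdQ := le_supportDim_localized hω (M := A) p Q' (hsupp Q') hQp
  rw [hd] at hdP hdQ
  replace hdP : (dfn hω p - dfn hω P').toNat ≤ d := by exact_mod_cast hdP
  replace hdQ : (dfn hω p - dfn hω Q').toNat ≤ d := by exact_mod_cast hdQ
  have := dfn_lt hω hPlt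
  have := dfn_lt hω hQlt
  by_cases hd2 : d ≤ 1
  · exact hQv (by omega)
  let R := Localization.AtPrime p.asIdeal
  let e : LocalizedModule p.asIdeal.primeCompl A ≃ₗ[R] R := LinearEquiv.refl R R
  have hdepth : 2 ≤ LocCoh.depth R R := by
    have hS := h p.asIdeal
    rw [hd, CAlgBasics.depth_congr e] at hS
    refine WithBot.coe_le_coe.1 (le_trans (le_min le_rfl ?_) hS)
    exact_mod_cast (show 2 ≤ d by omega)
  have hconn := (Groth.Agent.S0335.result R hdepth).image (PrimeSpectrum.comap (algebraMap A R))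
    (PrimeSpectrum.continuous_comap _).continuousOn
  let ord := IsLocalization.AtPrime.primeSpectrumOrderIso R p.asIdeal
  have himg : ∀ M : PrimeSpectrum A, M < p →
      M ∈ PrimeSpectrum.comap (algebraMap A R) '' {x : PrimeSpectrum R | x.asIdeal ≠ IsLocalRing.maximalIdeal R} :=
    fun M hM => ⟨ord.symm ⟨M, hM.le⟩, fun he => hM.ne (by
      have h1 : PrimeSpectrum.comap (algebraMap A R) (ord.symm ⟨M, hM.le⟩) = M :=
        congrArg Subtype.val (ord.apply_symm_apply _)
      rw [← h1]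
      refine PrimeSpectrum.ext ?_
      rw [PrimeSpectrum.comap_asIdeal, he]
      exact IsLocalization.AtPrime.comap_maximalIdeal R p.asIdeal),
      congrArg Subtype.val (ord.apply_symm_apply _)⟩
  have hbelow : ∀ x ∈ PrimeSpectrum.comap (algebraMap A R) ''
      {x : PrimeSpectrum R | x.asIdeal ≠ IsLocalRing.maximalIdeal R}, x < p := by
    rintro _ ⟨y, hy, rfl⟩
    refine lt_of_le_of_ne (ord y).2 fun he => hy ?_
    refine congrArg PrimeSpectrum.asIdeal (a₂ := IsLocalRing.closedPoint R)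
      (PrimeSpectrum.localization_comap_injective R p.asIdeal.primeCompl (he.trans (PrimeSpectrum.ext ?_)))
    exact (IsLocalization.AtPrime.comap_maximalIdeal R p.asIdeal).symm
  obtain ⟨x, hx, hx1, hx2⟩ := (isPreconnected_closed_iff.1 hconn.isPreconnected) V1 V2 (hclosed _) (hclosed _)
    (fun x _ => by
      obtain ⟨M, hM, hMx⟩ := Ideal.exists_minimalPrimes_le (show (⊥ : Ideal A) ≤ x.asIdeal from bot_le)
      by_cases hv : dfn hω ⟨M, hM.1.1⟩ = dfn hω P
      · exact Or.inl ⟨⟨M, hM.1.1⟩, hM, hv, hMx⟩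
      · exact Or.inr ⟨⟨M, hM.1.1⟩, hM, hv, hMx⟩)
    ⟨P', himg P' hPlt, P', hP', hPv, le_rfl⟩ ⟨Q', himg Q' hQlt, Q', hQ', hQv, le_rfl⟩
  exact hmin x ⟨hx1, hx2⟩ (hbelow x hx)

theorem dfn_minimal_of_hasSk [IsLocalRing A] (hn : Dual.IsNormalized A ω) (n : ℕ) (hd : ringKrullDim A = n)
    (h : LocCoh.HasSk 2 A A) (P : PrimeSpectrum A) (hP : P.asIdeal ∈ minimalPrimes A) : dfn hω P = -(n : ℤ) := by
  have hle : ringKrullDim (A ⧸ P.asIdeal) ≤ n := hd ▸ ringKrullDim_quotient_le _
  have hge : ringKrullDim A ≤ (((-dfn hω P).toNat : ℕ) : WithBot ℕ∞) := by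
    rw [ringKrullDim, Order.krullDim]
    refine iSup_le fun l => ?_
    obtain ⟨M, hM, hMx⟩ := Ideal.exists_minimalPrimes_le (show (⊥ : Ideal A) ≤ l.head.asIdeal from bot_le)
    have h1 := dfn_ltSeries hω l
    have h2 := dfn_le hω (show (⟨M, hM.1.1⟩ : PrimeSpectrum A) ≤ l.head from hMx)
    rw [dfn_minimal_eq_of_hasSk hω h ⟨M, hM.1.1⟩ P hM hP] at h2
    have h3 := dfn_nonpos hω hn l.last
    exact_mod_cast show l.length ≤ (-dfn hω P).toNat by omega
  rw [ringKrullDim_quotient hω hn] at hle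
  rw [hd] at hge
  have h1 : (-dfn hω P).toNat ≤ n := by exact_mod_cast hle
  have h2 : n ≤ (-dfn hω P).toNat := by exact_mod_cast hge
  have := dfn_nonpos hω hn P
  omega

end Groth.Agent.DualCxLib
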