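import Groth.Agent.DualCxLib.EquivUnitLocal
import Groth.Agent.DualCxLib.FlatDual
import Groth.Agent.DRingLib.BaseChange
import Groth.Agent.DRingLib.Minimal
import Groth.Prelude.Def_DTen
import Mathlib.RingTheory.LocalProperties.Projective

/-!
# Invertibility of objects without self-maps of nonzero degree
-/

set_option autoImplicit false
set_option backward.isDefEq.respectTransparency false
set_option linter.style.haveILetI false
set_option maxRecDepth 4000

universe u

open CategoryTheory Limits MonoidalCategory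
open scoped TensorProduct
attribute [local instance] HasDerivedCategory.standard

noncomputable section

namespace Groth.Agent.DualCxLib

open DRingLib

section Local

variable {A : Type u} [CommRing A] [IsNoetherianRing A] (E : Dual.D A) (a b : ℤ) [E.IsGE a] [E.IsLE b]
  (hE : ∀ j, Module.Finite A (Dual.HD A E j))
  (hEnd : Function.Bijective fun r : A => r • 𝟙 E)
  (hself : ∀ i : ℤ, i ≠ 0 → Subsingleton (E ⟶ E⟦i⟧))

include a b hE hEnd hself in
/-- At each maximal ideal a single cohomology module survives, of rank one. -/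
theorem exists_local_rankOne (m : Ideal A) [m.IsMaximal]
    (hbd : ∃ n : ℤ, ∀ i : ℤ, n < i → Subsingleton (TK E i (A ⧸ m))) :
    ∃ c : ℤ, Nonempty (LocalizedModule m.primeCompl (Dual.HD A E c) ≃ₗ[Localization.AtPrime m] Localization.AtPrime m) ∧
      ∀ j, j ≠ c → ZeroAt m (Dual.HD A E j) := by
  let B := Localization.AtPrime m
  haveI : Module.Flat A B := IsLocalization.flat B m.primeCompl
  haveI : IsNoetherianRing B := IsLocalization.isNoetherianRing m.primeCompl B inferInstance
  haveI : DRing.HasLBaseChange (algebraMap A B) := DRingLib.hasLBaseChange _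
  let E' := (bcD A B).obj E
  haveI : E'.IsGE a := isGE_bcD A B E a
  haveI : E'.IsLE b := isLE_bcD A B E b
  have hE' : ∀ j, Module.Finite B (Dual.HD B E' j) := fun j => finite_HD_bcD A B (hE j)
  -- endomorphisms
  let e0 : A ≃ₗ[A] (E ⟶ E) := LinearEquiv.ofBijective
    { toFun := fun r : A => r • 𝟙 E, map_add' := fun r s => add_smul r s _, map_smul' := fun r s => mul_smul r s _ } hEnd
  let eEnd : (E' ⟶ E') ≃ₗ[B] B :=
    (LinearEquiv.ofBijective (bcΦl A B E E) (bijective_bcΦ A B E E a b hE)).symm.trans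
      ((LinearEquiv.baseChange A B _ _ e0.symm).trans (TensorProduct.AlgebraTensorModule.rid A B B))
  have hself' : ∀ i : ℤ, i ≠ 0 → Subsingleton (E' ⟶ E'⟦i⟧) := fun i hi => by
    obtain ⟨e⟩ := nonempty_hom_bcD A B E E a b hE i
    haveI := hself i hi
    haveI : Subsingleton (B ⊗[A] (E ⟶ E⟦i⟧)) := subsingleton_of_forall_eq 0 fun x => by
      induction x using TensorProduct.induction_on with
      | zero => rfl
      | tmul c y => rw [Subsingleton.elim y 0, TensorProduct.tmul_zero]
      | add x y hx hy => rw [hx, hy, add_zero]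
    exact e.symm.injective.subsingleton
  have hbd' : ∃ n : ℤ, ∀ i : ℤ, n < i → Subsingleton (TK E' i (IsLocalRing.ResidueField B)) := by
    obtain ⟨n, hn⟩ := hbd
    refine ⟨n, fun i hi => ?_⟩
    obtain ⟨e⟩ := nonempty_hom_bcD A B E (Dual.inD A (A ⧸ m)) 0 b hE i
    haveI := hn i hi
    haveI : Subsingleton (B ⊗[A] (E ⟶ (Dual.inD A (A ⧸ m))⟦i⟧)) := subsingleton_of_forall_eq 0 fun x => by
      induction x using TensorProduct.induction_on with
      | zero => rfl
      | tmul c y => rw [Subsingleton.elim y 0, TensorProduct.tmul_zero]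
      | add x y hx hy => rw [hx, hy, add_zero]
    let c : (bcD A B).obj (Dual.inD A (A ⧸ m)) ≅ Dual.inD B (B ⊗[A] (A ⧸ m)) :=
      DRingLib.lbcInDIso (algebraMap A B) (flat_baseMod A B) (ModuleCat.of A (A ⧸ m)) ≪≫
        (DerivedCategory.singleFunctor (ModuleCat.{u} B) 0).mapIso
          (DRingLib.extendScalarsTensorEquiv A B (ModuleCat.of A (A ⧸ m))).toModuleIso
    let q : (B ⊗[A] (A ⧸ m)) ≃ₗ[B] IsLocalRing.ResidueField B :=
      (quotMapEquiv A B m).trans (Submodule.quotEquivOfEq _ _ (Localization.AtPrime.map_eq_maximalIdeal (I := m)))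
    have h2 := (e.trans (Linear.homCongr B (Iso.refl E') ((shiftFunctor (Dual.D B) i).mapIso
      (c ≪≫ (DerivedCategory.singleFunctor (ModuleCat.{u} B) 0).mapIso q.toModuleIso)))).symm.injective.subsingleton
    exact h2
  -- the top degree
  have hne : ∃ j, Nontrivial (Dual.HD B E' j) := by
    by_contra hc
    push Not at hc
    have hz : IsZero E' := by
      haveI : DerivedCategory.IsLE E' (a - 1) := (DerivedCategory.isLE_iff _ _).2 fun j _ =>
        ModuleCat.isZero_iff_subsingleton.2 (hc j)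
      rw [IsZero.iff_id_eq_zero]
      exact DerivedCategory.TStructure.t.zero_of_isLE_of_isGE _ (a - 1) a (by omega) inferInstance inferInstance
    haveI : Subsingleton (E' ⟶ E') := ⟨fun f g => hz.eq_of_src f g⟩
    haveI : Subsingleton B := eEnd.symm.injective.subsingleton
    exact false_of_nontrivial_of_subsingleton B
  obtain ⟨c, hc, hcmax⟩ : ∃ c, Nontrivial (Dual.HD B E' c) ∧ ∀ j, Nontrivial (Dual.HD B E' j) → j ≤ c :=
    Int.exists_greatest_of_bdd ⟨b, fun j hj => not_lt.1 fun h => not_subsingleton_iff_nontrivial.2 hj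
      (ModuleCat.subsingleton_of_isZero (DerivedCategory.isZero_of_isLE E' b j h))⟩ hne
  haveI : DerivedCategory.IsLE E' c := (DerivedCategory.isLE_iff _ _).2 fun j hj =>
    ModuleCat.isZero_iff_subsingleton.2 (not_nontrivial_iff_subsingleton.1 fun h => absurd (hcmax j h) (not_le.2 hj))
  obtain ⟨hfree, hvan⟩ := free_of_self_orth E' a c hE' hself' hbd'
  haveI := hE' c
  haveI : DerivedCategory.IsGE E' c := (DerivedCategory.isGE_iff _ _).2 fun j hj =>
    ModuleCat.isZero_iff_subsingleton.2 (hvan j hj.ne)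
  obtain ⟨Y, ⟨i⟩⟩ := DerivedCategory.exists_iso_singleFunctor_obj_of_isGE_of_isLE E' c
  let eY : Dual.HD B E' c ≃ₗ[B] Y := (((DerivedCategory.homologyFunctor (ModuleCat.{u} B) c).mapIso i).trans
    ((DerivedCategory.singleFunctorCompHomologyFunctorIso (ModuleCat.{u} B) c).app Y)).toLinearEquiv
  haveI : Module.Finite B Y := Module.Finite.equiv eY
  haveI : Module.Free B Y := Module.Free.of_equiv eY
  let F := DerivedCategory.singleFunctor (ModuleCat.{u} B) c
  let eHom : (Y →ₗ[B] Y) ≃ₗ[B] (E' ⟶ E') :=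
    (ModuleCat.homLinearEquiv (S := B)).symm.trans
      ((LinearEquiv.ofBijective (F.mapLinearMap B) ⟨F.map_injective, F.map_surjective⟩).trans
        (Linear.homCongr B i.symm i.symm))
  have hr : Module.finrank B Y * Module.finrank B Y = 1 := by
    rw [← Module.finrank_linearMap B B, (eHom.trans eEnd).finrank_eq, Module.finrank_self]
  have hr1 : Module.finrank B Y = 1 := (mul_eq_one.1 hr).1
  let eH : ∀ j, Dual.HD B E' j ≃ₗ[B] LocalizedModule m.primeCompl (Dual.HD A E j) := fun j =>
    (nonempty_HD_lbc m.primeCompl B E j).some.trans (LocalizedModule.equivTensorProduct m.primeCompl _).symm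
  refine ⟨c, ⟨(eH c).symm.trans (eY.trans ((Module.finBasisOfFinrankEq B Y hr1).equivFun.trans
    (LinearEquiv.funUnique (Fin 1) B B)))⟩, fun j hj => zeroAt_iff_subsingleton.2 ?_⟩
  haveI := hvan j hj
  exact (eH j).symm.injective.subsingleton

end Local

section Assembly

variable {A : Type u} [CommRing A]

/-- A complex with projective cohomology receives a quasi-isomorphism from its cohomology. -/
theorem exists_quasiIso_zeroDiff' (G : DRing.Cx A) (hP : ∀ i, Module.Projective A (G.homology i)) :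
    ∃ f : zeroDiffCx (fun i => G.homology i) ⟶ G, QuasiIso f := by
  let E₀ : DRing.Cx A := zeroDiffCx fun i => G.homology i
  choose s hs using fun i => haveI := hP i; Module.projective_lifting_property (G.homologyπ i).hom LinearMap.id
    ((ModuleCat.epi_iff_surjective _).1 (inferInstanceAs (Epi (G.homologyπ i))))
  let f : E₀ ⟶ G :=
    { f := fun i => (ModuleCat.ofHom (s i) : E₀.X i ⟶ G.cycles i) ≫ G.iCycles i
      comm' := fun i j _ => by
        rw [Category.assoc, HomologicalComplex.iCycles_d, comp_zero]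
        exact zero_comp.symm }
  refine ⟨f, ⟨fun i => ?_⟩⟩
  rw [quasiIsoAt_iff_isIso_homologyMap]
  haveI : IsIso (E₀.iCycles i) := E₀.isIso_iCycles i (i + 1) (by simp) rfl
  haveI : IsIso (E₀.homologyπ i) := E₀.isIso_homologyπ (i - 1) i (by simp) rfl
  have h : HomologicalComplex.cyclesMap f i = E₀.iCycles i ≫ (ModuleCat.ofHom (s i) : E₀.X i ⟶ G.cycles i) := by
    rw [← cancel_mono (G.iCycles i), HomologicalComplex.cyclesMap_i, Category.assoc]
  have h' : E₀.homologyπ i ≫ HomologicalComplex.homologyMap f i = E₀.iCycles i := by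
    rw [HomologicalComplex.homologyπ_naturality, h, Category.assoc]
    refine Eq.trans (congrArg (E₀.iCycles i ≫ ·) (?_ : _ = 𝟙 _)) (Category.comp_id _)
    exact ModuleCat.hom_ext (hs i)
  haveI : IsIso (E₀.homologyπ i ≫ HomologicalComplex.homologyMap f i) := h' ▸ inferInstance
  exact IsIso.of_isIso_comp_left (E₀.homologyπ i) _

variable (H : ℤ → ModuleCat.{u} A)

/-- The dual of a graded module, in the opposite degrees. -/
abbrev dualGr : ℤ → ModuleCat.{u} A := fun j => ModuleCat.of A (Module.Dual A (H (-j)))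

/-- Evaluation on a summand. -/
def evPair (p q : ℤ) (h : p + q = 0) : H p ⊗[A] Module.Dual A (H (-q)) →ₗ[A] A := by
  obtain rfl : p = -q := by omega
  exact (contractLeft A (H (-q))).comp (TensorProduct.comm A _ _).toLinearMap

theorem evPair_tmul {p : ℤ} {q : ℤ} (h : p + q = 0) (hpq : p = -q) (x : H p) (f : Module.Dual A (H (-q))) :
    evPair H p q h (x ⊗ₜ f) = f (hpq ▸ x) := by
  subst hpq
  rfl

variable [∀ i, Module.Finite A (H i)]
  (hloc : ∀ (m : Ideal A) [m.IsMaximal], ∃ c : ℤ, ¬ ZeroAt m (H c) ∧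
    (∃ γ : H c, ∀ x : H c, ∃ s ∉ m, ∃ r : A, s • x = r • γ) ∧ ∀ j, j ≠ c → ZeroAt m (H j))

include hloc

theorem exists_comax {p q : ℤ} (hpq : p ≠ q) :
    ∃ u v : A, u + v = 1 ∧ (∀ x : H p, u • x = 0) ∧ ∀ x : H q, v • x = 0 := by
  let I := Module.annihilator A (H p) ⊔ Module.annihilator A (H q)
  have hI : I = ⊤ := by
    by_contra hI
    obtain ⟨m, hm, hle⟩ := Ideal.exists_le_maximal I hI
    haveI := hm
    obtain ⟨c, -, -, hz⟩ := hloc m
    rcases ne_or_eq p c with hp | rfl
    · obtain ⟨s, hs, h0⟩ := exists_annihilator_of_zeroAt (hz p hp)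
      exact hs (hle (Submodule.mem_sup_left (Module.mem_annihilator.2 h0)))
    · obtain ⟨s, hs, h0⟩ := exists_annihilator_of_zeroAt (hz q hpq.symm)
      exact hs (hle (Submodule.mem_sup_right (Module.mem_annihilator.2 h0)))
  obtain ⟨u, hu, v, hv, huv⟩ := Submodule.mem_sup.1 (show (1 : A) ∈ I by rw [hI]; trivial)
  exact ⟨u, v, huv, Module.mem_annihilator.1 hu, Module.mem_annihilator.1 hv⟩

theorem rankOne_identity {p : ℤ} (f : Module.Dual A (H p)) (x y : H p) : f x • y = f y • x := by
  rw [← sub_eq_zero]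
  by_contra hne
  obtain ⟨m, hm, hle⟩ := Ideal.exists_le_maximal ((⊥ : Submodule A (H p)).colon {f x • y - f y • x})
    (fun h => hne (by simpa using (Ideal.eq_top_iff_one _).1 h))
  haveI := hm
  obtain ⟨c, -, ⟨γ, hγ⟩, hz⟩ := hloc m
  rcases ne_or_eq p c with hp | rfl
  · obtain ⟨s, hs, h0⟩ := exists_annihilator_of_zeroAt (hz p hp)
    exact hs (hle (by simp [Submodule.mem_colon_singleton, h0]))
  · obtain ⟨s, hs, r, hr⟩ := hγ x
    obtain ⟨t, ht, w, hw⟩ := hγ y
    refine (hm.isPrime.mem_or_mem (hle (?_ : s * t ∈ _))).elim hs ht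
    rw [Submodule.mem_colon_singleton, Submodule.mem_bot, smul_sub]
    have h1 : (s * t) • (f x • y) = f (s • x) • (t • y) := by rw [map_smul, smul_eq_mul, smul_smul, smul_smul]; ring_nf
    have h2 : (s * t) • (f y • x) = f (t • y) • (s • x) := by rw [map_smul, smul_eq_mul, smul_smul, smul_smul]; ring_nf
    rw [h1, h2, hr, hw, map_smul, map_smul, smul_smul, smul_smul, smul_eq_mul, smul_eq_mul, sub_eq_zero]
    ring_nf

theorem tmul_eq_zero_of_ne {p k : ℤ} (hpk : p ≠ k) (x : H p) (f : Module.Dual A (H k)) : x ⊗ₜ[A] f = 0 := by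
  obtain ⟨u, v, huv, hu, hv⟩ := exists_comax H hloc hpk
  have hf : v • f = 0 := LinearMap.ext fun y => by
    rw [LinearMap.smul_apply, ← map_smul, hv, map_zero, LinearMap.zero_apply]
  rw [← one_smul A (x ⊗ₜ[A] f), ← huv, add_smul, TensorProduct.smul_tmul', hu, ← TensorProduct.tmul_smul, hf,
    TensorProduct.zero_tmul, TensorProduct.tmul_zero, add_zero]

theorem nonempty_tensor_dual_iso (hproj : ∀ i, Module.Projective A (H i)) :
    Nonempty ((zeroDiffCx H ⊗ zeroDiffCx (dualGr H) : DRing.Cx A) ≅ 𝟙_ (DRing.Cx A)) := by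
  let X : DRing.Cx A := zeroDiffCx H
  let Y : DRing.Cx A := zeroDiffCx (dualGr H)
  let T : DRing.Cx A := X ⊗ Y
  let ι : ∀ p q n : ℤ, p + q = n → (H p ⊗[A] Module.Dual A (H (-q))) →ₗ[A] T.X n := fun p q n h =>
    (HomologicalComplex.ιTensorObj X Y p q n h).hom
  have hext : ∀ (n : ℤ) (Z : ModuleCat.{u} A) (f g : T.X n ⟶ Z),
      (∀ p q (h : p + q = n) (x : H p) (φ : Module.Dual A (H (-q))), f (ι p q n h (x ⊗ₜ φ)) = g (ι p q n h (x ⊗ₜ φ))) →
        f = g := fun n Z f g h => by
    refine HomologicalComplex.mapBifunctor.hom_ext fun p q hpq => ModuleCat.hom_ext ?_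
    exact TensorProduct.ext' fun x φ => h p q hpq x φ
  have hzero : ∀ n : ℤ, n ≠ 0 → IsZero (T.X n) := fun n hn => by
    rw [IsZero.iff_id_eq_zero]
    refine hext n _ _ _ fun p q h x φ => ?_
    rw [tmul_eq_zero_of_ne H hloc (show p ≠ -q by omega), map_zero, map_zero, map_zero]
  let evF : ∀ (p q : ℤ) (_ : ComplexShape.π (ComplexShape.up ℤ) (ComplexShape.up ℤ) (ComplexShape.up ℤ) (p, q) = 0),
      ((curriedTensor (ModuleCat.{u} A)).obj (X.X p)).obj (Y.X q) ⟶ ModuleCat.of A A :=
    fun p q h => ModuleCat.ofHom (evPair H p q h)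
  let ev : T.X 0 ⟶ ModuleCat.of A A := HomologicalComplex.mapBifunctorDesc evF
  have hev : ∀ p q (h : p + q = 0) (t : H p ⊗[A] Module.Dual A (H (-q))),
      ev (ι p q 0 h t) = evPair H p q h t := fun p q h t =>
    ConcreteCategory.congr_hom (HomologicalComplex.ι_mapBifunctorDesc evF p q h) t
  -- surjectivity
  have hsur : Function.Surjective ev.hom := by
    rw [← LinearMap.range_eq_top]
    by_contra hne
    obtain ⟨m, hm, hle⟩ := Ideal.exists_le_maximal _ hne
    haveI := hm
    obtain ⟨c, hc, ⟨γ, hγ⟩, -⟩ := hloc m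
    have hfm : ∀ (f : Module.Dual A (H (- -c))) (x : H (- -c)), f x ∈ m := fun f x => hle
      ⟨ι (- -c) (-c) 0 (by omega) (x ⊗ₜ f), (hev _ _ _ _).trans (evPair_tmul H _ rfl x f)⟩
    rw [neg_neg] at hfm
    haveI := hproj c
    obtain ⟨k, π, hπ⟩ := Module.Finite.exists_fin' A (H c)
    obtain ⟨σ, hσ⟩ := Module.projective_lifting_property π LinearMap.id hπ
    have hmtop : (⊤ : Submodule A (H c)) ≤ m • ⊤ := fun x _ => by
      have hx : π (σ x) = x := LinearMap.congr_fun hσ x
      rw [← hx, pi_eq_sum_univ (σ x), map_sum]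
      refine Submodule.sum_mem _ fun i _ => ?_
      rw [map_smul]
      exact Submodule.smul_mem_smul (hfm ((LinearMap.proj i).comp σ) x) Submodule.mem_top
    obtain ⟨r, hr, h0⟩ := Submodule.exists_sub_one_mem_and_smul_eq_zero_of_fg_of_le_smul m (⊤ : Submodule A (H c))
      Module.Finite.fg_top hmtop
    refine hc fun x => ⟨r, fun hrm => hm.ne_top ((Ideal.eq_top_iff_one _).2 ?_), h0 x Submodule.mem_top⟩
    simpa using m.sub_mem hrm hr
  -- injectivity: rank one
  have hinj : ∀ p q (h : p + q = 0) (x : H p) (φ : Module.Dual A (H (-q))) (p' q' : ℤ) (h' : p' + q' = 0)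
      (x' : H p') (φ' : Module.Dual A (H (-q'))),
      evPair H p q h (x ⊗ₜ φ) • ι p' q' 0 h' (x' ⊗ₜ φ') = evPair H p' q' h' (x' ⊗ₜ φ') • ι p q 0 h (x ⊗ₜ φ) := by
    intro p q h x φ p' q' h' x' φ'
    obtain rfl : p = -q := by omega
    obtain rfl : p' = -q' := by omega
    rw [evPair_tmul H h rfl, evPair_tmul H h' rfl, ← map_smul, ← map_smul]
    by_cases hqq : q = q'
    · subst hqq
      rw [TensorProduct.smul_tmul', rankOne_identity H hloc φ x x', TensorProduct.smul_tmul', TensorProduct.smul_tmul,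
        TensorProduct.smul_tmul]
      congr 2
      exact LinearMap.ext fun y => by
        simp only [LinearMap.smul_apply, smul_eq_mul]
        have := congrArg φ' (rankOne_identity H hloc φ x' y)
        simp only [map_smul, smul_eq_mul] at this
        rw [this, mul_comm]
    · obtain ⟨u, v, huv, hu, hv⟩ := exists_comax H hloc (show -q ≠ -q' by omega)
      have h1 : φ x • x' = 0 := by
        rw [← one_smul A (φ x • x'), ← huv, add_smul, smul_smul, ← smul_eq_mul, ← map_smul, hu, map_zero, zero_smul,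
          zero_add, smul_comm, hv, smul_zero]
      have h2 : φ' x' • x = 0 := by
        rw [← one_smul A (φ' x' • x), ← huv, add_smul, smul_comm u, hu, smul_zero, zero_add, smul_smul, ← smul_eq_mul,
          ← map_smul, hv, map_zero, zero_smul]
      rw [TensorProduct.smul_tmul', TensorProduct.smul_tmul', h1, h2, TensorProduct.zero_tmul, TensorProduct.zero_tmul,
        map_zero, map_zero]
  haveI : IsIso ev := by
    obtain ⟨z, hz⟩ := hsur 1
    refine ⟨ModuleCat.ofHom (LinearMap.toSpanSingleton A (T.X 0) z), ?_, ModuleCat.hom_ext (LinearMap.ext_ring (by simpa using hz))⟩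
    refine hext 0 _ _ _ fun p q h x φ => ?_
    show ev (ι p q 0 h (x ⊗ₜ φ)) • z = ι p q 0 h (x ⊗ₜ φ)
    rw [hev]
    have hlin : evPair H p q h (x ⊗ₜ φ) • (LinearMap.id : T.X 0 →ₗ[A] T.X 0) =
        (LinearMap.toSpanSingleton A (T.X 0) (ι p q 0 h (x ⊗ₜ φ))).comp ev.hom := by
      refine congrArg ModuleCat.Hom.hom (hext 0 (T.X 0) (ModuleCat.ofHom _) (ModuleCat.ofHom _) fun p' q' h' x' φ' => ?_)
      show evPair H p q h (x ⊗ₜ φ) • ι p' q' 0 h' (x' ⊗ₜ φ') = ev (ι p' q' 0 h' (x' ⊗ₜ φ')) • ι p q 0 h (x ⊗ₜ φ)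
      rw [hev]
      exact hinj p q h x φ p' q' h' x' φ'
    have := LinearMap.congr_fun hlin z
    rw [LinearMap.smul_apply, LinearMap.id_apply, LinearMap.comp_apply, hz, LinearMap.toSpanSingleton_apply_one] at this
    exact this
  let f : T ⟶ (HomologicalComplex.single (ModuleCat.{u} A) (ComplexShape.up ℤ) 0).obj (ModuleCat.of A A) :=
    HomologicalComplex.mkHomToSingle ev fun i hi => by
      simp only [ComplexShape.up_Rel] at hi
      rw [(hzero i (by omega)).eq_of_src (T.d i 0) 0, zero_comp]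
  haveI : ∀ n, IsIso (f.f n) := fun n => by
    by_cases hn : n = 0
    · subst hn
      simp only [f, HomologicalComplex.mkHomToSingle_f]
      infer_instance
    · exact ⟨⟨0, (hzero n hn).eq_of_src _ _, (HomologicalComplex.isZero_single_obj_X (ComplexShape.up ℤ) 0 _ n hn).eq_of_src _ _⟩⟩
  haveI := HomologicalComplex.Hom.isIso_of_components f
  exact ⟨asIso f⟩

end Assembly

end Groth.Agent.DualCxLib

namespace Groth.Agent.DualCxLib

open DRingLib

/-- An object with bounded finite cohomology, endomorphism ring `A`, no self maps of nonzero degree and bounded maps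
to the shifts of each residue field is invertible. -/
theorem isInvertible_of_self_orth {A : Type u} [CommRing A] [IsNoetherianRing A] [DTen.HasLTen A]
    [DTen.KFlatComputes A] (E : Dual.D A) (a b : ℤ) [E.IsGE a] [E.IsLE b]
    (hE : ∀ j, Module.Finite A (Dual.HD A E j)) (hEnd : Function.Bijective fun r : A => r • 𝟙 E)
    (hself : ∀ i : ℤ, i ≠ 0 → Subsingleton (E ⟶ E⟦i⟧))
    (hbd : ∀ (m : Ideal A), m.IsMaximal → ∃ n : ℤ, ∀ i : ℤ, n < i → Subsingleton (TK E i (A ⧸ m))) :
    DTen.IsInvertible A E := by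
  let G := DerivedCategory.Q.objPreimage E
  let eG : DRing.toD G ≅ E := DerivedCategory.Q.objObjPreimageIso E
  let H : ℤ → ModuleCat.{u} A := fun i => G.homology i
  let eH : ∀ i, Dual.HD A E i ≃ₗ[A] H i := fun i =>
    ((DerivedCategory.homologyFunctor (ModuleCat.{u} A) i).mapIso eG.symm ≪≫
      (DerivedCategory.homologyFunctorFactors (ModuleCat.{u} A) i).app G).toLinearEquiv
  haveI hHfin : ∀ i, Module.Finite A (H i) := fun i => haveI := hE i; Module.Finite.equiv (eH i)
  have key : ∀ (m : Ideal A) [m.IsMaximal], ∃ c : ℤ,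
      Nonempty (LocalizedModule m.primeCompl (H c) ≃ₗ[Localization.AtPrime m] Localization.AtPrime m) ∧
        ∀ j, j ≠ c → ZeroAt m (H j) := fun m hm => by
    obtain ⟨c, ⟨e⟩, hz⟩ := exists_local_rankOne E a b hE hEnd hself m (hbd m hm)
    exact ⟨c, ⟨(IsLocalizedModule.mapEquiv m.primeCompl (LocalizedModule.mkLinearMap _ _)
      (LocalizedModule.mkLinearMap _ _) (Localization.AtPrime m) (eH c).symm).trans e⟩,
      fun j hj => (zeroAt_congr (eH j)).1 (hz j hj)⟩
  have hproj : ∀ i, Module.Projective A (H i) := fun i => by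
    haveI := Module.finitePresentation_of_finite A (H i)
    refine Module.projective_of_localization_maximal fun m hm => ?_
    haveI := hm
    obtain ⟨c, ⟨e⟩, hz⟩ := key m
    by_cases hi : i = c
    · subst hi
      exact Module.Projective.of_equiv e.symm
    · haveI := zeroAt_iff_subsingleton.1 (hz i hi)
      haveI : Module.Free (Localization.AtPrime m) (LocalizedModule m.primeCompl (H i)) := Module.Free.of_subsingleton _ _
      exact Module.Projective.of_free
  have hloc : ∀ (m : Ideal A) [m.IsMaximal], ∃ c : ℤ, ¬ ZeroAt m (H c) ∧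
      (∃ γ : H c, ∀ x : H c, ∃ s ∉ m, ∃ r : A, s • x = r • γ) ∧ ∀ j, j ≠ c → ZeroAt m (H j) := fun m hm => by
    obtain ⟨c, ⟨e⟩, hz⟩ := key m
    let ι := LocalizedModule.mkLinearMap m.primeCompl (H c)
    refine ⟨c, not_zeroAt_iff_nontrivial.2 e.toEquiv.nontrivial, ?_, hz⟩
    obtain ⟨⟨γ, s⟩, hγ⟩ := IsLocalizedModule.surj m.primeCompl ι (e.symm 1)
    refine ⟨γ, fun x => ?_⟩
    obtain ⟨⟨r, t⟩, hrt⟩ := IsLocalization.surj m.primeCompl (e (ι x))
    have hl : ∀ (a : A) (z : LocalizedModule m.primeCompl (H c)), e (a • z) = algebraMap A _ a * e z := fun a z => by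
      rw [← algebraMap_smul (Localization.AtPrime m) a z, map_smul, smul_eq_mul]
    have hγ' : algebraMap A (Localization.AtPrime m) (s : A) = e (ι γ) := by
      rw [← show (s : A) • e.symm 1 = ι γ from hγ, hl, e.apply_symm_apply, mul_one]
    have h1 : ι (((t : A) * (s : A)) • x) = ι (r • γ) := by
      apply e.injective
      rw [ι.map_smul, ι.map_smul, hl, hl, ← hγ', map_mul, ← hrt]
      ring
    obtain ⟨u, hu⟩ := (IsLocalizedModule.eq_iff_exists m.primeCompl ι).1 h1
    refine ⟨(u : A) * ((t : A) * (s : A)), (u * (t * s) : m.primeCompl).2, (u : A) * r, ?_⟩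
    rw [mul_smul (u : A) ((t : A) * s), mul_smul (u : A) r]
    exact hu
  obtain ⟨f, hf⟩ := exists_quasiIso_zeroDiff' G hproj
  haveI : IsIso (DerivedCategory.Q.map f) := Localization.inverts DerivedCategory.Q
    (HomologicalComplex.quasiIso (ModuleCat.{u} A) (ComplexShape.up ℤ)) f ((HomologicalComplex.mem_quasiIso_iff f).2 hf)
  let X : DRing.Cx A := zeroDiffCx H
  let Y : DRing.Cx A := zeroDiffCx (dualGr H)
  let eE : E ≅ DerivedCategory.Q.obj X := eG.symm ≪≫ (asIso (DerivedCategory.Q.map f)).symm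
  have hX : DRing.IsKFlat A X := isKFlat_of_projective (b := b) (fun i hi => by
      haveI : Subsingleton ((DerivedCategory.homologyFunctor (ModuleCat.{u} A) i).obj E) :=
        ModuleCat.subsingleton_of_isZero (DerivedCategory.isZero_of_isLE E b i (by omega))
      haveI : Subsingleton (X.X i) := (eH i).symm.injective.subsingleton
      exact ModuleCat.isZero_of_subsingleton _) hproj
  haveI := DTen.KFlatComputes.isIso_counit (A := A) X Y (Or.inl hX)
  haveI := DTen.KFlatComputes.isIso_counit (A := A) Y X (Or.inr hX)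
  obtain ⟨iT⟩ := nonempty_tensor_dual_iso H hloc hproj
  refine ⟨DerivedCategory.Q.obj Y, ⟨?_⟩, ⟨?_⟩⟩
  · exact (DTen.LTen₂ A).mapIso (Iso.prod eE (Iso.refl _)) ≪≫ asIso ((DTen.ε A).app (X, Y)) ≪≫
      DerivedCategory.Q.mapIso iT
  · exact (DTen.LTen₂ A).mapIso (Iso.prod (Iso.refl _) eE) ≪≫ asIso ((DTen.ε A).app (Y, X)) ≪≫
      DerivedCategory.Q.mapIso (DTen.braidCx Y X ≪≫ iT)

end Groth.Agent.DualCxLib
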