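import Groth.Agent.DualCxLib.EquivUnit

/-!
# The image of the unit under an autoequivalence of `D^b_coh`
-/

set_option autoImplicit false
set_option backward.isDefEq.respectTransparency false
set_option linter.style.haveILetI false
set_option maxRecDepth 4000

universe u

open CategoryTheory Limits MonoidalCategory
attribute [local instance] HasDerivedCategory.standard

noncomputable section

namespace Groth.Agent.DualCxLib

variable (A : Type u) [CommRing A]

/-- The unit of `D(A)` is the ring in degree `0`. -/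
def unitInDIso : DTen.unit A ≅ Dual.inD A A :=
  ((DerivedCategory.singleFunctorIsoCompQ (ModuleCat.{u} A) 0).app (ModuleCat.of A A)).symm

variable {A} [IsNoetherianRing A]

theorem subsingleton_HK_ring_of_HD (K : Dual.D A) (i : ℤ) (h : Subsingleton (Dual.HD A K i)) :
    Subsingleton (HK K i A) := subsingleton_of_forall_eq 0 fun u => by
  refine eq_zero_of_homology_eq_zero u ?_
  refine IsZero.eq_of_tgt ?_ _ _
  haveI : Subsingleton ((DerivedCategory.homologyFunctor (ModuleCat.{u} A) i).obj K) := h
  exact IsZero.of_iso (ModuleCat.isZero_of_subsingleton ((DerivedCategory.homologyFunctor (ModuleCat.{u} A) i).obj K))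
    (((DerivedCategory.homologyFunctor (ModuleCat.{u} A) 0).shiftIso i 0 i (add_zero i)).app K)

variable (A)

theorem isInvertible_map_unit [DTen.HasLTen A] [DTen.KFlatComputes A]
    (P : ObjectProperty (Dual.D A))
    (hP : ∀ K : Dual.D A, P K ↔
      ((∀ i : ℤ, Module.Finite A (Dual.HD A K i)) ∧ ∃ a b : ℤ, ∀ i : ℤ, (i < a ∨ b < i) → Subsingleton (Dual.HD A K i)))
    [P.IsTriangulated]
    (F : P.FullSubcategory ⥤ P.FullSubcategory) [F.CommShift ℤ] [F.IsEquivalence]
    [F.Additive] [F.Linear A]
    (hA : P (DTen.unit A)) :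
    DTen.IsInvertible A (F.obj ⟨DTen.unit A, hA⟩).obj := by
  let U : P.FullSubcategory := ⟨DTen.unit A, hA⟩
  let E := (F.obj U).obj
  obtain ⟨hE, a, b, hab⟩ := (hP E).1 (F.obj U).property
  haveI : E.IsGE a := (DerivedCategory.isGE_iff _ _).2 fun j hj => ModuleCat.isZero_iff_subsingleton.2 (hab j (Or.inl hj))
  haveI : E.IsLE b := (DerivedCategory.isLE_iff _ _).2 fun j hj => ModuleCat.isZero_iff_subsingleton.2 (hab j (Or.inr hj))
  -- morphisms out of `E` are morphisms out of the ring
  have hHom : ∀ (X : P.FullSubcategory) (i : ℤ), Subsingleton (HK X.obj i A) →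
      Subsingleton (E ⟶ (F.obj X).obj⟦i⟧) := fun X i h => by
    haveI : Subsingleton (DTen.unit A ⟶ X.obj⟦i⟧) :=
      (Linear.homCongr A (unitInDIso A) (Iso.refl (X.obj⟦i⟧))).injective.subsingleton (β := HK X.obj i A)
    haveI : Subsingleton (DTen.unit A ⟶ (X⟦i⟧).obj) :=
      (Linear.homCongr A (Iso.refl (DTen.unit A)) ((P.ι.commShiftIso i).app X)).injective.subsingleton (β := DTen.unit A ⟶ X.obj⟦i⟧)
    haveI : Subsingleton (U ⟶ X⟦i⟧) := P.ι.map_injective.subsingleton (β := DTen.unit A ⟶ (X⟦i⟧).obj)
    haveI : Subsingleton (F.obj U ⟶ F.obj (X⟦i⟧)) :=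
      Function.Surjective.subsingleton (f := fun f : U ⟶ X⟦i⟧ => F.map f) F.map_surjective
    haveI : Subsingleton (F.obj U ⟶ (F.obj X)⟦i⟧) :=
      (Linear.homCongr A (Iso.refl (F.obj U)) ((F.commShiftIso i).app X).symm).injective.subsingleton (β := F.obj U ⟶ F.obj (X⟦i⟧))
    haveI : Subsingleton (E ⟶ ((F.obj X)⟦i⟧).obj) :=
      Function.Surjective.subsingleton (f := fun f : F.obj U ⟶ (F.obj X)⟦i⟧ => P.ι.map f) P.ι.map_surjective
    exact (Linear.homCongr A (Iso.refl E) ((P.ι.commShiftIso i).app (F.obj X)).symm).injective.subsingleton (β := E ⟶ ((F.obj X)⟦i⟧).obj)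
  refine isInvertible_of_self_orth E a b hE ?_ (fun i hi => hHom U i ?_) fun m hm => ?_
  · have h0 : Function.Bijective fun r : A => r • 𝟙 U := by
      have h1 : Function.Bijective fun r : A => r • 𝟙 (Dual.inD A A) := by
        rw [show (fun r : A => r • 𝟙 (Dual.inD A A)) =
          (fun g : (ModuleCat.of A A ⟶ ModuleCat.of A A) => (DerivedCategory.singleFunctor (ModuleCat.{u} A) 0).map g) ∘
            (fun r : A => r • 𝟙 (ModuleCat.of A A)) from funext fun r => by
              show r • 𝟙 (Dual.inD A A) = (DerivedCategory.singleFunctor (ModuleCat.{u} A) 0).map (r • 𝟙 _)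
              rw [Functor.map_smul, CategoryTheory.Functor.map_id]]
        refine Function.Bijective.comp ⟨Functor.map_injective _, Functor.map_surjective _⟩
          ⟨fun x y hxy => ?_, fun g => ⟨g.hom 1, ?_⟩⟩
        · have := congr($(hxy).hom (1 : A))
          simpa using this
        · refine ModuleCat.hom_ext (LinearMap.ext_ring ?_)
          simp
      let c := Linear.homCongr A (unitInDIso A) (unitInDIso A)
      have h2 : Function.Bijective fun r : A => r • 𝟙 (DTen.unit A) := by
        rw [show (fun r : A => r • 𝟙 (DTen.unit A)) = c.symm ∘ (fun r : A => r • 𝟙 (Dual.inD A A)) from funext fun r => by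
          simp [c, Linear.homCongr_symm_apply, Linear.smul_comp, Linear.comp_smul]]
        exact c.symm.bijective.comp h1
      have hι : Function.Bijective fun f : U ⟶ U => P.ι.map f := ⟨P.ι.map_injective, P.ι.map_surjective⟩
      exact (Function.Bijective.of_comp_iff' hι _).1 h2
    have h3 : (fun r : A => r • 𝟙 E) = (fun f : F.obj U ⟶ F.obj U => P.ι.map f) ∘ ((fun f : U ⟶ U => F.map f) ∘ fun r : A => r • 𝟙 U) :=
      funext fun r => by
        show r • 𝟙 E = P.ι.map (F.map (r • 𝟙 U))
        rw [Functor.map_smul, CategoryTheory.Functor.map_id]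
        rfl
    rw [h3]
    exact Function.Bijective.comp ⟨P.ι.map_injective, P.ι.map_surjective⟩
      (Function.Bijective.comp ⟨F.map_injective, F.map_surjective⟩ h0)
  · haveI := RelHomLib.subsingleton_HK_projective (R := A) (M := A) (N := A) (i := i) hi
    exact (Linear.homCongr A (Iso.refl (Dual.inD A A)) ((shiftFunctor (Dual.D A) i).mapIso (unitInDIso A))).injective.subsingleton
      (β := HK (Dual.inD A A) i A)
  · haveI := hm
    have hk : P (Dual.inD A (A ⧸ m)) := (hP _).2 ⟨fun j => by
      by_cases hj : j = 0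
      · subst hj
        haveI : Module.Finite A ((𝟭 (ModuleCat.{u} A)).obj (ModuleCat.of A (A ⧸ m))) := inferInstanceAs (Module.Finite A (A ⧸ m))
        exact Module.Finite.equiv ((DerivedCategory.singleFunctorCompHomologyFunctorIso (ModuleCat.{u} A) 0).app _).toLinearEquiv.symm
      · haveI : Subsingleton (Dual.HD A (Dual.inD A (A ⧸ m)) j) := by
          refine ModuleCat.isZero_iff_subsingleton.1 ?_
          rcases lt_or_gt_of_ne hj with hlt | hgt
          · exact DerivedCategory.isZero_of_isGE ((DerivedCategory.singleFunctor (ModuleCat.{u} A) 0).obj _) 0 j hlt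
          · exact DerivedCategory.isZero_of_isLE ((DerivedCategory.singleFunctor (ModuleCat.{u} A) 0).obj _) 0 j hgt
        exact .of_finite, 0, 0, fun j hj => by
          refine ModuleCat.isZero_iff_subsingleton.1 ?_
          rcases hj with hlt | hgt
          · exact DerivedCategory.isZero_of_isGE ((DerivedCategory.singleFunctor (ModuleCat.{u} A) 0).obj _) 0 j hlt
          · exact DerivedCategory.isZero_of_isLE ((DerivedCategory.singleFunctor (ModuleCat.{u} A) 0).obj _) 0 j hgt⟩
    let Y : P.FullSubcategory := ⟨Dual.inD A (A ⧸ m), hk⟩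
    let X := F.objPreimage Y
    obtain ⟨-, a', b', hab'⟩ := (hP X.obj).1 X.property
    refine ⟨b', fun i hi => ?_⟩
    haveI := hHom X i (subsingleton_HK_ring_of_HD X.obj i (hab' i (Or.inr hi)))
    exact (Linear.homCongr A (Iso.refl E) ((shiftFunctor (Dual.D A) i).mapIso (P.ι.mapIso (F.objObjPreimageIso Y).symm))).injective.subsingleton
      (β := E ⟶ (F.obj X).obj⟦i⟧)

end Groth.Agent.DualCxLib
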