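import Groth.Agent.DualCxLib.Crit
import Groth.Agent.DualCxLib.TruncHD
import Groth.Agent.DualCxLib.Local
import Groth.Agent.DRingLib.PseudoCoherent
import Groth.Agent.RelHomLib.Divisor
import Groth.Agent.DRingLib.Complex

/-!
# Objects without self-maps of nonzero degree over a local ring

Over a Noetherian local ring an object `E` with bounded finite cohomology, without maps to its own nonzero shifts
and with bounded maps to the shifts of the residue field is a shifted free module.
-/

set_option autoImplicit false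
set_option backward.isDefEq.respectTransparency false
set_option linter.style.haveILetI false
set_option maxRecDepth 4000

universe u

open CategoryTheory Limits Pretriangulated IsLocalRing
attribute [local instance] HasDerivedCategory.standard

noncomputable section

namespace Groth.Agent.DualCxLib

variable {A : Type u} [CommRing A]

/-- Maps from `E` to the shifts of a module. -/
abbrev TK (E : Dual.D A) (i : ℤ) (M : Type u) [AddCommGroup M] [Module A M] : Type (u + 1) :=
  E ⟶ (Dual.inD A M)⟦i⟧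

variable {M M₁ M₂ M₃ : Type u} [AddCommGroup M] [Module A M] [AddCommGroup M₁] [Module A M₁] [AddCommGroup M₂] [Module A M₂]
  [AddCommGroup M₃] [Module A M₃] (E : Dual.D A)

/-- Functoriality in the module. -/
def post (i : ℤ) (f : M₁ →ₗ[A] M₂) : TK E i M₁ →ₗ[A] TK E i M₂ :=
  Linear.rightComp A E ((sMap f)⟦i⟧')

theorem post_apply (i : ℤ) (f : M₁ →ₗ[A] M₂) (u : TK E i M₁) : post E i f u = u ≫ (sMap f)⟦i⟧' := rfl

theorem post_comp_apply (i : ℤ) (f : M₁ →ₗ[A] M₂) (g : M₂ →ₗ[A] M₃) (u : TK E i M₁) :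
    post E i g (post E i f u) = post E i (g ∘ₗ f) u := by
  rw [post_apply, post_apply, post_apply, Category.assoc, ← Functor.map_comp, sMap_comp]

theorem sMap_id' : sMap (LinearMap.id : M →ₗ[A] M) = 𝟙 _ :=
  (DerivedCategory.singleFunctor (ModuleCat.{u} A) 0).map_id (ModuleCat.of A M)

theorem sMap_zero' : sMap (0 : M₁ →ₗ[A] M₂) = 0 :=
  (DerivedCategory.singleFunctor (ModuleCat.{u} A) 0).map_zero _ _

variable {E} {f : M₁ →ₗ[A] M₂} {g : M₂ →ₗ[A] M₃} (hf : Function.Injective f) (hg : Function.Surjective g)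
  (hfg : Function.Exact f g)

include hf hg hfg in
theorem exists_post_eq {i : ℤ} {u : TK E i M₂} (h : post E i g u = 0) : ∃ v, post E i f v = u := by
  have hS := sc_shortExact hf hfg hg
  let T := (Triangle.shiftFunctor (Dual.D A) i).obj hS.singleTriangle
  have hm : u ≫ (i.negOnePow • (sMap g)⟦i⟧') = 0 := by
    rw [Linear.comp_units_smul, ← post_apply, h, smul_zero]
  obtain ⟨v, hv⟩ := Triangle.coyoneda_exact₂ T (Triangle.shift_distinguished _ hS.singleTriangle_distinguished i) u hm
  let w : TK E i M₁ := v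
  have hw : u = w ≫ (i.negOnePow • (sMap f)⟦i⟧') := hv
  exact ⟨i.negOnePow • w, by rw [hw, post_apply, Linear.units_smul_comp, Linear.comp_units_smul]⟩

include hf hg hfg in
theorem post_surjective {i : ℤ} (h : Subsingleton (TK E (i + 1) M₁)) : Function.Surjective (post E i g) := by
  intro w
  have hS := sc_shortExact hf hfg hg
  let T := (Triangle.shiftFunctor (Dual.D A) i).obj hS.singleTriangle
  let c : (Dual.inD A M₁)⟦i + 1⟧ ≅ ((Dual.inD A M₁)⟦i⟧)⟦(1 : ℤ)⟧ := (shiftFunctorAdd (Dual.D A) i 1).app _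
  haveI h' : Subsingleton (E ⟶ ((Dual.inD A M₁)⟦i⟧)⟦(1 : ℤ)⟧) :=
    (Linear.homCongr A (Iso.refl E) c).symm.injective.subsingleton
  have h0 : Subsingleton (E ⟶ T.obj₁⟦(1 : ℤ)⟧) := h'
  obtain ⟨v, hv⟩ := Triangle.coyoneda_exact₃ T (Triangle.shift_distinguished _ hS.singleTriangle_distinguished i) w
    (h0.elim _ _)
  let v' : TK E i M₂ := v
  have hv' : w = v' ≫ (i.negOnePow • (sMap g)⟦i⟧') := hv
  exact ⟨i.negOnePow • v', by rw [hv', post_apply, Linear.units_smul_comp, Linear.comp_units_smul]⟩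

include hf hg hfg in
theorem subsingleton_TK_mid {i : ℤ} (h₁ : Subsingleton (TK E i M₁)) (h₃ : Subsingleton (TK E i M₃)) :
    Subsingleton (TK E i M₂) := subsingleton_of_forall_eq 0 fun u => by
  obtain ⟨v, hv⟩ := exists_post_eq hf hg hfg (u := u) (Subsingleton.elim _ _)
  rw [← hv, Subsingleton.elim v 0, map_zero]

omit f g in
theorem subsingleton_TK_congr (e : M₁ ≃ₗ[A] M₂) {i : ℤ} (h : Subsingleton (TK E i M₁)) : Subsingleton (TK E i M₂) :=
  (show Function.Surjective (post E i e.toLinearMap) from fun u => ⟨post E i e.symm.toLinearMap u, by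
    rw [post_comp_apply, show e.toLinearMap ∘ₗ e.symm.toLinearMap = LinearMap.id from e.comp_symm, post_apply, sMap_id',
      CategoryTheory.Functor.map_id, Category.comp_id]⟩).subsingleton

theorem subsingleton_TK_of_primes [IsNoetherianRing A] {i : ℤ} (N : Type u) [AddCommGroup N] [Module A N]
    [Module.Finite A N] (h : ∀ P ∈ Module.support A N, Subsingleton (TK E i (A ⧸ P.asIdeal))) :
    Subsingleton (TK E i N) := by
  revert h
  apply IsNoetherianRing.induction_on_isQuotientEquivQuotientPrime A (M := N) ‹_›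
    (motive := fun N _ _ _ => (∀ P ∈ Module.support A N, Subsingleton (TK E i (A ⧸ P.asIdeal))) →
      Subsingleton (TK E i N))
  · intro N _ _ _ _ _
    refine subsingleton_of_forall_eq 0 fun u => ?_
    have : u = u ≫ (sMap (LinearMap.id : N →ₗ[A] N))⟦i⟧' := by
      rw [sMap_id', CategoryTheory.Functor.map_id, Category.comp_id]
    rw [this, show (LinearMap.id : N →ₗ[A] N) = 0 from LinearMap.ext fun x => Subsingleton.elim _ _, sMap_zero',
      Functor.map_zero, comp_zero]
  · intro N _ _ _ Q e h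
    refine subsingleton_TK_congr e.symm (h Q ?_)
    rw [e.support_eq, Module.mem_support_iff_of_finite, Ideal.annihilator_quotient]
  · intro N₁ _ _ _ N₂ _ _ _ N₃ _ _ _ f g hf hg hfg h1 h3 h
    exact subsingleton_TK_mid hf hg hfg (h1 fun P hP => h P (Module.support_subset_of_injective f hf hP))
      (h3 fun P hP => h P (Module.support_subset_of_surjective g hg hP))

theorem exists_free_resolution [IsNoetherianRing A] (K : Dual.D A) (b : ℤ) [K.IsLE b]
    (hK : ∀ j, Module.Finite A (Dual.HD A K j)) : DRing.IsPseudoCoherent' A K :=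
  (DRingLib.isPseudoCoherent'_iff K).2 fun m => DRingLib.pc_of_homology DRingLib.projClass_fFree m (b + 1 - m).toNat K
    (fun i hi => DerivedCategory.isZero_of_isLE K b i (by omega)) fun i hi => by
      haveI := hK i
      exact (DRingLib.pc_inD_of_finite (i - m).toNat (Dual.HD A K i)).mono (by omega)

theorem finite_TK [IsNoetherianRing A] (hE : ∀ j, Module.Finite A (Dual.HD A E j)) (b : ℤ) [E.IsLE b] (i : ℤ)
    (N : Type u) [AddCommGroup N] [Module A N] [Module.Finite A N] : Module.Finite A (TK E i N) := by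
  obtain ⟨P, c, hPb, hPf, ⟨e⟩⟩ := exists_free_resolution E b hE
  haveI : P.IsKProjective := DRingLib.isKProjective_of_vanishesAbove hPb fun j =>
    (DRingLib.fFree_imp_fProj (hPf j)).2
  let S : DRing.Cx A := (HomologicalComplex.single (ModuleCat.{u} A) (ComplexShape.up ℤ) (-i)).obj (ModuleCat.of A N)
  haveI := (hPf (-i)).1
  let ev : (P ⟶ S) →ₗ[A] (P.X (-i) →ₗ[A] N) :=
    { toFun := fun φ => (φ.f (-i) ≫ (HomologicalComplex.singleObjXSelf (ComplexShape.up ℤ) (-i) (ModuleCat.of A N)).hom).hom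
      map_add' := fun φ ψ => by rw [HomologicalComplex.add_f_apply, Preadditive.add_comp]; rfl
      map_smul' := fun a φ => by rw [HomologicalComplex.smul_f_apply, Linear.smul_comp]; rfl }
  have hev : Function.Injective ev := fun φ ψ h => by
    refine HomologicalComplex.hom_ext _ _ fun j => ?_
    by_cases hj : j = -i
    · subst hj
      exact (cancel_mono _).1 (ModuleCat.hom_ext h)
    · exact (HomologicalComplex.isZero_single_obj_X (ComplexShape.up ℤ) (-i) (ModuleCat.of A N) j hj).eq_of_tgt _ _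
  haveI : Module.Finite A (P ⟶ S) := Module.Finite.of_injective ev hev
  haveI : Module.Finite A (DRing.toD P ⟶ DRing.toD S) :=
    Module.Finite.of_surjective (DerivedCategory.Q.mapLinearMap A) fun φ => DRingLib.Q_map_surjective P S φ
  let c : DRing.toD S ≅ (Dual.inD A N)⟦i⟧ :=
    (((DerivedCategory.singleFunctors (ModuleCat.{u} A)).shiftIso i (-i) 0 (by omega)).app _ ≪≫
      ((DerivedCategory.singleFunctorIsoCompQ (ModuleCat.{u} A) (-i)).app (ModuleCat.of A N))).symm
  exact Module.Finite.equiv (Linear.homCongr A e c)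

variable [IsNoetherianRing A] [IsLocalRing A]

/-- Vanishing at the residue field gives vanishing at all finite modules. -/
theorem subsingleton_TK_of_residueField (hE : ∀ j, Module.Finite A (Dual.HD A E j)) (b : ℤ) [E.IsLE b] (d : ℤ)
    (h : ∀ i : ℤ, d < i → Subsingleton (TK E i (ResidueField A))) (N : Type u) [AddCommGroup N] [Module A N]
    [Module.Finite A N] {i : ℤ} (hi : d < i) : Subsingleton (TK E i N) := by
  refine subsingleton_TK_of_primes N fun P hP => ?_
  clear hP
  induction P using (wellFoundedGT_spec (A := A)).wf.induction with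
  | _ Q ih =>
    by_cases hQ : Q.asIdeal = maximalIdeal A
    · obtain rfl : Q = closedPoint A := PrimeSpectrum.ext hQ
      exact h i hi
    obtain ⟨x, hx, hxQ⟩ := SetLike.exists_of_lt (lt_of_le_of_ne (le_maximalIdeal Q.2.ne_top) hQ)
    let f : (A ⧸ Q.asIdeal) →ₗ[A] (A ⧸ Q.asIdeal) := x • LinearMap.id
    have hf : Function.Injective f := by
      rw [injective_iff_map_eq_zero]
      intro y hy
      have hy' : Ideal.Quotient.mk Q.asIdeal x * y = 0 := hy
      exact (mul_eq_zero.1 hy').resolve_left fun h0 => hxQ (Ideal.Quotient.eq_zero_iff_mem.1 h0)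
    let R := LinearMap.range f
    haveI hC : Subsingleton (TK E i ((A ⧸ Q.asIdeal) ⧸ R)) := by
      refine subsingleton_TK_of_primes _ fun P hPs => ih P (lt_of_le_of_ne (show Q.asIdeal ≤ P.asIdeal from fun c hc => ?_) ?_)
      · refine Module.annihilator_le_of_mem_support hPs (Module.mem_annihilator.2 fun y => ?_)
        obtain ⟨y, rfl⟩ := Submodule.Quotient.mk_surjective _ y
        rw [← Submodule.Quotient.mk_smul, show c • y = 0 by
          obtain ⟨y, rfl⟩ := Ideal.Quotient.mk_surjective y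
          exact Ideal.Quotient.eq_zero_iff_mem.2 (Q.asIdeal.mul_mem_right y hc), Submodule.Quotient.mk_zero]
      · rintro rfl
        refine hxQ (Module.annihilator_le_of_mem_support hPs (Module.mem_annihilator.2 fun y => ?_))
        obtain ⟨y, rfl⟩ := Submodule.Quotient.mk_surjective _ y
        rw [← Submodule.Quotient.mk_smul, Submodule.Quotient.mk_eq_zero]
        exact ⟨y, rfl⟩
    haveI := finite_TK (E := E) hE b i (A ⧸ Q.asIdeal)
    rw [← zeroAt_maximal_iff (A := A)]
    refine zeroAt_of_smul_surjective hx fun y => ?_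
    obtain ⟨z, hz⟩ := exists_post_eq hf R.mkQ_surjective (LinearMap.exact_map_mkQ_range f) (u := y) (hC.elim _ _)
    refine ⟨1, fun h1 => (maximalIdeal.isMaximal A).ne_top ((Ideal.eq_top_iff_one _).2 h1), z, ?_⟩
    have hs : sMap f = x • 𝟙 _ := by rw [sMap_smul, sMap_id']
    rw [one_smul, ← hz, post_apply, hs, Functor.map_smul, CategoryTheory.Functor.map_id, Linear.comp_smul,
      Category.comp_id]

end Groth.Agent.DualCxLib

namespace Groth.Agent.DualCxLib

variable {A : Type u} [CommRing A]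

/-- A single complex as a shift of the module in degree `0`. -/
def singleShiftIso (c : ℤ) (Y : ModuleCat.{u} A) (i k : ℤ) (h : -c + i = k) :
    ((DerivedCategory.singleFunctor (ModuleCat.{u} A) c).obj Y)⟦i⟧ ≅ (Dual.inD A Y)⟦k⟧ :=
  (shiftFunctor (Dual.D A) i).mapIso
      (((DerivedCategory.singleFunctors (ModuleCat.{u} A)).shiftIso (-c) c 0 (by omega)).app Y).symm ≪≫
    ((shiftFunctorAdd' (Dual.D A) (-c) i k h).app _).symm

theorem isGE_shiftInD (M : Type u) [AddCommGroup M] [Module A M] (c : ℤ) :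
    DerivedCategory.IsGE ((Dual.inD A M)⟦-c⟧) c :=
  DerivedCategory.TStructure.t.isGE_shift (Dual.inD A M) 0 (-c) c (by omega)

/-- The truncation triangle at the top degree. -/
theorem isGE_isLE_ltTri₃ (E : Dual.D A) (b : ℤ) [E.IsLE b] :
    (ltTri b E).obj₃.IsGE b ∧ (ltTri b E).obj₃.IsLE b := by
  refine ⟨(DerivedCategory.isGE_iff _ _).2 fun j hj => HD_ltTri₃_of_lt _ E hj, (DerivedCategory.isLE_iff _ _).2 fun j hj => ?_⟩
  haveI : Subsingleton ((DerivedCategory.homologyFunctor (ModuleCat.{u} A) j).obj (ltTri b E).obj₂) :=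
    ModuleCat.subsingleton_of_isZero (DerivedCategory.isZero_of_isLE E b j hj)
  haveI := (HD_ltTri₃_bijective b E (j := j) (by omega)).2.subsingleton
  exact ModuleCat.isZero_of_subsingleton _

/-- The top cohomology as a quotient: an iso of the truncation with a module. -/
theorem exists_top (E : Dual.D A) (b : ℤ) [E.IsLE b] :
    ∃ (Y : ModuleCat.{u} A) (_ : (ltTri b E).obj₃ ≅ (Dual.inD A Y)⟦-b⟧), Nonempty (Dual.HD A E b ≃ₗ[A] Y) := by
  obtain ⟨h1, h2⟩ := isGE_isLE_ltTri₃ E b
  obtain ⟨Y, ⟨e⟩⟩ := DerivedCategory.exists_iso_singleFunctor_obj_of_isGE_of_isLE (ltTri b E).obj₃ b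
  exact ⟨Y, e ≪≫ (((DerivedCategory.singleFunctors (ModuleCat.{u} A)).shiftIso (-b) b 0 (by omega)).app Y).symm,
    ⟨(LinearEquiv.ofBijective _ (HD_ltTri₃_bijective b E (j := b) le_rfl)).trans
      (((DerivedCategory.homologyFunctor (ModuleCat.{u} A) b).mapIso e).trans
        ((DerivedCategory.singleFunctorCompHomologyFunctorIso (ModuleCat.{u} A) b).app Y)).toLinearEquiv⟩⟩

/-- Maps to a module in degree `b` are determined on the top truncation. -/
theorem top_cancel (E : Dual.D A) (b : ℤ) (X : Dual.D A) [X.IsGE b] {u v : (ltTri b E).obj₃ ⟶ X}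
    (h : (ltTri b E).mor₂ ≫ u = (ltTri b E).mor₂ ≫ v) : u = v := by
  obtain ⟨w, hw⟩ := Triangle.yoneda_exact₃ _ (ltTri_mem b E) (u - v) (by rw [Preadditive.comp_sub, h, sub_self])
  haveI : DerivedCategory.IsLE (ltTri b E).obj₁ (b - 1) :=
    (DerivedCategory.isLE_iff _ _).2 fun j hj => HD_ltTri₁_of_le _ E (by omega)
  haveI : DerivedCategory.TStructure.t.IsLE ((ltTri b E).obj₁⟦(1 : ℤ)⟧) (b - 2) :=
    DerivedCategory.TStructure.t.isLE_shift (ltTri b E).obj₁ (b - 1) 1 (b - 2) (by omega)
  rw [DerivedCategory.TStructure.t.zero_of_isLE_of_isGE w (b - 2) b (by omega) inferInstance inferInstance,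
    comp_zero] at hw
  exact sub_eq_zero.1 hw

theorem exists_factor_top (E : Dual.D A) (b : ℤ) (X : Dual.D A) [X.IsGE b] (v : E ⟶ X) :
    ∃ w : (ltTri b E).obj₃ ⟶ X, v = (ltTri b E).mor₂ ≫ w := by
  refine Triangle.yoneda_exact₂ _ (ltTri_mem b E) v ?_
  haveI : DerivedCategory.TStructure.t.IsLE (ltTri b E).obj₁ (b - 1) :=
    (DerivedCategory.isLE_iff _ _).2 fun j hj => HD_ltTri₁_of_le _ E (by omega)
  exact DerivedCategory.TStructure.t.zero_of_isLE_of_isGE _ (b - 1) b (by omega) inferInstance inferInstance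

variable [IsNoetherianRing A] [IsLocalRing A]

theorem exists_surjective_residue (M : Type u) [AddCommGroup M] [Module A M] [Module.Finite A M] [Nontrivial M] :
    ∃ q : M →ₗ[A] ResidueField A, Function.Surjective q := by
  let S : Submodule A M := maximalIdeal A • ⊤
  haveI : Nontrivial (M ⧸ S) :=
    Submodule.Quotient.nontrivial_iff.mpr (CAlgBasics.maximalIdeal_smul_top_ne_top (R := A) (M := M))
  have htor : Module.IsTorsionBySet A (M ⧸ S) (maximalIdeal A : Set A) := fun x ⟨a, ha⟩ => by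
    obtain ⟨x, rfl⟩ := Submodule.Quotient.mk_surjective S x
    exact (Submodule.Quotient.mk_eq_zero S).2 (Submodule.smul_mem_smul ha Submodule.mem_top)
  letI : Module (ResidueField A) (M ⧸ S) := htor.module
  haveI : IsScalarTower A (ResidueField A) (M ⧸ S) := htor.isScalarTower
  obtain ⟨x, hx⟩ := exists_ne (0 : M ⧸ S)
  obtain ⟨φ, hφ⟩ : ∃ φ : (M ⧸ S) →ₗ[ResidueField A] ResidueField A, φ x ≠ 0 := by
    by_contra hc
    push Not at hc
    exact hx ((Module.forall_dual_apply_eq_zero_iff (ResidueField A) x).1 hc)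
  refine ⟨(φ.restrictScalars A).comp S.mkQ, fun y => ?_⟩
  obtain ⟨z, rfl⟩ := Submodule.Quotient.mk_surjective S x
  obtain ⟨a, ha⟩ := IsLocalRing.residue_surjective (y * (φ (Submodule.Quotient.mk z))⁻¹)
  refine ⟨a • z, ?_⟩
  rw [map_smul, LinearMap.comp_apply, LinearMap.coe_restrictScalars, Submodule.mkQ_apply,
    ← algebraMap_smul (ResidueField A), smul_eq_mul]
  show IsLocalRing.residue A a * _ = y
  rw [ha, mul_assoc, inv_mul_cancel₀ hφ, mul_one]

theorem nontrivial_TK_top (E : Dual.D A) (b : ℤ) [E.IsLE b] [Module.Finite A (Dual.HD A E b)]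
    [Nontrivial (Dual.HD A E b)] : Nontrivial (TK E (-b) (ResidueField A)) := by
  obtain ⟨Y, e, ⟨eY⟩⟩ := exists_top E b
  haveI : Module.Finite A Y := Module.Finite.equiv eY
  haveI : Nontrivial Y := eY.symm.toEquiv.nontrivial
  obtain ⟨q, hq⟩ := exists_surjective_residue (A := A) Y
  haveI := isGE_shiftInD (A := A) (ResidueField A) b
  refine ⟨⟨(ltTri b E).mor₂ ≫ e.hom ≫ (sMap q)⟦(-b)⟧', 0, fun h0 => ?_⟩⟩
  have h1 : e.hom ≫ (sMap q)⟦(-b)⟧' = 0 := top_cancel E b _ (h0.trans comp_zero.symm)
  rw [← cancel_epi e.inv, comp_zero, Iso.inv_hom_id_assoc] at h1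
  have h2 : q = 0 := by
    have := (shiftFunctor (Dual.D A) (-b)).map_injective (a₁ := sMap q) (a₂ := 0) (h1.trans (Functor.map_zero _ _ _).symm)
    have := (DerivedCategory.singleFunctor (ModuleCat.{u} A) 0).map_injective (this.trans (Functor.map_zero _ _ _).symm)
    exact congrArg ModuleCat.Hom.hom this
  obtain ⟨x, hx⟩ := hq 1
  rw [h2, LinearMap.zero_apply] at hx
  exact zero_ne_one hx

theorem subsingleton_hom_to {E : Dual.D A} (d : ℤ)
    (h : ∀ (N : Type u) [AddCommGroup N] [Module A N] [Module.Finite A N] (i : ℤ), d < i → Subsingleton (TK E i N)) :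
    ∀ (k : ℕ) (a : ℤ) (Z : Dual.D A), Z.IsGE a → Z.IsLE (a + k) → (∀ j, Module.Finite A (Dual.HD A Z j)) →
      ∀ i : ℤ, d < i - (a + k) → Subsingleton (E ⟶ Z⟦i⟧) := by
  have base : ∀ (c : ℤ) (Z : Dual.D A), Z.IsGE c → Z.IsLE c → Module.Finite A (Dual.HD A Z c) →
      ∀ i : ℤ, d < i - c → Subsingleton (E ⟶ Z⟦i⟧) := fun c Z _ _ hfin i hi => by
    obtain ⟨Y, ⟨e⟩⟩ := DerivedCategory.exists_iso_singleFunctor_obj_of_isGE_of_isLE Z c
    haveI : Module.Finite A ((DerivedCategory.homologyFunctor (ModuleCat.{u} A) c).obj Z) := hfin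
    haveI : Module.Finite A Y :=
      Module.Finite.equiv (((DerivedCategory.homologyFunctor (ModuleCat.{u} A) c).mapIso e).trans
        ((DerivedCategory.singleFunctorCompHomologyFunctorIso (ModuleCat.{u} A) c).app Y)).toLinearEquiv
    haveI := h Y (i - c) hi
    exact (Linear.homCongr A (Iso.refl E) ((shiftFunctor (Dual.D A) i).mapIso e ≪≫
      singleShiftIso c Y i (i - c) (by omega))).injective.subsingleton
  intro k
  induction k with
  | zero =>
    intro a Z hge hle hfin i hi
    rw [Nat.cast_zero, add_zero] at hle hi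
    exact base a Z hge hle (hfin a) i hi
  | succ k ih =>
    intro a Z hge hle hfin i hi
    let c : ℤ := a + (k + 1 : ℕ)
    let T := ltTri c Z
    haveI : DerivedCategory.IsLE Z c := hle
    obtain ⟨g3, l3⟩ := isGE_isLE_ltTri₃ Z c
    haveI h1 : Subsingleton (E ⟶ T.obj₁⟦i⟧) := by
      refine ih a T.obj₁ ((DerivedCategory.isGE_iff _ a).2 fun j hj => ?_)
        ((DerivedCategory.isLE_iff _ _).2 fun j hj => HD_ltTri₁_of_le _ Z (by omega))
        (finite_HD_ltTri c Z hfin).1 i (by omega)
      haveI : Subsingleton ((DerivedCategory.homologyFunctor (ModuleCat.{u} A) j).obj T.obj₂) :=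
        ModuleCat.subsingleton_of_isZero (DerivedCategory.isZero_of_isGE Z a j hj)
      haveI := (HD_ltTri₁_injective c Z (j := j) (by omega)).subsingleton
      exact ModuleCat.isZero_of_subsingleton _
    haveI h3 : Subsingleton (E ⟶ T.obj₃⟦i⟧) :=
      base c T.obj₃ g3 l3 ((finite_HD_ltTri c Z hfin).2 c) i hi
    have hT := Triangle.shift_distinguished _ (ltTri_mem c Z) i
    let T' := (Triangle.shiftFunctor (Dual.D A) i).obj T
    have h1' : Subsingleton (E ⟶ T'.obj₁) := h1
    have h3' : Subsingleton (E ⟶ T'.obj₃) := h3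
    refine subsingleton_of_forall_eq 0 fun v => ?_
    obtain ⟨w, hw⟩ := Triangle.coyoneda_exact₂ T' hT v (h3'.elim _ _)
    rw [hw, h1'.elim w 0, zero_comp]

/-- An object without self maps of nonzero degree, with bounded maps to shifts of the residue field, is a shifted
free module. -/
theorem free_of_self_orth (E : Dual.D A) (a b : ℤ) [E.IsGE a] [E.IsLE b]
    (hE : ∀ j, Module.Finite A (Dual.HD A E j)) [Nontrivial (Dual.HD A E b)]
    (hself : ∀ i : ℤ, i ≠ 0 → Subsingleton (E ⟶ E⟦i⟧))
    (hbd : ∃ n : ℤ, ∀ i : ℤ, n < i → Subsingleton (TK E i (ResidueField A))) :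
    Module.Free A (Dual.HD A E b) ∧ ∀ j, j ≠ b → Subsingleton (Dual.HD A E j) := by
  haveI := hE b
  have hne := nontrivial_TK_top E b
  obtain ⟨d, hd, hdmax⟩ : ∃ d, Nontrivial (TK E d (ResidueField A)) ∧
      ∀ i, Nontrivial (TK E i (ResidueField A)) → i ≤ d := by
    obtain ⟨n, hn⟩ := hbd
    exact Int.exists_greatest_of_bdd ⟨n, fun i hi => not_lt.1 fun h => not_subsingleton_iff_nontrivial.2 hi (hn i h)⟩
      ⟨-b, hne⟩
  have hvan : ∀ (N : Type u) [AddCommGroup N] [Module A N] [Module.Finite A N] (i : ℤ), d < i →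
      Subsingleton (TK E i N) := fun N _ _ _ i hi =>
    subsingleton_TK_of_residueField hE b d
      (fun i hi => not_nontrivial_iff_subsingleton.1 fun h => absurd (hdmax i h) (not_le.2 hi)) N hi
  let T := ltTri b E
  obtain ⟨Y, e, ⟨eY⟩⟩ := exists_top E b
  haveI : Module.Finite A Y := Module.Finite.equiv eY
  haveI : Nontrivial Y := eY.symm.toEquiv.nontrivial
  haveI hle1 : DerivedCategory.IsLE T.obj₁ (b - 1) :=
    (DerivedCategory.isLE_iff _ _).2 fun j hj => HD_ltTri₁_of_le _ E (by omega)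
  haveI hge1 : DerivedCategory.IsGE T.obj₁ a := (DerivedCategory.isGE_iff _ _).2 fun j hj => by
    by_cases hjb : j ≤ b
    · haveI : Subsingleton ((DerivedCategory.homologyFunctor (ModuleCat.{u} A) j).obj T.obj₂) :=
        ModuleCat.subsingleton_of_isZero (DerivedCategory.isZero_of_isGE E a j hj)
      haveI := (HD_ltTri₁_injective b E hjb).subsingleton
      exact ModuleCat.isZero_of_subsingleton _
    · exact DerivedCategory.isZero_of_isLE _ (b - 1) j (by omega)
  have hf1 := (finite_HD_ltTri b E hE).1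
  -- the self maps force the top degree of maps to `κ`
  have hdb : d = -b := by
    by_contra hdb
    haveI := hself (d + b) (by omega)
    let T' := (Triangle.shiftFunctor (Dual.D A) (d + b)).obj T
    have hT' := Triangle.shift_distinguished _ (ltTri_mem b E) (d + b)
    have h1 : Subsingleton (E ⟶ T'.obj₁⟦(1 : ℤ)⟧) := by
      let m : ℤ := max a (b - 1)
      haveI : DerivedCategory.IsLE T.obj₁ (min a (b - 1) + (b - 1 - min a (b - 1)).toNat) :=
        DerivedCategory.TStructure.t.isLE_of_le T.obj₁ (b - 1) _ (by omega)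
      haveI : DerivedCategory.IsGE T.obj₁ (min a (b - 1)) :=
        DerivedCategory.TStructure.t.isGE_of_ge T.obj₁ _ a (by omega)
      haveI := subsingleton_hom_to d hvan (b - 1 - min a (b - 1)).toNat (min a (b - 1)) T.obj₁ inferInstance inferInstance
        hf1 (d + b + 1) (by omega)
      exact (Linear.homCongr A (Iso.refl E) ((shiftFunctorAdd' (Dual.D A) (d + b) 1 (d + b + 1) rfl).app T.obj₁)).symm.injective.subsingleton
    have h3 : Subsingleton (E ⟶ T.obj₃⟦d + b⟧) := subsingleton_of_forall_eq 0 fun w => by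
      obtain ⟨v, hv⟩ := Triangle.coyoneda_exact₃ T' hT' w (h1.elim _ _)
      let v' : E ⟶ E⟦d + b⟧ := v
      have hv0 : v' = 0 := Subsingleton.elim _ _
      exact hv.trans ((congrArg (· ≫ T'.mor₂) hv0).trans zero_comp)
    obtain ⟨q, hq⟩ := exists_surjective_residue (A := A) Y
    have hsur := post_surjective (E := E) (f := (LinearMap.ker q).subtype) (g := q) (LinearMap.ker q).injective_subtype hq
      (LinearMap.exact_subtype_ker_map q) (i := d) (hvan _ (d + 1) (by omega))
    haveI : Subsingleton (TK E d Y) := (Linear.homCongr A (Iso.refl E)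
      ((shiftFunctor (Dual.D A) (d + b)).mapIso e ≪≫
        ((shiftFunctorAdd' (Dual.D A) (-b) (d + b) d (by omega)).app _).symm)).symm.injective.subsingleton
    exact not_subsingleton_iff_nontrivial.2 hd hsur.subsingleton
  subst hdb
  haveI hgeY : ∀ (N : Type u) [AddCommGroup N] [Module A N], DerivedCategory.IsGE ((Dual.inD A N)⟦-b⟧) b :=
    fun N _ _ => isGE_shiftInD N b
  -- the top cohomology is projective
  haveI hproj : Module.Projective A Y := by
    obtain ⟨n, π, hπ⟩ := Module.Finite.exists_fin' A Y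
    obtain ⟨v, hv⟩ := post_surjective (E := E) (f := (LinearMap.ker π).subtype) (g := π) (LinearMap.ker π).injective_subtype
      hπ (LinearMap.exact_subtype_ker_map π) (i := -b) (hvan _ (-b + 1) (by omega)) (T.mor₂ ≫ e.hom)
    obtain ⟨w, hw⟩ := exists_factor_top E b _ v
    obtain ⟨w', hw'⟩ := (shiftFunctor (Dual.D A) (-b)).map_surjective (e.inv ≫ w)
    obtain ⟨σ, hσ⟩ := (DerivedCategory.singleFunctor (ModuleCat.{u} A) 0).map_surjective w'
    refine Module.Projective.of_split σ.hom π ?_
    have h1 : w ≫ (sMap π)⟦(-b)⟧' = e.hom :=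
      top_cancel E b _ (by rw [← Category.assoc, ← hw]; exact hv)
    have h2 : (sMap σ.hom ≫ sMap π)⟦(-b)⟧' = 𝟙 _ := by
      rw [Functor.map_comp, show sMap σ.hom = w' from hσ, hw', Category.assoc, h1, e.inv_hom_id]
    have h3 := (shiftFunctor (Dual.D A) (-b)).map_injective (h2.trans (CategoryTheory.Functor.map_id _ _).symm)
    rw [← sMap_comp, ← sMap_id'] at h3
    exact congrArg ModuleCat.Hom.hom ((DerivedCategory.singleFunctor (ModuleCat.{u} A) 0).map_injective h3)
  refine ⟨?_, fun j hj => not_nontrivial_iff_subsingleton.1 fun hjn => ?_⟩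
  · haveI : Module.Projective A (Dual.HD A E b) := Module.Projective.of_equiv eY.symm
    haveI : Module.Flat A (Dual.HD A E b) := inferInstance
    exact Module.free_of_flat_of_isLocalRing
  have hjb : j < b := lt_of_le_of_ne (le_of_not_gt fun h => not_subsingleton_iff_nontrivial.2 hjn
    (ModuleCat.subsingleton_of_isZero (DerivedCategory.isZero_of_isLE E b j h))) hj
  have hj1 : Nontrivial (Dual.HD A T.obj₁ j) :=
    (LinearEquiv.ofBijective _ (HD_ltTri₁_bijective b E hjb)).toEquiv.nontrivial_congr.2 hjn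
  obtain ⟨c, hc, hcmax⟩ : ∃ c, Nontrivial (Dual.HD A T.obj₁ c) ∧ ∀ i, Nontrivial (Dual.HD A T.obj₁ i) → i ≤ c :=
    Int.exists_greatest_of_bdd ⟨b - 1, fun i hi => not_lt.1 fun h => not_subsingleton_iff_nontrivial.2 hi
      (ModuleCat.subsingleton_of_isZero (DerivedCategory.isZero_of_isLE T.obj₁ (b - 1) i h))⟩ ⟨j, hj1⟩
  haveI : DerivedCategory.IsLE T.obj₁ c := (DerivedCategory.isLE_iff _ _).2 fun i hi => by
    haveI : Subsingleton ((DerivedCategory.homologyFunctor (ModuleCat.{u} A) i).obj T.obj₁) :=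
      not_nontrivial_iff_subsingleton.1 fun h => absurd (hcmax i h) (not_le.2 hi)
    exact ModuleCat.isZero_of_subsingleton _
  haveI := hf1 c
  have hcb : c ≤ b - 1 := not_lt.1 fun h => not_subsingleton_iff_nontrivial.2 hc
      (ModuleCat.subsingleton_of_isZero (DerivedCategory.isZero_of_isLE T.obj₁ (b - 1) c h))
  obtain ⟨v, hv⟩ := (haveI := nontrivial_TK_top T.obj₁ c; exists_ne (0 : TK T.obj₁ (-c) (ResidueField A)))
  have hE0 : Subsingleton (TK E (-c) (ResidueField A)) :=
    not_nontrivial_iff_subsingleton.1 fun h => absurd (hdmax _ h) (by omega)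
  let Z := (Dual.inD A (ResidueField A))⟦-c⟧
  haveI h31 : Subsingleton (T.obj₃ ⟶ Z⟦(1 : ℤ)⟧) := by
    haveI := RelHomLib.subsingleton_HK_projective (R := A) (M := Y) (N := ResidueField A) (i := b - c + 1) (by omega)
    have hs : Subsingleton ((Dual.inD A Y)⟦-b⟧ ⟶ ((Dual.inD A (ResidueField A))⟦b - c + 1⟧)⟦-b⟧) :=
      Function.Surjective.subsingleton (f := fun u : HK (Dual.inD A (ResidueField A)) (b - c + 1) Y =>
        (shiftFunctor (Dual.D A) (-b)).map u) (shiftFunctor (Dual.D A) (-b)).map_surjective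
    exact @Function.Injective.subsingleton _ _ _ (Linear.homCongr A e
      (((shiftFunctorAdd' (Dual.D A) (-c) 1 (-c + 1) rfl).app _).symm ≪≫
        (shiftFunctorAdd' (Dual.D A) (b - c + 1) (-b) (-c + 1) (by omega)).app _)).injective hs
  refine hv ?_
  haveI : Subsingleton ((𝟭 (Dual.D A)).obj T.obj₃ ⟶ (shiftFunctor (Dual.D A) (1 : ℤ)).obj Z) := h31
  have h0 : Subsingleton ((T.obj₃⟦(-1 : ℤ)⟧) ⟶ Z) :=
    Function.Injective.subsingleton (f := fun u : (T.obj₃⟦(-1 : ℤ)⟧) ⟶ Z =>
      ((shiftFunctorCompIsoId (Dual.D A) (-1 : ℤ) 1 (by omega)).inv.app T.obj₃ ≫ u⟦(1 : ℤ)⟧'))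
      fun u v huv => (shiftFunctor (Dual.D A) (1 : ℤ)).map_injective ((cancel_epi _).1 huv)
  have hm : T.invRotate.mor₁ ≫ v = 0 := h0.elim _ _
  obtain ⟨w, hw⟩ := Triangle.yoneda_exact₂ _ (inv_rot_of_distTriang _ (ltTri_mem b E)) v hm
  exact hw.trans ((congrArg (T.invRotate.mor₂ ≫ ·) (hE0.elim (w : TK E (-c) (ResidueField A)) 0)).trans comp_zero)

end Groth.Agent.DualCxLib
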