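import Groth.Agent.DRingLib.HomKFlat
import Groth.Agent.DRingLib.HomProj
import Mathlib.Algebra.Homology.HomologicalComplexAbelian

/-!
# The evaluation map into the double dual of a complex
-/

set_option autoImplicit false
set_option linter.style.haveILetI false
set_option backward.isDefEq.respectTransparency false

universe u

open CategoryTheory Limits CochainComplex CochainComplex.HomComplex
attribute [local instance] HasDerivedCategory.standard

noncomputable section

namespace Groth.Agent.DualCxLib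

open DRingLib

variable {A : Type u} [CommRing A] {E : DRing.Cx A}

/-- A component of a cochain applied to an element. -/
def vApp {K L : DRing.Cx A} {n : ℤ} (p q : ℤ) (h : p + n = q) (x : K.X p) : Cochain K L n →ₗ[A] L.X q where
  toFun φ := (φ.v p q h).hom x
  map_add' φ ψ := by rw [Cochain.add_v, ModuleCat.hom_add]; rfl
  map_smul' a φ := by rw [Cochain.smul_v, ModuleCat.hom_smul]; rfl

theorem vApp_apply {K L : DRing.Cx A} {n : ℤ} (p q : ℤ) (h : p + n = q) (x : K.X p) (φ : Cochain K L n) :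
    vApp p q h x φ = (φ.v p q h).hom x := rfl

/-- Evaluation at an element, as a cochain on the Hom complex. -/
def evCochain (K : DRing.Cx A) (j : ℤ) (x : K.X j) : Cochain (DRing.homCx K E) E j :=
  Cochain.mk fun p q h => (((j * p).negOnePow : ℤˣ) : ℤ) •
    (ModuleCat.ofHom (vApp (L := E) j q (by omega) x) : (DRing.homCx K E).X p ⟶ E.X q)

theorem evCochain_v (K : DRing.Cx A) (j : ℤ) (x : K.X j) (p q : ℤ) (h : p + j = q) (φ : Cochain K E p) :
    ((evCochain (E := E) K j x).v p q h).hom φ =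
      (((j * p).negOnePow : ℤˣ) : ℤ) • (φ.v j q (by omega)).hom x := by
  show ((((j * p).negOnePow : ℤˣ) : ℤ) • ModuleCat.ofHom (vApp (L := E) j q (by omega) x)).hom φ = _
  rw [ModuleCat.hom_zsmul]
  rfl

/-- Evaluation at an element, linear in the element. -/
def evLin (K : DRing.Cx A) (j : ℤ) : K.X j →ₗ[A] Cochain (DRing.homCx K E) E j where
  toFun := evCochain K j
  map_add' x y := Cochain.ext _ _ fun p q h => ModuleCat.hom_ext (LinearMap.ext fun φ => by
    rw [Cochain.add_v, ModuleCat.hom_add, LinearMap.add_apply, evCochain_v K j (x + y) p q h φ,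
      evCochain_v K j x p q h φ, evCochain_v K j y p q h φ, map_add, smul_add])
  map_smul' a x := Cochain.ext _ _ fun p q h => ModuleCat.hom_ext (LinearMap.ext fun φ => by
    rw [RingHom.id_apply, Cochain.smul_v, ModuleCat.hom_smul, LinearMap.smul_apply, evCochain_v K j (a • x) p q h φ,
      evCochain_v K j x p q h φ, map_smul, smul_comm])

theorem δ_evCochain (K : DRing.Cx A) (i j : ℤ) (hij : i + 1 = j) (x : K.X i) :
    δ i j (evCochain (E := E) K i x) = evCochain K j ((K.d i j).hom x) := by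
  subst hij
  refine Cochain.ext _ _ fun p q h => ModuleCat.hom_ext (LinearMap.ext fun φ => ?_)
  rw [evCochain_v K (i + 1) _ p q h φ, δ_v i (i + 1) rfl _ p q h (q - 1) (p + 1) rfl rfl]
  simp only [Units.smul_def, ModuleCat.hom_add, LinearMap.add_apply, ModuleCat.hom_comp, LinearMap.comp_apply,
    ModuleCat.hom_zsmul, LinearMap.smul_apply]
  rw [evCochain_v K i x p (q - 1) (by omega) φ, map_zsmul]
  show _ + _ • ((evCochain (E := E) K i x).v (p + 1) q _).hom (δ p (p + 1) φ) = _
  rw [evCochain_v K i x (p + 1) q (by omega) (δ p (p + 1) φ),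
    δ_v p (p + 1) rfl φ i q (by omega) (q - 1) (i + 1) rfl rfl]
  simp only [Units.smul_def, ModuleCat.hom_add, LinearMap.add_apply, ModuleCat.hom_comp, LinearMap.comp_apply,
    ModuleCat.hom_zsmul, LinearMap.smul_apply, smul_add, smul_smul]
  have h1 : (((i + 1).negOnePow : ℤˣ) : ℤ) * (((i * (p + 1)).negOnePow : ℤˣ) : ℤ) =
      -(((i * p).negOnePow : ℤˣ) : ℤ) := by
    rw [← Units.val_mul, ← Int.negOnePow_add, show i + 1 + i * (p + 1) = i * p + (2 * i + 1) by ring,
      Int.negOnePow_add, Int.negOnePow_succ, Int.negOnePow_two_mul]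
    simp
  have h2 : (((i + 1).negOnePow : ℤˣ) : ℤ) * (((i * (p + 1)).negOnePow : ℤˣ) : ℤ) *
      (((p + 1).negOnePow : ℤˣ) : ℤ) = ((((i + 1) * p).negOnePow : ℤˣ) : ℤ) := by
    rw [← Units.val_mul, ← Units.val_mul, ← Int.negOnePow_add, ← Int.negOnePow_add,
      show i + 1 + i * (p + 1) + (p + 1) = (i + 1) * p + 2 * (i + 1) by ring,
      Int.negOnePow_add, Int.negOnePow_two_mul, mul_one]
  rw [h1, ← mul_assoc, h2, neg_smul, ← add_assoc, add_neg_cancel, zero_add]

variable (E) in
/-- Evaluation into the double Hom complex. -/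
def evK (K : DRing.Cx A) : K ⟶ DRing.homCx (DRing.homCx K E) E where
  f j := ModuleCat.ofHom (evLin K j)
  comm' i j hij := ModuleCat.hom_ext (LinearMap.ext fun x => δ_evCochain K i j hij x)

theorem evK_natural {K K' : DRing.Cx A} (f : K ⟶ K') :
    evK E K ≫ homCxPre (homCxPre f E) E = f ≫ evK E K' := by
  refine HomologicalComplex.hom_ext _ _ fun j => ModuleCat.hom_ext (LinearMap.ext fun (x : K.X j) => ?_)
  refine Cochain.ext _ _ fun p q h => ModuleCat.hom_ext (LinearMap.ext fun φ => ?_)
  show (((Cochain.ofHom (homCxPre f E)).comp (evCochain (E := E) K j x) (zero_add j)).v p q h).hom φ =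
    ((evCochain (E := E) K' j ((f.f j).hom x)).v p q h).hom φ
  rw [Cochain.zero_cochain_comp_v, Cochain.ofHom_v, ModuleCat.hom_comp, LinearMap.comp_apply]
  show ((evCochain (E := E) K j x).v p q h).hom ((Cochain.ofHom f).comp φ (zero_add p)) = _
  rw [evCochain_v K j x p q h _, evCochain_v K' j _ p q h φ, Cochain.zero_cochain_comp_v, Cochain.ofHom_v]
  rfl

section Window

theorem bijective_homCxPre_f {K K' : DRing.Cx A} (f : K ⟶ K') {a b : ℤ} (hE : DRing.VanishesOutside E a b)
    (n : ℤ) (hf : ∀ p, a - n ≤ p → p ≤ b - n → IsIso (f.f p)) :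
    Function.Bijective ((homCxPre f E).f n).hom := by
  refine ⟨(injective_iff_map_eq_zero ((homCxPre f E).f n).hom).2 fun z hz => Cochain.ext _ _ fun p q h => ?_, fun y => ?_⟩
  · by_cases hq : a ≤ q ∧ q ≤ b
    · haveI := hf p (by omega) (by omega)
      have h1 : ((Cochain.ofHom f).comp z (zero_add n)).v p q h = 0 := by
        rw [show (Cochain.ofHom f).comp z (zero_add n) = 0 from hz]
        rfl
      rw [Cochain.zero_cochain_comp_v, Cochain.ofHom_v] at h1
      rw [Cochain.zero_v, ← cancel_epi (f.f p), h1, comp_zero]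
    · exact (hE q (by omega)).eq_of_tgt _ _
  · classical
    let y' : Cochain K E n := y
    let z : Cochain K' E n := Cochain.mk fun p q h =>
      if hq : a - n ≤ p ∧ p ≤ b - n then (haveI := hf p hq.1 hq.2; inv (f.f p) ≫ y'.v p q h) else 0
    refine ⟨z, Cochain.ext _ _ fun p q h => ?_⟩
    show ((Cochain.ofHom f).comp z (zero_add n)).v p q h = y'.v p q h
    rw [Cochain.zero_cochain_comp_v, Cochain.ofHom_v, Cochain.mk_v]
    by_cases hq : a - n ≤ p ∧ p ≤ b - n
    · haveI := hf p hq.1 hq.2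
      rw [dif_pos hq, IsIso.hom_inv_id_assoc]
    · exact (hE q (by omega)).eq_of_tgt _ _

theorem isIso_homCxPre_f {K K' : DRing.Cx A} (f : K ⟶ K') {a b : ℤ} (hE : DRing.VanishesOutside E a b)
    (n : ℤ) (hf : ∀ p, a - n ≤ p → p ≤ b - n → IsIso (f.f p)) : IsIso ((homCxPre f E).f n) :=
  (ConcreteCategory.isIso_iff_bijective _).2 (bijective_homCxPre_f f hE n hf)

theorem quasiIsoAt_of_isIso_f {K K' : DRing.Cx A} (f : K ⟶ K') (j : ℤ)
    (hf : ∀ p, j - 1 ≤ p → p ≤ j + 1 → IsIso (f.f p)) : QuasiIsoAt f j := by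
  rw [quasiIsoAt_iff' f (j - 1) j (j + 1) (by simp) (by simp)]
  haveI : Epi ((HomologicalComplex.shortComplexFunctor' (ModuleCat.{u} A) (ComplexShape.up ℤ) (j - 1) j (j + 1)).map f).τ₁ :=
    @IsIso.epi_of_iso _ _ _ _ _ (hf (j - 1) (by omega) (by omega))
  haveI : IsIso ((HomologicalComplex.shortComplexFunctor' (ModuleCat.{u} A) (ComplexShape.up ℤ) (j - 1) j (j + 1)).map f).τ₂ :=
    hf j (by omega) (by omega)
  haveI : Mono ((HomologicalComplex.shortComplexFunctor' (ModuleCat.{u} A) (ComplexShape.up ℤ) (j - 1) j (j + 1)).map f).τ₃ :=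
    @IsIso.mono_of_iso _ _ _ _ _ (hf (j + 1) (by omega) (by omega))
  exact ShortComplex.quasiIso_of_epi_of_isIso_of_mono _

theorem quasiIsoAt_evK_iff {K K' : DRing.Cx A} (f : K ⟶ K') {a b : ℤ} (hE : DRing.VanishesOutside E a b) (j : ℤ)
    (N : ℕ) (hN : b - a ≤ N) (hf : ∀ p, j - 1 - N ≤ p → p ≤ j + 1 + N → IsIso (f.f p)) :
    QuasiIsoAt (evK E K) j ↔ QuasiIsoAt (evK E K') j := by
  rcases lt_or_ge b a with hba | hba
  · have hz : ∀ (L : DRing.Cx A) (n : ℤ), IsZero ((DRing.homCx L E).X n) := fun L n => by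
      haveI : Subsingleton (Cochain L E n) :=
        ⟨fun z z' => Cochain.ext _ _ fun p q h => (hE q (by omega)).eq_of_tgt _ _⟩
      exact ModuleCat.isZero_of_subsingleton (ModuleCat.of A (Cochain L E n))
    haveI : QuasiIsoAt (homCxPre (homCxPre f E) E) j :=
      quasiIsoAt_of_isIso_f _ j fun p _ _ => ⟨0, (hz _ p).eq_of_src _ _, (hz _ p).eq_of_src _ _⟩
    haveI : QuasiIsoAt f j := quasiIsoAt_of_isIso_f f j fun p h1 h2 => hf p (by omega) (by omega)
    rw [← quasiIsoAt_iff_comp_right (evK E K) (homCxPre (homCxPre f E) E) j, evK_natural f,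
      quasiIsoAt_iff_comp_left f (evK E K') j]
  · haveI : QuasiIsoAt f j := quasiIsoAt_of_isIso_f f j fun p h1 h2 => hf p (by omega) (by omega)
    haveI : QuasiIsoAt (homCxPre (homCxPre f E) E) j := quasiIsoAt_of_isIso_f _ j fun p h1 h2 =>
      isIso_homCxPre_f _ hE p fun n h3 h4 => isIso_homCxPre_f f hE n fun r h5 h6 => hf r (by omega) (by omega)
    rw [← quasiIsoAt_iff_comp_right (evK E K) (homCxPre (homCxPre f E) E) j, evK_natural f,
      quasiIsoAt_iff_comp_left f (evK E K') j]

end Window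

section Exact

theorem homShortComplex_shortExact (hE : ∀ i, Module.Injective A (E.X i)) {S : ShortComplex (DRing.Cx A)}
    (hS : S.ShortExact) : (homShortComplex E S).ShortExact := by
  haveI : ∀ i, Injective (E.X i) := fun i => (Module.injective_iff_injective_object A (E.X i)).1 (hE i)
  have hq : ∀ p, (S.map (HomologicalComplex.eval (ModuleCat.{u} A) (ComplexShape.up ℤ) p)).ShortExact := fun p =>
    hS.map_of_exact _
  haveI : ∀ p, Epi (S.g.f p) := fun p => (hq p).epi_g
  haveI : ∀ p, Mono (S.f.f p) := fun p => (hq p).mono_f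
  refine HomologicalComplex.shortExact_of_degreewise_shortExact _ fun n => ShortComplex.ShortExact.mk' ?_ ?_ ?_
  · rw [ShortComplex.moduleCat_exact_iff]
    intro z0 hz
    let z : Cochain S.X₂ E n := z0
    have hz' : ∀ p q h, S.f.f p ≫ z.v p q h = 0 := fun p q h => by
      have h1 : ((Cochain.ofHom S.f).comp z (zero_add n)).v p q h = 0 := by
        rw [show (Cochain.ofHom S.f).comp z (zero_add n) = 0 from hz]
        rfl
      rwa [Cochain.zero_cochain_comp_v, Cochain.ofHom_v] at h1
    refine ⟨(Cochain.mk fun p q h => haveI := (hq p).epi_g; (hq p).exact.desc (z.v p q h) (hz' p q h) : Cochain S.X₃ E n),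
      Cochain.ext _ _ fun p q h => ?_⟩
    show ((Cochain.ofHom S.g).comp _ (zero_add n)).v p q h = z.v p q h
    rw [Cochain.zero_cochain_comp_v, Cochain.ofHom_v, Cochain.mk_v]
    haveI := (hq p).epi_g
    exact (hq p).exact.g_desc _ _
  · refine (ModuleCat.mono_iff_injective _).2 ((injective_iff_map_eq_zero _).2 fun z0 hz => ?_)
    let z : Cochain S.X₃ E n := z0
    refine Cochain.ext z 0 fun p q h => ?_
    have h1 : ((Cochain.ofHom S.g).comp z (zero_add n)).v p q h = 0 := by
      rw [show (Cochain.ofHom S.g).comp z (zero_add n) = 0 from hz]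
      rfl
    rw [Cochain.zero_cochain_comp_v, Cochain.ofHom_v] at h1
    rw [Cochain.zero_v, ← cancel_epi (S.g.f p), h1, comp_zero]
  · refine (ModuleCat.epi_iff_surjective _).2 fun z0 => ?_
    let z : Cochain S.X₁ E n := z0
    refine ⟨(Cochain.mk fun p q h => Injective.factorThru (z.v p q h) (S.f.f p) : Cochain S.X₂ E n),
      Cochain.ext _ _ fun p q h => ?_⟩
    show ((Cochain.ofHom S.f).comp _ (zero_add n)).v p q h = z.v p q h
    rw [Cochain.zero_cochain_comp_v, Cochain.ofHom_v, Cochain.mk_v]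
    exact Injective.comp_factorThru _ _

/-- Evaluation as a map of short complexes. -/
def evShort (S : ShortComplex (DRing.Cx A)) : S ⟶ homShortComplex E (homShortComplex E S) where
  τ₁ := evK E S.X₁
  τ₂ := evK E S.X₂
  τ₃ := evK E S.X₃
  comm₁₂ := evK_natural S.f
  comm₂₃ := evK_natural S.g

end Exact

end Groth.Agent.DualCxLib
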