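import Groth.Agent.DualCxLib.CoindDual
import Groth.Agent.DualCxLib.Regular
import Groth.Agent.S11177
import Mathlib.RingTheory.EssentialFiniteness

/-!
# Existence of dualizing complexes
-/

set_option autoImplicit false
set_option backward.isDefEq.respectTransparency false
set_option linter.style.haveILetI false

universe u

open CategoryTheory
attribute [local instance] HasDerivedCategory.standard

noncomputable section

namespace Groth.Agent.DualCxLib

theorem exists_dualizing_of_finite {A : Type u} [CommRing A] [IsNoetherianRing A] (B : Type u) [CommRing B]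
    [Algebra A B] [Module.Finite A B] {ω : Dual.D A} (hω : Dual.IsDualizing A ω) :
    ∃ ω' : Dual.D B, Dual.IsDualizing B ω' := by
  haveI : IsNoetherianRing B := IsNoetherianRing.of_finite A B
  exact ⟨_, (model hω).isDualizing_coext B hω⟩

theorem exists_dualizing_of_finiteType {A : Type u} [CommRing A] [IsNoetherianRing A] (B : Type u) [CommRing B]
    [Algebra A B] [Algebra.FiniteType A B] {ω : Dual.D A} (hω : Dual.IsDualizing A ω) :
    ∃ ω' : Dual.D B, Dual.IsDualizing B ω' := by
  obtain ⟨n, φ, hφ⟩ := Algebra.FiniteType.iff_quotient_mvPolynomial''.1 ‹Algebra.FiniteType A B›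
  let P := MvPolynomial (Fin n) A
  haveI : DRing.HasLBaseChange (algebraMap A P) := DRingLib.hasLBaseChange _
  haveI : Algebra.Smooth A P := ⟨inferInstance, inferInstance⟩
  have h := Groth.Agent.S11177.result A P ω hω
  letI : Algebra P B := φ.toRingHom.toAlgebra
  haveI : Module.Finite P B := Module.Finite.of_surjective (Algebra.linearMap P B) hφ
  exact exists_dualizing_of_finite B h

theorem exists_dualizing_of_essFiniteType {A : Type u} [CommRing A] [IsNoetherianRing A] (B : Type u) [CommRing B]
    [Algebra A B] [Algebra.EssFiniteType A B] {ω : Dual.D A} (hω : Dual.IsDualizing A ω) :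
    ∃ ω' : Dual.D B, Dual.IsDualizing B ω' := by
  let B₀ := Algebra.EssFiniteType.subalgebra A B
  obtain ⟨ω₀, h₀⟩ := exists_dualizing_of_finiteType B₀ hω
  haveI : IsNoetherianRing B₀ := h₀.isNoetherianRing
  haveI : DRing.HasLBaseChange (algebraMap B₀ B) := DRingLib.hasLBaseChange _
  exact ⟨_, isDualizing_lbc (Algebra.EssFiniteType.submonoid A B) B h₀⟩

end Groth.Agent.DualCxLib
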