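import Groth.Agent.DualCxLib.ChangeRing
import Groth.Agent.DualCxLib.FlatDual
import Groth.Agent.DualCxLib.Gorenstein
import Groth.Agent.DRingLib.DescentPC
import Groth.Agent.GorLib.LocInjDim
import Groth.Agent.GorLib.Ring

/-!
# Flat base change of dualizing complexes with Gorenstein fibres
-/

set_option autoImplicit false
set_option backward.isDefEq.respectTransparency false
set_option linter.style.haveILetI false
set_option maxRecDepth 4000

universe u

open CategoryTheory Limits
open scoped TensorProduct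
attribute [local instance] HasDerivedCategory.standard

noncomputable section

namespace Groth.Agent.DualCxLib

open Groth.Agent.DRingLib

theorem subsingleton_tensor_right {A : Type u} [CommRing A] (R : Type u) [CommRing R] [Algebra A R]
    (M : Type (u + 1)) [AddCommGroup M] [Module A M]
    (h : ∀ m : M, ∃ s : A, IsUnit (algebraMap A R s) ∧ s • m = 0) : Subsingleton (R ⊗[A] M) := by
  refine subsingleton_of_forall_eq 0 fun x => ?_
  induction x using TensorProduct.induction_on with
  | zero => rfl
  | tmul r m =>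
    obtain ⟨s, hs, hsm⟩ := h m
    obtain ⟨v, hv⟩ := hs.exists_left_inv
    have : r = s • (v * r) := by rw [Algebra.smul_def, ← mul_assoc, mul_comm (algebraMap A R s), hv, one_mul]
    rw [this, TensorProduct.smul_tmul, hsm, TensorProduct.tmul_zero]
  | add x y hx hy => rw [hx, hy, add_zero]

section RankOne

variable {A : Type u} [CommRing A] [IsNoetherianRing A] {ω : Dual.D A} (hω : Dual.IsDualizing A ω)
include hω

/-- The degree `dfn` module is of rank one at its prime. -/
theorem nonempty_rankOne (p : PrimeSpectrum A) :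
    Nonempty (Localization.AtPrime p.asIdeal ⊗[A] HK ω (dfn hω p) (A ⧸ p.asIdeal) ≃ₗ[Localization.AtPrime p.asIdeal]
      Localization.AtPrime p.asIdeal ⊗[A] (A ⧸ p.asIdeal)) := by
  let Ap := Localization.AtPrime p.asIdeal
  haveI : DRing.HasLBaseChange (algebraMap A Ap) := DRingLib.hasLBaseChange _
  haveI : IsNoetherianRing Ap := IsLocalization.isNoetherianRing p.asIdeal.primeCompl Ap ‹_›
  haveI : Module.Flat A Ap := IsLocalization.flat Ap p.asIdeal.primeCompl
  let S0 := model hω
  haveI := S0.isGE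
  let F := (bcD A Ap).obj ω
  have hF : Dual.IsDualizing Ap F := isDualizing_lbc p.asIdeal.primeCompl Ap hω
  let m := IsLocalRing.maximalIdeal Ap
  let M := HK ω (dfn hω p) (A ⧸ p.asIdeal)
  obtain ⟨e1⟩ := nonempty_HK_bcD A Ap ω S0.a (A ⧸ p.asIdeal) (dfn hω p)
  let q : Ap ⊗[A] (A ⧸ p.asIdeal) ≃ₗ[Ap] (Ap ⧸ m) :=
    (quotMapEquiv A Ap p.asIdeal).trans
      (Submodule.quotEquivOfEq _ _ Localization.AtPrime.map_eq_maximalIdeal)
  let S := model hF
  let e2 : Ap ⊗[A] M ≃ₗ[Ap] S.T (Ap ⧸ m) (dfn hω p) :=
    e1.trans ((preEquiv F _ q.symm).trans (S.equivHK (Ap ⧸ m) _).symm)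
  haveI : Nontrivial (S.T (Ap ⧸ m) (dfn hω p)) := by
    rw [← not_subsingleton_iff_nontrivial]
    intro hs
    haveI : Subsingleton (Ap ⊗[A] M) := e2.injective.subsingleton
    refine not_zeroAt_dfn hω p fun y => ?_
    obtain ⟨s, hs⟩ := (IsLocalizedModule.eq_zero_iff p.asIdeal.primeCompl (TensorProduct.mk A Ap M 1)).1
      (Subsingleton.elim (TensorProduct.mk A Ap M 1 y) 0)
    exact ⟨s, s.2, hs⟩
  obtain ⟨e3⟩ := S.nonempty_T_equiv hF m (j := dfn hω p) inferInstance
  exact ⟨e2.trans (e3.trans q.symm)⟩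

variable (R : Type u) [CommRing R] [Algebra A R] [Module.Flat A R] [DRing.HasLBaseChange (algebraMap A R)]

/-- `RHom(R/pR, ω_R)` when everything outside `p` is invertible in `R`. -/
theorem HK_bcD_quotient (p : PrimeSpectrum A) (hu : ∀ s ∉ p.asIdeal, IsUnit (algebraMap A R s)) :
    (∀ j, j ≠ dfn hω p → Subsingleton (HK ((bcD A R).obj ω) j (R ⧸ p.asIdeal.map (algebraMap A R)))) ∧
      Nonempty (HK ((bcD A R).obj ω) (dfn hω p) (R ⧸ p.asIdeal.map (algebraMap A R)) ≃ₗ[R]
        R ⧸ p.asIdeal.map (algebraMap A R)) := by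
  let S0 := model hω
  haveI := S0.isGE
  have he : ∀ j, Nonempty (R ⊗[A] HK ω j (A ⧸ p.asIdeal) ≃ₗ[R]
      HK ((bcD A R).obj ω) j (R ⧸ p.asIdeal.map (algebraMap A R))) := fun j => by
    obtain ⟨e⟩ := nonempty_HK_bcD A R ω S0.a (A ⧸ p.asIdeal) j
    exact ⟨e.trans (preEquiv _ j (quotMapEquiv A R p.asIdeal).symm)⟩
  refine ⟨fun j hj => ?_, ?_⟩
  · obtain ⟨e⟩ := he j
    haveI := subsingleton_tensor_right R (HK ω j (A ⧸ p.asIdeal)) fun m => by
      obtain ⟨s, hs, hsm⟩ := zeroAt_of_ne_dfn hω hj m
      exact ⟨s, hu s hs, hsm⟩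
    exact e.symm.injective.subsingleton
  · let Ap := Localization.AtPrime p.asIdeal
    letI : Algebra Ap R :=
      (IsLocalization.lift (M := p.asIdeal.primeCompl) (g := algebraMap A R) fun s => hu s s.2).toAlgebra
    haveI : IsScalarTower A Ap R := IsScalarTower.of_algebraMap_eq' (IsLocalization.lift_comp _).symm
    obtain ⟨e⟩ := he (dfn hω p)
    obtain ⟨r⟩ := nonempty_rankOne hω p
    exact ⟨e.symm.trans ((((TensorProduct.AlgebraTensorModule.cancelBaseChange A Ap R R
        (HK ω (dfn hω p) (A ⧸ p.asIdeal))).symm.trans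
      (TensorProduct.AlgebraTensorModule.congr (LinearEquiv.refl R R) r)).trans
      (TensorProduct.AlgebraTensorModule.cancelBaseChange A Ap R R (A ⧸ p.asIdeal))).trans
      (quotMapEquiv A R p.asIdeal))⟩

end RankOne

theorem nonempty_bcD_comp (A B R : Type u) [CommRing A] [CommRing B] [CommRing R] [Algebra A B] [Algebra A R]
    [Algebra B R] [IsScalarTower A B R] [DRing.HasLBaseChange (algebraMap A B)]
    [DRing.HasLBaseChange (algebraMap B R)] [DRing.HasLBaseChange (algebraMap A R)] (K : Dual.D A) :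
    Nonempty ((bcD B R).obj ((bcD A B).obj K) ≅ (bcD A R).obj K) := by
  have key : ∀ (φ : A →+* R) [DRing.HasLBaseChange φ], (algebraMap B R).comp (algebraMap A B) = φ →
      Nonempty ((bcD B R).obj ((bcD A B).obj K) ≅ (DRing.LBaseChange φ).obj K) := by
    intro φ _ h
    subst h
    exact DRingLib.nonempty_lbc_comp _ _ K
  exact key (algebraMap A R) (IsScalarTower.algebraMap_eq A B R).symm

section Criterion

variable (A B : Type u) [CommRing A] [CommRing B] [Algebra A B] [IsNoetherianRing A] [IsNoetherianRing B]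
  [Module.Flat A B] [DRing.HasLBaseChange (algebraMap A B)]

/-- Base change along a flat map whose local fibres have bounded self injective dimension. -/
theorem isDualizing_bcD_of_injDim {ω : Dual.D A} (hω : Dual.IsDualizing A ω) (N : ℤ)
    (h : ∀ n : Ideal B, ∀ [n.IsMaximal], ∀ (P : Type u) [AddCommGroup P]
      [Module (Localization.AtPrime n ⧸ (n.under A).map (algebraMap A (Localization.AtPrime n))) P] (i : ℤ),
      N < i → Subsingleton (HK (Dual.inD (Localization.AtPrime n ⧸ (n.under A).map (algebraMap A (Localization.AtPrime n)))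
        (Localization.AtPrime n ⧸ (n.under A).map (algebraMap A (Localization.AtPrime n)))) i P)) :
    Dual.IsDualizing B ((bcD A B).obj ω) := by
  let S0 := model hω
  haveI := S0.isGE
  haveI := isGE_bcD A B ω S0.a
  let F := (bcD A B).obj ω
  obtain ⟨SB⟩ := nonempty_model_of_maximal F (fun j => finite_HD_bcD A B (hω.finite_cohomology j))
    S0.a (S0.b + N) (fun n hn i hi => by
      haveI := hn
      let R := Localization.AtPrime n
      haveI : IsNoetherianRing R := IsLocalization.isNoetherianRing n.primeCompl R ‹_›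
      haveI : Module.Flat B R := IsLocalization.flat R n.primeCompl
      haveI : Module.Flat A R := Module.Flat.trans A B R
      haveI : DRing.HasLBaseChange (algebraMap A R) := DRingLib.hasLBaseChange _
      haveI : DRing.HasLBaseChange (algebraMap B R) := DRingLib.hasLBaseChange _
      haveI := isGE_bcD A R ω S0.a
      let p : PrimeSpectrum A := ⟨n.under A, inferInstance⟩
      have hu : ∀ s ∉ p.asIdeal, IsUnit (algebraMap A R s) := fun s hs => by
        rw [IsScalarTower.algebraMap_apply A B R]
        exact IsLocalization.map_units R (⟨algebraMap A B s, hs⟩ : n.primeCompl)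
      obtain ⟨hvan, ⟨e⟩⟩ := HK_bcD_quotient hω R p hu
      obtain ⟨S⟩ := exists_injRep ((bcD A R).obj ω) S0.a
      let I := (n.under A).map (algebraMap A R)
      let J := n.map (algebraMap B R)
      have hIJ : I ≤ J := by
        show (n.under A).map (algebraMap A R) ≤ n.map (algebraMap B R)
        rw [IsScalarTower.algebraMap_eq A B R, ← Ideal.map_map]
        exact Ideal.map_mono Ideal.map_comap_le
      letI : Algebra (R ⧸ I) (R ⧸ J) := (Ideal.Quotient.factor hIJ).toAlgebra
      haveI : IsScalarTower R (R ⧸ I) (R ⧸ J) := ⟨fun r x y => by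
        obtain ⟨a, rfl⟩ := Ideal.Quotient.mk_surjective x
        obtain ⟨b, rfl⟩ := Ideal.Quotient.mk_surjective y
        show Ideal.Quotient.mk J ((r * a) * b) = Ideal.Quotient.mk J (r * (a * b))
        rw [mul_assoc]⟩
      have hμ : S0.a ≤ dfn hω p ∧ dfn hω p ≤ S0.b := dfn_mem hω p
      haveI h1 : Subsingleton (HK ((bcD A R).obj ω) i (R ⧸ J)) :=
        S.subsingleton_HK_of_quotient (R ⧸ I) Ideal.Quotient.mk_surjective hvan e
          (fun P _ _ j hj => h n P j hj) (R ⧸ J) (show dfn hω p + N < i by omega)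
      obtain ⟨c⟩ := nonempty_bcD_comp A B R ω
      haveI h2 : Subsingleton (HK ((bcD B R).obj F) i (R ⊗[B] (B ⧸ n))) := by
        haveI := (preEquiv ((bcD A R).obj ω) i (quotMapEquiv B R n)).symm.injective.subsingleton
        exact ((Iso.refl _).homCongr ((shiftFunctor (Dual.D R) i).mapIso c)).subsingleton_congr.2 inferInstance
      obtain ⟨e2⟩ := nonempty_HK_bcD B R F S0.a (B ⧸ n) i
      haveI : Subsingleton (R ⊗[B] HK F i (B ⧸ n)) := e2.injective.subsingleton
      refine subsingleton_of_forall_eq 0 fun y => ?_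
      obtain ⟨s, hs⟩ := (IsLocalizedModule.eq_zero_iff n.primeCompl (TensorProduct.mk B R (HK F i (B ⧸ n)) 1)).1
        (Subsingleton.elim (TensorProduct.mk B R (HK F i (B ⧸ n)) 1 y) 0)
      obtain ⟨t, u, hu', htu⟩ := Ideal.IsMaximal.exists_inv (I := n) ‹_› s.2
      have h0 : u • y = 0 := smul_eq_zero_of_smul F i (fun z => by
        obtain ⟨z, rfl⟩ := Ideal.Quotient.mk_surjective z
        exact Ideal.Quotient.eq_zero_iff_mem.2 (n.mul_mem_right z hu')) y
      rw [← one_smul B y, ← htu, add_smul, h0, add_zero, mul_smul]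
      show t • ((s : B) • y) = 0
      rw [show (s : B) • y = 0 from hs, smul_zero])
  exact isDualizing_bcD A B hω SB

/-- Base change along a flat map with Gorenstein fibres of bounded dimension. -/
theorem isDualizing_bcD_of_fibres {ω : Dual.D A} (hω : Dual.IsDualizing A ω)
    (hG : ∀ (p : Ideal A) [p.IsPrime], LocCoh.IsGorensteinRing (p.Fiber B)) (N : ℕ)
    (hdim : ∀ (p : Ideal A) [p.IsPrime], ringKrullDim (p.Fiber B) ≤ N) :
    Dual.IsDualizing B ((bcD A B).obj ω) := by
  refine isDualizing_bcD_of_injDim A B hω (N : ℤ) ?_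
  intro n _ P _ _ i hi
  let p := n.under A
  let Q := PrimeSpectrum.primesOverOrderIsoFiber A B p ⟨n, ⟨inferInstance, ⟨rfl⟩⟩⟩
  have hQ : n = Q.asIdeal.comap Algebra.TensorProduct.includeRight := by
    have := PrimeSpectrum.coe_primesOverOrderIsoFiber_symm_apply (R := A) (S := B) p Q
    rw [OrderIso.symm_apply_apply] at this
    exact this
  let C := Localization.AtPrime n ⧸ p.map (algebraMap A (Localization.AtPrime n))
  obtain ⟨e⟩ : Nonempty (Localization.AtPrime Q.asIdeal ≃+* C) := by
    haveI hlo : (Q.asIdeal.comap (Algebra.TensorProduct.includeRight : B →ₐ[A] p.Fiber B)).LiesOver p :=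
      ⟨by rw [← hQ]⟩
    letI := Localization.AtPrime.algebraOfLiesOver p (Q.asIdeal.comap (Algebra.TensorProduct.includeRight : B →ₐ[A] p.Fiber B))
    haveI : Localization.AtPrime.IsLiesOverAlgebra p (Q.asIdeal.comap (Algebra.TensorProduct.includeRight : B →ₐ[A] p.Fiber B)) := ⟨rfl⟩
    have gen : ∀ (r : Ideal B) [r.IsPrime], r = n →
        Nonempty ((Localization.AtPrime r ⧸ p.map (algebraMap A (Localization.AtPrime r))) ≃+* C) := by
      intro r _ h
      subst h
      exact ⟨RingEquiv.refl _⟩
    obtain ⟨e'⟩ := gen _ hQ.symm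
    exact ⟨(Ideal.Fiber.localizationAlgEquivQuotient p Q.asIdeal).toRingEquiv.trans e'⟩
  haveI := hG p
  have hC : LocCoh.IsGorensteinLocalRing C :=
    GorLib.gorenstein_of_ringEquiv e ((hG p).isGorensteinLocalRing_localization Q.asIdeal)
  haveI := hC
  have hd : ringKrullDim C ≤ N := by
    rw [← ringKrullDim_eq_of_ringEquiv e]
    rw [IsLocalization.AtPrime.ringKrullDim_eq_height Q.asIdeal (Localization.AtPrime Q.asIdeal)]
    exact (Ideal.height_le_ringKrullDim_of_ne_top Q.2.ne_top).trans (hdim p)
  obtain ⟨k, rfl⟩ := Int.eq_ofNat_of_zero_le (show 0 ≤ i by omega)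
  rw [subsingleton_HK_inD_iff]
  haveI := (GorLib.injectiveDimension_local N C hC hd).1
  exact HasInjectiveDimensionLT.subsingleton (ModuleCat.of C C) (N + 1) k (by omega) _

/-- If the base change of a dualizing complex is dualizing, the fibres are Gorenstein. -/
theorem gorenstein_fibre_of_isDualizing {ω : Dual.D A} (hω : Dual.IsDualizing A ω)
    (hB : Dual.IsDualizing B ((bcD A B).obj ω)) (p : Ideal A) [p.IsPrime] :
    LocCoh.IsGorensteinRing (p.Fiber B) := by
  haveI : IsNoetherianRing (B ⊗[A] p.ResidueField) := Algebra.EssFiniteType.isNoetherianRing B _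
  haveI : IsNoetherianRing (p.Fiber B) :=
    isNoetherianRing_of_ringEquiv _ (Algebra.TensorProduct.comm A B p.ResidueField).toRingEquiv
  refine { isGorensteinLocalRing_localization := fun Q _ => ?_ }
  let r : Ideal B := Q.comap (Algebra.TensorProduct.includeRight : B →ₐ[A] p.Fiber B)
  haveI hlo : r.LiesOver p := ⟨(Ideal.over_def Q p).trans (by
    ext x
    simp only [r, Ideal.under_def, Ideal.mem_comap, AlgHom.commutes])⟩
  letI := Localization.AtPrime.algebraOfLiesOver p r
  haveI : Localization.AtPrime.IsLiesOverAlgebra p r := ⟨rfl⟩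
  let R := Localization.AtPrime r
  haveI : IsNoetherianRing R := IsLocalization.isNoetherianRing r.primeCompl R ‹_›
  haveI : Module.Flat B R := IsLocalization.flat R r.primeCompl
  haveI : Module.Flat A R := Module.Flat.trans A B R
  haveI : DRing.HasLBaseChange (algebraMap A R) := DRingLib.hasLBaseChange _
  haveI : DRing.HasLBaseChange (algebraMap B R) := DRingLib.hasLBaseChange _
  let S0 := model hω
  haveI := S0.isGE
  obtain ⟨c⟩ := nonempty_bcD_comp A B R ω
  have hR : Dual.IsDualizing R ((bcD A R).obj ω) := isDualizing_of_iso c (isDualizing_lbc r.primeCompl R hB)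
  let pp : PrimeSpectrum A := ⟨p, inferInstance⟩
  have hu : ∀ s ∉ pp.asIdeal, IsUnit (algebraMap A R s) := fun s hs => by
    rw [IsScalarTower.algebraMap_apply A B R]
    exact IsLocalization.map_units R (⟨algebraMap A B s, fun h => hs (by
      show s ∈ p
      rw [Ideal.over_def r p]
      exact h)⟩ : r.primeCompl)
  obtain ⟨hvan, ⟨e⟩⟩ := HK_bcD_quotient hω R pp hu
  let SR := model hR
  let C := R ⧸ p.map (algebraMap A R)
  let eq : Localization.AtPrime Q ≃+* C := (Ideal.Fiber.localizationAlgEquivQuotient p Q).toRingEquiv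
  haveI : IsLocalRing C := eq.isLocalRing
  refine GorLib.gorenstein_of_ringEquiv eq.symm { exists_hasInjectiveDimensionLT := ⟨(SR.b - dfn hω pp + 1).toNat, ?_⟩ }
  rw [hasInjectiveDimensionLT_iff.{u}]
  intro k hk Y x
  haveI := (subsingleton_HK_inD_iff Y C k).1 (SR.rep.subsingleton_HK_self_of_quotient C Ideal.Quotient.mk_surjective
    hvan e (b := SR.b) (fun i hi => SR.vanishes i (Or.inr hi)) Y (show SR.b < dfn hω pp + (k : ℤ) by omega))
  exact Subsingleton.elim _ _

end Criterion

end Groth.Agent.DualCxLib
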