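import Groth.Agent.DualCxLib.LocMain
import Groth.Agent.DualCxLib.Trunc
import Mathlib.CategoryTheory.Abelian.Exact
import Mathlib.RingTheory.TensorProduct.Finite

/-!
# Localizations of dualizing complexes are dualizing, and conversely
-/

set_option autoImplicit false
set_option backward.isDefEq.respectTransparency false
set_option linter.style.haveILetI false
set_option maxRecDepth 4000

universe u

open CategoryTheory Limits
attribute [local instance] HasDerivedCategory.standard

noncomputable section

namespace Groth.Agent.DualCxLib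

section

variable {A : Type u} [CommRing A] (B : Type u) [CommRing B] [Algebra A B]

theorem preservesHomology_extendScalars [Module.Flat A B] :
    (ModuleCat.extendScalars.{u, u, u} (algebraMap A B)).PreservesHomology :=
  Functor.preservesHomology_of_map_exact _ fun T hT => by
    haveI := DRingLib.preservesHomology_tensorLeft_of_flat (DTenLib.baseMod (algebraMap A B))
      (DRingLib.flat_baseMod A B)
    rw [← ShortComplex.exact_map_iff_of_faithful _ (ModuleCat.restrictScalars.{u} (algebraMap A B))]
    exact (ShortComplex.exact_iff_of_iso (T.mapNatIso (DTenLib.extResIso (algebraMap A B)))).2 (hT.map _)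

/-- Homology of an extension of scalars along a flat map. -/
theorem nonempty_HD_extCx [Module.Flat A B] (E : DRing.Cx A) (j : ℤ) :
    Nonempty (Dual.HD B (DRing.toD ((DTen.extCx (algebraMap A B)).obj E)) j ≃ₗ[B]
      TensorProduct A B (Dual.HD A (DRing.toD E) j)) := by
  haveI := preservesHomology_extendScalars (A := A) B
  let F := ModuleCat.extendScalars.{u, u, u} (algebraMap A B)
  exact ⟨(((DerivedCategory.homologyFunctorFactors (ModuleCat.{u} B) j).app _) ≪≫
    (show ((DTen.extCx (algebraMap A B)).obj E).homology j ≅ F.obj (E.homology j) from (E.sc j).mapHomologyIso F) ≪≫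
    F.mapIso ((DerivedCategory.homologyFunctorFactors (ModuleCat.{u} A) j).app E).symm).toLinearEquiv.trans
      (DRingLib.extendScalarsTensorEquiv A B _)⟩

end

variable {A : Type u} [CommRing A] (M : Submonoid A) (B : Type u) [CommRing B] [Algebra A B]
  [IsLocalization M B] [IsNoetherianRing A]

theorem Model.isLE {K : Dual.D A} (S : Model K) : K.IsLE S.b := by
  haveI : CochainComplex.IsStrictlyLE S.E S.b :=
    (CochainComplex.isStrictlyLE_iff _ _).2 fun i hi => S.vanishes i (Or.inr hi)
  haveI : (DerivedCategory.Q.obj S.E).IsLE S.b := inferInstance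
  exact DerivedCategory.TStructure.t.isLE_of_iso S.iso S.b

variable [DRing.HasLBaseChange (algebraMap A B)]

include M in
/-- Localizations of dualizing complexes are dualizing. -/
theorem isDualizing_lbc {ω : Dual.D A} (hω : Dual.IsDualizing A ω) :
    Dual.IsDualizing B ((DRing.LBaseChange (algebraMap A B)).obj ω) := by
  haveI := IsLocalization.flat B M
  let S := model hω
  haveI := S.isGE
  haveI := S.isLE
  let SB : Model ((DRing.LBaseChange (algebraMap A B)).obj ω) :=
    ⟨(DTen.extCx (algebraMap A B)).obj S.E, S.a, S.b, fun i hi => DRingLib.isZero_extCx_X _ (S.vanishes i hi),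
      fun i => injective_extCx_X M B (S.inj i), (S.rep.lbcIso M B).symm⟩
  refine ⟨IsLocalization.isNoetherianRing M B ‹_›, ⟨SB.a, SB.b, fun N _ _ i hi => SB.subsingleton_HK (M := N) hi⟩,
    fun j => ?_, ?_, fun i hi => ?_⟩
  · obtain ⟨e⟩ := nonempty_HD_extCx B S.E j
    haveI := hω.finite_cohomology j
    haveI : Module.Finite A (Dual.HD A (DRing.toD S.E) j) := by
      haveI : Module.Finite A ((DerivedCategory.homologyFunctor (ModuleCat.{u} A) j).obj ω) :=
        hω.finite_cohomology j
      exact Module.Finite.equiv ((DerivedCategory.homologyFunctor (ModuleCat.{u} A) j).mapIso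
        S.iso).toLinearEquiv.symm
    haveI : Module.Finite B ((DerivedCategory.homologyFunctor (ModuleCat.{u} B) j).obj
        (DRing.toD ((DTen.extCx (algebraMap A B)).obj S.rep.E))) :=
      Module.Finite.equiv e.symm
    exact Module.Finite.equiv ((DerivedCategory.homologyFunctor (ModuleCat.{u} B) j).mapIso
      (S.rep.lbcIso M B).symm).toLinearEquiv
  · exact S.rep.bijective_smul_id_lbc M B hω.finite_cohomology S.a S.b hω.toEnd_bijective
  · haveI := hω.ext_self_subsingleton i hi
    exact S.rep.subsingleton_lbc_self M B hω.finite_cohomology S.a S.b i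

omit [DRing.HasLBaseChange (algebraMap A B)] M B [IsLocalization M B] in
/-- Being dualizing is local for a covering family of localizations. -/
theorem isDualizing_of_cover {K : Dual.D A} (S : Model K) (hK : ∀ j, Module.Finite A (Dual.HD A K j))
    {ι : Type*} (Mf : ι → Submonoid A) (hcov : ∀ m : Ideal A, m.IsMaximal → ∃ j, ∀ s ∈ Mf j, s ∉ m)
    [hbc : ∀ j, DRing.HasLBaseChange (algebraMap A (Localization (Mf j)))]
    (hloc : ∀ j, Dual.IsDualizing (Localization (Mf j)) ((DRing.LBaseChange (algebraMap A (Localization (Mf j)))).obj K)) :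
    Dual.IsDualizing A K := by
  haveI := S.isGE
  haveI := S.isLE
  refine ⟨inferInstance, ⟨S.a, S.b, fun N _ _ i hi => S.subsingleton_HK (M := N) hi⟩, hK, ?_, fun i hi => ?_⟩
  · let cz : K⟦(0 : ℤ)⟧ ≅ K := (shiftFunctorZero (Dual.D A) ℤ).app K
    have hloc' := fun j =>
      S.rep.isLoc_smul_id (Mf j) (Localization (Mf j)) hK S.a S.b (hloc j).toEnd_bijective
    refine ⟨fun (r r' : A) hr => sub_eq_zero.1 (eq_zero_of_forall_maximal (A := A) (U := A) (r - r') fun m hm => ?_), fun u => ?_⟩
    · obtain ⟨j, hj⟩ := hcov m hm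
      replace hr : r • 𝟙 K = r' • 𝟙 K := hr
      obtain ⟨s, hs, h0⟩ := (hloc' j).inj (r - r') (by
        rw [LinearMap.comp_apply, LinearMap.toSpanSingleton_apply]
        show ((r - r') • cz.inv) ≫ _ = 0
        rw [show (r - r') • cz.inv = ((r - r') • 𝟙 K) ≫ cz.inv by rw [Linear.smul_comp, Category.id_comp],
          sub_smul, hr, sub_self, zero_comp, zero_comp])
      exact ⟨s, hj s hs, h0⟩
    · let p : A →ₗ[A] (K ⟶ K) := LinearMap.toSpanSingleton A (K ⟶ K) (𝟙 K)
      have h0 : (LinearMap.range p).mkQ u = 0 := eq_zero_of_forall_maximal _ fun m hm => by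
        obtain ⟨j, hj⟩ := hcov m hm
        obtain ⟨s, hs, r, hr⟩ := (hloc' j).surj
          ((u ≫ cz.inv) ≫ (S.rep.η (Localization (Mf j)))⟦(0 : ℤ)⟧')
        replace hr : (r • cz.inv) ≫ (S.rep.η (Localization (Mf j)))⟦(0 : ℤ)⟧' =
          s • ((u ≫ cz.inv) ≫ (S.rep.η (Localization (Mf j)))⟦(0 : ℤ)⟧') := hr
        obtain ⟨t, ht, ht0⟩ := (S.rep.isLoc_self (Mf j) (Localization (Mf j)) hK S.a S.b 0).inj
          (r • cz.inv - s • (u ≫ cz.inv)) (by
            show (r • cz.inv - s • (u ≫ cz.inv)) ≫ _ = 0
            rw [Preadditive.sub_comp, hr, Linear.smul_comp _ _ _ s, sub_self])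
        refine ⟨t * s, hj _ ((Mf j).mul_mem ht hs), ?_⟩
        rw [← map_smul, Submodule.mkQ_apply, Submodule.Quotient.mk_eq_zero]
        refine ⟨t * r, ?_⟩
        show (t * r) • 𝟙 K = (t * s) • u
        rw [← cancel_mono cz.inv, Linear.smul_comp, Linear.smul_comp, Category.id_comp, mul_smul, mul_smul]
        rw [smul_sub, sub_eq_zero] at ht0
        exact ht0
      obtain ⟨r, hr⟩ := (Submodule.Quotient.mk_eq_zero _).1 h0
      exact ⟨r, hr⟩
  · refine subsingleton_of_forall_eq 0 fun u => eq_zero_of_forall_maximal (A := A) u fun m hm => ?_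
    obtain ⟨j, hj⟩ := hcov m hm
    haveI := (hloc j).ext_self_subsingleton i hi
    obtain ⟨s, hs, h0⟩ := S.rep.subsingleton_self_of_lbc (Mf j) (Localization (Mf j)) hK S.a S.b i u
    exact ⟨s, hj s hs, h0⟩

omit [DRing.HasLBaseChange (algebraMap A B)] M B [IsLocalization M B] in
/-- Being dualizing is local at the maximal ideals. -/
theorem isDualizing_of_maximal {K : Dual.D A} (S : Model K) (hK : ∀ j, Module.Finite A (Dual.HD A K j))
    [hbc : ∀ m : Ideal A, [m.IsMaximal] → DRing.HasLBaseChange (algebraMap A (Localization.AtPrime m))]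
    (hloc : ∀ (m : Ideal A) [m.IsMaximal],
      Dual.IsDualizing (Localization.AtPrime m) ((DRing.LBaseChange (algebraMap A (Localization.AtPrime m))).obj K)) :
    Dual.IsDualizing A K :=
  isDualizing_of_cover S hK (fun m : MaximalSpectrum A => m.asIdeal.primeCompl)
    (fun m hm => ⟨⟨m, hm⟩, fun _ hs => hs⟩) (hbc := fun m => hbc m.asIdeal) (fun m => hloc m.asIdeal)

end Groth.Agent.DualCxLib
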