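import Groth.Agent.DualCxLib.FreeHom
import Groth.Agent.DualCxLib.LocDual
import Mathlib.RingTheory.Flat.Basic
import Mathlib.Algebra.Module.FinitePresentation

/-!
# Morphisms commute with flat base change
-/

set_option autoImplicit false
set_option backward.isDefEq.respectTransparency false
set_option linter.style.haveILetI false
set_option maxRecDepth 4000

universe u

open CategoryTheory Limits
open scoped TensorProduct
attribute [local instance] HasDerivedCategory.standard

noncomputable section

namespace Groth.Agent.DualCxLib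

open Groth.Agent.DRingLib Groth.Agent.DCohLib Groth.Agent.DTenLib

theorem homologyD_map_smul {R : Type u} [CommRing R] (n : ℤ) (a : R) {X Y : Dual.D R} (v : X ⟶ Y) :
    (DerivedCategory.homologyFunctor (ModuleCat.{u} R) n).map (a • v) =
      a • (DerivedCategory.homologyFunctor (ModuleCat.{u} R) n).map v := by
  let H := DerivedCategory.homologyFunctor (ModuleCat.{u} R) n
  have key : ∀ Z : Dual.D R, H.map (a • 𝟙 Z) = a • 𝟙 (H.obj Z) := fun Z => by
    let G := DerivedCategory.Q.objPreimage Z
    let e : DRing.toD G ≅ Z := DerivedCategory.Q.objObjPreimageIso Z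
    have h1 : a • 𝟙 Z = e.inv ≫ DerivedCategory.Q.map (a • 𝟙 G) ≫ e.hom := by
      rw [Functor.map_smul, CategoryTheory.Functor.map_id, Linear.smul_comp, Linear.comp_smul, Category.id_comp,
        e.inv_hom_id]
    have h4 : (HomologicalComplex.shortComplexFunctor (ModuleCat.{u} R) (ComplexShape.up ℤ) n).map (a • 𝟙 G) =
        a • 𝟙 ((HomologicalComplex.shortComplexFunctor (ModuleCat.{u} R) (ComplexShape.up ℤ) n).obj G) := by
      ext <;> rfl
    have h2 : H.map (DerivedCategory.Q.map (a • 𝟙 G)) = a • 𝟙 (H.obj (DerivedCategory.Q.obj G)) := by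
      let f := DerivedCategory.homologyFunctorFactors (ModuleCat.{u} R) n
      refine (cancel_mono (f.app G).hom).1 ((f.hom.naturality (a • 𝟙 G)).trans ?_)
      show _ ≫ ShortComplex.homologyMap
        ((HomologicalComplex.shortComplexFunctor (ModuleCat.{u} R) (ComplexShape.up ℤ) n).map (a • 𝟙 G)) = _
      rw [h4, ShortComplex.homologyMap_smul, ShortComplex.homologyMap_id, Linear.comp_smul, Linear.smul_comp]
      exact congrArg (a • ·) ((Category.comp_id _).trans (Category.id_comp _).symm)
    rw [h1, Functor.map_comp, Functor.map_comp, h2, Linear.smul_comp, Linear.comp_smul, Category.id_comp,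
      ← Functor.map_comp, e.inv_hom_id, CategoryTheory.Functor.map_id]
  show H.map (a • v) = a • H.map v
  rw [show a • v = v ≫ (a • 𝟙 Y) by rw [Linear.comp_smul, Category.comp_id], Functor.map_comp, key,
    Linear.comp_smul, Category.comp_id]

variable (A B : Type u) [CommRing A] [CommRing B] [Algebra A B] [Module.Flat A B]
  [DRing.HasLBaseChange (algebraMap A B)]

/-- Derived base change. -/
abbrev bcD : Dual.D A ⥤ Dual.D B := DRing.LBaseChange (algebraMap A B)

/-- Extension of scalars. -/
abbrev bcM : ModuleCat.{u} A ⥤ ModuleCat.{u} B := ModuleCat.extendScalars.{u, u, u} (algebraMap A B)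

theorem isIso_lbcβ_of_flat (G : DRing.Cx A) : IsIso ((lbcβ (algebraMap A B)).app G) := by
  haveI := isIso_lbcCounit_app_of_flat (algebraMap A B) (flat_baseMod A B) G
  simp only [lbcβ, NatTrans.comp_app, Functor.whiskerRight_app, Functor.whiskerLeft_app,
    Functor.associator_hom_app, Functor.associator_inv_app]
  infer_instance

/-- Derived base change of a complex along a flat map. -/
def bcQIso : DerivedCategory.Q ⋙ bcD A B ≅ DTen.extCx (algebraMap A B) ⋙ DerivedCategory.Q :=
  haveI := fun G => isIso_lbcβ_of_flat A B G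
  haveI := NatIso.isIso_of_isIso_app (lbcβ (algebraMap A B))
  asIso (lbcβ (algebraMap A B))

instance additive_bcD : (bcD A B).Additive := (DRingLib.lbcAdj (algebraMap A B)).left_adjoint_additive

omit [Module.Flat A B] [DRing.HasLBaseChange (algebraMap A B)] in
theorem bcM_map_apply {M N : ModuleCat.{u} A} (f : M ⟶ N) (x : (bcM A B).obj M) :
    extendScalarsTensorEquiv A B N ((bcM A B).map f x) =
      f.hom.baseChange B (extendScalarsTensorEquiv A B M x) := by
  let TM := extendScalarsTensorEquiv A B M
  obtain ⟨y, rfl⟩ := TM.symm.surjective x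
  rw [LinearEquiv.apply_symm_apply]
  induction y using TensorProduct.induction_on with
  | zero => simp
  | tmul b m => rfl
  | add y z hy hz => simp only [map_add, hy, hz]

omit [Module.Flat A B] [DRing.HasLBaseChange (algebraMap A B)] in
theorem bcM_map_smul (a : A) {M N : ModuleCat.{u} A} (f : M ⟶ N) :
    (bcM A B).map (a • f) = algebraMap A B a • (bcM A B).map f := by
  refine ModuleCat.hom_ext (LinearMap.ext fun x => (extendScalarsTensorEquiv A B N).injective ?_)
  rw [show ((algebraMap A B a • (bcM A B).map f).hom) x = algebraMap A B a • ((bcM A B).map f x) from rfl,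
    map_smul, bcM_map_apply, algebraMap_smul, bcM_map_apply, ModuleCat.hom_smul, LinearMap.baseChange_smul]
  rfl

theorem bcD_map_smul (a : A) {X Y : Dual.D A} (v : X ⟶ Y) :
    (bcD A B).map (a • v) = algebraMap A B a • (bcD A B).map v := by
  have key : ∀ Z : Dual.D A, (bcD A B).map (a • 𝟙 Z) = algebraMap A B a • 𝟙 ((bcD A B).obj Z) := fun Z => by
    let G := DerivedCategory.Q.objPreimage Z
    let e : DRing.toD G ≅ Z := DerivedCategory.Q.objObjPreimageIso Z
    have h1 : a • 𝟙 Z = e.inv ≫ DerivedCategory.Q.map (a • 𝟙 G) ≫ e.hom := by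
      rw [Functor.map_smul, CategoryTheory.Functor.map_id, Linear.smul_comp, Linear.comp_smul, Category.id_comp,
        e.inv_hom_id]
    have h4 : (DTen.extCx (algebraMap A B)).map (a • 𝟙 G) =
        algebraMap A B a • 𝟙 ((DTen.extCx (algebraMap A B)).obj G) := by
      ext i : 1
      show (bcM A B).map (a • 𝟙 (G.X i)) = algebraMap A B a • 𝟙 _
      rw [bcM_map_smul, CategoryTheory.Functor.map_id]
      rfl
    have h2 : (bcD A B).map (DerivedCategory.Q.map (a • 𝟙 G)) =
        algebraMap A B a • 𝟙 ((bcD A B).obj (DerivedCategory.Q.obj G)) := by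
      have h3 := (bcQIso A B).hom.naturality (a • 𝟙 G)
      rw [← cancel_mono ((bcQIso A B).hom.app G), Linear.smul_comp, Category.id_comp]
      refine h3.trans ?_
      show _ ≫ DerivedCategory.Q.map ((DTen.extCx (algebraMap A B)).map (a • 𝟙 G)) = _
      rw [h4, Functor.map_smul, CategoryTheory.Functor.map_id, Linear.comp_smul]
      exact congrArg (algebraMap A B a • ·) (Category.comp_id _)
    rw [h1, Functor.map_comp, Functor.map_comp, h2, Linear.smul_comp, Linear.comp_smul, Category.id_comp,
      ← Functor.map_comp, e.inv_hom_id, CategoryTheory.Functor.map_id]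
  rw [show a • v = v ≫ (a • 𝟙 Y) by rw [Linear.comp_smul, Category.comp_id], Functor.map_comp, key,
    Linear.comp_smul, Category.comp_id]

/-- The comparison `B ⊗ Hom(X, Y) → Hom(FX, FY)`. -/
def bcΦ (X Y : Dual.D A) : B ⊗[A] (X ⟶ Y) →+ ((bcD A B).obj X ⟶ (bcD A B).obj Y) :=
  TensorProduct.liftAddHom
    { toFun := fun b =>
        { toFun := fun v => b • (bcD A B).map v
          map_zero' := by rw [Functor.map_zero, smul_zero]
          map_add' := fun v w => by rw [Functor.map_add, smul_add] }
      map_zero' := AddMonoidHom.ext fun v => zero_smul B _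
      map_add' := fun b b' => AddMonoidHom.ext fun v => add_smul b b' _ }
    fun a b v => by
      show (a • b) • (bcD A B).map v = b • (bcD A B).map (a • v)
      rw [bcD_map_smul, smul_smul, Algebra.smul_def, mul_comm]

theorem bcΦ_tmul {X Y : Dual.D A} (b : B) (v : X ⟶ Y) : bcΦ A B X Y (b ⊗ₜ v) = b • (bcD A B).map v := rfl

theorem bcΦ_comp {X X' Y : Dual.D A} (g : X' ⟶ X) (x : B ⊗[A] (X ⟶ Y)) :
    bcΦ A B X' Y ((Linear.leftComp A Y g).lTensor B x) = (bcD A B).map g ≫ bcΦ A B X Y x := by
  induction x using TensorProduct.induction_on with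
  | zero => rw [map_zero, map_zero, map_zero, comp_zero]
  | tmul b v =>
    rw [LinearMap.lTensor_tmul, bcΦ_tmul, bcΦ_tmul, Linear.comp_smul, ← Functor.map_comp]
    rfl
  | add x y hx hy => rw [map_add, map_add, hx, hy, map_add, Preadditive.comp_add]

theorem bijective_bcΦ_of_iso {X X' Y : Dual.D A} (e : X ≅ X') (h : Function.Bijective (bcΦ A B X Y)) :
    Function.Bijective (bcΦ A B X' Y) := by
  have hinv : Function.Bijective ((Linear.leftComp A Y e.inv).lTensor B : B ⊗[A] (X ⟶ Y) → B ⊗[A] (X' ⟶ Y)) := by
    refine Function.bijective_iff_has_inverse.2 ⟨(Linear.leftComp A Y e.hom).lTensor B, fun x => ?_, fun x => ?_⟩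
    · rw [← LinearMap.lTensor_comp_apply, show Linear.leftComp A Y e.hom ∘ₗ Linear.leftComp A Y e.inv = LinearMap.id
        from LinearMap.ext fun v => e.hom_inv_id_assoc v, LinearMap.lTensor_id, LinearMap.id_apply]
    · rw [← LinearMap.lTensor_comp_apply, show Linear.leftComp A Y e.inv ∘ₗ Linear.leftComp A Y e.hom = LinearMap.id
        from LinearMap.ext fun v => e.inv_hom_id_assoc v, LinearMap.lTensor_id, LinearMap.id_apply]
  refine (Function.Bijective.of_comp_iff _ hinv).1 ?_
  have : bcΦ A B X' Y ∘ (Linear.leftComp A Y e.inv).lTensor B =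
      (fun w => (bcD A B).map e.inv ≫ w) ∘ bcΦ A B X Y := funext fun x => bcΦ_comp A B e.inv x
  rw [this]
  exact (((bcD A B).mapIso e).homFromEquiv (Z := (bcD A B).obj Y)).bijective.comp h

/-- Cohomology commutes with flat base change. -/
def bcHIso (j : ℤ) : DerivedCategory.Q ⋙ bcD A B ⋙ DerivedCategory.homologyFunctor (ModuleCat.{u} B) j ≅
    DerivedCategory.Q ⋙ DerivedCategory.homologyFunctor (ModuleCat.{u} A) j ⋙ bcM A B :=
  haveI := preservesHomology_extendScalars (A := A) B
  (Functor.associator _ _ _).symm ≪≫ Functor.isoWhiskerRight (bcQIso A B) _ ≪≫ Functor.associator _ _ _ ≪≫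
    Functor.isoWhiskerLeft (DTen.extCx (algebraMap A B))
      (DerivedCategory.homologyFunctorFactors (ModuleCat.{u} B) j) ≪≫
    NatIso.ofComponents (F := DTen.extCx (algebraMap A B) ⋙ HomologicalComplex.homologyFunctor _ _ j)
      (G := HomologicalComplex.homologyFunctor (ModuleCat.{u} A) (ComplexShape.up ℤ) j ⋙ bcM A B)
      (fun G => (show ((DTen.extCx (algebraMap A B)).obj G).homology j ≅ (bcM A B).obj (G.homology j) from
        (G.sc j).mapHomologyIso (bcM A B)))
      (fun {G G'} φ => ShortComplex.mapHomologyIso_hom_naturality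
        ((HomologicalComplex.shortComplexFunctor (ModuleCat.{u} A) (ComplexShape.up ℤ) j).map φ) (bcM A B)) ≪≫
    Functor.isoWhiskerRight (DerivedCategory.homologyFunctorFactors (ModuleCat.{u} A) j).symm (bcM A B) ≪≫
    Functor.associator _ _ _

theorem bijective_bcΦ_sng (n : ℤ) (M : ModuleCat.{u} A) [Module.Finite A M] [Module.Free A M] (Y : Dual.D A) :
    Function.Bijective (bcΦ A B (DRing.toD (sng n M)) Y) := by
  let G := DerivedCategory.Q.objPreimage Y
  let eY : DRing.toD G ≅ Y := DerivedCategory.Q.objObjPreimageIso Y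
  let HA := DerivedCategory.homologyFunctor (ModuleCat.{u} A) n
  let HB := DerivedCategory.homologyFunctor (ModuleCat.{u} B) n
  haveI : HB.Additive := inferInstanceAs (DerivedCategory.homologyFunctor (ModuleCat.{u} B) n).Additive
  haveI : HA.Additive := inferInstanceAs (DerivedCategory.homologyFunctor (ModuleCat.{u} A) n).Additive
  haveI hMp : Module.Projective A M := Module.Projective.of_free
  haveI := Module.finitePresentation_of_projective A M
  let c : HA.obj (DRing.toD (sng n M)) ≅ M :=
    (DerivedCategory.homologyFunctorFactors (ModuleCat.{u} A) n).app (sng n M) ≪≫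
      HomologicalComplex.singleObjHomologySelfIso (ComplexShape.up ℤ) n M
  let N := HA.obj (DRing.toD G)
  have h1 : IsBaseChange B (LinearMap.baseChangeHom A B M N) :=
    Module.FinitePresentation.isBaseChange_map A M N B
  let ΨA : (DRing.toD (sng n M) ⟶ Y) ≃ₗ[A] (M →ₗ[A] N) :=
    LinearEquiv.ofBijective
      { toFun := fun v => (c.inv ≫ HA.map v ≫ HA.map eY.inv).hom
        map_add' := fun v w => by rw [Functor.map_add, Preadditive.add_comp, Preadditive.comp_add]; rfl
        map_smul' := fun a v => by
          rw [RingHom.id_apply, show HA.map (a • v) = a • HA.map v from homologyD_map_smul n a v,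
            Linear.smul_comp, Linear.comp_smul]
          rfl }
      (((c.homCongr (HA.mapIso eY.symm)).trans ModuleCat.homEquiv).bijective.comp
        (bijective_homologyMap_sng n Y))
  -- the target
  let TM := extendScalarsTensorEquiv A B M
  let TN := extendScalarsTensorEquiv A B N
  haveI : Module.Projective B ((bcM A B).obj M) := Module.Projective.of_equiv TM.symm
  let eX : DRing.toD (sng n ((bcM A B).obj M)) ≅ (bcD A B).obj (DRing.toD (sng n M)) :=
    DerivedCategory.Q.mapIso ((HomologicalComplex.singleMapHomologicalComplex (bcM A B)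
      (ComplexShape.up ℤ) n).app M).symm ≪≫ ((bcQIso A B).app (sng n M)).symm
  let dX : HB.obj ((bcD A B).obj (DRing.toD (sng n M))) ≅ (bcM A B).obj M :=
    (bcHIso A B n).app (sng n M) ≪≫ (bcM A B).mapIso c
  have hH : Function.Bijective (fun v : (bcD A B).obj (DRing.toD (sng n M)) ⟶ (bcD A B).obj Y => HB.map v) := by
    have h := bijective_homologyMap_sng n (M := (bcM A B).obj M) ((bcD A B).obj Y)
    refine ⟨fun v v' hv => (cancel_epi eX.hom).1 (h.1 ?_), fun w => ?_⟩
    · show HB.map (eX.hom ≫ v) = HB.map (eX.hom ≫ v')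
      rw [Functor.map_comp, Functor.map_comp]
      exact congrArg (_ ≫ ·) hv
    · obtain ⟨u', hu'⟩ := h.2 (HB.map eX.hom ≫ w)
      refine ⟨eX.inv ≫ u', (cancel_epi (HB.mapIso eX).hom).1 ?_⟩
      show HB.map eX.hom ≫ HB.map (eX.inv ≫ u') = HB.map eX.hom ≫ w
      rw [← Functor.map_comp, eX.hom_inv_id_assoc]
      exact hu'
  let ΨB : ((bcD A B).obj (DRing.toD (sng n M)) ⟶ (bcD A B).obj Y) ≃ (B ⊗[A] M →ₗ[B] B ⊗[A] N) :=
    ((Equiv.ofBijective _ hH).trans
      ((dX.homCongr (HB.mapIso ((bcD A B).mapIso eY.symm) ≪≫ (bcHIso A B n).app G)).trans ModuleCat.homEquiv)).trans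
        (TM.arrowCongr TN).toEquiv
  have hΨB : ∀ w, ΨB w = TN.toLinearMap ∘ₗ
      (dX.inv ≫ HB.map w ≫ HB.map ((bcD A B).map eY.inv) ≫ (bcHIso A B n).hom.app G).hom ∘ₗ TM.symm.toLinearMap :=
    fun w => rfl
  have hkey : ∀ (b : B) (v : DRing.toD (sng n M) ⟶ Y),
      ΨB (b • (bcD A B).map v) = b • LinearMap.baseChangeHom A B M N (ΨA v) := by
    intro b v
    haveI := isKProjective_sng n M
    obtain ⟨φ, hφ⟩ := Q_map_surjective (sng n M) G (v ≫ eY.inv)
    have h3 : HB.map ((bcD A B).map (v ≫ eY.inv)) ≫ (bcHIso A B n).hom.app G =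
        (bcHIso A B n).hom.app (sng n M) ≫ (bcM A B).map (HA.map (v ≫ eY.inv)) := by
      rw [← hφ]
      exact (bcHIso A B n).hom.naturality φ
    have h5 : dX.inv ≫ HB.map ((bcD A B).map v) ≫ HB.map ((bcD A B).map eY.inv) ≫ (bcHIso A B n).hom.app G =
        (bcM A B).map (c.inv ≫ HA.map (v ≫ eY.inv)) := by
      rw [← Category.assoc (HB.map _), ← Functor.map_comp, ← Functor.map_comp, h3]
      simp only [dX, Iso.trans_inv, Functor.mapIso_inv, Iso.app_inv, Category.assoc]
      erw [Iso.inv_hom_id_app_assoc]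
      rw [← Functor.map_comp]
    rw [hΨB, show HB.map (b • (bcD A B).map v) = b • HB.map ((bcD A B).map v) from homologyD_map_smul n b _,
      Linear.smul_comp, Linear.comp_smul, h5]
    refine LinearMap.ext fun y => ?_
    show TN (b • ((bcM A B).map (c.inv ≫ HA.map (v ≫ eY.inv)) (TM.symm y))) = b • (ΨA v).baseChange B y
    rw [map_smul, bcM_map_apply, LinearEquiv.apply_symm_apply, Functor.map_comp]
    rfl
  have htot : ∀ x, ΨB (bcΦ A B _ Y x) = h1.equiv (LinearEquiv.baseChange A B _ _ ΨA x) := fun x => by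
    induction x using TensorProduct.induction_on with
    | zero => rw [(bcΦ A B _ Y).map_zero, LinearEquiv.map_zero, LinearEquiv.map_zero, hΨB, Functor.map_zero, zero_comp, comp_zero]; simp
    | tmul b v =>
      rw [show LinearEquiv.baseChange A B _ _ ΨA (b ⊗ₜ v) = b ⊗ₜ ΨA v from rfl, h1.equiv_tmul, bcΦ_tmul]
      exact hkey b v
    | add x y hx hy =>
      rw [(bcΦ A B _ Y).map_add, LinearEquiv.map_add, LinearEquiv.map_add, ← hx, ← hy, hΨB, hΨB, hΨB, Functor.map_add, Preadditive.add_comp,
        Preadditive.comp_add, ModuleCat.hom_add, LinearMap.add_comp, LinearMap.comp_add]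
  have hbij : Function.Bijective (fun x => ΨB (bcΦ A B _ Y x)) := by
    rw [funext htot]
    exact h1.equiv.bijective.comp (LinearEquiv.baseChange A B _ _ ΨA).bijective
  exact (Function.Bijective.of_comp_iff' ΨB.bijective _).1 hbij

end Groth.Agent.DualCxLib
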