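import Groth.Agent.RatliffLib.UnivCat
import Groth.Agent.S2089
import Mathlib.RingTheory.Regular.Flat
import Mathlib.RingTheory.Ideal.AssociatedPrime.Localization

/-!
# Formal catenarity from a dimension function and modules of depth two
-/

set_option autoImplicit false

universe u

open IsLocalRing RingTheory.Sequence TensorProduct

namespace Groth.Agent.DualCxLib

variable {R : Type u} [CommRing R] [IsLocalRing R] [IsNoetherianRing R]

local notation "R̂" => AdicCompletion (maximalIdeal R) R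

/-- No component of dimension one when there is a module of depth two. -/
theorem exists_between_of_depth_two (p : PrimeSpectrum R) (N : Type u) [AddCommGroup N] [Module R N] [Module.Finite R N]
    (hann : ∀ a ∈ p.asIdeal, ∀ n : N, a • n = 0) (hp : p ∈ Module.support R N) (x y : R)
    (hx : x ∈ maximalIdeal R) (hy : y ∈ maximalIdeal R) (hreg : IsWeaklyRegular N [x, y])
    (P : Ideal (AdicCompletion (maximalIdeal R) R))
    (hP : P ∈ (p.asIdeal.map (algebraMap R (AdicCompletion (maximalIdeal R) R))).minimalPrimes) :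
    ((2 : ℕ) : WithBot ℕ∞) ≤ ringKrullDim (AdicCompletion (maximalIdeal R) R ⧸ P) := by
  obtain ⟨_, _, _, hlh, hmax⟩ := RatliffLib.compl_facts R
  haveI := hP.1.1
  haveI : Module.Flat R R̂ := inferInstance
  -- `R/p` embeds into `N`
  have hmin : p.asIdeal ∈ (Module.annihilator R N).minimalPrimes := by
    refine ⟨⟨p.2, Module.mem_support_iff_of_finite.1 hp⟩, fun q hq _ a ha => ?_⟩
    exact hq.2 (Module.mem_annihilator.2 (hann a ha))
  obtain ⟨-, f, hf⟩ := (isAssociatedPrime_iff_exists_injective_linearMap _ _).1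
    (Module.associatedPrimes.minimalPrimes_annihilator_subset_associatedPrimes R N hmin)
  let NS := R̂ ⊗[R] N
  -- the support
  have hPs : (⟨P, hP.1.1⟩ : PrimeSpectrum R̂) ∈ Module.support R̂ NS := by
    refine Module.mem_support_iff_exists_annihilator.2 ⟨(1 : R̂) ⊗ₜ f (Ideal.Quotient.mk _ 1), fun t ht => ?_⟩
    rw [Submodule.mem_annihilator_span_singleton, TensorProduct.smul_tmul', smul_eq_mul, mul_one] at ht
    refine hP.1.2 ?_
    have h0 : t ⊗ₜ[R] (Ideal.Quotient.mk p.asIdeal 1) = (0 : R̂ ⊗[R] (R ⧸ p.asIdeal)) := by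
      refine Module.Flat.lTensor_preserves_injective_linearMap (M := R̂) f hf ?_
      rw [LinearMap.lTensor_tmul, map_zero]
      exact ht
    have h1 := congrArg (TensorProduct.tensorQuotEquivQuotSMul R̂ p.asIdeal) h0
    rw [map_zero] at h1
    erw [TensorProduct.tensorQuotEquivQuotSMul_tmul_mk] at h1
    rwa [Submodule.Quotient.mk_eq_zero, Ideal.smul_top_eq_map, Submodule.restrictScalars_mem, one_smul] at h1
  have hle : p.asIdeal.map (algebraMap R R̂) ≤ Module.annihilator R̂ NS := by
    refine Ideal.map_le_iff_le_comap.2 fun a ha => Module.mem_annihilator.2 fun z => ?_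
    induction z using TensorProduct.induction_on with
    | zero => rw [smul_zero]
    | tmul s n =>
      rw [TensorProduct.smul_tmul']
      refine Eq.trans (b := s ⊗ₜ[R] (a • n)) ?_ (by rw [hann a ha, TensorProduct.tmul_zero])
      exact TensorProduct.smul_tmul a s n
    | add u v hu hv => rw [smul_add, hu, hv, add_zero]
  have hPmin : P ∈ (Module.annihilator R̂ NS).minimalPrimes :=
    ⟨⟨hP.1.1, Module.mem_support_iff_of_finite.1 hPs⟩, fun Q hQ hQP => hP.2 ⟨hQ.1, hle.trans hQ.2⟩ hQP⟩
  have hass := Module.associatedPrimes.minimalPrimes_annihilator_subset_associatedPrimes R̂ NS hPmin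
  haveI : Nontrivial NS := Module.nonempty_support_iff.1 ⟨_, hPs⟩
  have hregS : IsWeaklyRegular NS ([x, y].map (algebraMap R R̂)) :=
    hreg.of_flat_of_isBaseChange (f := TensorProduct.mk R R̂ N 1) (TensorProduct.isBaseChange R N R̂)
  have hdepth : ((2 : ℕ) : ℕ∞) ≤ LocCoh.depth R̂ NS := by
    refine (CAlgBasics.natCast_le_depth_iff 2).2 ⟨_, by simp, hregS, fun r hr => ?_⟩
    obtain ⟨a, ha, rfl⟩ := List.mem_map.1 hr
    rw [hmax]
    exact Ideal.mem_map_of_mem _ (by rcases List.mem_pair.1 ha with rfl | rfl <;> assumption)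
  exact le_trans (WithBot.coe_le_coe.2 hdepth) (S2089.result P hass)

theorem exists_avoid_finset {S : Finset (Ideal R)} (hS : ∀ q ∈ S, q.IsPrime)
    (hne : ∀ q ∈ S, q ≠ maximalIdeal R) : ∃ x ∈ maximalIdeal R, ∀ q ∈ S, x ∉ q := by
  classical
  by_contra hc
  push Not at hc
  have h : (maximalIdeal R : Set R) ⊆ ⋃ q ∈ (↑S : Set (Ideal R)), (q : Set R) := fun x hx => by
    obtain ⟨q, hq, hxq⟩ := hc x hx
    exact Set.mem_iUnion₂.2 ⟨q, hq, hxq⟩
  obtain ⟨q, hq, hle⟩ := (Ideal.subset_union_prime (f := id) ⊥ ⊥ (fun q hq _ _ => hS q hq)).1 h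
  haveI := hS q hq
  exact hne q hq (le_antisymm (le_maximalIdeal (Ideal.IsPrime.ne_top ‹_›)) hle)

variable (δ : PrimeSpectrum R → ℤ) (hcov : ∀ p q : PrimeSpectrum R, p ⋖ q → δ q = δ p + 1)
  (hlt : ∀ p q : PrimeSpectrum R, p < q → δ p < δ q)
  (hmod : ∀ p : PrimeSpectrum R, δ p + 1 < δ (closedPoint R) → ∃ N : ModuleCat.{u} R, Module.Finite R N ∧
    (∀ a ∈ p.asIdeal, ∀ n : N, a • n = 0) ∧ p ∈ Module.support R N ∧
      ∃ x ∈ maximalIdeal R, ∃ y ∈ maximalIdeal R, IsWeaklyRegular N [x, y])

include hcov hlt hmod in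
theorem dim_quotient_of_minimal : ∀ (k : ℕ) (p : PrimeSpectrum R), (δ (closedPoint R) - δ p).toNat ≤ k →
    ∀ P ∈ (p.asIdeal.map (algebraMap R (AdicCompletion (maximalIdeal R) R))).minimalPrimes,
      ringKrullDim (AdicCompletion (maximalIdeal R) R ⧸ P) =
        (((δ (closedPoint R) - δ p).toNat : ℕ) : WithBot ℕ∞) := by
  obtain ⟨_, _, _, hlh, hmax⟩ := RatliffLib.compl_facts R
  have hcatS := RatliffLib.isCatenary_of_isUniversallyCatenary (RatliffLib.isUniversallyCatenary_completion R)
  intro k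
  induction k using Nat.strong_induction_on with
  | _ k ih =>
    intro p hk P hP
    haveI := hP.1.1
    have hPR : P.under R = p.asIdeal := RatliffLib.under_eq_of_minimal hP
    by_cases hpm : p = closedPoint R
    · subst hpm
      have hPm : P = maximalIdeal R̂ := le_antisymm (le_maximalIdeal hP.1.1.ne_top) (hmax.le.trans hP.1.2)
      rw [sub_self, Int.toNat_zero, Nat.cast_zero, hPm]
      exact ringKrullDim_eq_zero_of_isField ((Ideal.Quotient.maximal_ideal_iff_isField_quotient _).1 inferInstance)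
    have hplt : p < closedPoint R := lt_of_le_of_ne (le_maximalIdeal p.2.ne_top) hpm
    have hd1 := hlt p _ hplt
    have hPne : P ≠ maximalIdeal R̂ := fun h => hpm (PrimeSpectrum.ext (by
      rw [← hPR, h]
      exact le_antisymm (le_maximalIdeal (Ideal.IsPrime.ne_top inferInstance))
        (Ideal.map_le_iff_le_comap.1 hmax.ge)))
    classical
    -- the bad primes
    let J := p.asIdeal.map (algebraMap R R̂)
    have hfin : {q : Ideal R | q = p.asIdeal ∨ ∃ P' ∈ J.minimalPrimes, P' ≠ P ∧
        ∃ Q ∈ (P ⊔ P').minimalPrimes, Q.under R = q ∧ q ≠ maximalIdeal R}.Finite := by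
      refine Set.Finite.subset ((Set.finite_singleton p.asIdeal).union
        (((Ideal.finite_minimalPrimes_of_isNoetherianRing R̂ J).biUnion fun P' _ =>
          Ideal.finite_minimalPrimes_of_isNoetherianRing R̂ (P ⊔ P')).image fun Q => Q.under R)) ?_
      rintro q (rfl | ⟨P', hP', -, Q, hQ, rfl, -⟩)
      · exact Or.inl rfl
      · exact Or.inr ⟨Q, Set.mem_iUnion₂.2 ⟨P', hP', hQ⟩, rfl⟩
    obtain ⟨x, hxm, hx⟩ := exists_avoid_finset (S := hfin.toFinset) (fun q hq => by
        rcases hfin.mem_toFinset.1 hq with rfl | ⟨P', -, -, Q, hQ, rfl, -⟩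
        · exact p.2
        · haveI := hQ.1.1
          infer_instance) (fun q hq => by
        rcases hfin.mem_toFinset.1 hq with rfl | ⟨P', -, -, Q, -, -, hne⟩
        · exact fun h => hpm (PrimeSpectrum.ext h)
        · exact hne)
    have hxp : x ∉ p.asIdeal := hx _ (hfin.mem_toFinset.2 (Or.inl rfl))
    have hxP : algebraMap R R̂ x ∉ P := fun h => hxp (hPR ▸ h)
    have hPx : P ⊔ Ideal.span {algebraMap R R̂ x} ≠ ⊤ := fun h => (maximalIdeal.isMaximal R̂).ne_top
      (top_le_iff.1 (h.ge.trans (sup_le (le_maximalIdeal hP.1.1.ne_top) ((Ideal.span_singleton_le_iff_mem _).2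
        (hmax ▸ Ideal.mem_map_of_mem _ hxm)))))
    obtain ⟨Q, hQ⟩ := Ideal.nonempty_minimalPrimes hPx
    haveI := hQ.1.1
    have hPQ : P ≤ Q := le_sup_left.trans hQ.1.2
    have hxQ : algebraMap R R̂ x ∈ Q := hQ.1.2 (Ideal.mem_sup_right (Ideal.mem_span_singleton_self _))
    -- the domain `R̂/P`
    haveI : IsLocalRing (R̂ ⧸ P) := IsLocalRing.of_surjective' _ Ideal.Quotient.mk_surjective
    let D := R̂ ⧸ P
    let Qb : Ideal D := Q.map (Ideal.Quotient.mk P)
    have hQb : Qb.comap (Ideal.Quotient.mk P) = Q := by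
      rw [Ideal.comap_map_of_surjective _ Ideal.Quotient.mk_surjective, ← RingHom.ker_eq_comap_bot, Ideal.mk_ker]
      exact sup_eq_left.2 hPQ
    haveI hQbp : Qb.IsPrime := Ideal.map_isPrime_of_surjective Ideal.Quotient.mk_surjective (by rwa [Ideal.mk_ker])
    have hQbmin : Qb ∈ (Ideal.span {Ideal.Quotient.mk P (algebraMap R R̂ x)}).minimalPrimes := by
      refine ⟨⟨hQbp, (Ideal.span_singleton_le_iff_mem _).2 (Ideal.mem_map_of_mem _ hxQ)⟩, fun T hT hTQ => ?_⟩
      haveI := hT.1
      refine Ideal.map_le_iff_le_comap.2 (hQ.2 ⟨inferInstance, sup_le ?_ ?_⟩ ?_)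
      · intro a ha
        rw [Ideal.mem_comap, Ideal.Quotient.eq_zero_iff_mem.2 ha]
        exact zero_mem _
      · exact (Ideal.span_singleton_le_iff_mem _).2 (hT.2 (Ideal.mem_span_singleton_self _))
      · exact (Ideal.comap_mono hTQ).trans hQb.le
    have hh1 : Qb.height ≤ 1 := Ideal.height_le_one_of_isPrincipal_of_mem_minimalPrimes _ Qb hQbmin
    have hQbne : Qb ≠ ⊥ := fun h => hxP (Ideal.Quotient.eq_zero_iff_mem.1 (by
      rw [← Ideal.mem_bot, ← h]; exact Ideal.mem_map_of_mem _ hxQ))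
    have hh2 : Qb.height = 1 := le_antisymm hh1 (Order.one_le_iff_ne_zero.2 fun h => hQbne (by
      have h' := Ideal.height_eq_zero_iff.1 h
      exact le_bot_iff.1 (h'.2 ⟨Ideal.isPrime_bot, bot_le⟩ bot_le)))
    -- nothing strictly between `P` and `Q`
    have hbtw : ∀ T : Ideal R̂, T.IsPrime → P ≤ T → T ≤ Q → T = P ∨ T = Q := by
      intro T hT hPT hTQ
      by_contra hc
      push Not at hc
      haveI : (T.map (Ideal.Quotient.mk P)).IsPrime :=
        Ideal.map_isPrime_of_surjective Ideal.Quotient.mk_surjective (by rwa [Ideal.mk_ker])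
      have hTc : (T.map (Ideal.Quotient.mk P)).comap (Ideal.Quotient.mk P) = T := by
        rw [Ideal.comap_map_of_surjective _ Ideal.Quotient.mk_surjective, ← RingHom.ker_eq_comap_bot, Ideal.mk_ker]
        exact sup_eq_left.2 hPT
      have hlt1 : T.map (Ideal.Quotient.mk P) < Qb := lt_of_le_of_ne (Ideal.map_mono hTQ) fun h => hc.2 (by
        rw [← hTc, h, hQb])
      have h2 := Ideal.height_add_one_le_of_lt_of_isPrime hlt1
      have h3 : (T.map (Ideal.Quotient.mk P)).height = 0 := by
        have := h2.trans hh1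
        revert this
        generalize (T.map (Ideal.Quotient.mk P)).height = c
        intro this
        exact nonpos_iff_eq_zero.1 ((ENat.add_le_add_iff_right (ENat.natCast_ne_top 1)).1 (by simpa using this))
      have h4 := Ideal.height_eq_zero_iff.1 h3
      have h5 : T.map (Ideal.Quotient.mk P) = ⊥ := le_bot_iff.1 (h4.2 ⟨Ideal.isPrime_bot, bot_le⟩ bot_le)
      refine hc.1 (le_antisymm (fun a ha => Ideal.Quotient.eq_zero_iff_mem.1 ?_) hPT)
      rw [← Ideal.mem_bot, ← h5]
      exact Ideal.mem_map_of_mem _ ha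
    -- dimensions
    have hDeq : EGA4.IsEquidim D := fun T hT => by
      rw [show T = ⊥ from le_bot_iff.1 (hT.2 ⟨Ideal.isPrime_bot, bot_le⟩ bot_le)]
      exact ringKrullDim_eq_of_ringEquiv (RingEquiv.quotientBot D)
    have hsum := RatliffLib.height_add_coheight hDeq (CatLib.isCatenary_quotient P hcatS) ⟨Qb, hQbp⟩
    rw [← PrimeSpectrum.height_eq_orderHeight, hh2] at hsum
    have hdimD : ringKrullDim D = 1 + ringKrullDim (R̂ ⧸ Q) := by
      rw [RatliffLib.dim_eq_height_closedPoint, ← hsum, WithBot.coe_add, WithBot.coe_one,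
        ← CatLib.ringKrullDim_quotient_eq_coheight]
      exact congrArg _ (ringKrullDim_eq_of_ringEquiv (DoubleQuot.quotQuotEquivQuotOfLE hPQ))
    by_cases hQm : Q = maximalIdeal R̂
    · -- dimension one
      have h1 : ringKrullDim D = ((1 : ℕ) : WithBot ℕ∞) := by
        rw [hdimD, hQm, ringKrullDim_eq_zero_of_isField
          ((Ideal.Quotient.maximal_ideal_iff_isField_quotient _).1 inferInstance), add_zero, Nat.cast_one]
      by_cases hbig : δ p + 1 < δ (closedPoint R)
      · obtain ⟨N, hNf, hann, hsupp, a, ha, b, hb, hab⟩ := hmod p hbig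
        have h2 := exists_between_of_depth_two p N hann hsupp a b ha hb hab P hP
        rw [h1] at h2
        have h3 : (2 : ℕ) ≤ 1 := by exact_mod_cast h2
        omega
      · rw [h1, show (δ (closedPoint R) - δ p).toNat = 1 by omega]
    · let q : PrimeSpectrum R := ⟨Q.under R, inferInstance⟩
      have hqm : q.asIdeal ≠ maximalIdeal R := fun h => hQm (le_antisymm (le_maximalIdeal hQ.1.1.ne_top)
        (hmax.le.trans (Ideal.map_le_iff_le_comap.2 h.ge)))
      have hother : ∀ P' ∈ J.minimalPrimes, P' ≤ Q → P' = P := by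
        intro P' hP' hle
        by_contra hne
        have hQmin : Q ∈ (P ⊔ P').minimalPrimes := by
          refine ⟨⟨inferInstance, sup_le hPQ hle⟩, fun T hT hTQ => ?_⟩
          rcases hbtw T hT.1 (le_sup_left.trans hT.2) hTQ with rfl | rfl
          · exact (hne (le_antisymm (le_sup_right.trans hT.2) (hP.2 hP'.1 (le_sup_right.trans hT.2)))).elim
          · exact le_rfl
        exact hx _ (hfin.mem_toFinset.2 (Or.inr ⟨P', hP', hne, Q, hQmin, rfl, hqm⟩)) hxQ
      have hpq : p < q := lt_of_le_of_ne (show p.asIdeal ≤ Q.under R from hPR.ge.trans (Ideal.comap_mono hPQ))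
        fun h => hxp (h ▸ hxQ)
      have habove : ∀ T : Ideal R̂, T.IsPrime → J ≤ T → T ≤ Q → T = P ∨ T = Q := by
        intro T hT hJT hTQ
        obtain ⟨P', hP', hle⟩ := Ideal.exists_minimalPrimes_le (J := T) hJT
        exact hbtw T hT (hother P' hP' (hle.trans hTQ) ▸ hle) hTQ
      have hcq : p ⋖ q := by
        refine ⟨hpq, fun r hpr hrq => ?_⟩
        haveI : Q.LiesOver q.asIdeal := ⟨rfl⟩
        obtain ⟨T, hTQ, hTp, hTo⟩ := Ideal.exists_ideal_le_liesOver_of_le (S := R̂) Q (p := r.asIdeal) (q := q.asIdeal) hrq.le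
        have hJT : J ≤ T := Ideal.map_le_iff_le_comap.2 ((show p.asIdeal ≤ r.asIdeal from hpr.le).trans hTo.over.le)
        rcases habove T hTp hJT hTQ with rfl | rfl
        · exact hpr.ne (PrimeSpectrum.ext (hPR.symm.trans hTo.over.symm))
        · exact hrq.ne (PrimeSpectrum.ext hTo.over)
      have hQq : Q ∈ (q.asIdeal.map (algebraMap R R̂)).minimalPrimes := by
        refine ⟨⟨inferInstance, Ideal.map_le_iff_le_comap.2 le_rfl⟩, fun T hT hTQ => ?_⟩
        rcases habove T hT.1 ((Ideal.map_mono hpq.le).trans hT.2) hTQ with rfl | rfl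
        · exact (hxP (hT.2 (Ideal.mem_map_of_mem _ (show x ∈ q.asIdeal from hxQ)))).elim
        · exact le_rfl
      have hδ := hcov p q hcq
      have hq2 := hlt q (closedPoint R) (lt_of_le_of_ne (le_maximalIdeal q.2.ne_top) fun h => hqm (congrArg PrimeSpectrum.asIdeal h))
      rw [hdimD, ih (k - 1) (by omega) q (by omega) Q hQq, ← Nat.cast_one, ← Nat.cast_add]
      exact congrArg Nat.cast (by omega)

include hcov hlt hmod in
theorem isFormallyCatenary_of_modules : EGA4.IsFormallyCatenary R := by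
  intro p _
  obtain ⟨_, _, _, hlh, hmax⟩ := RatliffLib.compl_facts R
  haveI : IsLocalRing (R ⧸ p) := IsLocalRing.of_surjective' _ Ideal.Quotient.mk_surjective
  obtain ⟨e, -⟩ := CMCat.exists_complQuotEquiv p
  refine CMCat.isEquidim_of_ringEquiv e ?_
  set J := p.map (algebraMap R (AdicCompletion (maximalIdeal R) R))
  haveI : Nontrivial (AdicCompletion (maximalIdeal R) R ⧸ J) := Ideal.Quotient.nontrivial_iff.2
    fun h => (maximalIdeal.isMaximal _).ne_top
      (top_le_iff.1 (h.ge.trans (RatliffLib.map_le_maximal p (Ideal.IsPrime.ne_top inferInstance))))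
  refine (RatliffLib.isEquidim_of_forall (((δ (closedPoint R) - δ ⟨p, inferInstance⟩).toNat : ℕ) : WithBot ℕ∞)
    fun T hT => ?_).1
  haveI := hT.1.1
  have hPmin : T.comap (Ideal.Quotient.mk J) ∈ J.minimalPrimes := by
    have := Ideal.minimalPrimes_comap_of_surjective (f := Ideal.Quotient.mk J) Ideal.Quotient.mk_surjective hT
    rwa [← RingHom.ker_eq_comap_bot, Ideal.mk_ker] at this
  rw [← dim_quotient_of_minimal δ hcov hlt hmod _ ⟨p, inferInstance⟩ le_rfl _ hPmin]
  have hT' : (T.comap (Ideal.Quotient.mk J)).map (Ideal.Quotient.mk J) = T :=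
    Ideal.map_comap_of_surjective _ Ideal.Quotient.mk_surjective T
  conv_lhs => rw [← hT']
  exact ringKrullDim_eq_of_ringEquiv (DoubleQuot.quotQuotEquivQuotOfLE hPmin.1.2)

end Groth.Agent.DualCxLib
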