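import Groth.Agent.DualCxLib.Crit
import Groth.Agent.DRingLib.InjAmp
import Mathlib.CategoryTheory.Abelian.Projective.Basic

/-!
# Morphisms out of a projective module placed in one degree
-/

set_option autoImplicit false
set_option backward.isDefEq.respectTransparency false
set_option linter.style.haveILetI false
set_option maxRecDepth 4000

universe u

open CategoryTheory Limits HomologicalComplex
attribute [local instance] HasDerivedCategory.standard

noncomputable section

namespace Groth.Agent.DualCxLib

open Groth.Agent.DRingLib Groth.Agent.DCohLib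

variable {R : Type u} [CommRing R]

theorem isKProjective_sng (n : ℤ) (M : ModuleCat.{u} R) [Module.Projective R M] : (sng n M).IsKProjective :=
  isKProjective_of_vanishesAbove (b := n) (fun i hi => isZero_sng n M (by omega)) fun i => by
    by_cases hi : i = n
    · subst hi
      exact Module.Projective.of_equiv (singleObjXSelf (ComplexShape.up ℤ) i M).symm.toLinearEquiv
    · haveI := ModuleCat.subsingleton_of_isZero (isZero_sng n M hi)
      exact inferInstance

variable (n : ℤ) {M : ModuleCat.{u} R} [Module.Projective R M] (G : DRing.Cx R)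

theorem homologyMap_sng_surjective (h : M ⟶ G.homology n) :
    ∃ φ : sng n M ⟶ G, (singleObjHomologySelfIso (ComplexShape.up ℤ) n M).inv ≫ homologyMap φ n = h := by
  haveI : Projective M := (IsProjective.iff_projective M).1 inferInstance
  let z : M ⟶ G.cycles n := Projective.factorThru h (G.homologyπ n)
  have hz : z ≫ G.homologyπ n = h := Projective.factorThru_comp _ _
  refine ⟨mkHomFromSingle (z ≫ G.iCycles n) (fun k _ => by simp), ?_⟩
  have hc : (singleObjCyclesSelfIso (ComplexShape.up ℤ) n M).inv ≫
      cyclesMap (mkHomFromSingle (z ≫ G.iCycles n) (fun k _ => by simp)) n = z := by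
    rw [← cancel_mono (G.iCycles n), Category.assoc, cyclesMap_i, singleObjCyclesSelfIso_inv_iCycles_assoc,
      mkHomFromSingle_f, Iso.inv_hom_id_assoc]
  rw [← singleObjCyclesSelfIso_inv_homologyπ_assoc, homologyπ_naturality, reassoc_of% hc, hz]

theorem homologyMap_sng_injective (φ : sng n M ⟶ G) (h : homologyMap φ n = 0) :
    DerivedCategory.Q.map φ = 0 := by
  haveI : Projective M := (IsProjective.iff_projective M).1 inferInstance
  let z : M ⟶ G.cycles n := (singleObjCyclesSelfIso (ComplexShape.up ℤ) n M).inv ≫ cyclesMap φ n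
  have hz : z ≫ G.homologyπ n = 0 := by
    rw [Category.assoc, ← homologyπ_naturality, h, comp_zero, comp_zero]
  let T := ShortComplex.mk (G.toCycles (n - 1) n) (G.homologyπ n) (toCycles_comp_homologyπ _ _ _)
  have hT : T.Exact := ShortComplex.exact_of_g_is_cokernel T (G.homologyIsCokernel (n - 1) n (by simp))
  let w : M ⟶ G.X (n - 1) := hT.liftFromProjective z hz
  have hw : w ≫ G.d (n - 1) n = z ≫ G.iCycles n := by
    rw [← hT.liftFromProjective_comp z hz, Category.assoc]
    exact congrArg (w ≫ ·) (toCycles_i _ _ _).symm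
  have hz' : z ≫ G.iCycles n = (singleObjXSelf (ComplexShape.up ℤ) n M).inv ≫ φ.f n := by
    rw [Category.assoc, cyclesMap_i, singleObjCyclesSelfIso_inv_iCycles_assoc]
  let η : ∀ i j, (ComplexShape.up ℤ).Rel j i → ((sng n M).X i ⟶ G.X j) := fun i j hij =>
    if hi : i = n then (singleObjXIsoOfEq (ComplexShape.up ℤ) n M i hi).hom ≫ w ≫ (G.XIsoOfEq (show n - 1 = j by
      have : j + 1 = i := hij
      omega)).hom
    else 0
  have hφη : φ = Homotopy.nullHomotopicMap' η := from_single_hom_ext (by
    rw [Homotopy.nullHomotopicMap'_f (show (ComplexShape.up ℤ).Rel (n - 1) n by simp)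
      (show (ComplexShape.up ℤ).Rel n (n + 1) from rfl)]
    simp only [η, dif_pos, dif_neg (show ¬ n + 1 = n by omega), comp_zero, zero_add, XIsoOfEq_rfl, Iso.refl_hom,
      Category.comp_id, Category.assoc, hw, hz']
    exact (Iso.hom_inv_id_assoc (singleObjXSelf (ComplexShape.up ℤ) n M) (φ.f n)).symm)
  rw [DerivedCategory.Q_map_eq_of_homotopy (C := ModuleCat.{u} R)
    ((Homotopy.ofEq hφη).trans (Homotopy.nullHomotopy' η)), Functor.map_zero]

/-- Morphisms out of a projective module in degree `n` are homomorphisms into `H^n`. -/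
theorem bijective_homologyMap_sng (W : Dual.D R) :
    Function.Bijective fun v : DRing.toD (sng n M) ⟶ W =>
      (DerivedCategory.homologyFunctor (ModuleCat.{u} R) n).map v := by
  let G := DerivedCategory.Q.objPreimage W
  let e : DRing.toD G ≅ W := DerivedCategory.Q.objObjPreimageIso W
  let H := DerivedCategory.homologyFunctor (ModuleCat.{u} R) n
  let f := DerivedCategory.homologyFunctorFactors (ModuleCat.{u} R) n
  let c := singleObjHomologySelfIso (ComplexShape.up ℤ) n M
  haveI := isKProjective_sng n M
  haveI : H.Additive := inferInstanceAs (DerivedCategory.homologyFunctor (ModuleCat.{u} R) n).Additive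
  have hlift : ∀ v : DRing.toD (sng n M) ⟶ W, ∃ φ : sng n M ⟶ G, DerivedCategory.Q.map φ ≫ e.hom = v := fun v => by
    obtain ⟨φ, hφ⟩ := Q_map_surjective (sng n M) G (v ≫ e.inv)
    exact ⟨φ, by rw [hφ, Category.assoc, e.inv_hom_id, Category.comp_id]⟩
  have hnat : ∀ φ : sng n M ⟶ G, H.map (DerivedCategory.Q.map φ) ≫ f.hom.app G =
      f.hom.app (sng n M) ≫ homologyMap φ n := fun φ => f.hom.naturality φ
  refine ⟨fun v v' hv => ?_, fun h => ?_⟩
  · rw [← sub_eq_zero]
    obtain ⟨φ, hφ⟩ := hlift (v - v')
    rw [← hφ, homologyMap_sng_injective n G φ ?_, zero_comp]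
    rw [← cancel_epi (f.hom.app (sng n M)), ← hnat, comp_zero]
    have h0 : H.map (v - v') = 0 := by rw [Functor.map_sub]; exact sub_eq_zero.2 hv
    rw [← hφ, Functor.map_comp] at h0
    rw [(cancel_mono (H.map e.hom)).1 (h0.trans zero_comp.symm), zero_comp]
  · obtain ⟨φ, hφ⟩ := homologyMap_sng_surjective n G (c.inv ≫ f.inv.app (sng n M) ≫ h ≫ H.map e.inv ≫ f.hom.app G)
    refine ⟨DerivedCategory.Q.map φ ≫ e.hom, ?_⟩
    show H.map (DerivedCategory.Q.map φ ≫ e.hom) = h
    rw [cancel_epi] at hφ
    let k : H.obj W ≅ G.homology n := H.mapIso e.symm ≪≫ f.app G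
    refine (cancel_mono k.hom).1 ?_
    show H.map (DerivedCategory.Q.map φ ≫ e.hom) ≫ H.map e.inv ≫ f.hom.app G = h ≫ H.map e.inv ≫ f.hom.app G
    rw [← Category.assoc, ← Functor.map_comp, Category.assoc, e.hom_inv_id, Category.comp_id, hnat, hφ]
    exact Iso.hom_inv_id_app_assoc f (sng n M) _

end Groth.Agent.DualCxLib
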