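import Groth.Agent.DualCxLib.Crit
import Groth.Agent.DualCxLib.HDI
import Groth.Agent.LocCohLib.Change
import Groth.Agent.LocCohLib.Acyclic
import Groth.Agent.KInj.Lifting
import Groth.Agent.KInj.Derived

/-!
# Local cohomology of a complex which is bounded above
-/

set_option autoImplicit false
set_option backward.isDefEq.respectTransparency false
set_option maxRecDepth 4000

universe u

open CategoryTheory Limits Opposite CochainComplex.HomComplex
attribute [local instance] HasDerivedCategory.standard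

noncomputable section

namespace Groth.Agent.DualCxLib

variable {A : Type u} [CommRing A] [IsNoetherianRing A]

/-- Division in an injective module up to torsion. -/
theorem exists_div (E : Type u) [AddCommGroup E] [Module A E] [Module.Injective A E] (x : A) (k : ℕ) (u : E) :
    ∃ (N : ℕ) (v : E), x ^ (N + k) • v = x ^ N • u := by
  let K : ℕ →o Submodule A A :=
    ⟨fun n => LinearMap.ker (LinearMap.toSpanSingleton A A (x ^ n)), fun a b hab r hr => by
      rw [LinearMap.mem_ker, LinearMap.toSpanSingleton_apply, smul_eq_mul] at hr ⊢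
      obtain ⟨c, rfl⟩ := Nat.exists_eq_add_of_le hab
      rw [pow_add, ← mul_assoc, hr, zero_mul]⟩
  obtain ⟨N, hN⟩ := monotone_stabilizes_iff_noetherian.2 inferInstance K
  let p : A →ₗ[A] A := LinearMap.toSpanSingleton A A (x ^ (N + k))
  let q : A →ₗ[A] E := LinearMap.toSpanSingleton A E (x ^ N • u)
  have hle : LinearMap.ker p ≤ LinearMap.ker q := fun r hr => by
    have h1 : r ∈ K N := (hN (N + k) (Nat.le_add_right N k)).ge hr
    change r ∈ LinearMap.ker (LinearMap.toSpanSingleton A A (x ^ N)) at h1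
    rw [LinearMap.mem_ker, LinearMap.toSpanSingleton_apply, smul_eq_mul] at h1
    rw [LinearMap.mem_ker, LinearMap.toSpanSingleton_apply, smul_smul, h1, zero_smul]
  let g : LinearMap.range p →ₗ[A] E := (LinearMap.ker p).liftQ q hle ∘ₗ p.quotKerEquivRange.symm.toLinearMap
  obtain ⟨G, hG⟩ := (Module.Baer.of_injective ‹Module.Injective A E›).extension_property
    (LinearMap.range p).subtype Subtype.val_injective g
  refine ⟨N, G 1, ?_⟩
  rw [← map_smul, smul_eq_mul, mul_one]
  have h1 : p 1 = x ^ (N + k) := by rw [LinearMap.toSpanSingleton_apply, one_smul]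
  rw [← h1]
  refine (LinearMap.congr_fun hG ⟨p 1, 1, rfl⟩).trans ?_
  show (LinearMap.ker p).liftQ q hle (p.quotKerEquivRange.symm ⟨p 1, _⟩) = _
  rw [show p.quotKerEquivRange.symm ⟨p 1, 1, rfl⟩ = Submodule.Quotient.mk 1 from
    p.quotKerEquivRange.symm_apply_eq.2 (Subtype.ext rfl), Submodule.liftQ_apply]
  exact one_smul A _

theorem torsion_span_singleton {E : Type u} [AddCommGroup E] [Module A E] {x : A} {e : E} :
    e ∈ DRing.torsionSub (Ideal.span {x}) E ↔ ∃ k : ℕ, x ^ k • e = 0 := by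
  constructor
  · rintro ⟨k, hk⟩
    exact ⟨k, hk _ (Ideal.pow_mem_pow (Ideal.mem_span_singleton_self x) k)⟩
  · rintro ⟨k, hk⟩
    refine ⟨k, fun a ha => ?_⟩
    rw [Ideal.span_singleton_pow, Ideal.mem_span_singleton] at ha
    obtain ⟨b, rfl⟩ := ha
    rw [mul_comm, mul_smul, hk, smul_zero]

/-- The torsion subcomplex of a bounded-above acyclic complex of injectives is acyclic in high degrees. -/
theorem exists_torsion_primitive (J : DRing.Cx A) (hJ : ∀ n, Module.Injective A (J.X n)) (c : ℤ)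
    (hex : ∀ (i j : ℤ), j + 1 = i → c < i → ∀ z : J.X i, (J.d i (i + 1)).hom z = 0 → ∃ w : J.X j, (J.d j i).hom w = z) :
    ∀ (L : List A) (i j : ℤ), j + 1 = i → c + L.length < i → ∀ z : J.X i, (J.d i (i + 1)).hom z = 0 →
      z ∈ DRing.torsionSub (Ideal.ofList L) (J.X i) →
      ∃ w ∈ DRing.torsionSub (Ideal.ofList L) (J.X j), (J.d j i).hom w = z := by
  intro L
  induction L with
  | nil =>
    intro i j hji hi z hz _
    obtain ⟨w, hw⟩ := hex i j hji (by simpa using hi) z hz
    refine ⟨w, ⟨1, fun a ha => ?_⟩, hw⟩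
    rw [pow_one, Ideal.ofList_nil] at ha
    rw [(Submodule.mem_bot A).1 ha, zero_smul]
  | cons x L ih =>
    intro i j hji hi z hz hzt
    rw [List.length_cons, Nat.cast_add, Nat.cast_one] at hi
    rw [Ideal.ofList_cons, LocCohLib.torsionSub_sup] at hzt ⊢
    obtain ⟨w, hw, hwz⟩ := ih i j hji (by omega) z hz hzt.2
    obtain ⟨k, hk⟩ := torsion_span_singleton.1 hzt.1
    obtain ⟨l, rfl⟩ : ∃ l, j = l + 1 := ⟨j - 1, by omega⟩
    obtain ⟨u, hu, hud⟩ := ih (l + 1) l rfl (by omega) (x ^ k • w) (by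
      subst hji
      rw [map_smul, hwz, hk]) (Submodule.smul_mem _ _ hw)
    haveI := hJ l
    haveI : Module.Injective A (DRing.torsionSub (Ideal.ofList L) (J.X l)) :=
      LocCohLib.injective_torsionSub (Ideal.ofList L) (J.X l)
    obtain ⟨N, v, hv⟩ := exists_div (DRing.torsionSub (Ideal.ofList L) (J.X l)) x k ⟨u, hu⟩
    refine ⟨w - (J.d l (l + 1)).hom v.1, ⟨torsion_span_singleton.2 ⟨N + k, ?_⟩, ?_⟩, ?_⟩
    · have h1 : x ^ (N + k) • v.1 = x ^ N • u := congrArg Subtype.val hv
      rw [smul_sub, ← map_smul, h1, map_smul, hud, smul_smul, pow_add, sub_self]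
    · refine Submodule.sub_mem _ hw ?_
      obtain ⟨n, hn⟩ := v.2
      exact ⟨n, fun a ha => by rw [← map_smul, hn a ha, map_zero]⟩
    · rw [map_sub, hwz, sub_eq_self]
      exact congr($(J.d_comp_d l (l + 1) i).hom v.1)

theorem subsingleton_HDI_of_isLE (I : Ideal A) (L : List A) (hL : Ideal.ofList L = I) (X : Dual.D A) (c i : ℤ)
    [X.IsLE c] (hi : c + L.length < i) : Subsingleton (Dual2.HDI A I X i) := by
  obtain ⟨K, hK, ⟨eX⟩⟩ := DerivedCategory.exists_iso_Q_obj_of_isLE X c
  obtain ⟨J, f, hJk, hf, -, hJi⟩ := KInj.exists_isKInjective_resolution K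
  haveI := hJk
  haveI := hf
  let eJ : DerivedCategory.Q.obj J ≅ X := (asIso (DerivedCategory.Q.map f)).symm ≪≫ eX.symm
  haveI : DerivedCategory.IsLE (DerivedCategory.Q.obj J) c :=
    DerivedCategory.TStructure.t.isLE_of_iso eJ.symm c
  have hinj : ∀ n, Module.Injective A (J.X n) := fun n => by
    haveI := hJi n
    exact (Module.injective_iff_injective_object A (J.X n)).2 inferInstance
  have hex : ∀ (i j : ℤ), j + 1 = i → c < i → ∀ z : J.X i, (J.d i (i + 1)).hom z = 0 →
      ∃ w : J.X j, (J.d j i).hom w = z := by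
    intro i j hji hi z hz
    haveI : J.IsLE c := (DerivedCategory.isLE_Q_obj_iff J c).1 inferInstance
    have h1 := (J.exactAt_iff' j i (i + 1) (by simp; omega) (by simp)).1 (J.exactAt_of_isLE c i hi)
    rw [ShortComplex.moduleCat_exact_iff] at h1
    exact h1 z hz
  let F := hdiDiagram I X i
  refine subsingleton_of_forall_eq 0 fun z => ?_
  obtain ⟨j, α, rfl⟩ := Concrete.colimit_exists_rep F z
  obtain ⟨n, rfl⟩ : ∃ n, op (op n) = j := ⟨unop (unop j), rfl⟩
  let Q := A ⧸ I ^ n
  let K₀ := (CochainComplex.singleFunctor (ModuleCat.{u} A) 0).obj (ModuleCat.of A Q)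
  let s := DerivedCategory.singleFunctorIsoCompQ (ModuleCat.{u} A) 0
  let u : DerivedCategory.Q.obj K₀ ⟶ DerivedCategory.Q.obj (J⟦i⟧) :=
    s.inv.app (ModuleCat.of A Q) ≫ α ≫ eJ.inv⟦i⟧' ≫ (DerivedCategory.Q.commShiftIso i).inv.app J
  obtain ⟨g, hg⟩ := (CochainComplex.IsKInjective.Qh_map_bijective
    ((HomotopyCategory.quotient (ModuleCat.{u} A) (ComplexShape.up ℤ)).obj K₀) (J⟦i⟧)).2 u
  obtain ⟨φ, rfl⟩ := (HomotopyCategory.quotient _ _).map_surjective g
  obtain ⟨p, hp, hpz⟩ := Cocycle.fromSingleMk_surjective (Cocycle.equivHomShift φ) i (zero_add i) (i + 1) rfl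
  let one : Q := Ideal.Quotient.mk (I ^ n) 1
  have hkill : ∀ a ∈ I ^ n, a • p.hom one = 0 := fun a ha => by
    rw [← map_smul, show a • one = 0 from Ideal.Quotient.eq_zero_iff_mem.2 (Ideal.mul_mem_right _ _ ha), map_zero]
  obtain ⟨w, ⟨m, hm⟩, hwd⟩ := exists_torsion_primitive J hinj c hex L i (i - 1) (by omega) hi (p.hom one)
    (congr($(hp).hom one)) ⟨n, fun a ha => hkill a (hL ▸ ha)⟩
  rw [hL] at hm
  let q : (A ⧸ I ^ (max n m)) →ₗ[A] Q := powMapQ I (le_max_left n m)
  let g₀ : (A ⧸ I ^ (max n m)) →ₗ[A] J.X (i - 1) := (I ^ (max n m)).liftQ (LinearMap.toSpanSingleton A _ w)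
    fun a ha => hm a (Ideal.pow_le_pow_right (le_max_right n m) ha)
  have hg₀ : ∀ y, (J.d (i - 1) i).hom (g₀ y) = p.hom (q y) := fun y => by
    obtain ⟨y, rfl⟩ := Submodule.Quotient.mk_surjective _ y
    show (J.d (i - 1) i).hom (y • w) = p.hom (Ideal.Quotient.mk (I ^ n) y)
    rw [map_smul, hwd, ← map_smul]
    exact congrArg p.hom ((congrArg (Ideal.Quotient.mk (I ^ n)) (mul_one y)))
  have hcob : (HomotopyCategory.quotient _ _).map
      ((CochainComplex.singleFunctor (ModuleCat.{u} A) 0).map (ModuleCat.ofHom q) ≫ φ) = 0 := by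
    rw [show φ = Cocycle.equivHomShift.symm (Cocycle.fromSingleMk p (zero_add i) (i + 1) rfl hp) by
      rw [hpz]; exact (AddEquiv.symm_apply_apply _ _).symm, ← Cocycle.equivHomShift_symm_precomp,
      ← Cocycle.fromSingleMk_precomp (ModuleCat.ofHom q) p (zero_add i) (i + 1) rfl hp,
      ← CohomologyClass.toHom_mk, CohomologyClass.toHom_mk_eq_zero_iff,
      Cocycle.fromSingleMk_mem_coboundaries_iff _ _ _ _ _ (i - 1) (by omega)]
    exact ⟨ModuleCat.ofHom g₀, ModuleCat.hom_ext (LinearMap.ext hg₀)⟩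
  have hQ : DerivedCategory.Q.map ((CochainComplex.singleFunctor (ModuleCat.{u} A) 0).map (ModuleCat.ofHom q)) ≫ u = 0 := by
    rw [← hg]
    show DerivedCategory.Q.map _ ≫ DerivedCategory.Q.map φ = 0
    rw [← Functor.map_comp]
    show DerivedCategory.Qh.map ((HomotopyCategory.quotient _ _).map _) = 0
    rw [hcob, Functor.map_zero]
  have hα : pre X i q α = 0 := by
    have h2 : DerivedCategory.Q.map ((CochainComplex.singleFunctor (ModuleCat.{u} A) 0).map (ModuleCat.ofHom q)) ≫
        s.inv.app (ModuleCat.of A Q) = s.inv.app (ModuleCat.of A (A ⧸ I ^ (max n m))) ≫ sMap q :=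
      s.inv.naturality (ModuleCat.ofHom q)
    simp only [u] at hQ
    rw [reassoc_of% h2] at hQ
    rw [← cancel_epi (s.inv.app (ModuleCat.of A (A ⧸ I ^ (max n m))))] 
    rw [← cancel_mono (eJ.inv⟦i⟧' ≫ (DerivedCategory.Q.commShiftIso i).inv.app J), comp_zero, zero_comp]
    simp only [pre_apply, Category.assoc]
    exact hQ
  have hw' := colimit.w F ((homOfLE (le_max_left n m)).op.op)
  refine (congr($(hw').hom α)).symm.trans ?_
  show (colimit.ι F _).hom ((F.map _).hom α) = 0
  rw [hdiDiagram_map, show pre X i (powMapQ I _) α = 0 from hα, map_zero]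

end Groth.Agent.DualCxLib
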