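import Groth.Agent.DualCxLib.GammaHDI
import Groth.Agent.DualCxLib.TorsAcyclic
import Groth.Agent.KInj.Colim
import Groth.Agent.SpSeqLib.Acyclic
import Groth.Prelude.Def_Wider

/-!
# `Γ_I` on complexes of injectives with torsion cohomology
-/

set_option autoImplicit false
set_option backward.isDefEq.respectTransparency false
set_option linter.style.haveILetI false
set_option maxRecDepth 4000

universe u

open CategoryTheory Limits
attribute [local instance] HasDerivedCategory.standard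

noncomputable section

namespace Groth.Agent.DualCxLib

theorem exists_shortExact_of_mono {C : Type*} [Category C] [Abelian C] {ι : Type*} {c : ComplexShape ι}
    {K L : HomologicalComplex C c} (φ : K ⟶ L) [Mono φ] :
    ∃ (Z : HomologicalComplex C c) (π : L ⟶ Z) (w : φ ≫ π = 0),
      (ShortComplex.mk φ π w).ShortExact ∧ (Z.Acyclic → QuasiIso φ) :=
  ⟨cokernel φ, cokernel.π φ, cokernel.condition φ, { exact := ShortComplex.exact_cokernel φ },
    (KInj.quasiIso_iff_acyclic_cokernel φ).2⟩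

variable {A : Type u} [CommRing A] [IsNoetherianRing A]

/-- Every cohomology class is killed by a power of each element of `L`. -/
def ClassTorsion (J : DRing.Cx A) (L : List A) : Prop :=
  ∀ x ∈ L, ∀ (i j : ℤ), j + 1 = i → ∀ z : J.X i, (J.d i (i + 1)).hom z = 0 →
    ∃ (k : ℕ) (w : J.X j), (J.d j i).hom w = x ^ k • z

theorem torsion_replace (J : DRing.Cx A) (hJ : ∀ n, Module.Injective A (J.X n)) :
    ∀ L : List A, ClassTorsion J L →
      (∀ (i j : ℤ), j + 1 = i → ∀ z : J.X i, (J.d i (i + 1)).hom z = 0 →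
        ∃ (z' : J.X i) (w : J.X j), z' ∈ DRing.torsionSub (Ideal.ofList L) (J.X i) ∧ z' + (J.d j i).hom w = z) ∧
      (∀ (i j : ℤ), j + 1 = i → ∀ z : J.X i, z ∈ DRing.torsionSub (Ideal.ofList L) (J.X i) →
        ∀ w : J.X j, (J.d j i).hom w = z →
          ∃ w' ∈ DRing.torsionSub (Ideal.ofList L) (J.X j), (J.d j i).hom w' = z) := by
  intro L
  induction L with
  | nil =>
    intro _
    have h0 : ∀ (n : ℤ) (z : J.X n), z ∈ DRing.torsionSub (Ideal.ofList ([] : List A)) (J.X n) := fun n z =>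
      ⟨1, fun a ha => by
        rw [pow_one, Ideal.ofList_nil] at ha
        rw [(Submodule.mem_bot A).1 ha, zero_smul]⟩
    exact ⟨fun i j _ z _ => ⟨z, 0, h0 i z, by rw [map_zero, add_zero]⟩, fun i j _ z _ w hw => ⟨w, h0 j w, hw⟩⟩
  | cons x L ih =>
    intro hL
    obtain ⟨ih1, ih2⟩ := ih fun y hy => hL y (List.mem_cons_of_mem x hy)
    have hsub : ∀ (n : ℤ) {m : ℤ} (v : J.X n), v ∈ DRing.torsionSub (Ideal.ofList L) (J.X n) →
        (J.d n m).hom v ∈ DRing.torsionSub (Ideal.ofList L) (J.X m) := fun n m v hv =>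
      DRing.map_mem_torsionSub _ _ hv
    have key : ∀ (n : ℤ) (k : ℕ) (u : J.X n), u ∈ DRing.torsionSub (Ideal.ofList L) (J.X n) →
        ∃ (N : ℕ), ∃ v ∈ DRing.torsionSub (Ideal.ofList L) (J.X n), x ^ (N + k) • v = x ^ N • u := fun n k u hu => by
      haveI := hJ n
      haveI : Module.Injective A (DRing.torsionSub (Ideal.ofList L) (J.X n)) :=
        LocCohLib.injective_torsionSub (Ideal.ofList L) (J.X n)
      obtain ⟨N, v, hv⟩ := exists_div (DRing.torsionSub (Ideal.ofList L) (J.X n)) x k ⟨u, hu⟩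
      exact ⟨N, v.1, v.2, congrArg Subtype.val hv⟩
    constructor
    · intro i j hji z hz
      obtain ⟨z₁, w, hz₁, rfl⟩ := ih1 i j hji z hz
      have hz₁c : (J.d i (i + 1)).hom z₁ = 0 := by
        rw [map_add] at hz
        rwa [show (J.d i (i + 1)).hom ((J.d j i).hom w) = 0 from congr($(J.d_comp_d j i (i + 1)).hom w), add_zero] at hz
      obtain ⟨k, w₁, hw₁⟩ := hL x List.mem_cons_self i j hji z₁ hz₁c
      obtain ⟨u, hu, hud⟩ := ih2 i j hji (x ^ k • z₁) (Submodule.smul_mem _ _ hz₁) w₁ hw₁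
      obtain ⟨N, v, hv, hNv⟩ := key j k u hu
      refine ⟨z₁ - (J.d j i).hom v, v + w, ?_, by rw [map_add]; abel⟩
      rw [Ideal.ofList_cons, LocCohLib.torsionSub_sup]
      refine ⟨torsion_span_singleton.2 ⟨N + k, ?_⟩, Submodule.sub_mem _ hz₁ (hsub j v hv)⟩
      rw [smul_sub, ← map_smul, hNv, map_smul, hud, smul_smul, pow_add, sub_self]
    · intro i j hji z hz w hw
      rw [Ideal.ofList_cons, LocCohLib.torsionSub_sup] at hz ⊢
      obtain ⟨w₁, hw₁, hw₁z⟩ := ih2 i j hji z hz.2 w hw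
      obtain ⟨k, hk⟩ := torsion_span_singleton.1 hz.1
      obtain ⟨l, rfl⟩ : ∃ l, j = l + 1 := ⟨j - 1, by omega⟩
      have hc : (J.d (l + 1) (l + 1 + 1)).hom (x ^ k • w₁) = 0 := by
        subst hji
        rw [map_smul, hw₁z, hk]
      obtain ⟨m, u₀, hu₀⟩ := hL x List.mem_cons_self (l + 1) l rfl _ hc
      obtain ⟨u, hu, hud⟩ := ih2 (l + 1) l rfl _ (Submodule.smul_mem _ _ (Submodule.smul_mem _ _ hw₁)) u₀ hu₀
      obtain ⟨N, v, hv, hNv⟩ := key l (m + k) u hu
      refine ⟨w₁ - (J.d l (l + 1)).hom v, ⟨torsion_span_singleton.2 ⟨N + (m + k), ?_⟩,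
        Submodule.sub_mem _ hw₁ (hsub l v hv)⟩, ?_⟩
      · rw [smul_sub, ← map_smul, hNv, map_smul, hud, smul_smul, smul_smul, ← pow_add, ← pow_add, add_assoc, sub_self]
      · rw [map_sub, hw₁z, sub_eq_self]
        exact congr($(J.d_comp_d l (l + 1) i).hom v)

omit [IsNoetherianRing A] in
theorem acyclic_X₃_of_lift (S : ShortComplex (DRing.Cx A)) (hS : S.ShortExact)
    (h : ∀ (i : ℤ) (z : S.X₂.X i) (t : S.X₁.X (i + 1)), (S.f.f (i + 1)).hom t = (S.X₂.d i (i + 1)).hom z →
      ∃ (u : S.X₂.X (i - 1)) (t' : S.X₁.X i), (S.f.f i).hom t' = z - (S.X₂.d (i - 1) i).hom u) : S.X₃.Acyclic := by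
  have hSn : ∀ n, (S.map (HomologicalComplex.eval _ _ n)).ShortExact :=
    (HomologicalComplex.shortExact_iff_degreewise_shortExact S).1 hS
  intro i
  rw [HomologicalComplex.exactAt_iff' _ (i - 1) i (i + 1) (by simp) (by simp), ShortComplex.moduleCat_exact_iff]
  intro zb hzb
  change S.X₃.X i at zb
  change (S.X₃.d i (i + 1)).hom zb = 0 at hzb
  haveI : Epi (S.g.f i) := (hSn i).epi_g
  obtain ⟨z, rfl⟩ := (ModuleCat.epi_iff_surjective (S.g.f i)).1 inferInstance zb
  obtain ⟨t, ht⟩ := (ShortComplex.moduleCat_exact_iff _).1 (hSn (i + 1)).exact ((S.X₂.d i (i + 1)).hom z)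
    ((congr($(S.g.comm i (i + 1)).hom z)).symm.trans hzb)
  obtain ⟨u, t', hu⟩ := h i z t ht
  refine ⟨(S.g.f (i - 1)).hom u, ?_⟩
  change (S.X₃.d (i - 1) i).hom ((S.g.f (i - 1)).hom u) = (S.g.f i).hom z
  refine (congr($(S.g.comm (i - 1) i).hom u)).trans ?_
  change (S.g.f i).hom ((S.X₂.d (i - 1) i).hom u) = (S.g.f i).hom z
  have h0 : (S.g.f i).hom ((S.f.f i).hom t') = 0 := congr(($(S.zero)).f i t')
  rw [hu, map_sub, sub_eq_zero] at h0
  exact h0.symm

/-- The inclusion `Γ_I J ⟶ J`. -/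
abbrev gammaIncl (I : Ideal A) (J : DRing.Cx A) :
    ((DRing.gammaI I).mapHomologicalComplex (ComplexShape.up ℤ)).obj J ⟶ J :=
  (NatTrans.mapHomologicalComplex (DRing.gammaIι I) (ComplexShape.up ℤ)).app J ≫
    (Functor.mapHomologicalComplexIdIso (ModuleCat.{u} A) (ComplexShape.up ℤ)).hom.app J

omit [IsNoetherianRing A] in
theorem gammaIncl_f_apply (I : Ideal A) (J : DRing.Cx A) (n : ℤ) (v : DRing.torsionSub I (J.X n)) :
    ((gammaIncl I J).f n).hom v = v.1 := rfl

theorem quasiIso_gammaIncl (J : DRing.Cx A) (hJ : ∀ n, Module.Injective A (J.X n)) (L : List A)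
    (hL : ClassTorsion J L) : QuasiIso (gammaIncl (Ideal.ofList L) J) := by
  set φ := gammaIncl (Ideal.ofList L) J with hφ
  haveI hm : ∀ n, Mono (φ.f n) := fun n => (ModuleCat.mono_iff_injective _).2 fun a b h => Subtype.ext h
  haveI : Mono φ := HomologicalComplex.mono_of_mono_f _ hm
  obtain ⟨Z, π, w, hS, hqi⟩ := exists_shortExact_of_mono φ
  obtain ⟨P1, P2⟩ := torsion_replace J hJ L hL
  refine hqi (acyclic_X₃_of_lift (ShortComplex.mk φ π w) hS fun i z t ht => ?_)
  change t.1 = (J.d i (i + 1)).hom z at ht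
  obtain ⟨w, hw, hwd⟩ := P2 (i + 1) i rfl _ (ht ▸ t.2) z rfl
  obtain ⟨z', u, hz', hu⟩ := P1 i (i - 1) (by omega) (z - w) (by rw [map_sub, hwd, sub_self])
  refine ⟨u, ⟨z' + w, add_mem hz' hw⟩, ?_⟩
  change z' + w = z - (J.d (i - 1) i).hom u
  rw [show z = z' + (J.d (i - 1) i).hom u + w by rw [hu]; abel]
  abel

omit [IsNoetherianRing A] in
theorem resol (K : DRing.Cx A) : ∃ (J : DRing.Cx A) (f : K ⟶ J), J.IsKInjective ∧ QuasiIso f :=
  let ⟨J, f, h1, h2, _⟩ := Groth.Agent.KInj.exists_isKInjective_resolution K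
  ⟨J, f, h1, h2⟩

theorem ofList_toList_fg (I : Ideal A) : ∃ L : List A, Ideal.ofList L = I := by
  obtain ⟨s, rfl⟩ := (IsNoetherian.noetherian I : I.FG)
  exact ⟨s.toList, by simp [Ideal.ofList]⟩

omit [IsNoetherianRing A] in
theorem classTorsion_of_HD (J : DRing.Cx A) (I : Ideal A)
    (h : ∀ i : ℤ, LocCoh.IsPowerTorsion I (Dual.HD A (DerivedCategory.Q.obj J) i)) (L : List A) (hL : Ideal.ofList L = I) :
    ClassTorsion J L := by
  intro x hx i j hji z hz
  let S := J.sc' j i (i + 1)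
  let e : Dual.HD A (DerivedCategory.Q.obj J) i ≃ₗ[A] (LinearMap.ker S.g.hom ⧸ LinearMap.range S.moduleCatToCycles) :=
    ((DerivedCategory.homologyFunctorFactors (ModuleCat.{u} A) i).app J ≪≫
      J.homologyIsoSc' j i (i + 1) (by simp; omega) (by simp) ≪≫ S.moduleCatHomologyIso).toLinearEquiv
  let c : LinearMap.ker S.g.hom := ⟨z, hz⟩
  obtain ⟨n, hn⟩ := h i (e.symm (Submodule.Quotient.mk c))
  have h1 := hn (x ^ n) (Ideal.pow_mem_pow (hL ▸ Ideal.subset_span hx) n)
  rw [← map_smul, LinearEquiv.map_eq_zero_iff, ← Submodule.Quotient.mk_smul, Submodule.Quotient.mk_eq_zero] at h1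
  obtain ⟨w, hw⟩ := h1
  exact ⟨n, w, congrArg Subtype.val hw⟩

theorem isIso_RgammaIε_app (I : Ideal A) [DRing.HasRgammaI I] (K : Dual.D A)
    (h : ∀ i : ℤ, LocCoh.IsPowerTorsion I (Dual.HD A K i)) : IsIso ((DRing.RgammaIε I).app K) := by
  let P := DerivedCategory.Q.objPreimage K
  obtain ⟨J, f, hJ, hf, -, hJi⟩ := Groth.Agent.KInj.exists_isKInjective_resolution P
  haveI := hJ
  haveI := hf
  let eK : DerivedCategory.Q.obj J ≅ K :=
    (asIso (DerivedCategory.Q.map f)).symm ≪≫ DerivedCategory.Q.objObjPreimageIso K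
  have hinj : ∀ n, Module.Injective A (J.X n) := fun n => by
    haveI := hJi n
    exact (Module.injective_iff_injective_object A (J.X n)).2 inferInstance
  have hT : ∀ i : ℤ, LocCoh.IsPowerTorsion I (Dual.HD A (DerivedCategory.Q.obj J) i) := fun i m => by
    let e : Dual.HD A (DerivedCategory.Q.obj J) i ≃ₗ[A] Dual.HD A K i :=
      ((DerivedCategory.homologyFunctor (ModuleCat.{u} A) i).mapIso eK).toLinearEquiv
    obtain ⟨n, hn⟩ := h i (e m)
    exact ⟨n, fun a ha => e.injective (by rw [map_smul, hn a ha, map_zero])⟩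
  obtain ⟨L, hL⟩ := ofList_toList_fg I
  haveI := quasiIso_gammaIncl J hinj L (classTorsion_of_HD J I hT L hL)
  rw [hL] at this
  haveI := this
  let W := HomotopyCategory.quasiIso (ModuleCat.{u} A) (ComplexShape.up ℤ)
  let unit := (DRing.gammaIKh I).totalRightDerivedUnit DerivedCategory.Qh W
  haveI h1 : IsIso (unit.app ((HomotopyCategory.quotient _ _).obj J)) :=
    Groth.Agent.KInj.isIso_app_of_isKInjective resol (DRing.gammaIKh I) (DRing.RgammaI I) unit J
  have h2 : IsIso ((DRing.gammaIτ I).app ((HomotopyCategory.quotient _ _).obj J)) := by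
    show IsIso ((DRing.gammaIτ0 I).app J)
    unfold DRing.gammaIτ0
    simp only [NatTrans.comp_app, Functor.associator_inv_app, Functor.associator_hom_app, Functor.whiskerRight_app,
      Functor.leftUnitor_hom_app]
    haveI : IsIso ((HomotopyCategory.quotient (ModuleCat.{u} A) (ComplexShape.up ℤ) ⋙ DerivedCategory.Qh).map
        ((NatTrans.mapHomologicalComplex (DRing.gammaIι I) (ComplexShape.up ℤ)).app J)) := by
      have h3 : IsIso ((HomotopyCategory.quotient (ModuleCat.{u} A) (ComplexShape.up ℤ) ⋙ DerivedCategory.Qh).map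
          (gammaIncl I J)) := by
        show IsIso (DerivedCategory.Q.map (gammaIncl I J))
        infer_instance
      rw [Functor.map_comp] at h3
      exact IsIso.of_isIso_comp_right _ ((HomotopyCategory.quotient (ModuleCat.{u} A) (ComplexShape.up ℤ) ⋙ DerivedCategory.Qh).map
          ((Functor.mapHomologicalComplexIdIso (ModuleCat.{u} A) (ComplexShape.up ℤ)).hom.app J))
    repeat' (first | infer_instance | exact IsIso.id _ | refine IsIso.comp_isIso' ?_ ?_)
  have hfac := (DRing.RgammaI I).rightDerived_fac_app unit W (𝟭 (Dual.D A))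
    (DRing.gammaIτ I ≫ (Functor.rightUnitor _).inv) ((HomotopyCategory.quotient _ _).obj J)
  have h4 : IsIso ((DRing.RgammaIε I).app (DerivedCategory.Qh.obj ((HomotopyCategory.quotient _ _).obj J))) := by
    haveI : IsIso ((DRing.gammaIτ I ≫ (Functor.rightUnitor _).inv).app ((HomotopyCategory.quotient _ _).obj J)) := by
      rw [NatTrans.comp_app]
      infer_instance
    haveI : IsIso (unit.app ((HomotopyCategory.quotient _ _).obj J) ≫
        (DRing.RgammaIε I).app (DerivedCategory.Qh.obj ((HomotopyCategory.quotient _ _).obj J))) := by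
      rw [show unit.app _ ≫ (DRing.RgammaIε I).app _ = _ from hfac]
      infer_instance
    exact IsIso.of_isIso_comp_left (unit.app ((HomotopyCategory.quotient _ _).obj J)) _
  exact (NatTrans.isIso_app_iff_of_iso (DRing.RgammaIε I) eK).1 h4

theorem acyclic_gamma (J : Ideal A) (M : DRing.Cx A) (hM : ∀ n, Module.Injective A (M.X n)) (hac : M.Acyclic) :
    (((DRing.gammaI J).mapHomologicalComplex (ComplexShape.up ℤ)).obj M).Acyclic := by
  obtain ⟨L, rfl⟩ := ofList_toList_fg J
  haveI := quasiIso_gammaIncl M hM L (fun x _ i j hji z hz => by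
    have h1 := (M.exactAt_iff' j i (i + 1) (by simp; omega) (by simp)).1 (hac i)
    rw [ShortComplex.moduleCat_exact_iff] at h1
    obtain ⟨w, hw⟩ := h1 z hz
    exact ⟨0, w, by rw [pow_zero, one_smul]; exact hw⟩)
  intro n
  rw [HomologicalComplex.exactAt_iff_isZero_homology]
  exact ((HomologicalComplex.exactAt_iff_isZero_homology _ _).1 (hac n)).of_iso
    (asIso (HomologicalComplex.homologyMap (gammaIncl (Ideal.ofList L) M) n))

theorem quasiIso_gamma_map (J : Ideal A) {C E : DRing.Cx A} (g : C ⟶ E) [QuasiIso g]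
    (hC : ∀ n, Module.Injective A (C.X n)) (hE : ∀ n, Module.Injective A (E.X n)) :
    QuasiIso (((DRing.gammaI J).mapHomologicalComplex (ComplexShape.up ℤ)).map g) := by
  rw [Groth.Agent.SpSeqLib.quasiIso_iff_acyclic_mappingCone]
  refine fun n => HomologicalComplex.ExactAt.of_iso ?_
    (CochainComplex.mappingCone.mapHomologicalComplexIso g (DRing.gammaI J))
  refine acyclic_gamma J _ (fun m => ?_) ((Groth.Agent.SpSeqLib.quasiIso_iff_acyclic_mappingCone g).1 ‹_›) n
  haveI : Injective (C.X (m + 1)) := (Module.injective_iff_injective_object A (C.X (m + 1))).1 (hC _)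
  haveI : Injective (E.X m) := (Module.injective_iff_injective_object A (E.X m)).1 (hE _)
  refine (Module.injective_iff_injective_object A _).2 ?_
  exact Injective.of_iso (HomologicalComplex.homotopyCofiber.XIsoBiprod g m (m + 1) rfl).symm inferInstance

/-- `Γ_J Γ_I = Γ_{I + J}`. -/
def gammaSupIso (I J : Ideal A) : DRing.gammaI I ⋙ DRing.gammaI J ≅ DRing.gammaI (I ⊔ J) :=
  NatIso.ofComponents (fun M => LinearEquiv.toModuleIso
    { toFun := fun v => ⟨v.1.1, by
        refine LocCohLib.mem_torsionSub_sup v.1.2 ?_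
        obtain ⟨n, hn⟩ := v.2
        exact ⟨n, fun a ha => congrArg Subtype.val (hn a ha)⟩⟩
      map_add' := fun _ _ => rfl
      map_smul' := fun _ _ => rfl
      invFun := fun v => ⟨⟨v.1, LocCohLib.torsionSub_mono' le_sup_left _ v.2⟩, by
        obtain ⟨n, hn⟩ := LocCohLib.torsionSub_mono' le_sup_right _ v.2
        exact ⟨n, fun a ha => Subtype.ext (hn a ha)⟩⟩
      left_inv := fun _ => rfl
      right_inv := fun _ => rfl })
    (fun _ => rfl)

theorem nonempty_RgammaI_RgammaI (I J : Ideal A) [DRing.HasRgammaI I] [DRing.HasRgammaI J]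
    [DRing.HasRgammaI (I ⊔ J)] (K : Dual.D A) :
    Nonempty ((DRing.RgammaI J).obj ((DRing.RgammaI I).obj K) ≅ (DRing.RgammaI (I ⊔ J)).obj K) := by
  let P := DerivedCategory.Q.objPreimage K
  obtain ⟨E, f, hE, hf, -, hEi⟩ := Groth.Agent.KInj.exists_isKInjective_resolution P
  haveI := hf
  let S : KRep K := ⟨E, hE, (asIso (DerivedCategory.Q.map f)).symm ≪≫ DerivedCategory.Q.objObjPreimageIso K⟩
  obtain ⟨e₁⟩ := S.nonempty_RgammaI_iso I
  obtain ⟨e₂⟩ := S.nonempty_RgammaI_iso (I ⊔ J)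
  obtain ⟨E', g, hE', hg, -, hE'i⟩ := Groth.Agent.KInj.exists_isKInjective_resolution (S.gamma I)
  haveI := hg
  let S' : KRep ((DRing.RgammaI I).obj K) :=
    ⟨E', hE', (asIso (DerivedCategory.Q.map g)).symm ≪≫ e₁.symm⟩
  obtain ⟨e₃⟩ := S'.nonempty_RgammaI_iso J
  haveI := quasiIso_gamma_map J g (fun n => by
      haveI : Module.Injective A (E.X n) := by
        haveI := hEi n
        exact (Module.injective_iff_injective_object A (E.X n)).2 inferInstance
      exact LocCohLib.injective_torsionSub I (E.X n))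
    (fun n => by
      haveI := hE'i n
      exact (Module.injective_iff_injective_object A (E'.X n)).2 inferInstance)
  let φ := ((DRing.gammaI J).mapHomologicalComplex (ComplexShape.up ℤ)).map g
  let c : ((DRing.gammaI J).mapHomologicalComplex (ComplexShape.up ℤ)).obj (S.gamma I) ≅ S.gamma (I ⊔ J) :=
    HomologicalComplex.Hom.isoOfComponents (fun n => (gammaSupIso I J).app (E.X n))
      (fun i j _ => ((gammaSupIso I J).hom.naturality (E.d i j)).symm)
  exact ⟨e₃ ≪≫ (asIso (DerivedCategory.Q.map φ)).symm ≪≫ DerivedCategory.Q.mapIso c ≪≫ e₂.symm⟩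

end Groth.Agent.DualCxLib
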