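import Groth.Agent.DualCxLib.SchStalk
import Groth.Agent.DualCxLib.Gorenstein
import Groth.Agent.GorLib.Transport
import Groth.Agent.DCohLib.PerfPred
import Groth.Agent.DCohLib.SuppOpen
import Groth.Agent.ZClosLib.Basic
import Groth.Agent.PullbackMod.Hom
import Groth.Prelude.Def_Dual3

/-!
# Gorenstein points of a scheme with a dualizing complex
-/

set_option autoImplicit false
set_option backward.isDefEq.respectTransparency false

universe u

open CategoryTheory Limits AlgebraicGeometry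
attribute [local instance] HasDerivedCategory.standard

noncomputable section

namespace Groth.Agent.DualCxLib

theorem gorenstein_stalk_iff {X : Scheme.{u}} {A : Type u} [CommRing A] (j : Spec (CommRingCat.of A) ⟶ X)
    [IsOpenImmersion j] (p : PrimeSpectrum A) :
    LocCoh.IsGorensteinLocalRing (X.presheaf.stalk (j p)) ↔
      LocCoh.IsGorensteinLocalRing (Localization.AtPrime p.asIdeal) :=
  GorLib.gorenstein_iff_ringEquiv
    ((asIso (j.stalkMap p) ≪≫ Spec.stalkIso (CommRingCat.of A) p).commRingCatIsoToRingEquiv : _)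

theorem tilde_stalk_map {R : CommRingCat.{u}} {M N : ModuleCat.{u} R} (f : M ⟶ N) (q : PrimeSpectrum R) (m : M) :
    (Scheme.Modules.toPresheaf (Spec R) ⋙ TopCat.Presheaf.stalkFunctor AddCommGrpCat.{u} q).map
      ((tilde.functor R).map f) ((tilde.toStalk M q).hom m) = (tilde.toStalk N q).hom (f.hom m) := by
  refine (TopCat.Presheaf.stalkFunctor_map_germ_apply (⊤ : (Spec R).Opens) q trivial
    ((Scheme.Modules.toPresheaf (Spec R)).map ((tilde.functor R).map f)) _).trans ?_
  exact congrArg _ (ConcreteCategory.congr_hom (tilde.toOpen_map_app f ⊤) m)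

/-- The map induced by `tilde.map f` on a stalk, as an `R`-linear map. -/
def tildeStalkLin {R : CommRingCat.{u}} {M N : ModuleCat.{u} R} (f : M ⟶ N) (q : PrimeSpectrum R) :
    ((tilde M).presheaf.stalk q) →ₗ[R] ((tilde N).presheaf.stalk q) where
  toFun := PullbackMod.stalkLin (X := Spec R) ((tilde.functor R).map f) q
  map_add' := map_add _
  map_smul' r z := (PullbackMod.stalkLin (X := Spec R) ((tilde.functor R).map f) q).map_smul
    (StructureSheaf.toStalk R q r) z

/-- An `R`-linear map that is bijective after localisation is bijective on stalks of the tildes. -/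
theorem bijective_tilde_stalk {R : CommRingCat.{u}} {M N : ModuleCat.{u} R} (f : M ⟶ N) (q : PrimeSpectrum R)
    (hker : ∀ m, f.hom m = 0 → ∃ s ∉ q.asIdeal, s • m = 0)
    (hgen : ∀ y, ∃ s ∉ q.asIdeal, ∃ m, s • y = f.hom m) :
    Function.Bijective ((Scheme.Modules.toPresheaf (Spec R) ⋙ TopCat.Presheaf.stalkFunctor AddCommGrpCat.{u} q).map
      ((tilde.functor R).map f)) := by
  let ιM := (tilde.toStalk M q).hom
  let ιN := (tilde.toStalk N q).hom
  let L := tildeStalkLin f q
  have hsq : ∀ m, L (ιM m) = ιN (f.hom m) := tilde_stalk_map f q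
  suffices h : Function.Bijective L from h
  refine ⟨(injective_iff_map_eq_zero L).2 fun z hz => ?_, fun z => ?_⟩
  · obtain ⟨⟨m, s⟩, hm⟩ := IsLocalizedModule.surj q.asIdeal.primeCompl ιM z
    have h1 : ιN (f.hom m) = 0 := by rw [← hsq, ← hm, Submonoid.smul_def, map_smul, hz, smul_zero]
    obtain ⟨t, ht⟩ := (IsLocalizedModule.eq_zero_iff q.asIdeal.primeCompl ιN).1 h1
    obtain ⟨v, hv, hv0⟩ := hker (t • m) (by rw [Submonoid.smul_def, map_smul]; exact ht)
    rw [← IsLocalizedModule.smul_inj ιM (⟨v, hv⟩ * t * s) z 0, smul_zero]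
    rw [mul_smul, hm, ← LinearMap.map_smul_of_tower, mul_smul]
    show ιM (v • (t • m)) = 0
    rw [hv0, map_zero]
  · obtain ⟨⟨y, s⟩, hy⟩ := IsLocalizedModule.surj q.asIdeal.primeCompl ιN z
    obtain ⟨t, ht, m, hm⟩ := hgen y
    refine ⟨IsLocalizedModule.mk' ιM m (⟨t, ht⟩ * s),
      (IsLocalizedModule.smul_inj ιN (⟨t, ht⟩ * s) _ _).1 ?_⟩
    rw [Submonoid.smul_def, ← map_smul, ← Submonoid.smul_def, IsLocalizedModule.mk'_cancel', hsq, ← hm,
      map_smul, mul_smul, hy]
    rfl

variable {A : Type u} [CommRing A] [IsNoetherianRing A] {ω : Dual.D A}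

/-- Around a Gorenstein point one cohomology module of a dualizing complex is free of rank one and the others
vanish. -/
theorem exists_gorenstein_nbhd (hω : Dual.IsDualizing A ω) (p : PrimeSpectrum A)
    (hp : LocCoh.IsGorensteinLocalRing (Localization.AtPrime p.asIdeal)) :
    ∃ (g : A) (d : ℤ) (x : Dual.HD A ω d), g ∉ p.asIdeal ∧ ∀ q : PrimeSpectrum A, g ∉ q.asIdeal →
      (∀ j, j ≠ d → ∀ y : Dual.HD A ω j, ∃ s ∉ q.asIdeal, s • y = 0) ∧
      (∀ r : A, r • x = 0 → ∃ s ∉ q.asIdeal, s * r = 0) ∧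
      (∀ y : Dual.HD A ω d, ∃ s ∉ q.asIdeal, ∃ r : A, s • y = r • x) := by
  let S := model hω
  haveI := S.isGE
  haveI := S.isLE
  obtain ⟨d, x, hne, hker, hgen⟩ := (gorenstein_localization_iff hω p).1 hp
  have hfin : ∀ j, Module.Finite A (Dual.HD A ω j) := hω.finite_cohomology
  -- the kernel and the cokernel
  let π : A →ₗ[A] Dual.HD A ω d := LinearMap.toSpanSingleton A _ x
  obtain ⟨s₁, hs₁, h₁⟩ := exists_annihilator_of_zeroAt (p := p.asIdeal) (T := LinearMap.ker π) fun r => by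
    obtain ⟨s, hs, h0⟩ := hker r.1 r.2
    exact ⟨s, hs, Subtype.ext h0⟩
  obtain ⟨s₂, hs₂, h₂⟩ := exists_annihilator_of_zeroAt (p := p.asIdeal)
      (T := (Dual.HD A ω d) ⧸ LinearMap.range π) fun y => by
    obtain ⟨y, rfl⟩ := Submodule.Quotient.mk_surjective _ y
    obtain ⟨s, hs, r, hr⟩ := hgen y
    exact ⟨s, hs, (Submodule.Quotient.mk_eq_zero _).2 ⟨r, hr.symm⟩⟩
  have hj : ∀ j, ∃ s ∉ p.asIdeal, j ≠ d → ∀ y : Dual.HD A ω j, s • y = 0 := fun j => by
    by_cases hjd : j = d
    · exact ⟨1, fun h => p.2.ne_top ((Ideal.eq_top_iff_one _).2 h), fun h => absurd hjd h⟩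
    · haveI := hfin j
      obtain ⟨s, hs, h0⟩ := exists_annihilator_of_zeroAt (p := p.asIdeal) (T := Dual.HD A ω j) (hne j hjd)
      exact ⟨s, hs, fun _ => h0⟩
  choose t ht htj using hj
  let g := s₁ * s₂ * ∏ j ∈ Finset.Icc S.a S.b, t j
  refine ⟨g, d, x, ?_, fun q hq => ?_⟩
  · intro h
    rcases p.2.mem_or_mem h with h | h
    · exact (p.2.mem_or_mem h).elim hs₁ hs₂
    · obtain ⟨j, -, hj⟩ := (Ideal.IsPrime.prod_mem_iff (hp := p.2)).1 h
      exact ht j hj

  · have hgq : g ∉ q.asIdeal := hq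
    have hsq : s₁ ∉ q.asIdeal := fun h => hgq (q.asIdeal.mul_mem_right _ (q.asIdeal.mul_mem_right _ h))
    have hsq' : s₂ ∉ q.asIdeal := fun h => hgq (q.asIdeal.mul_mem_right _ (q.asIdeal.mul_mem_left _ h))
    refine ⟨fun j hjd y => ?_, fun r hr => ⟨s₁, hsq, ?_⟩,
      fun y => ⟨s₂, hsq', ?_⟩⟩
    · by_cases hjI : j ∈ Finset.Icc S.a S.b
      · refine ⟨t j, fun h => hgq ?_, htj j hjd y⟩
        obtain ⟨c, hc⟩ := Finset.dvd_prod_of_mem t hjI
        exact q.asIdeal.mul_mem_left _ (hc ▸ q.asIdeal.mul_mem_right c h)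
      · haveI : Subsingleton ((DerivedCategory.homologyFunctor (ModuleCat.{u} A) j).obj ω) :=
          ModuleCat.subsingleton_of_isZero (by
            rw [Finset.mem_Icc] at hjI
            by_cases hja : j < S.a
            · exact DerivedCategory.isZero_of_isGE ω S.a j hja
            · exact DerivedCategory.isZero_of_isLE ω S.b j (by omega))
        exact ⟨1, fun h => q.2.ne_top ((Ideal.eq_top_iff_one _).2 h), Subsingleton.elim _ _⟩
    · exact congrArg Subtype.val (h₁ ⟨r, hr⟩)
    · obtain ⟨r, hr⟩ := (Submodule.Quotient.mk_eq_zero (LinearMap.range π)).1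
        ((Submodule.Quotient.mk_smul _ s₂ y).trans (h₂ _))
      exact ⟨r, hr.symm⟩

theorem exists_open_iso_structure {R : CommRingCat.{u}} [IsNoetherianRing R] {ω : Dual.D R}
    (hω : Dual.IsDualizing R ω) (p : PrimeSpectrum R)
    (hp : LocCoh.IsGorensteinLocalRing (Localization.AtPrime p.asIdeal))
    [∀ (U V : Scheme.{u}) (j : U ⟶ V) [IsOpenImmersion j], PreservesFiniteLimits (Scheme.Modules.restrictFunctor j)]
    [∀ (R : CommRingCat.{u}), PreservesFiniteLimits (tilde.functor R)] :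
    ∃ (V : (Spec R).Opens) (n : ℤ), p ∈ V ∧
      Nonempty ((DCoh.restrictD V.ι).obj ((DCoh.tildeD R).obj ω) ≅
        (DCoh.inD (V : Scheme.{u}) (Coh.structureModule (V : Scheme.{u})))⟦n⟧) := by
  obtain ⟨g, d, x, hg, H⟩ := exists_gorenstein_nbhd hω p hp
  let V : (Spec R).Opens := PrimeSpectrum.basicOpen g
  refine ⟨V, -d, hg, ?_⟩
  let F := (DCoh.restrictD V.ι).obj ((DCoh.tildeD R).obj ω)
  let M : ℤ → ModuleCat.{u} R := fun i => (DerivedCategory.homologyFunctor (ModuleCat.{u} R) i).obj ω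
  let iH : ∀ i, DCoh.HD F i ≅
      (Scheme.Modules.restrictFunctor V.ι).obj ((tilde.functor R).obj (M i)) := fun i =>
    (TildeD.nu (Scheme.Modules.restrictFunctor V.ι) i).app _ ≪≫
      (Scheme.Modules.restrictFunctor V.ι).mapIso ((TildeD.nu (tilde.functor R) i).app ω)
  let Φ := fun y : PrimeSpectrum R =>
    Scheme.Modules.toPresheaf (Spec R) ⋙ TopCat.Presheaf.stalkFunctor AddCommGrpCat.{u} y
  have hz : ∀ i, i ≠ d → IsZero (DCoh.HD F i) := fun i hi =>
    IsZero.of_iso (DCohLib.isZero_of_stalks fun v => by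
      haveI : Subsingleton ↑((Scheme.Modules.toPresheaf (Spec R) ⋙
          TopCat.Presheaf.stalkFunctor AddCommGrpCat.{u} (V.ι v)).obj ((tilde.functor R).obj (M i))) := by
        refine subsingleton_of_forall_eq 0 fun z => ?_
        obtain ⟨⟨y, s⟩, hy⟩ := IsLocalizedModule.surj v.1.asIdeal.primeCompl (tilde.toStalk (M i) v.1).hom z
        obtain ⟨t, ht, h0⟩ := (H v.1 v.2).1 i hi y
        refine (IsLocalizedModule.smul_inj (tilde.toStalk (M i) v.1).hom (⟨t, ht⟩ * s) z 0).1 ?_
        rw [smul_zero, mul_smul, hy, Submonoid.smul_def, ← map_smul]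
        show (tilde.toStalk (M i) v.1).hom (t • y) = 0
        rw [h0, map_zero]
      exact ((Scheme.Modules.restrictStalkNatIso V.ι v).app
        ((tilde.functor R).obj (M i))).addCommGroupIsoToAddEquiv.injective.subsingleton) (iH i)
  haveI : DerivedCategory.IsGE F d := (DerivedCategory.isGE_iff _ _).2 fun i hi => hz i hi.ne
  haveI : DerivedCategory.IsLE F d := (DerivedCategory.isLE_iff _ _).2 fun i hi => hz i (ne_of_gt hi)
  obtain ⟨Y, ⟨eY⟩⟩ := DerivedCategory.exists_iso_singleFunctor_obj_of_isGE_of_isLE F d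
  let π : ModuleCat.of R R ⟶ M d := ModuleCat.ofHom (LinearMap.toSpanSingleton R _ x)
  let φ := (Scheme.Modules.restrictFunctor V.ι).map ((tilde.functor R).map π)
  haveI : IsIso φ := ZClosLib.isIso_of_stalk φ fun v => by
    obtain ⟨-, h2, h3⟩ := H v.1 v.2
    have hb := bijective_tilde_stalk π v.1 (fun m hm => h2 m hm) fun y => h3 y
    haveI : IsIso ((Φ v.1).map ((tilde.functor R).map π)) :=
      (ConcreteCategory.isIso_iff_bijective _).2 hb
    haveI : IsIso ((Scheme.Modules.restrictFunctor V.ι ⋙ Scheme.Modules.toPresheaf _ ⋙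
        TopCat.Presheaf.stalkFunctor AddCommGrpCat.{u} v).map ((tilde.functor R).map π)) :=
      (NatIso.isIso_map_iff (Scheme.Modules.restrictStalkNatIso V.ι v) _).2 this
    exact (ConcreteCategory.isIso_iff_bijective _).1 this
  let eO : Coh.structureModule (V : Scheme.{u}) ≅ Y :=
    (DCohLib.restrictUnit V.ι).symm ≪≫ (Scheme.Modules.restrictFunctor V.ι).mapIso tildeSelf.symm ≪≫ asIso φ ≪≫
      (iH d).symm ≪≫ (DerivedCategory.homologyFunctor (V : Scheme.{u}).Modules d).mapIso eY ≪≫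
      (DerivedCategory.singleFunctorCompHomologyFunctorIso (V : Scheme.{u}).Modules d).app Y
  exact ⟨eY ≪≫ (DerivedCategory.singleFunctor (V : Scheme.{u}).Modules d).mapIso eO.symm ≪≫
    (((DerivedCategory.singleFunctors (V : Scheme.{u}).Modules).shiftIso (-d) d 0 (by omega)).app _).symm⟩

end Groth.Agent.DualCxLib
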