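import Groth.Agent.DualCxLib.Model

/-!
# K-injective representatives
-/

set_option autoImplicit false
set_option backward.isDefEq.respectTransparency false

universe u

open CategoryTheory Limits CochainComplex.HomComplex
attribute [local instance] HasDerivedCategory.standard

noncomputable section

namespace Groth.Agent.DualCxLib

variable {A : Type u} [CommRing A]

/-- A K-injective complex representing `ω`. -/
structure KRep (ω : Dual.D A) where
  E : DRing.Cx A
  kinj : E.IsKInjective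
  iso : DRing.toD E ≅ ω

variable {ω : Dual.D A} (S : KRep ω)

theorem KRep.isKInjective : S.E.IsKInjective := S.kinj

variable (M : Type u) [AddCommGroup M] [Module A M] {N : Type u} [AddCommGroup N] [Module A N]

/-- Composition with a differential. -/
abbrev KRep.D (p q : ℤ) : (M →ₗ[A] S.E.X p) →ₗ[A] (M →ₗ[A] S.E.X q) :=
  LinearMap.llcomp A M (S.E.X p) (S.E.X q) (S.E.d p q).hom

/-- Cocycles of `Hom(M, E)`. -/
def KRep.Z (i : ℤ) : Submodule A (M →ₗ[A] S.E.X i) := LinearMap.ker (S.D M i (i + 1))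

variable {M}

theorem KRep.mem_Z {i : ℤ} (f : M →ₗ[A] S.E.X i) :
    f ∈ S.Z M i ↔ ∀ x, (S.E.d i (i + 1)).hom (f x) = 0 := by
  simp only [KRep.Z, LinearMap.mem_ker, LinearMap.ext_iff]
  rfl

theorem KRep.comp_d_eq_zero {i : ℤ} (f : S.Z M i) : ModuleCat.ofHom f.1 ≫ S.E.d i (i + 1) = 0 := by
  refine ModuleCat.hom_ext (LinearMap.ext fun x => ?_)
  exact (S.mem_Z f.1).1 f.2 x

theorem KRep.comp_mem_Z {i : ℤ} (g : M →ₗ[A] N) (f : S.Z N i) : f.1 ∘ₗ g ∈ S.Z M i :=
  (S.mem_Z _).2 fun x => (S.mem_Z f.1).1 f.2 (g x)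

/-- The cocycle of the Hom complex attached to `f`. -/
def KRep.cyc {i : ℤ} (f : S.Z M i) :
    Cocycle ((CochainComplex.singleFunctor (ModuleCat.{u} A) 0).obj (ModuleCat.of A M)) S.E i :=
  Cocycle.fromSingleMk (ModuleCat.ofHom f.1) (zero_add i) (i + 1) rfl (S.comp_d_eq_zero f)

theorem KRep.cyc_add {i : ℤ} (f f' : S.Z M i) : S.cyc (f + f') = S.cyc f + S.cyc f' := by
  ext : 1
  exact Cochain.fromSingleMk_add (ModuleCat.ofHom f.1) (ModuleCat.ofHom f'.1) (zero_add i)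

/-- The morphism of the derived category attached to a cocycle. -/
def KRep.morCyc (i : ℤ)
    (z : Cocycle ((CochainComplex.singleFunctor (ModuleCat.{u} A) 0).obj (ModuleCat.of A M)) S.E i) :
    HK ω i M :=
  (DerivedCategory.singleFunctorIsoCompQ (ModuleCat.{u} A) 0).hom.app (ModuleCat.of A M) ≫
    DerivedCategory.Q.map (Cocycle.equivHomShift.symm z) ≫
      (DerivedCategory.Q.commShiftIso i).hom.app S.E ≫ S.iso.hom⟦i⟧'

theorem KRep.morCyc_add (i : ℤ)
    (z z' : Cocycle ((CochainComplex.singleFunctor (ModuleCat.{u} A) 0).obj (ModuleCat.of A M)) S.E i) :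
    S.morCyc i (z + z') = S.morCyc i z + S.morCyc i z' := by
  simp only [KRep.morCyc, map_add, Functor.map_add, Preadditive.add_comp, Preadditive.comp_add]

theorem KRep.morCyc_comp (i : ℤ) (g : M →ₗ[A] N) (f : S.Z N i) :
    S.morCyc i (S.cyc (⟨f.1 ∘ₗ g, S.comp_mem_Z g f⟩ : S.Z M i)) = pre ω i g (S.morCyc i (S.cyc f)) := by
  have h : S.cyc (⟨f.1 ∘ₗ g, S.comp_mem_Z g f⟩ : S.Z M i) =
      (S.cyc f).precomp ((CochainComplex.singleFunctor (ModuleCat.{u} A) 0).map (ModuleCat.ofHom g)) :=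
    Cocycle.fromSingleMk_precomp (ModuleCat.ofHom g) (ModuleCat.ofHom f.1) (zero_add i) (i + 1) rfl
      (S.comp_d_eq_zero f)
  rw [h, KRep.morCyc, Cocycle.equivHomShift_symm_precomp, Functor.map_comp, pre_apply, KRep.morCyc,
    Category.assoc]
  exact ((DerivedCategory.singleFunctorIsoCompQ (ModuleCat.{u} A) 0).hom.naturality_assoc
    (ModuleCat.ofHom g) _).symm

/-- `Hom(M, E)` cocycles to `Hom_D(M, ω[i])`. -/
def KRep.toHK (i : ℤ) : S.Z M i →ₗ[A] HK ω i M where
  toFun f := S.morCyc i (S.cyc f)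
  map_add' f f' := by rw [S.cyc_add, S.morCyc_add]
  map_smul' r f := by
    rw [RingHom.id_apply, ← pre_smul_id ω i r (S.morCyc i (S.cyc f)), ← S.morCyc_comp]
    congr 2
    exact Subtype.ext (LinearMap.ext fun x => (f.1.map_smul r x).symm)

theorem KRep.toHK_comp (i : ℤ) (g : M →ₗ[A] N) (f : S.Z N i) :
    S.toHK i ⟨f.1 ∘ₗ g, S.comp_mem_Z g f⟩ = pre ω i g (S.toHK i f) :=
  S.morCyc_comp i g f

theorem KRep.toHK_surjective (i : ℤ) : Function.Surjective (S.toHK (M := M) i) := by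
  intro u
  haveI := S.isKInjective
  let K := (CochainComplex.singleFunctor (ModuleCat.{u} A) 0).obj (ModuleCat.of A M)
  let u' : DerivedCategory.Q.obj K ⟶ DerivedCategory.Q.obj (S.E⟦i⟧) :=
    (DerivedCategory.singleFunctorIsoCompQ (ModuleCat.{u} A) 0).inv.app (ModuleCat.of A M) ≫ u ≫
      S.iso.inv⟦i⟧' ≫ (DerivedCategory.Q.commShiftIso i).inv.app S.E
  obtain ⟨g, hg⟩ := (CochainComplex.IsKInjective.Qh_map_bijective
    ((HomotopyCategory.quotient (ModuleCat.{u} A) (ComplexShape.up ℤ)).obj K) (S.E⟦i⟧)).2 u'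
  obtain ⟨φ, rfl⟩ := (HomotopyCategory.quotient _ _).map_surjective g
  obtain ⟨f, hf, hfz⟩ := Cocycle.fromSingleMk_surjective (Cocycle.equivHomShift φ) i (zero_add i) (i + 1) rfl
  have hf' : f.hom ∈ S.Z M i := (S.mem_Z _).2 fun x => congr($(hf).hom x)
  refine ⟨⟨f.hom, hf'⟩, ?_⟩
  have hz : S.cyc ⟨f.hom, hf'⟩ = Cocycle.equivHomShift φ := hfz
  have hg' : DerivedCategory.Q.map φ = u' := hg
  show S.morCyc i (S.cyc ⟨f.hom, hf'⟩) = u
  rw [hz, KRep.morCyc, AddEquiv.symm_apply_apply, hg']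
  simp only [u', Category.assoc, Iso.inv_hom_id_app_assoc, Iso.hom_inv_id_app_assoc]
  rw [← Functor.map_comp, Iso.inv_hom_id]
  erw [CategoryTheory.Functor.map_id, Category.comp_id]

theorem KRep.toHK_eq_zero_iff (i : ℤ) (f : S.Z M i) :
    S.toHK i f = 0 ↔ ∃ g : M →ₗ[A] S.E.X (i - 1), ∀ x, (S.E.d (i - 1) i).hom (g x) = f.1 x := by
  haveI := S.isKInjective
  let K := (CochainComplex.singleFunctor (ModuleCat.{u} A) 0).obj (ModuleCat.of A M)
  let φ := Cocycle.equivHomShift.symm (S.cyc f)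
  have h1 : S.toHK i f = 0 ↔ DerivedCategory.Q.map φ = 0 := by
    refine ⟨fun h => ?_, fun h => ?_⟩
    · have h' : (DerivedCategory.singleFunctorIsoCompQ (ModuleCat.{u} A) 0).inv.app (ModuleCat.of A M) ≫
          S.toHK i f ≫ S.iso.inv⟦i⟧' ≫ (DerivedCategory.Q.commShiftIso i).inv.app S.E =
            DerivedCategory.Q.map φ := by
        show (DerivedCategory.singleFunctorIsoCompQ (ModuleCat.{u} A) 0).inv.app (ModuleCat.of A M) ≫
          S.morCyc i (S.cyc f) ≫ _ ≫ _ = _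
        rw [KRep.morCyc]
        simp only [Category.assoc, Iso.inv_hom_id_app_assoc]
        rw [← Functor.map_comp_assoc, Iso.hom_inv_id]
        erw [CategoryTheory.Functor.map_id, Category.id_comp, Iso.hom_inv_id_app]
        exact Category.comp_id _
      rw [← h', h, Limits.zero_comp, Limits.comp_zero]
    · show S.morCyc i (S.cyc f) = 0
      rw [KRep.morCyc, h, Limits.zero_comp, Limits.comp_zero]
  have h2 : DerivedCategory.Q.map φ = 0 ↔ (HomotopyCategory.quotient _ _).map φ = 0 := by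
    refine ⟨fun h => ?_, fun h => ?_⟩
    · exact (CochainComplex.IsKInjective.Qh_map_bijective
        ((HomotopyCategory.quotient (ModuleCat.{u} A) (ComplexShape.up ℤ)).obj K) (S.E⟦i⟧)).1
        (h.trans (Functor.map_zero _ _ _).symm)
    · show DerivedCategory.Qh.map ((HomotopyCategory.quotient _ _).map φ) = 0
      rw [h, Functor.map_zero]
  rw [h1, h2, ← CohomologyClass.toHom_mk, CohomologyClass.toHom_mk_eq_zero_iff, KRep.cyc,
    Cocycle.fromSingleMk_mem_coboundaries_iff _ _ _ _ _ (i - 1) (by omega)]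
  exact ⟨fun ⟨g, hg⟩ => ⟨g.hom, fun x => congr($(hg).hom x)⟩,
    fun ⟨g, hg⟩ => ⟨ModuleCat.ofHom g, ModuleCat.hom_ext (LinearMap.ext hg)⟩⟩

variable (M)

/-- Coboundaries of `Hom(M, E)`. -/
def KRep.B (i : ℤ) : Submodule A (S.Z M i) :=
  (LinearMap.range (S.D M (i - 1) i)).comap (S.Z M i).subtype

theorem KRep.ker_toHK (i : ℤ) : LinearMap.ker (S.toHK (M := M) i) = S.B M i := by
  ext f
  rw [LinearMap.mem_ker, S.toHK_eq_zero_iff, KRep.B, Submodule.mem_comap]
  exact ⟨fun ⟨g, hg⟩ => ⟨g, LinearMap.ext hg⟩, fun ⟨g, hg⟩ => ⟨g, fun x => LinearMap.congr_fun hg x⟩⟩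

/-- The `i`-th cohomology of `Hom(M, E)`. -/
abbrev KRep.T (i : ℤ) : Type u := (S.Z M i) ⧸ (S.B M i)

/-- `H^i Hom(M, E) ≅ Hom_D(M, ω[i])`. -/
def KRep.equivHK (i : ℤ) : S.T M i ≃ₗ[A] HK ω i M :=
  (Submodule.quotEquivOfEq _ _ (S.ker_toHK M i).symm).trans
    ((S.toHK i).quotKerEquivOfSurjective (S.toHK_surjective i))

theorem KRep.equivHK_mk (i : ℤ) (f : S.Z M i) :
    S.equivHK M i (Submodule.Quotient.mk f) = S.toHK i f := rfl

end Groth.Agent.DualCxLib
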