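import Mathlib.Algebra.Module.LocalizedModule.Basic
import Mathlib.RingTheory.Ideal.Maximal
import Mathlib.RingTheory.Localization.Module
import Mathlib.RingTheory.Ideal.Quotient.Operations
import Mathlib.Tactic.LinearCombination
import Mathlib.Tactic.Ring

/-!
# Maps that become bijective after localization
-/

set_option autoImplicit false

universe u v w v' w' x

namespace Groth.Agent.DualCxLib

variable {A : Type u} [CommRing A] (M : Submonoid A) {U : Type v} {V : Type w} [AddCommGroup U] [Module A U]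
  [AddCommGroup V] [Module A V]

/-- The localization conditions for a linear map. -/
structure IsLoc (g : U →ₗ[A] V) : Prop where
  surj : ∀ v, ∃ s ∈ M, ∃ u, g u = s • v
  inj : ∀ u, g u = 0 → ∃ s ∈ M, s • u = 0

theorem isLoc_of_subsingleton (g : U →ₗ[A] V) [Subsingleton U] [Subsingleton V] : IsLoc M g :=
  ⟨fun _ => ⟨1, M.one_mem, 0, Subsingleton.elim _ _⟩, fun _ _ => ⟨1, M.one_mem, Subsingleton.elim _ _⟩⟩

theorem IsLoc.subsingleton {g : U →ₗ[A] V} (h : IsLoc M g)
    (hM : ∀ s ∈ M, ∀ v : V, s • v = 0 → v = 0) [Subsingleton U] : Subsingleton V :=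
  subsingleton_of_forall_eq 0 fun v => by
    obtain ⟨s, hs, u, hu⟩ := h.surj v
    rw [Subsingleton.elim u 0, map_zero] at hu
    exact hM s hs v hu.symm

theorem IsLoc.of_comm {U' : Type v'} {V' : Type w'} [AddCommGroup U'] [Module A U'] [AddCommGroup V'] [Module A V']
    {g : U →ₗ[A] V} (h : IsLoc M g) (a : U ≃ₗ[A] U') (b : V ≃ₗ[A] V') (g' : U' →ₗ[A] V')
    (hc : ∀ u, g' (a u) = b (g u)) : IsLoc M g' := by
  refine ⟨fun v => ?_, fun u hu => ?_⟩
  · obtain ⟨v, rfl⟩ := b.surjective v
    obtain ⟨s, hs, u, hu⟩ := h.surj v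
    exact ⟨s, hs, a u, by rw [hc, hu, map_smul]⟩
  · obtain ⟨u, rfl⟩ := a.surjective u
    rw [hc, LinearEquiv.map_eq_zero_iff] at hu
    obtain ⟨s, hs, h0⟩ := h.inj u hu
    exact ⟨s, hs, by rw [← map_smul, h0, map_zero]⟩

/-- A bilinear unital product on a module whose localization is free of rank one. -/
theorem isLoc_toSpanSingleton_one {B : Type x} [CommRing B] [Algebra A B] [IsLocalization M B]
    {g : U →ₗ[A] V} (hg : IsLoc M g) (e : V ≃ₗ[A] B) (mul : U →ₗ[A] U →ₗ[A] U) (one : U)
    (h1 : ∀ x, mul x one = x) (h1' : ∀ x, mul one x = x) :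
    IsLoc M (g ∘ₗ LinearMap.toSpanSingleton A U one) := by
  let g' : U →ₗ[A] B := e.toLinearMap ∘ₗ g
  have hu : ∀ s ∈ M, IsUnit (algebraMap A B s) := fun s hs => IsLocalization.map_units B ⟨s, hs⟩
  obtain ⟨s, hs, x, hx⟩ : ∃ s ∈ M, ∃ x, g' x = algebraMap A B s := by
    obtain ⟨s, hs, x, hx⟩ := hg.surj (e.symm 1)
    refine ⟨s, hs, x, ?_⟩
    show e (g x) = _
    rw [hx, map_smul, LinearEquiv.apply_symm_apply, Algebra.algebraMap_eq_smul_one]
  have hker : ∀ u, g' u = 0 → ∃ t ∈ M, t • u = 0 := fun u h => hg.inj u (e.injective (h.trans (map_zero e).symm))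
  -- the class of the unit
  obtain ⟨⟨c, t⟩, hc⟩ := IsLocalization.surj M (g' one)
  -- the class of the square of the generator
  obtain ⟨⟨d, r⟩, hd⟩ := IsLocalization.surj M (g' (mul x x))
  have key : g' one * (g' (mul x x)) = algebraMap A B s * algebraMap A B s := by
    have h2 : g' (((t : A) * s) • one - c • x) = 0 := by
      have hc' : g' one * algebraMap A B (t : A) = algebraMap A B c := hc
      rw [map_sub, map_smul, map_smul, hx, Algebra.smul_def, Algebra.smul_def, map_mul, ← hc']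
      ring
    obtain ⟨q, hq, hq0⟩ := hker _ h2
    rw [smul_sub, sub_eq_zero, smul_smul, smul_smul] at hq0
    have h3 := congrArg (fun y => g' (mul y x)) hq0
    simp only [map_smul, LinearMap.smul_apply, h1'] at h3
    rw [hx] at h3
    simp only [Algebra.smul_def, map_mul] at h3
    have hc' : g' one * algebraMap A B (t : A) = algebraMap A B c := hc
    rw [← hc'] at h3
    refine ((hu q hq).mul (hu t t.2)).mul_left_cancel ?_
    linear_combination -h3
  have hone : IsUnit (g' one) := isUnit_of_mul_isUnit_left (key ▸ (hu s hs).mul (hu s hs))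
  refine ⟨fun v => ?_, fun a ha => ?_⟩
  · obtain ⟨⟨a, w⟩, haw⟩ := IsLocalization.surj M (e v * ↑hone.unit⁻¹)
    refine ⟨w, w.2, a, e.injective ?_⟩
    show g' (a • one) = e ((w : A) • v)
    rw [map_smul, map_smul, Algebra.smul_def, Algebra.smul_def, ← haw]
    calc e v * ↑hone.unit⁻¹ * algebraMap A B ↑w * g' one
        = algebraMap A B ↑w * e v * (↑hone.unit⁻¹ * g' one) := by ring
      _ = algebraMap A B ↑w * e v := by rw [IsUnit.val_inv_mul, mul_one]
  · have h4 : algebraMap A B a * g' one = 0 := by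
      rw [← Algebra.smul_def, ← map_smul]
      show e (g (a • one)) = 0
      rw [show g (a • one) = 0 from ha, map_zero]
    obtain ⟨⟨q, hq⟩, hq'⟩ := (IsLocalization.map_eq_zero_iff M B a).1 (hone.mul_left_eq_zero.1 h4)
    exact ⟨q, hq, hq'⟩


/-- Local-to-global for vanishing. -/
theorem eq_zero_of_forall_maximal (u : U)
    (h : ∀ m : Ideal A, [m.IsMaximal] → ∃ s ∉ m, s • u = 0) : u = 0 := by
  have htop : LinearMap.ker (LinearMap.toSpanSingleton A U u) = ⊤ := by
    by_contra hc
    obtain ⟨m, hm, hle⟩ := Ideal.exists_le_maximal _ hc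
    haveI := hm
    obtain ⟨s, hs, hsu⟩ := h m
    exact hs (hle (by rw [LinearMap.mem_ker, LinearMap.toSpanSingleton_apply, hsu]))
  have h1 : (1 : A) ∈ LinearMap.ker (LinearMap.toSpanSingleton A U u) := htop ▸ Submodule.mem_top
  rwa [LinearMap.mem_ker, LinearMap.toSpanSingleton_apply, one_smul] at h1

end Groth.Agent.DualCxLib
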