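import Groth.Agent.DualCxLib.LocAlg
import Groth.Agent.DualCxLib.InjRep
import Groth.Agent.DRingLib.FlatBC
import Groth.Agent.InjHullLib.Noetherian
import Mathlib.RingTheory.Localization.BaseChange
import Mathlib.Algebra.Module.FinitePresentation

/-!
# Localization of injective complexes
-/

set_option autoImplicit false
set_option backward.isDefEq.respectTransparency false
set_option linter.style.haveILetI false
set_option maxRecDepth 4000

universe u

open CategoryTheory Limits
attribute [local instance] HasDerivedCategory.standard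

noncomputable section

namespace Groth.Agent.DualCxLib

variable {A : Type u} [CommRing A] (M : Submonoid A) (B : Type u) [CommRing B] [Algebra A B]
  [IsLocalization M B]

/-- The localization of a complex, as a complex of `A`-modules. -/
abbrev locCx (E : DRing.Cx A) : DRing.Cx A :=
  (DTen.resCx (algebraMap A B)).obj ((DTen.extCx (algebraMap A B)).obj E)

/-- The localization map of a complex. -/
abbrev locUnit (E : DRing.Cx A) : E ⟶ locCx B E := (DTen.unitCx (algebraMap A B)).app E

/-- Extension followed by restriction of scalars is the tensor product. -/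
def extResTensor (N : ModuleCat.{u} A) :
    TensorProduct A B N ≃ₗ[A] ((ModuleCat.restrictScalars.{u} (algebraMap A B)).obj
      ((ModuleCat.extendScalars.{u, u, u} (algebraMap A B)).obj N)) :=
  (TensorProduct.congr (DRingLib.baseModEquiv A B).symm (LinearEquiv.refl A N)).trans
    (((DTenLib.extResIso (algebraMap A B)).app N).symm.toLinearEquiv)

theorem isLocalizedModule_unit (N : ModuleCat.{u} A) :
    IsLocalizedModule M ((ModuleCat.extendRestrictScalarsAdj.{u, u, u} (algebraMap A B)).unit.app N).hom := by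
  have h : ((ModuleCat.extendRestrictScalarsAdj.{u, u, u} (algebraMap A B)).unit.app N).hom =
      (extResTensor B N).toLinearMap ∘ₗ (TensorProduct.mk A B N 1) := rfl
  rw [h]
  exact IsLocalizedModule.of_linearEquiv M (TensorProduct.mk A B N 1) (extResTensor B N)

theorem isLocalizedModule_locUnit (E : DRing.Cx A) (i : ℤ) : IsLocalizedModule M ((locUnit B E).f i).hom :=
  isLocalizedModule_unit M B (E.X i)

theorem isZero_locCx_X {E : DRing.Cx A} {i : ℤ} (h : IsZero (E.X i)) : IsZero ((locCx B E).X i) :=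
  (ModuleCat.restrictScalars.{u} (algebraMap A B)).map_isZero
    ((ModuleCat.extendScalars.{u, u, u} (algebraMap A B)).map_isZero h)

variable [IsNoetherianRing A]

include M in
theorem injective_locCx_X {E : DRing.Cx A} {i : ℤ} (h : Module.Injective A (E.X i)) :
    Module.Injective A ((locCx B E).X i) := by
  haveI := h
  haveI := isLocalizedModule_locUnit M B E i
  haveI := InjHullLib.injective_localizedModule M (E.X i)
  exact (Module.Baer.of_equiv (IsLocalizedModule.iso M ((locUnit B E).f i).hom)
    (Module.Baer.of_injective ‹_›)).injective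

include M in
theorem injective_extCx_X {E : DRing.Cx A} {i : ℤ} (h : Module.Injective A (E.X i)) :
    Module.Injective B (((DTen.extCx (algebraMap A B)).obj E).X i) := by
  have hA := injective_locCx_X M B (E := E) (i := i) h
  let Q := ((DTen.extCx (algebraMap A B)).obj E).X i
  letI : Module A Q := Module.compHom _ (algebraMap A B)
  haveI : IsScalarTower A B Q := ⟨fun a b q => by
    rw [Algebra.smul_def, mul_smul]
    rfl⟩
  haveI : Module.Injective A Q := hA
  refine ⟨fun X Y _ _ _ _ f hf g => ?_⟩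
  letI : Module A X := Module.compHom X (algebraMap A B)
  letI : Module A Y := Module.compHom Y (algebraMap A B)
  haveI : IsScalarTower A B X := ⟨fun a b q => by rw [Algebra.smul_def, mul_smul]; rfl⟩
  haveI : IsScalarTower A B Y := ⟨fun a b q => by rw [Algebra.smul_def, mul_smul]; rfl⟩
  obtain ⟨h', hh'⟩ := Module.Injective.out (R := A) (f.restrictScalars A) hf (g.restrictScalars A)
  exact ⟨h'.extendScalarsOfIsLocalization M B, hh'⟩

variable {ω : Dual.D A}

/-- The localized representative. -/
def InjRep.loc (S : InjRep ω) : InjRep (DRing.toD (locCx B S.E)) :=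
  ⟨locCx B S.E, S.a, fun i hi => isZero_locCx_X B (S.vanishes i hi),
    fun i => injective_locCx_X M B (S.inj i), Iso.refl _⟩

/-- The localization morphism in the derived category. -/
def InjRep.η (S : InjRep ω) : ω ⟶ DRing.toD (locCx B S.E) :=
  S.iso.inv ≫ DerivedCategory.Q.map (locUnit B S.E)

variable (S : InjRep ω) {N : Type u} [AddCommGroup N] [Module A N]

include M in
theorem InjRep.comp_locUnit_mem {i : ℤ} (f : S.Z N i) :
    ((locUnit B S.E).f i).hom ∘ₗ f.1 ∈ (S.loc M B).Z N i :=
  ((S.loc M B).mem_Z _).2 fun x => by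
    have h := LinearMap.congr_fun (congrArg ModuleCat.Hom.hom ((locUnit B S.E).comm i (i + 1))) (f.1 x)
    refine h.trans ?_
    show ((locUnit B S.E).f (i + 1)).hom ((S.E.d i (i + 1)).hom (f.1 x)) = 0
    rw [(S.mem_Z f.1).1 f.2 x, map_zero]

include M in
theorem InjRep.toHK_loc (i : ℤ) (f : S.Z N i) :
    (S.loc M B).toHK i ⟨_, S.comp_locUnit_mem M B f⟩ = S.toHK i f ≫ (S.η B)⟦i⟧' := by
  have h : (S.loc M B).cyc (⟨_, S.comp_locUnit_mem M B f⟩ : (S.loc M B).Z N i) =
      (S.cyc f).postcomp (locUnit B S.E) :=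
    CochainComplex.HomComplex.Cocycle.fromSingleMk_postcomp (ModuleCat.ofHom f.1) (zero_add i) (i + 1) rfl
      (S.comp_d_eq_zero f) (locUnit B S.E)
  show (S.loc M B).morCyc i ((S.loc M B).cyc _) = S.morCyc i (S.cyc f) ≫ _
  rw [h, InjRep.morCyc, InjRep.morCyc, CochainComplex.HomComplex.Cocycle.equivHomShift_symm_postcomp,
    Functor.map_comp]
  simp only [Category.assoc, InjRep.η, Functor.map_comp]
  refine congrArg (_ ≫ ·) (congrArg (_ ≫ ·) ?_)
  have hnat := (DerivedCategory.Q.commShiftIso i).hom.naturality (locUnit B S.E)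
  have hid : S.iso.hom⟦i⟧' ≫ S.iso.inv⟦i⟧' = 𝟙 _ := ((shiftFunctor (Dual.D A) i).mapIso S.iso).hom_inv_id
  refine Eq.trans ?_ ((congrArg (_ ≫ ·) ((Category.id_comp _).symm.trans
    ((congrArg (· ≫ _) hid.symm).trans (Category.assoc _ _ _)))))
  refine (Category.assoc _ _ _).symm.trans ((congrArg (· ≫ _) hnat).trans ((Category.assoc _ _ _).trans ?_))
  exact congrArg (_ ≫ ·) ((congrArg (_ ≫ ·) ((shiftFunctor (Dual.D A) i).map_id _)).trans (Category.comp_id _))

include M in
/-- Morphisms out of a finite module commute with localization. -/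
theorem InjRep.isLoc_HK (i : ℤ) (N : Type u) [AddCommGroup N] [Module A N] [Module.Finite A N] :
    IsLoc M (Linear.rightComp A (Dual.inD A N) ((S.η B)⟦i⟧') :
      HK ω i N →ₗ[A] HK (DRing.toD (locCx B S.E)) i N) := by
  haveI := Module.finitePresentation_of_finite A N
  have hmap : ∀ j (f : N →ₗ[A] (locCx B S.E).X j), ∃ s ∈ M, ∃ g : N →ₗ[A] S.E.X j,
      ((locUnit B S.E).f j).hom ∘ₗ g = s • f := fun j f => by
    haveI := isLocalizedModule_locUnit M B S.E j
    obtain ⟨g, s, hs⟩ := Module.FinitePresentation.exists_lift_of_isLocalizedModule M ((locUnit B S.E).f j).hom f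
    exact ⟨s, s.2, g, hs⟩
  have hzero : ∀ j (g : N →ₗ[A] S.E.X j), ((locUnit B S.E).f j).hom ∘ₗ g = 0 → ∃ s ∈ M, s • g = 0 :=
    fun j g hg => by
      haveI := isLocalizedModule_locUnit M B S.E j
      obtain ⟨s, hs⟩ := Module.Finite.exists_smul_of_comp_eq_of_isLocalizedModule M
        ((locUnit B S.E).f j).hom g 0 (by rw [hg, LinearMap.comp_zero])
      exact ⟨s, s.2, by rw [smul_zero] at hs; exact hs⟩
  have hcomm : ∀ j k (x : S.E.X j), ((locCx B S.E).d j k).hom (((locUnit B S.E).f j).hom x) =
      ((locUnit B S.E).f k).hom ((S.E.d j k).hom x) := fun j k x =>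
    LinearMap.congr_fun (congrArg ModuleCat.Hom.hom ((locUnit B S.E).comm j k)) x
  refine ⟨fun v => ?_, fun u hu => ?_⟩
  · obtain ⟨f, rfl⟩ := (S.loc M B).toHK_surjective (M := N) i v
    obtain ⟨s, hs, g, hg⟩ := hmap i f.1
    obtain ⟨t, ht, ht0⟩ := hzero (i + 1) ((S.E.d i (i + 1)).hom ∘ₗ g) (LinearMap.ext fun x => by
      show ((locUnit B S.E).f (i + 1)).hom ((S.E.d i (i + 1)).hom (g x)) = 0
      rw [← hcomm, show ((locUnit B S.E).f i).hom (g x) = s • f.1 x from LinearMap.congr_fun hg x, map_smul]
      refine (congrArg (s • ·) ?_).trans (smul_zero _)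
      exact ((S.loc M B).mem_Z f.1).1 f.2 x)
    have hg' : t • g ∈ S.Z N i := (S.mem_Z _).2 fun x => by
      rw [LinearMap.smul_apply, map_smul]
      exact LinearMap.congr_fun ht0 x
    refine ⟨t * s, M.mul_mem ht hs, S.toHK i ⟨t • g, hg'⟩, ?_⟩
    show S.toHK i ⟨t • g, hg'⟩ ≫ _ = _
    rw [← S.toHK_loc M B, ← map_smul]
    refine congrArg _ (Subtype.ext ?_)
    show ((locUnit B S.E).f i).hom ∘ₗ (t • g) = (t * s) • f.1
    rw [LinearMap.comp_smul, hg, smul_smul]
  · obtain ⟨f, rfl⟩ := S.toHK_surjective (M := N) i u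
    have hu' : (S.loc M B).toHK i ⟨_, S.comp_locUnit_mem M B f⟩ = 0 := (S.toHK_loc M B i f).trans hu
    obtain ⟨w, hw⟩ := ((S.loc M B).toHK_eq_zero_iff i _).1 hu'
    obtain ⟨s, hs, g, hg⟩ := hmap (i - 1) w
    obtain ⟨t, ht, ht0⟩ := hzero i (s • f.1 - (S.E.d (i - 1) i).hom ∘ₗ g) (LinearMap.ext fun x => by
      show ((locUnit B S.E).f i).hom (s • f.1 x - (S.E.d (i - 1) i).hom (g x)) = 0
      rw [map_sub, map_smul, ← hcomm,
        show ((locUnit B S.E).f (i - 1)).hom (g x) = s • w x from LinearMap.congr_fun hg x, map_smul]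
      erw [hw x]
      exact sub_self _)
    refine ⟨t * s, M.mul_mem ht hs, ?_⟩
    rw [← map_smul]
    refine (S.toHK_eq_zero_iff i _).2 ⟨t • g, fun x => ?_⟩
    have h := LinearMap.congr_fun ht0 x
    rw [smul_sub, LinearMap.sub_apply, LinearMap.zero_apply, sub_eq_zero] at h
    rw [LinearMap.smul_apply, map_smul]
    exact h.symm.trans (smul_smul t s (f.1 x))

end Groth.Agent.DualCxLib
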