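import Groth.Agent.DualCxLib.Local
import Groth.Agent.CAlgBasics.Depth
import Mathlib.RingTheory.Regular.Flat

/-!
# The lowest cohomology of a dualizing complex satisfies `(S₂)`
-/

set_option autoImplicit false
set_option backward.isDefEq.respectTransparency false
set_option maxRecDepth 4000

universe u

open CategoryTheory RingTheory.Sequence
open scoped Pointwise
attribute [local instance] HasDerivedCategory.standard

noncomputable section

namespace Groth.Agent.DualCxLib

variable {A : Type u} [CommRing A] [IsNoetherianRing A] {ω : Dual.D A} (hω : Dual.IsDualizing A ω)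
include hω

theorem subsingleton_HK_of_lt (N : Type u) [AddCommGroup N] [Module A N] [Module.Finite A N] {i : ℤ}
    (h : ∀ Q ∈ Module.support A N, i < dfn hω Q) : Subsingleton (HK ω i N) := by
  rw [← Module.support_eq_empty_iff (R := A), Set.eq_empty_iff_forall_notMem]
  intro p hp
  have := le_of_not_zeroAt hω p (lo := i + 1) (fun Q hQ _ => h Q hQ) ((not_zeroAt_iff_mem_support p).2 hp)
  omega

variable (M : Type u) [AddCommGroup M] [Module A M] [Module.Finite A M] {j : ℤ}
  (hlo : ∀ Q ∈ Module.support A M, j ≤ dfn hω Q)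

include hlo in
theorem exists_avoid (p : PrimeSpectrum A) (hp : j < dfn hω p) :
    ∃ x ∈ p.asIdeal, ∀ Q ∈ Module.support A M, x ∈ Q.asIdeal → j < dfn hω Q := by
  classical
  let S := (Ideal.finite_minimalPrimes_of_isNoetherianRing A (Module.annihilator A M)).toFinset
  let S' := S.filter fun q => ∃ h : q.IsPrime, dfn hω ⟨q, h⟩ = j
  have hmem : ∀ Q ∈ Module.support A M, dfn hω Q = j → Q.asIdeal ∈ S' := fun Q hQ hQj => by
    refine Finset.mem_filter.2 ⟨(Set.Finite.mem_toFinset _).2 ⟨⟨Q.2, Module.mem_support_iff_of_finite.1 hQ⟩,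
      fun q hq hqQ => ?_⟩, Q.2, hQj⟩
    by_contra hne
    have h1 := hlo ⟨q, hq.1⟩ (Module.mem_support_iff_of_finite.2 hq.2)
    have h2 := dfn_lt hω (show (⟨q, hq.1⟩ : PrimeSpectrum A) < Q from lt_of_le_not_ge hqQ hne)
    omega
  have hnot : ¬ (p.asIdeal : Set A) ⊆ ⋃ q ∈ (↑S' : Set (Ideal A)), (q : Set A) := fun h => by
    obtain ⟨q, hq, hle⟩ := (Ideal.subset_union_prime (f := id) ⊥ ⊥ (fun q hq _ _ => (Finset.mem_filter.1 hq).2.1)).1 h
    obtain ⟨hqp, hqj⟩ := (Finset.mem_filter.1 hq).2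
    have := dfn_le hω (show p ≤ ⟨q, hqp⟩ from hle)
    omega
  obtain ⟨x, hx, hxS⟩ := Set.not_subset.1 hnot
  refine ⟨x, hx, fun Q hQ hxQ => lt_of_le_of_ne (hlo Q hQ) fun he => hxS ?_⟩
  exact Set.mem_iUnion₂.2 ⟨Q.asIdeal, hmem Q hQ he.symm, hxQ⟩

variable {x : A} (hx : ∀ Q ∈ Module.support A M, x ∈ Q.asIdeal → j < dfn hω Q)

include hlo hx in
theorem exists_top_regular : IsSMulRegular (HK ω j M) x ∧
    ∃ ρ : HK ω j M →ₗ[A] HK ω (j + 1) (M ⧸ LinearMap.range (x • (LinearMap.id : M →ₗ[A] M))),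
      ∀ u, ρ u = 0 ↔ ∃ v, x • v = u := by
  let xM : M →ₗ[A] M := x • LinearMap.id
  let R := LinearMap.range xM
  let a : M →ₗ[A] R := xM.rangeRestrict
  let K := LinearMap.ker a
  have hKsupp : ∀ Q ∈ Module.support A K, j < dfn hω Q := fun Q hQ => by
    refine hx Q (Module.support_subset_of_injective K.subtype K.injective_subtype hQ) ?_
    exact Module.annihilator_le_of_mem_support hQ (Module.mem_annihilator.2 fun y => by
      have h : (a y.1).1 = 0 := by rw [LinearMap.mem_ker.1 y.2]; rfl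
      exact Subtype.ext h)
  have hCsupp : ∀ Q ∈ Module.support A (M ⧸ R), j < dfn hω Q := fun Q hQ => by
    refine hx Q (Module.support_subset_of_surjective R.mkQ R.mkQ_surjective hQ) ?_
    exact Module.annihilator_le_of_mem_support hQ (Module.mem_annihilator.2 fun y => by
      obtain ⟨y, rfl⟩ := Submodule.Quotient.mk_surjective _ y
      rw [← Submodule.Quotient.mk_smul, Submodule.Quotient.mk_eq_zero]
      exact ⟨y, rfl⟩)
  haveI := subsingleton_HK_of_lt hω K hKsupp
  haveI := subsingleton_HK_of_lt hω K (i := j - 1) fun Q hQ => by have := hKsupp Q hQ; omega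
  haveI := subsingleton_HK_of_lt hω (M ⧸ R) hCsupp
  have ha : Function.Bijective (pre ω j a) := by
    refine ⟨(injective_iff_map_eq_zero _).2 fun u hu => ?_, fun w => ?_⟩
    · obtain ⟨k, rfl⟩ : ∃ k, j = k + 1 := ⟨j - 1, by omega⟩
      obtain ⟨v, rfl⟩ := exists_δ_eq ω K.injective_subtype (LinearMap.exact_subtype_ker_map a)
        xM.surjective_rangeRestrict k u hu
      haveI : Subsingleton (HK ω k K) := by rwa [show k + 1 - 1 = k by omega] at *
      rw [Subsingleton.elim v 0, map_zero]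
    · exact (exact_mid ω K.injective_subtype (LinearMap.exact_subtype_ker_map a)
        xM.surjective_rangeRestrict j w).1 (Subsingleton.elim _ _)
  have hcomp : ∀ u, pre ω j a (pre ω j R.subtype u) = x • u := fun u => by
    rw [pre_pre, show R.subtype ∘ₗ a = xM from xM.subtype_comp_codRestrict _ _]
    exact pre_smul_id ω j x u
  have hι : Function.Injective (pre ω j R.subtype) := by
    refine (injective_iff_map_eq_zero _).2 fun u hu => ?_
    obtain ⟨v, rfl⟩ := (exact_mid ω R.injective_subtype (LinearMap.exact_subtype_mkQ R) R.mkQ_surjective j u).1 hu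
    rw [Subsingleton.elim v 0, map_zero]
  refine ⟨fun u v huv => hι (ha.1 ((hcomp u).trans (huv.trans (hcomp v).symm))),
    δ ω R.injective_subtype (LinearMap.exact_subtype_mkQ R) R.mkQ_surjective j ∘ₗ
      (LinearEquiv.ofBijective _ ha).symm.toLinearMap, fun u => ⟨fun hu => ?_, ?_⟩⟩
  · obtain ⟨v, hv⟩ := exists_pre_eq ω R.injective_subtype (LinearMap.exact_subtype_mkQ R) R.mkQ_surjective j _ hu
    refine ⟨v, ?_⟩
    rw [← hcomp v, hv]
    exact (LinearEquiv.ofBijective _ ha).apply_symm_apply u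
  · rintro ⟨v, rfl⟩
    show δ ω R.injective_subtype (LinearMap.exact_subtype_mkQ R) R.mkQ_surjective j ((LinearEquiv.ofBijective _ ha).symm (x • v)) = 0
    rw [← hcomp v, show pre ω j a (pre ω j R.subtype v) = LinearEquiv.ofBijective _ ha (pre ω j R.subtype v) from rfl,
      LinearEquiv.symm_apply_apply]
    exact δ_pre ω _ _ _ j v

omit hx

include hlo in
theorem exists_weaklyRegular_pair (p : PrimeSpectrum A) (hp : j + 1 < dfn hω p) :
    ∃ x ∈ p.asIdeal, ∃ y ∈ p.asIdeal, IsWeaklyRegular (HK ω j M) [x, y] := by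
  obtain ⟨x, hxp, hx⟩ := exists_avoid hω M hlo p (by omega)
  obtain ⟨hreg, ρ, hρ⟩ := exists_top_regular hω M hlo hx
  let C := M ⧸ LinearMap.range (x • (LinearMap.id : M →ₗ[A] M))
  have hC : ∀ Q ∈ Module.support A C, j + 1 ≤ dfn hω Q := fun Q hQ => by
    have h1 := hx Q (Module.support_subset_of_surjective (LinearMap.range (x • (LinearMap.id : M →ₗ[A] M))).mkQ (Submodule.mkQ_surjective _) hQ)
      (Module.annihilator_le_of_mem_support hQ (Module.mem_annihilator.2 fun y => by
        obtain ⟨y, rfl⟩ := Submodule.Quotient.mk_surjective _ y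
        rw [← Submodule.Quotient.mk_smul, Submodule.Quotient.mk_eq_zero]
        exact ⟨y, rfl⟩))
    omega
  obtain ⟨y, hyp, hy⟩ := exists_avoid hω C hC p hp
  obtain ⟨hyreg, -⟩ := exists_top_regular hω C hC hy
  refine ⟨x, hxp, y, hyp, (isWeaklyRegular_cons_iff _ x [y]).2 ⟨hreg,
    (isWeaklyRegular_cons_iff _ y []).2 ⟨?_, IsWeaklyRegular.nil _ _⟩⟩⟩
  refine isSMulRegular_iff_right_eq_zero_of_smul.2 fun z hz => ?_
  obtain ⟨z, rfl⟩ := Submodule.Quotient.mk_surjective _ z
  rw [← Submodule.Quotient.mk_smul, Submodule.Quotient.mk_eq_zero, Submodule.mem_smul_pointwise_iff_exists] at hz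
  obtain ⟨v, -, hv⟩ := hz
  have h0 : ρ z = 0 := hyreg (show y • ρ z = y • 0 by rw [← map_smul, smul_zero, (hρ _).2 ⟨v, hv⟩])
  obtain ⟨w, hw⟩ := (hρ z).1 h0
  rw [Submodule.Quotient.mk_eq_zero, Submodule.mem_smul_pointwise_iff_exists]
  exact ⟨w, Submodule.mem_top, hw⟩

omit hlo

/-- `(S₂)` for the lowest cohomology. -/
theorem hasSk_two (hlo : ∀ Q : PrimeSpectrum A, j ≤ dfn hω Q) (N : Type u) [AddCommGroup N] [Module A N]
    (e : HK ω j A ≃ₗ[A] N) : LocCoh.HasSk 2 A N := by
  intro p _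
  let P : PrimeSpectrum A := ⟨p, ‹_›⟩
  haveI : Module.Finite A N := by
    haveI := finite_HK' hω j A
    exact Module.Finite.equiv e
  haveI : Module.Finite (Localization.AtPrime p) (LocalizedModule p.primeCompl N) :=
    Module.Finite.of_isLocalizedModule p.primeCompl (LocalizedModule.mkLinearMap p.primeCompl N)
  rcases subsingleton_or_nontrivial (LocalizedModule p.primeCompl N) with h | h
  · rw [CAlgBasics.depth_eq_top]
    exact le_top
  have hdim := supportDim_localized_le hω (M := N) P (dfn hω P - j).toNat fun Q _ _ => by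
    have := hlo Q
    omega
  have key : ∀ n : ℕ, (∃ rs : List A, rs.length = n ∧ IsWeaklyRegular (HK ω j A) rs ∧ ∀ r ∈ rs, r ∈ p) →
      (n : WithBot ℕ∞) ≤ ((LocCoh.depth (Localization.AtPrime p) (LocalizedModule p.primeCompl N) : ℕ∞) : WithBot ℕ∞) := by
    rintro n ⟨rs, rfl, hrs, hmem⟩
    refine WithBot.coe_le_coe.2 ((CAlgBasics.natCast_le_depth_iff _).2
      ⟨rs.map (algebraMap A _), List.length_map _, ?_, fun r hr => ?_⟩)
    · exact ((e.isWeaklyRegular_congr rs).1 hrs).of_isLocalizedModule _ p.primeCompl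
        (LocalizedModule.mkLinearMap p.primeCompl N)
    · obtain ⟨r', hr', rfl⟩ := List.mem_map.1 hr
      exact (IsLocalization.AtPrime.to_map_mem_maximal_iff _ p r').2 (hmem r' hr')
  rcases le_or_gt (dfn hω P) j with h0 | h0
  · refine (min_le_right _ _).trans (hdim.trans ?_)
    rw [Int.toNat_eq_zero.2 (by omega)]
    exact key 0 ⟨[], rfl, IsWeaklyRegular.nil _ _, by simp⟩
  rcases le_or_gt (dfn hω P) (j + 1) with h1 | h1
  · refine (min_le_right _ _).trans (hdim.trans ?_)
    rw [show (dfn hω P - j).toNat = 1 by omega]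
    obtain ⟨x, hxp, hx⟩ := exists_avoid hω A (fun Q _ => hlo Q) P h0
    exact key 1 ⟨[x], rfl, (isWeaklyRegular_cons_iff _ x []).2
      ⟨(exists_top_regular hω A (fun Q _ => hlo Q) hx).1, IsWeaklyRegular.nil _ _⟩, by simpa using hxp⟩
  · obtain ⟨x, hxp, y, hyp, hxy⟩ := exists_weaklyRegular_pair hω A (fun Q _ => hlo Q) P h1
    exact (min_le_left _ _).trans (key 2 ⟨[x, y], rfl, hxy, by simp [P] at hxp hyp ⊢; exact ⟨hxp, hyp⟩⟩)

end Groth.Agent.DualCxLib
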