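import Groth.Agent.DualCxLib.SkCrit
import Groth.Agent.DualCxLib.TopDeg
import Groth.Agent.DualCxLib.Shift
import Groth.Agent.QGorLib.Depth

/-!
# A dualizing complex which is a sheaf off `V(J)` is ordinary
-/

set_option autoImplicit false
set_option backward.isDefEq.respectTransparency false

universe u

open CategoryTheory IsLocalRing
attribute [local instance] HasDerivedCategory.standard

noncomputable section

namespace Groth.Agent.DualCxLib

variable {A : Type u} [CommRing A] [IsNoetherianRing A] {ω : Dual.D A} (hω : Dual.IsDualizing A ω)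
include hω

theorem dfn_eq_zero_of_off {J : Ideal A}
    (hoff : ∀ p : PrimeSpectrum A, ¬ J ≤ p.asIdeal → ∀ i : ℤ, i ≠ 0 → p ∉ Module.support A (Dual.HD A ω i))
    (P : PrimeSpectrum A) (hP : P.asIdeal ∈ minimalPrimes A) (hJP : ¬ J ≤ P.asIdeal) : dfn hω P = 0 := by
  have h := (not_zeroAt_HD_iff hω P.asIdeal _).2 ((not_zeroAt_unit_iff hω P hP _).2 rfl)
  by_contra hne
  exact hoff P hJP _ hne ((not_zeroAt_iff_mem_support P).1 h)

theorem ringKrullDim_quotient_eq [IsLocalRing A] (q : PrimeSpectrum A) :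
    ringKrullDim (A ⧸ q.asIdeal) = (((dfn hω (closedPoint A) - dfn hω q).toNat : ℕ) : WithBot ℕ∞) := by
  rw [← Module.supportDim_quotient_eq_ringKrullDim, ← supportDim_localized_maximal]
  have hq : q ∈ Module.support A (A ⧸ q.asIdeal) := by
    rw [Module.mem_support_iff_of_finite, Ideal.annihilator_quotient]
  refine le_antisymm (supportDim_localized_le hω (closedPoint A) _ fun Q hQ _ => ?_) ?_
  · have hqQ : q ≤ Q := by
      have := Module.annihilator_le_of_mem_support hQ
      rwa [Ideal.annihilator_quotient] at this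
    have := dfn_le hω hqQ
    omega
  · exact le_supportDim_localized hω (closedPoint A) q hq (IsLocalRing.le_maximalIdeal q.2.ne_top)

theorem ordinary_off [IsLocalRing A] (n : ℕ) (hd : ringKrullDim A = n) (J : Ideal A) (hJ : 1 ≤ J.height)
    (hoff : ∀ p : PrimeSpectrum A, ¬ J ≤ p.asIdeal → ∀ i : ℤ, i ≠ 0 → p ∉ Module.support A (Dual.HD A ω i)) :
    (EGA4.IsEquidim A ∧ Dual.IsNormalized A (ω⟦(n : ℤ)⟧) ∧ LocCoh.HasSk 2 A (Dual.HD A ω 0)) ∧
    (2 ≤ J.height → 2 ≤ LocCoh.idealDepth J (Dual.HD A ω 0)) := by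
  have hmin0 : ∀ P : PrimeSpectrum A, P.asIdeal ∈ minimalPrimes A → dfn hω P = 0 := fun P hP =>
    dfn_eq_zero_of_off hω hoff P hP fun hle => by
      have h := Ideal.height_mono hle
      rw [Ideal.height_eq_zero_iff.2 hP] at h
      exact absurd (hJ.trans h) (by simp)
  have hbelow : ∀ q : PrimeSpectrum A, ∃ P : PrimeSpectrum A, P.asIdeal ∈ minimalPrimes A ∧ P ≤ q := fun q => by
    obtain ⟨P, hP, hPq⟩ := Ideal.exists_minimalPrimes_le (show (⊥ : Ideal A) ≤ q.asIdeal from bot_le)
    exact ⟨⟨P, hP.1.1⟩, hP, hPq⟩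
  have hlo : ∀ q : PrimeSpectrum A, 0 ≤ dfn hω q := fun q => by
    obtain ⟨P, hP, hPq⟩ := hbelow q
    rw [← hmin0 P hP]
    exact dfn_le hω hPq
  have hd' : dfn hω (closedPoint A) = n := by
    have h1 : ∀ q : PrimeSpectrum A, ringKrullDim (A ⧸ q.asIdeal) ≤ n := fun q =>
      hd ▸ ringKrullDim_quotient_le _
    obtain ⟨P, hP, -⟩ := hbelow (closedPoint A)
    have h2 := h1 P
    rw [ringKrullDim_quotient_eq hω P, hmin0 P hP, sub_zero] at h2
    have h3 : (dfn hω (closedPoint A)).toNat ≤ n := by exact_mod_cast h2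
    have h4 : ringKrullDim A ≤ ((dfn hω (closedPoint A)).toNat : WithBot ℕ∞) := by
      rw [ringKrullDim, Order.krullDim]
      refine iSup_le fun l => ?_
      have := dfn_ltSeries hω l
      have := hlo l.head
      have := dfn_le hω (show l.last ≤ closedPoint A from IsLocalRing.le_maximalIdeal l.last.2.ne_top)
      exact_mod_cast show l.length ≤ (dfn hω (closedPoint A)).toNat by omega
    rw [hd] at h4
    have h5 : n ≤ (dfn hω (closedPoint A)).toNat := by exact_mod_cast h4
    have := hlo (closedPoint A)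
    omega
  have hHK := (model hω).nonempty_HD_equiv 0
  obtain ⟨e⟩ := hHK
  have hS2 : LocCoh.HasSk 2 A (Dual.HD A ω 0) := hasSk_two hω (j := 0) hlo _ e
  haveI := hω.finite_cohomology 0
  refine ⟨⟨fun p hp => ?_, hd' ▸ isNormalized_shift hω, hS2⟩, fun hJ2 => ?_⟩
  · have := ringKrullDim_quotient_eq hω ⟨p, hp.1.1⟩
    rw [hmin0 ⟨p, hp.1.1⟩ hp, hd', sub_zero, Int.toNat_natCast] at this
    rw [this, hd]
  · rw [← Nat.cast_ofNat, QGorLib.le_idealDepth_iff_forall]
    intro q hJq
    obtain ⟨P, hP, hPq⟩ := hbelow q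
    have hPs : P ∈ Module.support A (Dual.HD A ω 0) := by
      rw [← not_zeroAt_iff_mem_support, not_zeroAt_HD_iff hω, not_zeroAt_unit_iff hω P hP, hmin0 P hP]
    have h2 : (2 : WithBot ℕ∞) ≤ Module.supportDim (Localization.AtPrime q.asIdeal)
        (LocalizedModule q.asIdeal.primeCompl (Dual.HD A ω 0)) := by
      refine le_trans ?_ (le_supportDim_localized hω q P hPs hPq)
      rw [hmin0 P hP, sub_zero]
      have hh := Ideal.height_mono hJq
      have h' : (q.asIdeal.height : WithBot ℕ∞) ≤ ((dfn hω q).toNat : WithBot ℕ∞) := by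
        rw [PrimeSpectrum.height_eq_orderHeight, Order.height]
        norm_cast
        refine iSup₂_le fun l hl => ?_
        have := dfn_ltSeries hω l
        have := hlo l.head
        have := dfn_le hω hl
        exact_mod_cast show l.length ≤ (dfn hω q).toNat by omega
      exact le_trans (WithBot.coe_le_coe.2 (hJ2.trans hh)) h'
    have h := le_trans (le_min le_rfl h2) (hS2 q.asIdeal)
    exact WithBot.coe_le_coe.1 h

end Groth.Agent.DualCxLib
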