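import Groth.Agent.DualCxLib.TorsAcyclic
import Groth.Agent.DualCxLib.Completion
import Groth.Agent.DualCxLib.Regular

/-!
# Local duality for complexes with finite cohomology
-/

set_option autoImplicit false
set_option backward.isDefEq.respectTransparency false
set_option maxRecDepth 4000

universe u

open CategoryTheory Limits Pretriangulated IsLocalRing Opposite
attribute [local instance] HasDerivedCategory.standard

noncomputable section

namespace Groth.Agent.DualCxLib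

variable {A : Type u} [CommRing A] [IsLocalRing A] [IsNoetherianRing A]

/-- The structure maps of `H^i_m`. -/
def hdiι (X : Dual.D A) (i : ℤ) (n : ℕ) :
    HK X i (A ⧸ maximalIdeal A ^ n) →ₗ[A] Dual2.HDI A (maximalIdeal A) X i :=
  (colimit.ι (hdiDiagram (maximalIdeal A) X i) (op (op n))).hom

theorem exists_hdiι {X : Dual.D A} {i : ℤ} (z : Dual2.HDI A (maximalIdeal A) X i) :
    ∃ n α, hdiι X i n α = z := by
  obtain ⟨j, α, rfl⟩ := Concrete.colimit_exists_rep (hdiDiagram (maximalIdeal A) X i) z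
  exact ⟨unop (unop j), α, rfl⟩

theorem hdiι_compat (X : Dual.D A) (i : ℤ) {n m : ℕ} (h : n ≤ m) (α : HK X i (A ⧸ maximalIdeal A ^ n)) :
    hdiι X i m (pre X i (powMapQ (maximalIdeal A) h) α) = hdiι X i n α := by
  let φ : op (op n) ⟶ op (op m) := (homOfLE h).op.op
  have h0 : ((hdiDiagram (maximalIdeal A) X i).map φ).hom α = pre X i (powMapQ (maximalIdeal A) h) α :=
    hdiDiagram_map (maximalIdeal A) X i φ α
  rw [← h0]
  exact ConcreteCategory.congr_hom (colimit.w (hdiDiagram (maximalIdeal A) X i) φ) α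

theorem hdiι_eq_zero_iff {X : Dual.D A} {i : ℤ} {n : ℕ} (α : HK X i (A ⧸ maximalIdeal A ^ n)) :
    hdiι X i n α = 0 ↔ ∃ m, ∃ h : n ≤ m, pre X i (powMapQ (maximalIdeal A) h) α = 0 := by
  refine ⟨fun hz => ?_, fun ⟨m, h, hm⟩ => by rw [← hdiι_compat X i h, hm, map_zero]⟩
  obtain ⟨l, f, g, hfg⟩ := Concrete.colimit_exists_of_rep_eq (hdiDiagram (maximalIdeal A) X i)
    (i := op (op n)) (j := op (op n)) α (0 : HK X i (A ⧸ maximalIdeal A ^ n))
    (hz.trans (map_zero (hdiι X i n)).symm)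
  rw [map_zero] at hfg
  exact ⟨unop (unop l), leOfHom f.unop.unop, (hdiDiagram_map _ X i f α).symm.trans hfg⟩

/-- The cocone defining `hdiMap`. -/
def hdiCocone {X X' : Dual.D A} (g : X ⟶ X') (i : ℤ) : Cocone (hdiDiagram (maximalIdeal A) X i) :=
    { pt := ModuleCat.of A (Dual2.HDI A (maximalIdeal A) X' i)
      ι := { app := fun j => ModuleCat.ofHom ((hdiι X' i (unop (unop j))).comp (Linear.rightComp A _ (g⟦i⟧')))
             naturality := fun j k φ => ModuleCat.hom_ext (LinearMap.ext fun x => by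
               show hdiι X' i _ (((hdiDiagram (maximalIdeal A) X i).map φ).hom x ≫ g⟦i⟧') = hdiι X' i _ (x ≫ g⟦i⟧')
               rw [hdiDiagram_map, pre_apply, Category.assoc, ← pre_apply]
               exact hdiι_compat X' i (leOfHom φ.unop.unop) (x ≫ g⟦i⟧')) } }

/-- Functoriality of `H^i_m`. -/
def hdiMap {X X' : Dual.D A} (g : X ⟶ X') (i : ℤ) :
    Dual2.HDI A (maximalIdeal A) X i →ₗ[A] Dual2.HDI A (maximalIdeal A) X' i :=
  (colimit.desc (hdiDiagram (maximalIdeal A) X i) (hdiCocone g i)).hom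

theorem hdiMap_ι {X X' : Dual.D A} (g : X ⟶ X') (i : ℤ) (n : ℕ) (α : HK X i (A ⧸ maximalIdeal A ^ n)) :
    hdiMap g i (hdiι X i n α) = hdiι X' i n (α ≫ g⟦i⟧') :=
  LinearMap.congr_fun (congrArg ModuleCat.Hom.hom (colimit.ι_desc (hdiCocone g i) (op (op n)))) α

theorem exists_comp_shift {T : Triangle (Dual.D A)} (hT : T ∈ distTriang (Dual.D A)) (i : ℤ) {Y : Dual.D A}
    (α : Y ⟶ T.obj₂⟦i⟧) (h : α ≫ T.mor₂⟦i⟧' = 0) : ∃ β : Y ⟶ T.obj₁⟦i⟧, β ≫ T.mor₁⟦i⟧' = α := by
  obtain ⟨β, hβ⟩ := Triangle.coyoneda_exact₂ _ (Triangle.shift_distinguished T hT i) α (by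
    show α ≫ ((i.negOnePow : ℤˣ) • T.mor₂⟦i⟧') = 0
    rw [Linear.comp_units_smul, h, smul_zero])
  refine ⟨(i.negOnePow : ℤˣ) • (show Y ⟶ T.obj₁⟦i⟧ from β), ?_⟩
  have hβ' : α = (show Y ⟶ T.obj₁⟦i⟧ from β) ≫ ((i.negOnePow : ℤˣ) • T.mor₁⟦i⟧') := hβ
  rw [hβ', Linear.units_smul_comp, Linear.comp_units_smul]

theorem exists_hdiMap_eq {T : Triangle (Dual.D A)} (hT : T ∈ distTriang (Dual.D A)) {i : ℤ}
    (z : Dual2.HDI A (maximalIdeal A) T.obj₂ i) (hz : hdiMap T.mor₂ i z = 0) :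
    ∃ w, hdiMap T.mor₁ i w = z := by
  obtain ⟨n, α, rfl⟩ := exists_hdiι z
  rw [hdiMap_ι] at hz
  obtain ⟨m, h, hm⟩ := (hdiι_eq_zero_iff _).1 hz
  rw [pre_apply] at hm
  obtain ⟨β, hβ⟩ := exists_comp_shift hT i (pre T.obj₂ i (powMapQ (maximalIdeal A) h) α)
    (by rw [pre_apply, Category.assoc]; exact hm)
  exact ⟨hdiι T.obj₁ i m β, by rw [hdiMap_ι, hβ, hdiι_compat]⟩

variable {ω : Dual.D A} (S : Model ω) (hω : Dual.IsDualizing A ω) (hn : Dual.IsNormalized A ω)
  {E : Type u} [AddCommGroup E] [Module A E] (e : S.E0 ≃ₗ[A] E)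

/-- Composition with a morphism into `ω`. -/
def pairD {X : Dual.D A} (i : ℤ) {n : ℕ} (α : HK X i (A ⧸ maximalIdeal A ^ n)) :
    (X ⟶ ω⟦-i⟧) →ₗ[A] HK ω 0 (A ⧸ maximalIdeal A ^ n) where
  toFun u := ShiftedHom.comp α u (neg_add_cancel i)
  map_add' _ _ := ShiftedHom.comp_add _ _ _ _
  map_smul' _ _ := ShiftedHom.comp_smul _ _ _ _

theorem pairD_pre {X : Dual.D A} (i : ℤ) {n m : ℕ} (q : (A ⧸ maximalIdeal A ^ m) →ₗ[A] (A ⧸ maximalIdeal A ^ n))
    (α : HK X i (A ⧸ maximalIdeal A ^ n)) (u : X ⟶ ω⟦-i⟧) :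
    pairD i (pre X i q α) u = pre ω 0 q (pairD i α u) := by
  show (sMap q ≫ α) ≫ _ = sMap q ≫ α ≫ _
  exact Category.assoc _ _ _

/-- The pairing at the stage `n`. -/
def Model.phiDN (X : Dual.D A) (i : ℤ) (n : ℕ) :
    HK X i (A ⧸ maximalIdeal A ^ n) →ₗ[A] ((X ⟶ ω⟦-i⟧) →ₗ[A] E) where
  toFun α := S.θ hω hn e n ∘ₗ pairD i α
  map_add' α β := LinearMap.ext fun u => by
    rw [LinearMap.add_apply, LinearMap.comp_apply, LinearMap.comp_apply, LinearMap.comp_apply, ← map_add]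
    exact congrArg (S.θ hω hn e n) (ShiftedHom.add_comp α β u _)
  map_smul' r α := LinearMap.ext fun u => by
    rw [RingHom.id_apply, LinearMap.smul_apply, LinearMap.comp_apply, LinearMap.comp_apply, ← map_smul]
    exact congrArg (S.θ hω hn e n) (ShiftedHom.smul_comp r α u _)

theorem Model.phiDN_compat (X : Dual.D A) (i : ℤ) {n m : ℕ} (h : n ≤ m) (α : HK X i (A ⧸ maximalIdeal A ^ n)) :
    S.phiDN hω hn e X i m (pre X i (powMapQ (maximalIdeal A) h) α) = S.phiDN hω hn e X i n α := by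
  refine LinearMap.ext fun u => ?_
  show S.θ hω hn e m (pairD i _ u) = S.θ hω hn e n (pairD i α u)
  rw [pairD_pre]
  show e (S.equivE0 hω hn _ (pre ω 0 (powMapQ (maximalIdeal A) h) _) 1) = _
  rw [S.equivE0_pre hω hn (finite_quot_pow (A := A) m).2 (finite_quot_pow (A := A) n).2]
  rfl

/-- The cocone defining the pairing. -/
def Model.phiDCocone (X : Dual.D A) (i : ℤ) : Cocone (hdiDiagram (maximalIdeal A) X i) :=
    { pt := ModuleCat.of A ((X ⟶ ω⟦-i⟧) →ₗ[A] E)
      ι := { app := fun j => ModuleCat.ofHom (S.phiDN hω hn e X i (unop (unop j)))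
             naturality := fun j k φ => ModuleCat.hom_ext (LinearMap.ext fun x => by
               show S.phiDN hω hn e X i _ (((hdiDiagram (maximalIdeal A) X i).map φ).hom x) = S.phiDN hω hn e X i _ x
               rw [hdiDiagram_map]
               exact S.phiDN_compat hω hn e X i (leOfHom φ.unop.unop) x) } }

/-- The pairing on `H^i_m`. -/
def Model.phiD (X : Dual.D A) (i : ℤ) :
    Dual2.HDI A (maximalIdeal A) X i →ₗ[A] ((X ⟶ ω⟦-i⟧) →ₗ[A] E) :=
  (colimit.desc (hdiDiagram (maximalIdeal A) X i) (S.phiDCocone hω hn e X i)).hom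

theorem Model.phiD_ι (X : Dual.D A) (i : ℤ) (n : ℕ) (α : HK X i (A ⧸ maximalIdeal A ^ n)) (u : X ⟶ ω⟦-i⟧) :
    S.phiD hω hn e X i (hdiι X i n α) u = S.θ hω hn e n (ShiftedHom.comp α u (neg_add_cancel i)) :=
  LinearMap.congr_fun (LinearMap.congr_fun (congrArg ModuleCat.Hom.hom
    (colimit.ι_desc (S.phiDCocone hω hn e X i) (op (op n)))) α) u

theorem Model.phiD_map {X X' : Dual.D A} (g : X ⟶ X') (i : ℤ) (z : Dual2.HDI A (maximalIdeal A) X i) :
    S.phiD hω hn e X' i (hdiMap g i z) = S.phiD hω hn e X i z ∘ₗ Linear.leftComp A (ω⟦-i⟧) g := by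
  obtain ⟨n, α, rfl⟩ := exists_hdiι z
  refine LinearMap.ext fun u => ?_
  rw [hdiMap_ι, LinearMap.comp_apply, S.phiD_ι, S.phiD_ι]
  refine congrArg (S.θ hω hn e n) ?_
  show (α ≫ g⟦i⟧') ≫ u⟦i⟧' ≫ _ = α ≫ (g ≫ u)⟦i⟧' ≫ _
  rw [Functor.map_comp, Category.assoc, Category.assoc]

variable {f : ResidueField A →ₗ[A] E} (hf : InjHull.IsInjectiveHull f)
include hf

theorem Model.injective_phiD_of_triangle {T : Triangle (Dual.D A)} (hT : T ∈ distTriang (Dual.D A)) (i : ℤ)
    (h3 : Function.Injective (S.phiD hω hn e T.obj₃ i)) (h1 : Function.Injective (S.phiD hω hn e T.obj₁ i))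
    (h3' : Function.Surjective (S.phiD hω hn e (T.obj₃⟦(-1 : ℤ)⟧) i)) :
    Function.Injective (S.phiD hω hn e T.obj₂ i) := by
  haveI := hf.isInjective
  refine (injective_iff_map_eq_zero _).2 fun z hz => ?_
  obtain ⟨w, rfl⟩ := exists_hdiMap_eq hT z ((injective_iff_map_eq_zero _).1 h3 _ (by
    rw [S.phiD_map, hz, LinearMap.zero_comp]))
  rw [S.phiD_map] at hz
  let c : T.obj₃⟦(-1 : ℤ)⟧ ⟶ T.obj₁ := T.invRotate.mor₁
  have hcf : c ≫ T.mor₁ = 0 := comp_distTriang_mor_zero₁₂ _ (inv_rot_of_distTriang _ hT)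
  have hex : Function.Exact (Linear.leftComp A (ω⟦-i⟧) T.mor₁) (Linear.leftComp A (ω⟦-i⟧) c) := fun v => by
    refine ⟨fun hv => ?_, ?_⟩
    · obtain ⟨v', hv'⟩ := Triangle.yoneda_exact₂ _ (inv_rot_of_distTriang _ hT) v hv
      exact ⟨v', hv'.symm⟩
    · rintro ⟨v', rfl⟩
      show c ≫ T.mor₁ ≫ v' = 0
      rw [← Category.assoc, hcf, zero_comp]
  obtain ⟨ψ, hψ⟩ := exists_factor hex (S.phiD hω hn e T.obj₁ i w) hz
  obtain ⟨v, rfl⟩ := h3' ψ
  have hw : w = hdiMap c i v := h1 (by rw [S.phiD_map, hψ])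
  obtain ⟨n, α, rfl⟩ := exists_hdiι v
  rw [hw, hdiMap_ι, hdiMap_ι, Category.assoc, ← Functor.map_comp, hcf, Functor.map_zero, comp_zero, map_zero]

theorem Model.surjective_phiD_of_triangle {T : Triangle (Dual.D A)} (hT : T ∈ distTriang (Dual.D A)) (i : ℤ)
    (h3 : Function.Surjective (S.phiD hω hn e T.obj₃ i)) (h1 : Function.Surjective (S.phiD hω hn e T.obj₁ i))
    (h1' : Function.Injective (S.phiD hω hn e (T.obj₁⟦(1 : ℤ)⟧) i)) :
    Function.Surjective (S.phiD hω hn e T.obj₂ i) := by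
  haveI := hf.isInjective
  intro y
  obtain ⟨t, ht⟩ := h3 (y ∘ₗ Linear.leftComp A (ω⟦-i⟧) T.mor₂)
  have hδ : hdiMap T.mor₃ i t = 0 := by
    refine (injective_iff_map_eq_zero _).1 h1' _ (LinearMap.ext fun v => ?_)
    rw [S.phiD_map, ht, LinearMap.comp_apply, LinearMap.comp_apply]
    show y (T.mor₂ ≫ T.mor₃ ≫ v) = 0
    rw [← Category.assoc, comp_distTriang_mor_zero₂₃ T hT, zero_comp, map_zero]
  obtain ⟨z, rfl⟩ := exists_hdiMap_eq (rot_of_distTriang _ hT) t hδ
  have hz : (y - S.phiD hω hn e T.obj₂ i z) ∘ₗ Linear.leftComp A (ω⟦-i⟧) T.mor₂ = 0 := by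
    rw [LinearMap.sub_comp, sub_eq_zero, ← S.phiD_map]
    exact ht.symm
  have hex : Function.Exact (Linear.leftComp A (ω⟦-i⟧) T.mor₂) (Linear.leftComp A (ω⟦-i⟧) T.mor₁) := fun v => by
    refine ⟨fun hv => ?_, ?_⟩
    · obtain ⟨v', hv'⟩ := Triangle.yoneda_exact₂ _ hT v hv
      exact ⟨v', hv'.symm⟩
    · rintro ⟨v', rfl⟩
      show T.mor₁ ≫ T.mor₂ ≫ v' = 0
      rw [← Category.assoc, comp_distTriang_mor_zero₁₂ T hT, zero_comp]
  obtain ⟨ψ, hψ⟩ := exists_factor hex _ hz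
  obtain ⟨w, rfl⟩ := h1 ψ
  refine ⟨hdiMap T.mor₁ i w + (show Dual2.HDI A (maximalIdeal A) T.obj₂ i from z), ?_⟩
  rw [map_add, S.phiD_map, hψ, sub_add_cancel]

theorem Model.bijective_phiD_inD (M : Type u) [AddCommGroup M] [Module A M] [Module.Finite A M] (i : ℤ) :
    Function.Bijective (S.phiD hω hn e (Dual.inD A M) i) := by
  rcases lt_or_ge i 0 with hi | hi
  · haveI : Subsingleton (Dual.inD A M ⟶ ω⟦-i⟧) := subsingleton_HK_pos hω hn M (by omega)
    refine ⟨fun z z' _ => ?_, fun y => ⟨0, LinearMap.ext fun u => by rw [Subsingleton.elim u 0, map_zero, map_zero]⟩⟩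
    obtain ⟨n, α, rfl⟩ := exists_hdiι z
    obtain ⟨n', α', rfl⟩ := exists_hdiι z'
    haveI := subsingleton_HK_inD_of_neg (A := A) (A ⧸ maximalIdeal A ^ n) M hi
    haveI := subsingleton_HK_inD_of_neg (A := A) (A ⧸ maximalIdeal A ^ n') M hi
    rw [Subsingleton.elim α 0, Subsingleton.elim α' 0, map_zero, map_zero]
  obtain ⟨k, rfl⟩ := Int.eq_ofNat_of_zero_le hi
  have hb := S.bijective_phi hω hn e hf k M (-(k : ℤ)) (neg_add_cancel _)
  have hkey : ∀ (n : ℕ) (x : Abelian.Ext.{u} (LocCohLib.quot (maximalIdeal A) n) (ModuleCat.of A M) k),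
      S.phiD hω hn e (Dual.inD A M) (k : ℤ) (hdiι (Dual.inD A M) (k : ℤ) n x.hom) =
        S.phi hω hn e (ModuleCat.of A M) k (-(k : ℤ)) (neg_add_cancel _)
          (LocCohLib.ι (maximalIdeal A) k (ModuleCat.of A M) n x) := fun n x =>
    LinearMap.ext fun u => (S.phiD_ι hω hn e _ _ n x.hom u).trans (S.phi_ι hω hn e _ k _ _ n x u).symm
  refine ⟨(injective_iff_map_eq_zero _).2 fun z hz => ?_, fun y => ?_⟩
  · obtain ⟨n, α, rfl⟩ := exists_hdiι z
    obtain ⟨x, rfl⟩ := (Abelian.Ext.homLinearEquiv (R := A) (X := LocCohLib.quot (maximalIdeal A) n)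
      (Y := ModuleCat.of A M) (n := k)).surjective α
    obtain ⟨m, hm, hx⟩ := (LocCohLib.ι_eq_zero_iff x).1 ((injective_iff_map_eq_zero _).1 hb.1 _
      ((hkey n x).symm.trans hz))
    refine (hdiι_eq_zero_iff _).2 ⟨m, hm, ?_⟩
    have h1 := congrArg Abelian.Ext.hom hx
    rw [Abelian.Ext.comp_hom, Abelian.Ext.mk₀_hom, ShiftedHom.mk₀_comp] at h1
    refine h1.trans ?_
    exact map_zero (Abelian.Ext.homLinearEquiv (R := A) (X := LocCohLib.quot (maximalIdeal A) m)
      (Y := ModuleCat.of A M) (n := k))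
  · obtain ⟨z, rfl⟩ := hb.2 y
    obtain ⟨n, x, rfl⟩ := LocCohLib.exists_ι z
    exact ⟨_, hkey n x⟩

theorem Model.bijective_phiD_of_iso {X : Dual.D A} (M : Type u) [AddCommGroup M] [Module A M] [Module.Finite A M]
    (a : ℤ) (η : Dual.inD A M ≅ X⟦a⟧) (i : ℤ) : Function.Bijective (S.phiD hω hn e X i) := by
  let j := i - a
  have hj : a + j = i := add_sub_cancel a i
  have hu : -i + a = -j := by omega
  -- both transfers
  let L : ∀ (n : ℕ), HK (Dual.inD A M) j (A ⧸ maximalIdeal A ^ n) → HK X i (A ⧸ maximalIdeal A ^ n) := fun n β =>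
    ShiftedHom.comp β η.hom hj
  have hL : ∀ n, Function.Surjective (L n) := fun n α => by
    refine ⟨α ≫ (shiftFunctorAdd' (Dual.D A) a j i hj).hom.app X ≫ η.inv⟦j⟧', ?_⟩
    show (α ≫ _ ≫ η.inv⟦j⟧') ≫ η.hom⟦j⟧' ≫ (shiftFunctorAdd' (Dual.D A) a j i hj).inv.app X = α
    rw [Category.assoc, Category.assoc, ← Functor.map_comp_assoc, η.inv_hom_id]
    erw [CategoryTheory.Functor.map_id, Category.id_comp, Iso.hom_inv_id_app]
    exact Category.comp_id _
  let R : (X ⟶ ω⟦-i⟧) ≃ₗ[A] (Dual.inD A M ⟶ ω⟦-j⟧) :=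
    (LinearEquiv.ofBijective ((shiftFunctor (Dual.D A) a).mapLinearMap A)
      ⟨Functor.map_injective _, Functor.map_surjective _⟩).trans
      (Linear.homCongr A η.symm ((shiftFunctorAdd' (Dual.D A) (-i) a (-j) hu).app ω).symm)
  have hR : ∀ u, R u = ShiftedHom.comp η.hom u hu := fun u => by
    simp [R, Linear.homCongr_apply, ShiftedHom.comp]
  have hkey : ∀ (n : ℕ) (β : HK (Dual.inD A M) j (A ⧸ maximalIdeal A ^ n)) (u : X ⟶ ω⟦-i⟧),
      S.phiD hω hn e X i (hdiι X i n (L n β)) u = S.phiD hω hn e (Dual.inD A M) j (hdiι _ j n β) (R u) := fun n β u => by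
    rw [S.phiD_ι, S.phiD_ι, hR]
    exact congrArg (S.θ hω hn e n) (ShiftedHom.comp_assoc β η.hom u hj hu (by omega))
  have hb := S.bijective_phiD_inD hω hn e hf M j
  refine ⟨(injective_iff_map_eq_zero _).2 fun z hz => ?_, fun y => ?_⟩
  · obtain ⟨n, α, rfl⟩ := exists_hdiι z
    obtain ⟨β, rfl⟩ := hL n α
    have h0 : hdiι (Dual.inD A M) j n β = 0 := (injective_iff_map_eq_zero _).1 hb.1 _ (LinearMap.ext fun v => by
      obtain ⟨u, rfl⟩ := R.surjective v
      exact (hkey n β u).symm.trans (LinearMap.congr_fun hz u))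
    obtain ⟨m, h, hm⟩ := (hdiι_eq_zero_iff _).1 h0
    refine (hdiι_eq_zero_iff _).2 ⟨m, h, ?_⟩
    show sMap (powMapQ (maximalIdeal A) h) ≫ ShiftedHom.comp β η.hom hj = 0
    have h2 : sMap (powMapQ (maximalIdeal A) h) ≫ ShiftedHom.comp β η.hom hj =
        ShiftedHom.comp (pre (Dual.inD A M) j (powMapQ (maximalIdeal A) h) β) η.hom hj :=
      (Category.assoc _ _ _).symm
    rw [h2, hm]
    simp
  · obtain ⟨z, hz⟩ := hb.2 (y ∘ₗ R.symm.toLinearMap)
    obtain ⟨n, β, rfl⟩ := exists_hdiι z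
    exact ⟨hdiι X i n (L n β), LinearMap.ext fun u => (hkey n β u).trans
      ((LinearMap.congr_fun hz (R u)).trans (congrArg y (R.symm_apply_apply u)))⟩

theorem Model.bijective_phiD_single {X : Dual.D A} (a : ℤ) [X.IsGE a] [X.IsLE a]
    (hX : ∀ j, Module.Finite A (Dual.HD A X j)) (i : ℤ) : Function.Bijective (S.phiD hω hn e X i) := by
  obtain ⟨Y, ⟨eY⟩⟩ := DerivedCategory.exists_iso_singleFunctor_obj_of_isGE_of_isLE X a
  haveI : Module.Finite A Y := by
    haveI := hX a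
    exact Module.Finite.equiv (((DerivedCategory.homologyFunctor (ModuleCat.{u} A) a).mapIso eY).trans
      ((DerivedCategory.singleFunctorCompHomologyFunctorIso (ModuleCat.{u} A) a).app Y)).toLinearEquiv
  exact S.bijective_phiD_of_iso hω hn e hf Y a
    ((((DerivedCategory.singleFunctors (ModuleCat.{u} A)).shiftIso a 0 a (add_zero a)).app Y).symm ≪≫
      (shiftFunctor (Dual.D A) a).mapIso eY.symm) i

omit hf [IsLocalRing A] [IsNoetherianRing A] in
theorem isGE_shift_one {X : Dual.D A} (a b n : ℤ) [X.IsGE a] (h : b + n = a) : DerivedCategory.IsGE (X⟦n⟧) b :=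
  DerivedCategory.TStructure.t.isGE_shift X a n b (by omega)

omit hf [IsLocalRing A] [IsNoetherianRing A] in
theorem isLE_shift_one {X : Dual.D A} (a b n : ℤ) [X.IsLE a] (h : b + n = a) : DerivedCategory.IsLE (X⟦n⟧) b :=
  DerivedCategory.TStructure.t.isLE_shift X a n b (by omega)

omit hf [IsLocalRing A] [IsNoetherianRing A] in
theorem finite_HD_shift {X : Dual.D A} (hX : ∀ j, Module.Finite A (Dual.HD A X j)) (n j : ℤ) :
    Module.Finite A (Dual.HD A (X⟦n⟧) j) := by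
  haveI : Module.Finite A ((DerivedCategory.homologyFunctor (ModuleCat.{u} A) (n + j)).obj X) := hX (n + j)
  let e : (DerivedCategory.homologyFunctor (ModuleCat.{u} A) j).obj (X⟦n⟧) ≅
      (DerivedCategory.homologyFunctor (ModuleCat.{u} A) (n + j)).obj X :=
    ((DerivedCategory.homologyFunctor (ModuleCat.{u} A) 0).shiftIso n j (n + j) rfl).app X
  exact Module.Finite.equiv e.toLinearEquiv.symm

theorem Model.bijective_phiD_bounded : ∀ (k : ℕ) (a : ℤ) (X : Dual.D A), X.IsGE a → X.IsLE (a + k) →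
    (∀ j, Module.Finite A (Dual.HD A X j)) → ∀ i, Function.Bijective (S.phiD hω hn e X i) := by
  intro k
  induction k with
  | zero =>
    intro a X hge hle hX i
    rw [Nat.cast_zero, add_zero] at hle
    exact S.bijective_phiD_single hω hn e hf a hX i
  | succ k ih =>
    intro a X hge hle hX i
    let n : ℤ := a + (k + 1 : ℕ)
    obtain ⟨hfin₁, hfin₃⟩ := finite_HD_ltTri n X hX
    let T := ltTri n X
    haveI : T.obj₁.IsLE (a + k) :=
      (DerivedCategory.isLE_iff _ _).2 fun j hj => HD_ltTri₁_of_le _ X (by push_cast [n] at *; omega)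
    haveI : T.obj₁.IsGE a := (DerivedCategory.isGE_iff _ a).2 fun j hj => by
      haveI : Subsingleton ((DerivedCategory.homologyFunctor (ModuleCat.{u} A) j).obj T.obj₂) :=
        ModuleCat.subsingleton_of_isZero (DerivedCategory.isZero_of_isGE X a j hj)
      haveI := (HD_ltTri₁_injective n X (j := j) (by push_cast [n]; omega)).subsingleton
      exact ModuleCat.isZero_of_subsingleton _
    haveI : T.obj₃.IsGE n := (DerivedCategory.isGE_iff _ _).2 fun j hj => HD_ltTri₃_of_lt _ X hj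
    haveI : T.obj₃.IsLE n := by
      refine (DerivedCategory.isLE_iff _ _).2 fun j hj => ?_
      haveI : Subsingleton ((DerivedCategory.homologyFunctor (ModuleCat.{u} A) j).obj T.obj₂) :=
        ModuleCat.subsingleton_of_isZero (DerivedCategory.isZero_of_isLE X _ j hj)
      haveI := (HD_ltTri₃_surjective n X (j := j) (by omega)).subsingleton
      exact ModuleCat.isZero_of_subsingleton _
    haveI := isGE_shift_one (X := T.obj₃) n (n + 1) (-1) (by omega)
    haveI := isLE_shift_one (X := T.obj₃) n (n + 1) (-1) (by omega)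
    have b1 := ih a T.obj₁ inferInstance inferInstance hfin₁ i
    have b3 := S.bijective_phiD_single hω hn e hf n hfin₃ i
    have b3' := S.bijective_phiD_single hω hn e hf (n + 1) (fun j => finite_HD_shift hfin₃ (-1) j) i
    have b1' := ih (a - 1) (T.obj₁⟦(1 : ℤ)⟧) (isGE_shift_one a (a - 1) 1 (by omega))
      (isLE_shift_one (a + k) (a - 1 + k) 1 (by omega)) (fun j => finite_HD_shift hfin₁ 1 j) i
    exact ⟨S.injective_phiD_of_triangle hω hn e hf (ltTri_mem n X) i b3.1 b1.1 b3'.2,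
      S.surjective_phiD_of_triangle hω hn e hf (ltTri_mem n X) i b3.2 b1.2 b1'.1⟩

theorem Model.bijective_phiD_of_bounded (X : Dual.D A) (a b : ℤ) [X.IsGE a] [X.IsLE b]
    (hX : ∀ j, Module.Finite A (Dual.HD A X j)) (i : ℤ) : Function.Bijective (S.phiD hω hn e X i) :=
  S.bijective_phiD_bounded hω hn e hf (b - a).toNat a X inferInstance
    (DerivedCategory.TStructure.t.isLE_of_le X b (a + (b - a).toNat) (by omega)) hX i

omit hf in
theorem Model.bijective_phiD_of_subsingleton (X : Dual.D A) (i : ℤ) [Subsingleton (X ⟶ ω⟦-i⟧)]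
    [Subsingleton (Dual2.HDI A (maximalIdeal A) X i)] : Function.Bijective (S.phiD hω hn e X i) :=
  ⟨Function.injective_of_subsingleton _, fun y => ⟨0, LinearMap.ext fun u => by
    rw [Subsingleton.elim u 0, map_zero, map_zero]⟩⟩

omit hf in
theorem subsingleton_HDI_of_isGE (X : Dual.D A) {c i : ℤ} [X.IsGE c] (hi : i < c) :
    Subsingleton (Dual2.HDI A (maximalIdeal A) X i) := by
  refine subsingleton_of_forall_eq 0 fun z => ?_
  obtain ⟨n, α, rfl⟩ := exists_hdiι z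
  haveI := subsingleton_HK_of_isGE X hi (A ⧸ maximalIdeal A ^ n)
  rw [Subsingleton.elim α 0, map_zero]

theorem Model.bijective_phiD_bddAbove (X : Dual.D A) (b : ℤ) [X.IsLE b]
    (hX : ∀ j, Module.Finite A (Dual.HD A X j)) (i : ℤ) : Function.Bijective (S.phiD hω hn e X i) := by
  obtain ⟨s, hs⟩ := (maximalIdeal A).fg_of_isNoetherianRing
  have hL : Ideal.ofList s.toList = maximalIdeal A := by
    rw [Ideal.ofList, ← hs]
    congr 1
    ext y
    simp
  let c : ℤ := min b (min (S.a + i - 1) (i - s.toList.length - 1)) - 1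
  have hzero : ∀ (Y : Dual.D A) [Y.IsLE (c + 1)], Function.Bijective (S.phiD hω hn e Y i) := fun Y _ => by
    haveI : Y.IsLE (S.a - -i - 1) := DerivedCategory.TStructure.t.isLE_of_le Y (c + 1) _ (by omega)
    haveI := S.subsingleton_hom_of_isLE (-i) Y
    haveI := subsingleton_HDI_of_isLE (maximalIdeal A) s.toList hL Y (c + 1) i (by omega)
    exact S.bijective_phiD_of_subsingleton hω hn e Y i
  obtain ⟨hfin₁, hfin₃⟩ := finite_HD_ltTri (c + 1) X hX
  let T := ltTri (c + 1) X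
  haveI : T.obj₁.IsLE c := (DerivedCategory.isLE_iff _ _).2 fun j hj => HD_ltTri₁_of_le _ X (by omega)
  haveI : T.obj₁.IsLE (c + 1) := DerivedCategory.TStructure.t.isLE_of_le T.obj₁ c _ (by omega)
  haveI : DerivedCategory.IsLE (T.obj₁⟦(1 : ℤ)⟧) (c + 1) := by
    haveI := isLE_shift_one (X := T.obj₁) c (c - 1) 1 (by omega)
    exact DerivedCategory.TStructure.t.isLE_of_le _ (c - 1) _ (by omega)
  haveI : T.obj₃.IsGE (c + 1) := (DerivedCategory.isGE_iff _ _).2 fun j hj => HD_ltTri₃_of_lt _ X hj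
  haveI : T.obj₃.IsLE b := by
    refine (DerivedCategory.isLE_iff _ _).2 fun j hj => ?_
    haveI : Subsingleton ((DerivedCategory.homologyFunctor (ModuleCat.{u} A) j).obj T.obj₂) :=
      ModuleCat.subsingleton_of_isZero (DerivedCategory.isZero_of_isLE X _ j hj)
    haveI := (HD_ltTri₃_surjective (c + 1) X (j := j) (by omega)).subsingleton
    exact ModuleCat.isZero_of_subsingleton _
  have b3 := S.bijective_phiD_of_bounded hω hn e hf T.obj₃ (c + 1) b hfin₃ i
  haveI := isGE_shift_one (X := T.obj₃) (c + 1) (c + 2) (-1) (by omega)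
  haveI := isLE_shift_one (X := T.obj₃) b (b + 1) (-1) (by omega)
  have b3' := S.bijective_phiD_of_bounded hω hn e hf (T.obj₃⟦(-1 : ℤ)⟧) (c + 2) (b + 1) (fun j => finite_HD_shift hfin₃ (-1) j) i
  exact ⟨S.injective_phiD_of_triangle hω hn e hf (ltTri_mem (c + 1) X) i b3.1 (hzero T.obj₁).1 b3'.2,
    S.surjective_phiD_of_triangle hω hn e hf (ltTri_mem (c + 1) X) i b3.2 (hzero T.obj₁).2 (hzero (T.obj₁⟦(1 : ℤ)⟧)).1⟩

/-- Local duality for complexes with finite cohomology. -/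
theorem Model.bijective_phiD (X : Dual.D A) (hX : ∀ j, Module.Finite A (Dual.HD A X j)) (i : ℤ) :
    Function.Bijective (S.phiD hω hn e X i) := by
  let c : ℤ := max (S.b + i + 1) (i + 1) + 1
  obtain ⟨hfin₁, -⟩ := finite_HD_ltTri c X hX
  let T := ltTri c X
  have hzero : ∀ (Y : Dual.D A) [Y.IsGE (c - 1)], Function.Bijective (S.phiD hω hn e Y i) := fun Y _ => by
    haveI : Y.IsGE (S.b - -i + 1) := DerivedCategory.TStructure.t.isGE_of_ge Y _ (c - 1) (by omega)
    haveI := S.subsingleton_hom_of_isGE (-i) Y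
    haveI := subsingleton_HDI_of_isGE Y (c := c - 1) (i := i) (by omega)
    exact S.bijective_phiD_of_subsingleton hω hn e Y i
  haveI : T.obj₁.IsLE (c - 1) := (DerivedCategory.isLE_iff _ _).2 fun j hj => HD_ltTri₁_of_le _ X (by omega)
  haveI : T.obj₃.IsGE c := (DerivedCategory.isGE_iff _ _).2 fun j hj => HD_ltTri₃_of_lt _ X hj
  haveI : T.obj₃.IsGE (c - 1) := DerivedCategory.TStructure.t.isGE_of_ge T.obj₃ _ c (by omega)
  haveI : DerivedCategory.IsGE (T.obj₃⟦(-1 : ℤ)⟧) (c - 1) := by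
    haveI := isGE_shift_one (X := T.obj₃) c (c + 1) (-1) (by omega)
    exact DerivedCategory.TStructure.t.isGE_of_ge _ (c - 1) (c + 1) (by omega)
  haveI := isLE_shift_one (X := T.obj₁) (c - 1) (c - 2) 1 (by omega)
  have b1 := S.bijective_phiD_bddAbove hω hn e hf T.obj₁ (c - 1) hfin₁ i
  have b1' := S.bijective_phiD_bddAbove hω hn e hf (T.obj₁⟦(1 : ℤ)⟧) (c - 2) (fun j => finite_HD_shift hfin₁ 1 j) i
  exact ⟨S.injective_phiD_of_triangle hω hn e hf (ltTri_mem c X) i (hzero T.obj₃).1 b1.1 (hzero (T.obj₃⟦(-1 : ℤ)⟧)).2,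
    S.surjective_phiD_of_triangle hω hn e hf (ltTri_mem c X) i (hzero T.obj₃).2 b1.2 b1'.1⟩

end Groth.Agent.DualCxLib
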