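import Groth.Agent.DualCxLib.Gamma
import Groth.Agent.LocCohLib.Basic
import Groth.Agent.InjHullLib.Matlis
import Mathlib.Algebra.Homology.DerivedCategory.Ext.ExtClass
import Mathlib.Algebra.Homology.DerivedCategory.Ext.Linear

/-!
# The pairing `H^i_m(M) × Hom_D(M, ω[-i]) → E`
-/

set_option autoImplicit false
set_option backward.isDefEq.respectTransparency false

universe u

open CategoryTheory IsLocalRing
attribute [local instance] HasDerivedCategory.standard

noncomputable section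

namespace Groth.Agent.DualCxLib

variable {A : Type u} [CommRing A] [IsLocalRing A] [IsNoetherianRing A] {ω : Dual.D A} (S : Model ω)
  (hω : Dual.IsDualizing A ω) (hn : Dual.IsNormalized A ω)
  {E : Type u} [AddCommGroup E] [Module A E] (e : S.E0 ≃ₗ[A] E)

/-- Evaluation of a map `A/m^n → ω` at one. -/
def Model.θ (n : ℕ) : HK ω 0 (A ⧸ maximalIdeal A ^ n) →ₗ[A] E :=
  e.toLinearMap ∘ₗ LinearMap.applyₗ (1 : A ⧸ maximalIdeal A ^ n) ∘ₗ
    (S.equivE0 hω hn (finite_quot_pow (A := A) n).2).toLinearMap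

/-- Composition in the derived category. -/
def pairN {M : ModuleCat.{u} A} (n : ℕ) {i : ℕ} {j : ℤ} (hj : j + i = 0)
    (α : Abelian.Ext.{u} (LocCohLib.quot (maximalIdeal A) n) M i) :
    HK ω j M →ₗ[A] HK ω 0 (A ⧸ maximalIdeal A ^ n) where
  toFun u := ShiftedHom.comp α.hom u hj
  map_add' _ _ := ShiftedHom.comp_add _ _ _ _
  map_smul' _ _ := ShiftedHom.comp_smul _ _ _ _

/-- The pairing at the stage `n`. -/
def Model.phiN (M : ModuleCat.{u} A) {i : ℕ} {j : ℤ} (hj : j + i = 0) (n : ℕ) :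
    Abelian.Ext.{u} (LocCohLib.quot (maximalIdeal A) n) M i →ₗ[A] (HK ω j M →ₗ[A] E) where
  toFun α := S.θ hω hn e n ∘ₗ pairN n hj α
  map_add' α β := LinearMap.ext fun u => by
    rw [LinearMap.add_apply, LinearMap.comp_apply, LinearMap.comp_apply, LinearMap.comp_apply, ← map_add]
    refine congrArg (S.θ hω hn e n) ?_
    show ShiftedHom.comp (α + β).hom u hj = _
    rw [Abelian.Ext.add_hom]
    exact ShiftedHom.add_comp _ _ _ _
  map_smul' r α := LinearMap.ext fun u => by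
    rw [RingHom.id_apply, LinearMap.smul_apply, LinearMap.comp_apply, LinearMap.comp_apply, ← map_smul]
    refine congrArg (S.θ hω hn e n) ?_
    show ShiftedHom.comp (r • α).hom u hj = _
    rw [Abelian.Ext.smul_hom]
    exact ShiftedHom.smul_comp _ _ _ _

theorem Model.phiN_compat (M : ModuleCat.{u} A) {i : ℕ} {j : ℤ} (hj : j + i = 0) (n m : ℕ) (h : n ≤ m)
    (α : Abelian.Ext.{u} (LocCohLib.quot (maximalIdeal A) n) M i) :
    S.phiN hω hn e M hj m ((Abelian.Ext.mk₀ (LocCohLib.qmap (maximalIdeal A) h)).comp α (zero_add i)) =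
      S.phiN hω hn e M hj n α := by
  refine LinearMap.ext fun u => ?_
  let q : (A ⧸ maximalIdeal A ^ m) →ₗ[A] (A ⧸ maximalIdeal A ^ n) := (LocCohLib.qmap (maximalIdeal A) h).hom
  have hu : pairN m hj ((Abelian.Ext.mk₀ (LocCohLib.qmap (maximalIdeal A) h)).comp α (zero_add i)) u =
      pre ω 0 q (pairN n hj α u) := by
    show ShiftedHom.comp _ u hj = sMap q ≫ ShiftedHom.comp α.hom u hj
    rw [Abelian.Ext.comp_hom, Abelian.Ext.mk₀_hom, ShiftedHom.mk₀_comp]
    exact Category.assoc _ _ _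
  show S.θ hω hn e m _ = S.θ hω hn e n _
  rw [hu]
  show e (S.equivE0 hω hn _ (pre ω 0 q _) 1) = _
  rw [S.equivE0_pre hω hn (finite_quot_pow (A := A) m).2 (finite_quot_pow (A := A) n).2]
  rfl

/-- The pairing. -/
def Model.phi (M : ModuleCat.{u} A) (i : ℕ) (j : ℤ) (hj : j + i = 0) :
    ((localCohomology (maximalIdeal A) i).obj M : Type u) →ₗ[A] (HK ω j M →ₗ[A] E) :=
  LocCohLib.desc (S.phiN hω hn e M hj) fun n m h α => S.phiN_compat hω hn e M hj n m h α

theorem Model.phi_ι (M : ModuleCat.{u} A) (i : ℕ) (j : ℤ) (hj : j + i = 0) (n : ℕ)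
    (α : Abelian.Ext.{u} (LocCohLib.quot (maximalIdeal A) n) M i) (u : HK ω j M) :
    S.phi hω hn e M i j hj (LocCohLib.ι (maximalIdeal A) i M n α) u = S.θ hω hn e n (ShiftedHom.comp α.hom u hj) :=
  LinearMap.congr_fun (LocCohLib.desc_ι _ _ n α) u

theorem Model.phi_natural {M M' : ModuleCat.{u} A} (g : M ⟶ M') (i : ℕ) (j : ℤ) (hj : j + i = 0)
    (z : ((localCohomology (maximalIdeal A) i).obj M : Type u)) :
    S.phi hω hn e M' i j hj (((localCohomology (maximalIdeal A) i).map g).hom z) =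
      S.phi hω hn e M i j hj z ∘ₗ pre ω j g.hom := by
  obtain ⟨n, α, rfl⟩ := LocCohLib.exists_ι z
  refine LinearMap.ext fun u => ?_
  rw [LocCohLib.map_ι, LinearMap.comp_apply, S.phi_ι, S.phi_ι, Abelian.Ext.comp_hom, Abelian.Ext.mk₀_hom,
    ShiftedHom.comp_assoc _ _ _ (zero_add (i : ℤ)) (add_zero j) (by omega)]
  refine congrArg (fun v => S.θ hω hn e n (ShiftedHom.comp α.hom v hj)) ?_
  exact ShiftedHom.mk₀_comp _ _ _ _

theorem Model.phi_δ {M₁ M₂ M₃ : Type u} [AddCommGroup M₁] [Module A M₁] [AddCommGroup M₂] [Module A M₂]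
    [AddCommGroup M₃] [Module A M₃] {f : M₁ →ₗ[A] M₂} {g : M₂ →ₗ[A] M₃}
    (hf : Function.Injective f) (hfg : Function.Exact f g) (hg : Function.Surjective g)
    (i : ℕ) (j : ℤ) (hj : j + 1 + i = 0) (hj' : j + ((i + 1 : ℕ) : ℤ) = 0)
    (z : ((localCohomology (maximalIdeal A) i).obj (ModuleCat.of A M₃) : Type u)) :
    S.phi hω hn e (ModuleCat.of A M₁) (i + 1) j hj'
        (LocCohLib.δ (maximalIdeal A) (sc_shortExact hf hfg hg) i z) =
      S.phi hω hn e (ModuleCat.of A M₃) i (j + 1) hj z ∘ₗ δ ω hf hfg hg j := by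
  obtain ⟨n, α, rfl⟩ := LocCohLib.exists_ι z
  refine LinearMap.ext fun u => ?_
  rw [LocCohLib.δ_ι, LinearMap.comp_apply, S.phi_ι]
  refine Eq.trans (congrArg (S.θ hω hn e n) ?_)
    (S.phi_ι hω hn e (ModuleCat.of A M₃) i (j + 1) hj n α (δ ω hf hfg hg j u)).symm
  show ShiftedHom.comp (α.comp (sc_shortExact hf hfg hg).extClass rfl).hom u hj' =
    ShiftedHom.comp α.hom (ShiftedHom.comp (sc_shortExact hf hfg hg).singleδ u rfl) hj
  rw [Abelian.Ext.comp_hom, ShortComplex.ShortExact.extClass_hom]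
  exact ShiftedHom.comp_assoc _ _ _ (show (1 : ℤ) + (i : ℤ) = ((i + 1 : ℕ) : ℤ) by omega) rfl (by omega)

theorem Model.phi_h0 (M : ModuleCat.{u} A) (hM : LocCoh.IsPowerTorsion (maximalIdeal A) M)
    (z : ((localCohomology (maximalIdeal A) 0).obj M : Type u)) (u : HK ω 0 M) :
    S.phi hω hn e M 0 0 (by simp) z u = e (S.equivE0 hω hn hM u (LocCohLib.h0 (maximalIdeal A) M z)) := by
  obtain ⟨n, α, rfl⟩ := LocCohLib.exists_ι z
  obtain ⟨g, rfl⟩ := Abelian.Ext.addEquiv₀.symm.surjective α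
  rw [S.phi_ι, LocCohLib.h0_ι]
  change S.θ hω hn e n (ShiftedHom.comp (Abelian.Ext.mk₀ g).hom u _) =
    e (S.equivE0 hω hn hM u (LocCohLib.evalOne (maximalIdeal A) M n (Abelian.Ext.mk₀ g)))
  rw [LocCohLib.evalOne_mk₀, Abelian.Ext.mk₀_hom, ShiftedHom.mk₀_comp]
  show e (S.equivE0 hω hn _ (pre ω 0 g.hom u) 1) = _
  rw [S.equivE0_pre hω hn (finite_quot_pow (A := A) n).2 hM]
  rfl

end Groth.Agent.DualCxLib
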