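import Groth.Agent.DualCxLib.Bidual
import Mathlib.LinearAlgebra.Dual.Lemmas

/-!
# The residue field against a dualizing complex
-/

set_option autoImplicit false
set_option backward.isDefEq.respectTransparency false

universe u

open CategoryTheory Limits
attribute [local instance] HasDerivedCategory.standard

noncomputable section

namespace Groth.Agent.DualCxLib

variable {A : Type u} [CommRing A]

/-- A functional separating `x` from a submodule, for modules killed by a maximal ideal. -/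
theorem exists_functional (m : Ideal A) [m.IsMaximal] {V : Type u} [AddCommGroup V] [Module A V]
    (hV : ∀ a ∈ m, ∀ v : V, a • v = 0) (B : Submodule A V) {x : V} (hx : x ∉ B) :
    ∃ ℓ : V →ₗ[A] A ⧸ m, (∀ b ∈ B, ℓ b = 0) ∧ ℓ x = 1 := by
  letI : Field (A ⧸ m) := Ideal.Quotient.field m
  have hT : Module.IsTorsionBySet A V (m : Set A) := fun v a => hV a.1 a.2 v
  letI : Module (A ⧸ m) V := hT.module
  have : IsScalarTower A (A ⧸ m) V := hT.isScalarTower
  let B' : Submodule (A ⧸ m) V :=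
    { carrier := B
      add_mem' := B.add_mem
      zero_mem' := B.zero_mem
      smul_mem' := fun c v hv => by
        obtain ⟨a, rfl⟩ := Ideal.Quotient.mk_surjective c
        exact B.smul_mem a hv }
  obtain ⟨ℓ, hℓx, hℓB⟩ := Submodule.exists_dual_map_eq_bot_of_notMem (p := B') hx inferInstance
  refine ⟨(ℓ x)⁻¹ • ℓ.restrictScalars A, fun b hb => ?_, ?_⟩
  · have h0 : ℓ b = 0 := by
      have : ℓ b ∈ B'.map ℓ := ⟨b, hb, rfl⟩
      rwa [hℓB, Submodule.mem_bot] at this
    show (ℓ x)⁻¹ * ℓ b = 0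
    rw [h0, mul_zero]
  · exact inv_mul_cancel₀ hℓx

variable {ω : Dual.D A} (S : Model ω)

/-- The rank one endomorphism of `Hom(A/m, E)` attached to a functional and a cocycle. -/
theorem Model.exists_rankOne (m : Ideal A) [m.IsMaximal] (j : ℤ) (x y : S.Z (A ⧸ m) j)
    (hx : x ∉ S.B (A ⧸ m) j) :
    ∃ ψ : S.HC (A ⧸ m) ⟶ S.E, (ψ.f j).hom x.1 = y.1 1 ∧ ∀ i, i ≠ j → ψ.f i = 0 := by
  have hV : ∀ a ∈ m, ∀ v : (A ⧸ m) →ₗ[A] S.E.X j, a • v = 0 := fun a ha v => LinearMap.ext fun t => by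
    obtain ⟨t, rfl⟩ := Ideal.Quotient.mk_surjective t
    rw [LinearMap.smul_apply, ← map_smul, LinearMap.zero_apply, show a • Ideal.Quotient.mk m t = 0 from
      Ideal.Quotient.eq_zero_iff_mem.2 (m.mul_mem_right t ha), map_zero]
  obtain ⟨ℓ, hB, hℓ⟩ := exists_functional m hV (LinearMap.range (S.D (A ⧸ m) (j - 1) j)) (x := x.1) hx
  let u : ((A ⧸ m) →ₗ[A] S.E.X j) →ₗ[A] S.E.X j := y.1 ∘ₗ ℓ
  let fn : ∀ i, (S.HC (A ⧸ m)).X i ⟶ S.E.X i := fun i =>
    if h : i = j then eqToHom (congrArg (S.HC (A ⧸ m)).X h) ≫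
      (ModuleCat.ofHom u : (S.HC (A ⧸ m)).X j ⟶ S.E.X j) ≫ eqToHom (congrArg S.E.X h.symm)
    else 0
  have hj : fn j = ModuleCat.ofHom u := by
    simp only [fn, dif_pos rfl, eqToHom_refl, Category.id_comp, Category.comp_id]
  refine ⟨{ f := fn, comm' := fun p q hpq => ?_ }, ?_, fun i hi => dif_neg hi⟩
  · simp only [ComplexShape.up_Rel] at hpq
    by_cases hp : p = j
    · subst hp
      rw [hj, show fn q = 0 from dif_neg (by omega), Limits.comp_zero]
      obtain rfl : q = p + 1 := hpq.symm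
      exact ModuleCat.hom_ext (LinearMap.ext fun φ => (S.mem_Z y.1).1 y.2 (ℓ φ))
    · rw [show fn p = 0 from dif_neg hp, Limits.zero_comp]
      by_cases hq : q = j
      · subst hq
        rw [hj]
        obtain rfl : p = q - 1 := by omega
        exact ModuleCat.hom_ext (LinearMap.ext fun φ =>
          ((congrArg y.1 (hB _ ⟨φ, rfl⟩)).trans y.1.map_zero).symm)
      · rw [show fn q = 0 from dif_neg hq, Limits.comp_zero]
  · show (fn j).hom x.1 = y.1 1
    rw [hj]
    exact congrArg y.1 hℓ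

variable [IsNoetherianRing A] (hω : Dual.IsDualizing A ω)
include hω

/-- Evaluations exhaust the chain maps `Hom(A/m, E) → E` up to boundaries. -/
theorem Model.exists_eval_add_boundary (m : Ideal A) [m.IsMaximal] (ψ : S.HC (A ⧸ m) ⟶ S.E) :
    ∃ r : A, ∀ (i : ℤ) (z : S.Z (A ⧸ m) i), ∃ g : (A ⧸ m) →ₗ[A] S.E.X (i - 1),
      (ψ.f i).hom z.1 = r • z.1 1 + (S.E.d (i - 1) i).hom (g 1) := by
  haveI := S.isKInjective
  obtain ⟨c, hc⟩ := S.ev_surjective hω (A ⧸ m) (DerivedCategory.Q.map ψ ≫ S.iso.hom)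
  obtain ⟨r, rfl⟩ := Ideal.Quotient.mk_surjective c
  have h1 : DerivedCategory.Q.map ψ = DerivedCategory.Q.map (S.evC (Ideal.Quotient.mk m r)) :=
    (cancel_mono S.iso.hom).1 hc.symm
  have h2 : (HomotopyCategory.quotient _ _).map ψ =
      (HomotopyCategory.quotient _ _).map (S.evC (Ideal.Quotient.mk m r)) :=
    (CochainComplex.IsKInjective.Qh_map_bijective
      ((HomotopyCategory.quotient (ModuleCat.{u} A) (ComplexShape.up ℤ)).obj (S.HC (A ⧸ m))) S.E).1 h1
  let H := HomotopyCategory.homotopyOfEq _ _ h2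
  refine ⟨r, fun i z => ?_⟩
  let h0 : ((A ⧸ m) →ₗ[A] S.E.X i) →ₗ[A] S.E.X (i - 1) := (H.hom i (i - 1)).hom
  refine ⟨m.liftQ (LinearMap.toSpanSingleton A _ (h0 z.1)) fun a ha => ?_, ?_⟩
  · rw [LinearMap.mem_ker, LinearMap.toSpanSingleton_apply, ← map_smul,
      show a • z.1 = 0 from LinearMap.ext fun t => by
        obtain ⟨t, rfl⟩ := Ideal.Quotient.mk_surjective t
        rw [LinearMap.smul_apply, ← map_smul, LinearMap.zero_apply, show a • Ideal.Quotient.mk m t = 0 from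
          Ideal.Quotient.eq_zero_iff_mem.2 (m.mul_mem_right t ha), map_zero], map_zero]
  · have hd : ((S.HC (A ⧸ m)).d i (i + 1)).hom z.1 = 0 := z.2
    have hcomm := congr($(H.comm i).hom z.1)
    rw [dNext_eq H.hom (show (ComplexShape.up ℤ).Rel i (i + 1) from rfl),
      prevD_eq H.hom (show (ComplexShape.up ℤ).Rel (i - 1) i by simp)] at hcomm
    refine hcomm.trans ?_
    show (H.hom (i + 1) i).hom (((S.HC (A ⧸ m)).d i (i + 1)).hom z.1) + (S.E.d (i - 1) i).hom (h0 z.1) +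
      z.1 (Ideal.Quotient.mk m r) = r • z.1 1 + (S.E.d (i - 1) i).hom _
    rw [hd, map_zero, zero_add, show Ideal.Quotient.mk m r = r • (1 : A ⧸ m) from
      (mul_one _).symm.trans (Algebra.smul_def r (1 : A ⧸ m)).symm, map_smul, add_comm]
    congr 2
    exact (one_smul A (h0 z.1)).symm

theorem Model.smul_class (m : Ideal A) [m.IsMaximal] (j : ℤ) (x y : S.Z (A ⧸ m) j)
    (hx : x ∉ S.B (A ⧸ m) j) :
    ∃ r : A, y - r • x ∈ S.B (A ⧸ m) j ∧ ∀ i, i ≠ j → ∀ z : S.Z (A ⧸ m) i, r • z ∈ S.B (A ⧸ m) i := by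
  obtain ⟨ψ, hψ, hψ0⟩ := S.exists_rankOne m j x y hx
  obtain ⟨r, hr⟩ := S.exists_eval_add_boundary hω m ψ
  refine ⟨r, ?_, fun i hi z => ?_⟩
  · obtain ⟨g, hg⟩ := hr j x
    rw [hψ] at hg
    refine ⟨g, Submodule.linearMap_qext _ (LinearMap.ext_ring ?_)⟩
    show (S.E.d (j - 1) j).hom (g 1) = y.1 1 - r • x.1 1
    rw [hg, add_sub_cancel_left]
  · obtain ⟨g, hg⟩ := hr i z
    rw [hψ0 i hi] at hg
    have hg' : r • z.1 1 + (S.E.d (i - 1) i).hom (g 1) = 0 := hg.symm
    refine ⟨-g, Submodule.linearMap_qext _ (LinearMap.ext_ring ?_)⟩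
    show (S.E.d (i - 1) i).hom (-g 1) = r • z.1 1
    rw [map_neg]
    exact (eq_neg_of_add_eq_zero_left hg').symm

theorem Model.T_eq_of_nontrivial (m : Ideal A) [m.IsMaximal] {i j : ℤ} (hi : Nontrivial (S.T (A ⧸ m) i))
    (hj : Nontrivial (S.T (A ⧸ m) j)) : i = j := by
  by_contra hne
  obtain ⟨x', hx'⟩ := exists_ne (0 : S.T (A ⧸ m) j)
  obtain ⟨x, rfl⟩ := Submodule.Quotient.mk_surjective _ x'
  have hx : x ∉ S.B (A ⧸ m) j := fun h => hx' ((Submodule.Quotient.mk_eq_zero _).2 h)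
  obtain ⟨r, hr, hr'⟩ := S.smul_class hω m j x x hx
  obtain ⟨z', hz'⟩ := exists_ne (0 : S.T (A ⧸ m) i)
  obtain ⟨z, rfl⟩ := Submodule.Quotient.mk_surjective _ z'
  refine hz' ((Submodule.Quotient.mk_eq_zero _).2 ?_)
  by_cases hrm : r ∈ m
  · have h0 : r • x = 0 := Subtype.ext (LinearMap.ext fun t => by
      obtain ⟨t, rfl⟩ := Ideal.Quotient.mk_surjective t
      show r • x.1 (Ideal.Quotient.mk m t) = 0
      rw [← map_smul, show r • Ideal.Quotient.mk m t = 0 from
        Ideal.Quotient.eq_zero_iff_mem.2 (m.mul_mem_right t hrm), map_zero])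
    rw [h0, sub_zero] at hr
    exact (hx hr).elim
  · obtain ⟨s, e, he, hse⟩ := Ideal.IsMaximal.exists_inv (I := m) inferInstance hrm
    have h0 : e • z = 0 := Subtype.ext (LinearMap.ext fun t => by
      obtain ⟨t, rfl⟩ := Ideal.Quotient.mk_surjective t
      show e • z.1 (Ideal.Quotient.mk m t) = 0
      rw [← map_smul, show e • Ideal.Quotient.mk m t = 0 from
        Ideal.Quotient.eq_zero_iff_mem.2 (m.mul_mem_right t he), map_zero])
    have hz : z = (s * r) • z := by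
      conv_lhs => rw [← one_smul A z, ← hse, add_smul, h0, add_zero]
    rw [hz, mul_smul]
    exact Submodule.smul_mem _ s (hr' i hne z)

theorem Model.nonempty_T_equiv (m : Ideal A) [m.IsMaximal] {j : ℤ} (hj : Nontrivial (S.T (A ⧸ m) j)) :
    Nonempty (S.T (A ⧸ m) j ≃ₗ[A] A ⧸ m) := by
  obtain ⟨x', hx'⟩ := exists_ne (0 : S.T (A ⧸ m) j)
  obtain ⟨x, rfl⟩ := Submodule.Quotient.mk_surjective _ x'
  have hx : x ∉ S.B (A ⧸ m) j := fun h => hx' ((Submodule.Quotient.mk_eq_zero _).2 h)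
  let t := LinearMap.toSpanSingleton A (S.T (A ⧸ m) j) (Submodule.Quotient.mk x)
  have ht : Function.Surjective t := by
    intro y'
    obtain ⟨y, rfl⟩ := Submodule.Quotient.mk_surjective _ y'
    obtain ⟨r, hr, -⟩ := S.smul_class hω m j x y hx
    exact ⟨r, ((Submodule.Quotient.eq _).2 hr).symm⟩
  have hle : m ≤ LinearMap.ker t := fun a ha => by
    rw [LinearMap.mem_ker, LinearMap.toSpanSingleton_apply, ← Submodule.Quotient.mk_smul,
      show a • x = 0 from Subtype.ext (LinearMap.ext fun t => by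
        obtain ⟨t, rfl⟩ := Ideal.Quotient.mk_surjective t
        show a • x.1 (Ideal.Quotient.mk m t) = 0
        rw [← map_smul, show a • Ideal.Quotient.mk m t = 0 from
          Ideal.Quotient.eq_zero_iff_mem.2 (m.mul_mem_right t ha), map_zero]), Submodule.Quotient.mk_zero]
  have heq : LinearMap.ker t = m := by
    refine le_antisymm ?_ hle
    refine (Ideal.IsMaximal.eq_of_le ‹_› (fun h => hx' ?_) hle).ge
    have h1 : (1 : A) ∈ LinearMap.ker t := h ▸ Submodule.mem_top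
    rwa [LinearMap.mem_ker, LinearMap.toSpanSingleton_apply, one_smul] at h1
  exact ⟨(t.quotKerEquivOfSurjective ht).symm.trans (Submodule.quotEquivOfEq _ _ heq)⟩

end Groth.Agent.DualCxLib
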