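import Groth.Agent.DualCxLib.Local
import Groth.Prelude.Def_EGA4b

/-!
# Serre's conditions through a dualizing complex
-/

set_option autoImplicit false
set_option backward.isDefEq.respectTransparency false
set_option linter.style.haveILetI false
set_option maxRecDepth 4000

universe u v

open CategoryTheory
attribute [local instance] HasDerivedCategory.standard

noncomputable section

namespace Groth.Agent.DualCxLib

theorem min_coe_le_iff (a b c : ℕ) :
    min (a : WithBot ℕ∞) (b : WithBot ℕ∞) ≤ (((c : ℕ∞)) : WithBot ℕ∞) ↔ min a b ≤ c := by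
  rw [min_le_iff, min_le_iff]
  norm_cast

variable {A : Type u} [CommRing A] [IsNoetherianRing A] {ω : Dual.D A} (hω : Dual.IsDualizing A ω)
  {M : Type u} [AddCommGroup M] [Module A M] [Module.Finite A M]
include hω

omit [Module.Finite A M] in
theorem mem_support_of_mem_support_HK [Module.Finite A M] {i : ℤ} (p : PrimeSpectrum A)
    (h : p ∈ Module.support A (HK ω i M)) : p ∈ Module.support A M := by
  by_contra hp
  exact (not_zeroAt_iff_mem_support p).2 h (zeroAt_HK_of_primes ω i p.asIdeal M fun Q hQ hQs =>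
    (hp (Module.mem_support_mono (p := Q) (q := p) hQ hQs)).elim)

theorem hasSk_iff_codim (k : ℕ) (hk : 1 ≤ k) :
    LocCoh.HasSk k A M ↔
      ∀ (i j : ℤ), j < i → ∀ p : PrimeSpectrum A,
        p ∈ Module.support A (HK ω i M) → p ∈ Module.support A (HK ω j M) →
          (((k : ℤ) + i - j).toNat : WithBot ℕ∞) ≤
            Module.supportDim (Localization.AtPrime p.asIdeal) (LocalizedModule p.asIdeal.primeCompl M) := by
  constructor
  · intro h i j hji p hi hj
    have hp := mem_support_of_mem_support_HK hω p hi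
    obtain ⟨D, hD⟩ := exists_depth_localized p hp
    obtain ⟨d, hd, -⟩ := exists_supportDim_localized hω p hp
    obtain ⟨hb, -⟩ := dim_bounds hω p d hd
    obtain ⟨hb', -⟩ := depth_bounds hω p D M hD
    have := h p.asIdeal
    rw [hd, hD] at this
    replace this : min k d ≤ D := (min_coe_le_iff k d D).1 this
    have := hb j ((not_zeroAt_iff_mem_support p).2 hj)
    have := hb' i ((not_zeroAt_iff_mem_support p).2 hi)
    rw [hd]
    exact_mod_cast show ((k : ℤ) + i - j).toNat ≤ d by omega
  · intro h P hP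
    let p : PrimeSpectrum A := ⟨P, hP⟩
    by_cases hp : p ∈ Module.support A M
    swap
    · haveI : Subsingleton (LocalizedModule P.primeCompl M) := not_nontrivial_iff_subsingleton.1 hp
      rw [Module.supportDim_eq_bot_of_subsingleton]
      exact (min_le_right _ _).trans bot_le
    obtain ⟨D, hD⟩ := exists_depth_localized p hp
    obtain ⟨d, hd, -⟩ := exists_supportDim_localized hω p hp
    obtain ⟨hb, hne⟩ := dim_bounds hω p d hd
    obtain ⟨hb', hne'⟩ := depth_bounds hω p D M hD
    show min (k : WithBot ℕ∞) (Module.supportDim (Localization.AtPrime p.asIdeal) (LocalizedModule p.asIdeal.primeCompl M)) ≤ _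
    rw [hd, hD]
    suffices min k d ≤ D from (min_coe_le_iff k d D).2 this
    by_contra hc
    have hh := h (dfn hω p - D) (dfn hω p - d) (by omega) p ((not_zeroAt_iff_mem_support p).1 hne')
      ((not_zeroAt_iff_mem_support p).1 hne)
    rw [hd] at hh
    replace hh : ((k : ℤ) + (dfn hω p - D) - (dfn hω p - d)).toNat ≤ d := by exact_mod_cast hh
    omega

section Normalized

variable (h0 : ∀ m : PrimeSpectrum A, m.asIdeal.IsMaximal → dfn hω m = 0)
include h0

theorem dfn_nonpos' (q : PrimeSpectrum A) : dfn hω q ≤ 0 := by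
  obtain ⟨m, hm, hle⟩ := Ideal.exists_le_maximal q.asIdeal q.2.ne_top
  have := dfn_le hω (p := q) (q := ⟨m, hm.isPrime⟩) hle
  rw [h0 ⟨m, hm.isPrime⟩ hm] at this
  exact this

theorem supportDim_le_of_forall {N : Type v} [AddCommGroup N] [Module A N] (t : ℕ)
    (h : ∀ q ∈ Module.support A N, -(t : ℤ) ≤ dfn hω q) : Module.supportDim A N ≤ (t : WithBot ℕ∞) := by
  rw [Module.supportDim, Order.krullDim]
  refine iSup_le fun l => ?_
  have h1 := dfn_ltSeries hω (l.map (fun Q => Q.1) fun _ _ hab => hab)
  have h2 := h _ l.head.2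
  have h3 := dfn_nonpos' hω h0 l.last.1
  rw [LTSeries.last_map, LTSeries.head_map, LTSeries.map_length] at h1
  exact_mod_cast show l.length ≤ t by omega

theorem le_supportDim_of_mem {N : Type v} [AddCommGroup N] [Module A N] [Module.Finite A N] {q : PrimeSpectrum A}
    (hq : q ∈ Module.support A N) : ((-dfn hω q).toNat : WithBot ℕ∞) ≤ Module.supportDim A N := by
  obtain ⟨m, hm, hle⟩ := Ideal.exists_le_maximal q.asIdeal q.2.ne_top
  let m' : PrimeSpectrum A := ⟨m, hm.isPrime⟩
  have hqq : q ∈ Module.support A (A ⧸ q.asIdeal) := by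
    rw [Module.mem_support_iff_of_finite, Ideal.annihilator_quotient]
  refine le_trans (le_trans ?_ (HSLib.supportDim_localized_le m'.asIdeal (A ⧸ q.asIdeal))) ?_
  · have := le_supportDim_localized hω m' q hqq hle
    rwa [h0 m' hm, zero_sub] at this
  · refine Order.krullDim_le_of_strictMono (fun Q => ⟨Q.1, ?_⟩) fun _ _ hab => hab
    have := Module.annihilator_le_of_mem_support Q.2
    rw [Ideal.annihilator_quotient] at this
    exact Module.mem_support_mono (p := q) (q := Q.1) this hq

variable (δ : ℕ) (hδ : ∀ Q : PrimeSpectrum A, Q ∈ Module.support A M →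
  (∀ Q' ∈ Module.support A M, Q' ≤ Q → Q' = Q) → dfn hω Q = -(δ : ℤ))
include hδ

theorem exists_dim_localized (p : PrimeSpectrum A) (hp : p ∈ Module.support A M) :
    ∃ d : ℕ, Module.supportDim (Localization.AtPrime p.asIdeal) (LocalizedModule p.asIdeal.primeCompl M) =
      (d : WithBot ℕ∞) ∧ (d : ℤ) = dfn hω p + δ := by
  obtain ⟨d, hd, -, P, hP, -, hPn, hPmin⟩ := exists_supportDim_localized hω p hp
  exact ⟨d, hd, by have := hδ P hP hPmin; omega⟩

theorem hasSk_iff_supportDim (k : ℕ) (hk : 1 ≤ k) :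
    LocCoh.HasSk k A M ↔
      ∀ j : ℤ, j ≠ -(δ : ℤ) →
        (-j - (k : ℤ) < 0 → Subsingleton (HK ω j M)) ∧
        (0 ≤ -j - (k : ℤ) → Module.supportDim A (HK ω j M) ≤ ((-j - (k : ℤ)).toNat : WithBot ℕ∞)) := by
  constructor
  · intro h j hj
    have key : ∀ q ∈ Module.support A (HK ω j M), j + k ≤ dfn hω q := fun q hq => by
      have hp := mem_support_of_mem_support_HK hω q hq
      obtain ⟨D, hD⟩ := exists_depth_localized q hp
      obtain ⟨d, hd, hdd⟩ := exists_dim_localized hω h0 δ hδ q hp
      obtain ⟨hb, -⟩ := dim_bounds hω q d hd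
      obtain ⟨hb', -⟩ := depth_bounds hω q D M hD
      have := h q.asIdeal
      rw [hd, hD] at this
      replace this : min k d ≤ D := (min_coe_le_iff k d D).1 this
      have := hb j ((not_zeroAt_iff_mem_support q).2 hq)
      have := hb' j ((not_zeroAt_iff_mem_support q).2 hq)
      omega
    refine ⟨fun hneg => ?_, fun hpos => supportDim_le_of_forall hω h0 _ fun q hq => ?_⟩
    · rw [← Module.support_eq_empty_iff (R := A), Set.eq_empty_iff_forall_notMem]
      intro q hq
      have := key q hq
      have := dfn_nonpos' hω h0 q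
      omega
    · have := key q hq
      omega
  · intro h P hP
    let p : PrimeSpectrum A := ⟨P, hP⟩
    by_cases hp : p ∈ Module.support A M
    swap
    · haveI : Subsingleton (LocalizedModule P.primeCompl M) := not_nontrivial_iff_subsingleton.1 hp
      rw [Module.supportDim_eq_bot_of_subsingleton]
      exact (min_le_right _ _).trans bot_le
    obtain ⟨D, hD⟩ := exists_depth_localized p hp
    obtain ⟨d, hd, hdd⟩ := exists_dim_localized hω h0 δ hδ p hp
    obtain ⟨hb', hne'⟩ := depth_bounds hω p D M hD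
    show min (k : WithBot ℕ∞) (Module.supportDim (Localization.AtPrime p.asIdeal) (LocalizedModule p.asIdeal.primeCompl M)) ≤ _
    rw [hd, hD]
    suffices min k d ≤ D from (min_coe_le_iff k d D).2 this
    by_contra hc
    obtain ⟨h1, h2⟩ := h (dfn hω p - D) (by omega)
    have hsupp := (not_zeroAt_iff_mem_support p).1 hne'
    by_cases hs : -(dfn hω p - D) - (k : ℤ) < 0
    · haveI := h1 hs
      exact hne' .of_subsingleton
    · haveI := finite_HK' hω (dfn hω p - D) M
      have h3 := (le_supportDim_of_mem hω h0 hsupp).trans (h2 (by omega))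
      replace h3 : (-dfn hω p).toNat ≤ (-(dfn hω p - D) - (k : ℤ)).toNat := by exact_mod_cast h3
      have := dfn_nonpos' hω h0 p
      omega

omit hδ

theorem dfn_min_of_equidim (hM : EGA4.IsEquidimModule A M) (hδ' : Module.supportDim A M = δ)
    (Q : PrimeSpectrum A) (hQ : Q ∈ Module.support A M) (hmin : ∀ Q' ∈ Module.support A M, Q' ≤ Q → Q' = Q) :
    dfn hω Q = -(δ : ℤ) := by
  have hQmin : Q.asIdeal ∈ (Module.annihilator A M).minimalPrimes :=
    ⟨⟨Q.2, Module.mem_support_iff_of_finite.1 hQ⟩, fun y hy hyQ => by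
      have := hmin ⟨y, hy.1⟩ (Module.mem_support_iff_of_finite.2 hy.2) hyQ
      exact le_of_eq (congrArg PrimeSpectrum.asIdeal this).symm⟩
  have h1 := hM _ hQmin
  rw [hδ', ← Module.supportDim_quotient_eq_ringKrullDim] at h1
  have hq : Q ∈ Module.support A (A ⧸ Q.asIdeal) := by
    rw [Module.mem_support_iff_of_finite, Ideal.annihilator_quotient]
  have hle := le_supportDim_of_mem hω h0 hq
  have hge := supportDim_le_of_forall hω h0 (N := A ⧸ Q.asIdeal) (-dfn hω Q).toNat fun q hq' => by
    have hQq : Q ≤ q := by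
      have := Module.annihilator_le_of_mem_support hq'
      rwa [Ideal.annihilator_quotient] at this
    have := dfn_le hω hQq
    omega
  have heq := le_antisymm hge hle
  rw [h1] at heq
  replace heq : δ = (-dfn hω Q).toNat := by exact_mod_cast heq
  have := dfn_nonpos' hω h0 Q
  omega

end Normalized

theorem dfn_eq_zero_of_normalized_maximal
    (hnorm : ∀ (m : Ideal A) (_ : m.IsMaximal) (i : ℤ), i ≠ 0 → Subsingleton (Dual.inD A (A ⧸ m) ⟶ ω⟦i⟧))
    (m : PrimeSpectrum A) (hm : m.asIdeal.IsMaximal) : dfn hω m = 0 := by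
  by_contra h
  haveI : Subsingleton (HK ω (dfn hω m) (A ⧸ m.asIdeal)) := hnorm m.asIdeal hm _ h
  exact not_zeroAt_dfn hω m .of_subsingleton

theorem dfn_eq_zero_of_isNormalized [IsLocalRing A] (hn : Dual.IsNormalized A ω)
    (m : PrimeSpectrum A) (hm : m.asIdeal.IsMaximal) : dfn hω m = 0 := by
  rw [show m = IsLocalRing.closedPoint A from PrimeSpectrum.ext (IsLocalRing.eq_maximalIdeal hm)]
  exact dfn_closedPoint hω hn

theorem finiteType_criterion (n : ℕ) (hd : ringKrullDim A = n) (hEq : EGA4.IsEquidim A)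
    (hnorm : ∀ (m : Ideal A) (_ : m.IsMaximal) (i : ℤ), i ≠ 0 → Subsingleton (Dual.inD A (A ⧸ m) ⟶ ω⟦i⟧)) :
    (∀ i : ℕ, n < i → Subsingleton (Dual.HD A ω (-(i : ℤ)))) ∧
    ∀ k' : ℕ, 1 ≤ k' →
      (LocCoh.HasSk k' A A ↔
        ∀ i : ℕ, i ≠ n →
          (i < k' → Subsingleton (Dual.HD A ω (-(i : ℤ)))) ∧
          (k' ≤ i → Module.supportDim A (Dual.HD A ω (-(i : ℤ))) ≤ ((i - k' : ℕ) : WithBot ℕ∞))) := by
  have h0 := dfn_eq_zero_of_normalized_maximal hω hnorm
  have hann : Module.annihilator A A = ⊥ := (Submodule.eq_bot_iff _).2 fun a ha => by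
    simpa using Module.mem_annihilator.1 ha 1
  have hsd : Module.supportDim A A = (n : WithBot ℕ∞) := by rw [Module.supportDim_self_eq_ringKrullDim, hd]
  have hM : EGA4.IsEquidimModule A A := fun p hp => by
    rw [hann] at hp
    rw [Module.supportDim_self_eq_ringKrullDim]
    exact hEq p hp
  have hδ := dfn_min_of_equidim hω h0 (M := A) n hM hsd
  have hpos : ∀ j : ℤ, 0 < j → Subsingleton (HK ω j A) := fun j hj => by
    rw [← Module.support_eq_empty_iff (R := A), Set.eq_empty_iff_forall_notMem]
    intro q hq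
    have := le_dfn_of_not_zeroAt hω q ((not_zeroAt_iff_mem_support q).2 hq)
    have := dfn_nonpos' hω h0 q
    omega
  have e : ∀ j : ℤ, Nonempty (Dual.HD A ω j ≃ₗ[A] HK ω j A) := fun j => by
    obtain ⟨e⟩ := (model hω).nonempty_HD_equiv j
    first
      | exact ⟨e⟩
      | exact ⟨e.symm⟩
  refine ⟨fun i hi => ?_, fun k' hk' => ?_⟩
  · obtain ⟨ei⟩ := e (-(i : ℤ))
    haveI : Subsingleton (HK ω (-(i : ℤ)) A) := by
      rw [← Module.support_eq_empty_iff (R := A), Set.eq_empty_iff_forall_notMem]
      intro q hq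
      obtain ⟨d, hd', hdd⟩ := exists_dim_localized hω h0 n hδ q (mem_support_of_mem_support_HK hω q hq)
      obtain ⟨hb, -⟩ := dim_bounds hω q d hd'
      have := hb _ ((not_zeroAt_iff_mem_support q).2 hq)
      omega
    exact ei.toEquiv.subsingleton
  · rw [hasSk_iff_supportDim hω h0 n hδ k' hk']
    constructor
    · intro h i hi
      obtain ⟨ei⟩ := e (-(i : ℤ))
      obtain ⟨h1, h2⟩ := h (-(i : ℤ)) (by omega)
      refine ⟨fun hik => ?_, fun hik => ?_⟩
      · haveI := h1 (by omega)
        exact ei.toEquiv.subsingleton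
      · rw [Module.supportDim_eq_of_equiv ei]
        refine (h2 (by omega)).trans_eq ?_
        rw [show (-(-(i : ℤ)) - (k' : ℤ)).toNat = i - k' by omega]
    · intro h j hj
      rcases lt_or_ge 0 j with hj0 | hj0
      · haveI := hpos j hj0
        exact ⟨fun _ => ‹_›, fun _ => by rw [Module.supportDim_eq_bot_of_subsingleton]; exact bot_le⟩
      · obtain ⟨i, rfl⟩ : ∃ i : ℕ, j = -(i : ℤ) := ⟨(-j).toNat, by omega⟩
        obtain ⟨ei⟩ := e (-(i : ℤ))
        obtain ⟨h1, h2⟩ := h i (by omega)
        refine ⟨fun hik => ?_, fun hik => ?_⟩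
        · haveI := h1 (by omega)
          exact ei.symm.toEquiv.subsingleton
        · rw [← Module.supportDim_eq_of_equiv ei]
          refine (h2 (by omega)).trans_eq ?_
          rw [show (-(-(i : ℤ)) - (k' : ℤ)).toNat = i - k' by omega]

end Groth.Agent.DualCxLib
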