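import Groth.Agent.DualCxLib.SkCrit
import Groth.Agent.EGA4Dim.TensorSk
import Mathlib.RingTheory.Ideal.MinimalPrime.Noetherian

/-!
# Openness of Serre loci
-/

set_option autoImplicit false
set_option backward.isDefEq.respectTransparency false
set_option linter.style.haveILetI false
set_option maxRecDepth 4000

universe u

open CategoryTheory
attribute [local instance] HasDerivedCategory.standard

noncomputable section

namespace Groth.Agent.DualCxLib

variable {A : Type u} [CommRing A] [IsNoetherianRing A] {ω : Dual.D A} (hω : Dual.IsDualizing A ω)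
  {M : Type u} [AddCommGroup M] [Module A M] [Module.Finite A M]
include hω

theorem exists_finite_bad (k : ℕ) : ∃ F : Set (PrimeSpectrum A), F.Finite ∧
    (∀ Q ∈ F, ¬ (min (k : WithBot ℕ∞) (Module.supportDim (Localization.AtPrime Q.asIdeal) (LocalizedModule Q.asIdeal.primeCompl M)) ≤
      ((LocCoh.depth (Localization.AtPrime Q.asIdeal) (LocalizedModule Q.asIdeal.primeCompl M) : ℕ∞) : WithBot ℕ∞))) ∧
    ∀ q : PrimeSpectrum A, ¬ (min (k : WithBot ℕ∞) (Module.supportDim (Localization.AtPrime q.asIdeal) (LocalizedModule q.asIdeal.primeCompl M)) ≤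
      ((LocCoh.depth (Localization.AtPrime q.asIdeal) (LocalizedModule q.asIdeal.primeCompl M) : ℕ∞) : WithBot ℕ∞)) →
      ∃ Q ∈ F, Q ≤ q := by
  let I : ℤ × ℤ → Ideal A := fun ij =>
    Module.annihilator A (HK ω ij.1 M) ⊔ Module.annihilator A (HK ω ij.2 M)
  let S := Finset.Icc (model hω).a (model hω).b
  let F0 : Set (PrimeSpectrum A) := ⋃ ij ∈ ((S ×ˢ S : Finset (ℤ × ℤ)) : Set (ℤ × ℤ)), PrimeSpectrum.asIdeal ⁻¹' (I ij).minimalPrimes
  have hF0 : F0.Finite := (Finset.finite_toSet _).biUnion fun ij _ =>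
    ((I ij).finite_minimalPrimes_of_isNoetherianRing A).preimage (fun a _ b _ h => PrimeSpectrum.ext h)
  refine ⟨{Q ∈ F0 | ¬ (min (k : WithBot ℕ∞) (Module.supportDim (Localization.AtPrime Q.asIdeal) (LocalizedModule Q.asIdeal.primeCompl M)) ≤
      ((LocCoh.depth (Localization.AtPrime Q.asIdeal) (LocalizedModule Q.asIdeal.primeCompl M) : ℕ∞) : WithBot ℕ∞))},
    hF0.subset (Set.sep_subset _ _), fun Q hQ => hQ.2, fun q hq => ?_⟩
  have hp : q ∈ Module.support A M := by
    by_contra hp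
    haveI : Subsingleton (LocalizedModule q.asIdeal.primeCompl M) := not_nontrivial_iff_subsingleton.1 hp
    rw [Module.supportDim_eq_bot_of_subsingleton] at hq
    exact hq ((min_le_right _ _).trans bot_le)
  obtain ⟨D, hD⟩ := exists_depth_localized q hp
  obtain ⟨d, hd, -⟩ := exists_supportDim_localized hω q hp
  obtain ⟨-, hne⟩ := dim_bounds hω q d hd
  obtain ⟨-, hne'⟩ := depth_bounds hω q D M hD
  rw [hd, hD, min_coe_le_iff] at hq
  let i : ℤ := dfn hω q - D
  let j : ℤ := dfn hω q - d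
  haveI := finite_HK' hω i M
  haveI := finite_HK' hω j M
  have hle : I (i, j) ≤ q.asIdeal := sup_le (Module.mem_support_iff_of_finite.1 ((not_zeroAt_iff_mem_support q).1 hne'))
    (Module.mem_support_iff_of_finite.1 ((not_zeroAt_iff_mem_support q).1 hne))
  obtain ⟨Q, hQ, hQq⟩ := Ideal.exists_minimalPrimes_le hle
  let Q' : PrimeSpectrum A := ⟨Q, hQ.1.1⟩
  have hij : ((i, j) : ℤ × ℤ) ∈ ((S ×ˢ S : Finset (ℤ × ℤ)) : Set (ℤ × ℤ)) :=
    Finset.mem_coe.2 (Finset.mem_product.2 ⟨Finset.mem_Icc.2 (mem_range_of_not_zeroAt hω hne'),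
      Finset.mem_Icc.2 (mem_range_of_not_zeroAt hω hne)⟩)
  have hmem : Q' ∈ F0 := Set.mem_biUnion hij hQ
  refine ⟨Q', ⟨hmem, ?_⟩, hQq⟩
  have hi : Q' ∈ Module.support A (HK ω i M) := Module.mem_support_iff_of_finite.2 (le_sup_left.trans hQ.1.2)
  have hj : Q' ∈ Module.support A (HK ω j M) := Module.mem_support_iff_of_finite.2 (le_sup_right.trans hQ.1.2)
  have hp' := mem_support_of_mem_support_HK hω Q' hi
  obtain ⟨D', hD'⟩ := exists_depth_localized Q' hp'
  obtain ⟨d', hd', -, P, hP, hPQ, hPn, -⟩ := exists_supportDim_localized hω Q' hp'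
  obtain ⟨hb, -⟩ := dim_bounds hω Q' d' hd'
  obtain ⟨hb', -⟩ := depth_bounds hω Q' D' M hD'
  have := hb j ((not_zeroAt_iff_mem_support Q').2 hj)
  have := hb' i ((not_zeroAt_iff_mem_support Q').2 hi)
  have hmono := le_supportDim_localized hω q P hP (hPQ.trans hQq)
  rw [hd] at hmono
  replace hmono : (dfn hω q - dfn hω P).toNat ≤ d := by exact_mod_cast hmono
  have := dfn_le hω (show Q' ≤ q from hQq)
  rw [hd', hD', min_coe_le_iff]
  omega

theorem isOpen_skLocus (k : ℕ) : IsOpen {p : PrimeSpectrum A | EGA4.HasSkAt k A M p.asIdeal} := by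
  obtain ⟨F, hF, hbad, hF'⟩ := exists_finite_bad hω (M := M) k
  have : {p : PrimeSpectrum A | EGA4.HasSkAt k A M p.asIdeal} =
      (⋃ Q ∈ F, PrimeSpectrum.zeroLocus (Q.asIdeal : Set A))ᶜ := by
    ext p
    simp only [Set.mem_ofPred_eq, EGA4Dim.hasSkAt_iff, Set.mem_compl_iff, Set.mem_iUnion, not_exists,
      PrimeSpectrum.mem_zeroLocus, SetLike.coe_subset_coe]
    constructor
    · intro h Q hQ hle
      exact hbad Q hQ (h Q.asIdeal hle)
    · intro h P hP hPp
      by_contra hc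
      obtain ⟨Q, hQ, hQP⟩ := hF' ⟨P, hP⟩ hc
      exact h Q hQ (hQP.trans hPp)
  rw [this, isOpen_compl_iff]
  exact hF.isClosed_biUnion fun Q _ => PrimeSpectrum.isClosed_zeroLocus _

end Groth.Agent.DualCxLib
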