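import Groth.Agent.DRingLib.TensorPerfect
import Groth.Agent.DRingLib.BaseChange
import Groth.Agent.ShriekAlgLib.RegCoind
import Groth.Agent.HTorKunneth.Map
import Groth.Agent.DRingLib.ExactPair
import Mathlib.RingTheory.LocalRing.Module
import Mathlib.RingTheory.PicardGroup

/-!
# Invertible objects of the derived category of a local ring
-/

set_option autoImplicit false
set_option backward.isDefEq.respectTransparency false
set_option linter.style.haveILetI false
set_option maxRecDepth 4000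

universe u

open CategoryTheory Limits MonoidalCategory HomologicalComplex
open scoped TensorProduct
attribute [local instance] HasDerivedCategory.standard

noncomputable section

namespace Groth.Agent.DualCxLib

open DRingLib DCohLib ShriekAlgLib

variable {A : Type u} [CommRing A]

theorem nonempty_HD_top_tensor {X Y : DRing.Cx A} {b c : ℤ} (hX : DRing.VanishesAbove X b) (hY : DRing.VanishesAbove Y c) :
    Nonempty ((Dual.HD A (DRing.toD Y) c ⊗[A] Dual.HD A (DRing.toD X) b) ≃ₗ[A]
      Dual.HD A (DRing.toD (Y ⊗ X : DRing.Cx A)) (c + b)) := by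
  obtain ⟨eX⟩ := nonempty_top_homology X b (hX _ (by omega))
  obtain ⟨eY⟩ := nonempty_top_homology Y c (hY _ (by omega))
  have hT : IsZero ((Y ⊗ X : DRing.Cx A).X (c + b + 1)) := isZero_tensor_X fun p q hpq => by
    by_cases hp : c < p
    · exact Or.inl (hY p hp)
    · exact Or.inr (hX q (by omega))
  obtain ⟨eT⟩ := nonempty_top_homology (Y ⊗ X : DRing.Cx A) (c + b) hT
  let fY := (Y.d (c - 1) c).hom
  let fX := (X.d (b - 1) b).hom
  let gY : Y.X c →ₗ[A] Y.X c ⧸ LinearMap.range fY := Submodule.mkQ _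
  let gX : X.X b →ₗ[A] X.X b ⧸ LinearMap.range fX := Submodule.mkQ _
  let ι := HTorKunneth.inc Y X c b (c + b) rfl
  have hzero : ∀ (p q : ℤ), p + q = c + b → p ≠ c → IsZero ((Y.X p) ⊗ (X.X q) : ModuleCat.{u} A) := fun p q hpq hp => by
    rcases lt_or_gt_of_ne hp with h | h
    · exact (tensorLeft (Y.X p)).map_isZero (hX q (by omega))
    · exact (tensorRight (X.X q)).map_isZero (hY p h)
  have hιs : Function.Surjective ι := by
    intro z
    refine ιBil_span (K := Y) (L := X) (fun z => ∃ w, ι w = z) ⟨0, map_zero _⟩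
      (fun x y ⟨a, ha⟩ ⟨a', ha'⟩ => ⟨a + a', by rw [map_add, ha, ha']⟩)
      (fun r x ⟨a, ha⟩ => ⟨r • a, by rw [map_smul, ha]⟩) (fun p q hpq x y => ?_) z
    by_cases hp : p = c
    · subst hp
      obtain rfl : q = b := by omega
      exact ⟨x ⊗ₜ y, rfl⟩
    · haveI := ModuleCat.subsingleton_of_isZero (hzero p q hpq hp)
      refine ⟨0, ?_⟩
      rw [map_zero]
      show 0 = (ιTensorObj Y X p q (c + b) hpq).hom (x ⊗ₜ y)
      rw [show (x ⊗ₜ[A] y : (Y.X p ⊗ X.X q : ModuleCat.{u} A)) = 0 from Subsingleton.elim _ _, map_zero]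
  let m : ∀ p q : ℤ, p + q = c + b → ((Y.X p ⊗ X.X q : ModuleCat.{u} A) ⟶
      ModuleCat.of A ((Y.X c ⧸ LinearMap.range fY) ⊗[A] (X.X b ⧸ LinearMap.range fX))) := fun p q h =>
    if hp : p = c then
      (((Y.XIsoOfEq hp).hom ⊗ₘ (X.XIsoOfEq (show q = b by omega)).hom) ≫
        ModuleCat.ofHom (TensorProduct.map gY gX))
    else 0
  let ψ : (Y ⊗ X : DRing.Cx A).X (c + b) ⟶
      ModuleCat.of A ((Y.X c ⧸ LinearMap.range fY) ⊗[A] (X.X b ⧸ LinearMap.range fX)) :=
    HomologicalComplex.mapBifunctorDesc (fun p q h => m p q h)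
  have hψι : ∀ w, ψ.hom (ι w) = TensorProduct.map gY gX w := fun w => by
    have h1 : ιTensorObj Y X c b (c + b) rfl ≫ ψ = m c b rfl := HomologicalComplex.ι_mapBifunctorDesc _ _ _ _
    have h2 : m c b rfl = ModuleCat.ofHom (TensorProduct.map gY gX) := by
      simp only [m, dif_pos]
      simp
    exact congrArg (fun φ => φ.hom w) (h1.trans h2)
  have hrange : LinearMap.range (((Y ⊗ X : DRing.Cx A).d (c + b - 1) (c + b)).hom) = LinearMap.ker ψ.hom := by
    have hd : ∀ (p q : ℤ) (hpq : p + q = c + b - 1) (x : Y.X p) (y : X.X q),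
        ((Y ⊗ X : DRing.Cx A).d (c + b - 1) (c + b)).hom ((ιTensorObj Y X p q _ hpq).hom (x ⊗ₜ y)) =
          HTorKunneth.s₁ p q • HTorKunneth.inc Y X (p + 1) q (c + b) (by omega) ((Y.d p (p + 1)).hom x ⊗ₜ y) +
          HTorKunneth.s₂ p q • HTorKunneth.inc Y X p (q + 1) (c + b) (by omega) (x ⊗ₜ (X.d q (q + 1)).hom y) :=
      fun p q hpq x y => HTorKunneth.d_inc Y X p (p + 1) q (q + 1) (c + b - 1) (c + b) rfl rfl hpq (by omega) x y
    refine le_antisymm ?_ ?_
    · rintro _ ⟨z, rfl⟩
      rw [LinearMap.mem_ker]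
      refine ιBil_span (K := Y) (L := X) (fun z => ψ.hom ((((Y ⊗ X : DRing.Cx A).d (c + b - 1) (c + b)).hom) z) = 0)
        (by rw [map_zero, map_zero]) (fun x y hx hy => by rw [map_add, map_add, hx, hy, add_zero])
        (fun r x hx => by rw [map_smul, map_smul, hx, smul_zero]) (fun p q hpq x y => ?_) z
      show ψ.hom (((Y ⊗ X : DRing.Cx A).d (c + b - 1) (c + b)).hom ((ιTensorObj Y X p q _ hpq).hom (x ⊗ₜ y))) = 0
      rw [hd p q hpq x y, map_add, map_zsmul, map_zsmul]
      have key : ∀ (p q : ℤ) (h : p + q = c + b) (w : TensorProduct A (Y.X p) (X.X q)),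
          ψ.hom (HTorKunneth.inc Y X p q (c + b) h w) = (m p q h).hom w := fun p q h w => by
        have h1 : ιTensorObj Y X p q (c + b) h ≫ ψ = m p q h := HomologicalComplex.ι_mapBifunctorDesc _ _ _ _
        exact congrArg (fun φ => φ.hom w) h1
      have t1 : ψ.hom (HTorKunneth.inc Y X (p + 1) q (c + b) (by omega) ((Y.d p (p + 1)).hom x ⊗ₜ y)) = 0 := by
        rw [key]
        by_cases hp : p + 1 = c
        · obtain rfl : p = c - 1 := by omega
          obtain rfl : q = b := by omega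
          simp only [m, dif_pos hp]
          show TensorProduct.map gY gX (((Y.XIsoOfEq hp).hom.hom ((Y.d (c - 1) (c - 1 + 1)).hom x)) ⊗ₜ
            ((X.XIsoOfEq (rfl : q = q)).hom.hom y)) = 0
          rw [TensorProduct.map_tmul, show gY ((Y.XIsoOfEq hp).hom.hom ((Y.d (c - 1) (c - 1 + 1)).hom x)) = 0 from
            (Submodule.Quotient.mk_eq_zero _).2 ⟨x, (congr($(Y.d_comp_XIsoOfEq_hom hp (c - 1)).hom x)).symm⟩,
            TensorProduct.zero_tmul]
        · simp only [m, dif_neg hp]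
          rfl
      have t2 : ψ.hom (HTorKunneth.inc Y X p (q + 1) (c + b) (by omega) (x ⊗ₜ (X.d q (q + 1)).hom y)) = 0 := by
        rw [key]
        by_cases hp : p = c
        · simp only [m, dif_pos hp]
          have hq : q + 1 = b := by omega
          obtain rfl : q = b - 1 := by omega
          show TensorProduct.map gY gX (((Y.XIsoOfEq hp).hom.hom x) ⊗ₜ
            ((X.XIsoOfEq hq).hom.hom ((X.d (b - 1) (b - 1 + 1)).hom y))) = 0
          rw [TensorProduct.map_tmul, show gX ((X.XIsoOfEq hq).hom.hom ((X.d (b - 1) (b - 1 + 1)).hom y)) = 0 from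
            (Submodule.Quotient.mk_eq_zero _).2 ⟨y, (congr($(X.d_comp_XIsoOfEq_hom hq (b - 1)).hom y)).symm⟩,
            TensorProduct.tmul_zero]
        · simp only [m, dif_neg hp]
          rfl
      rw [t1, t2, smul_zero, smul_zero, add_zero]
    · intro z hz
      obtain ⟨w, rfl⟩ := hιs z
      rw [LinearMap.mem_ker, hψι, ← LinearMap.mem_ker] at hz
      rw [TensorProduct.map_ker (f := fY) (g := gY) (LinearMap.exact_map_mkQ_range fY) (Submodule.mkQ_surjective _)
        (f' := fX) (g' := gX) (LinearMap.exact_map_mkQ_range fX) (Submodule.mkQ_surjective _)] at hz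
      obtain ⟨u, ⟨u', rfl⟩, v, ⟨v', rfl⟩, rfl⟩ := Submodule.mem_sup.1 hz
      clear hz
      rw [map_add]
      refine add_mem ?_ ?_
      · induction u' using TensorProduct.induction_on with
        | zero => rw [map_zero, map_zero]; exact zero_mem _
        | add a a' ha ha' => rw [map_add, map_add]; exact add_mem ha ha'
        | tmul x y =>
          refine ⟨HTorKunneth.s₂ c (b - 1) • HTorKunneth.inc Y X c (b - 1) (c + b - 1) (by omega) (x ⊗ₜ y), ?_⟩
          rw [map_zsmul]
          refine (congrArg (HTorKunneth.s₂ c (b - 1) • ·)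
            (HTorKunneth.d_inc Y X c (c + 1) (b - 1) b (c + b - 1) (c + b) rfl (by omega) (by omega) (by omega) x y)).trans ?_
          haveI := ModuleCat.subsingleton_of_isZero (hY (c + 1) (by omega))
          rw [show (Y.d c (c + 1)) x = 0 from Subsingleton.elim _ _, TensorProduct.zero_tmul, map_zero, smul_zero,
            zero_add, smul_smul, HTorKunneth.s₂, ← Units.val_mul, Int.units_mul_self, Units.val_one, one_smul]
          rfl
      · induction v' using TensorProduct.induction_on with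
        | zero => rw [map_zero, map_zero]; exact zero_mem _
        | add a a' ha ha' => rw [map_add, map_add]; exact add_mem ha ha'
        | tmul x y =>
          refine ⟨HTorKunneth.s₁ (c - 1) b • HTorKunneth.inc Y X (c - 1) b (c + b - 1) (by omega) (x ⊗ₜ y), ?_⟩
          rw [map_zsmul]
          refine (congrArg (HTorKunneth.s₁ (c - 1) b • ·)
            (HTorKunneth.d_inc Y X (c - 1) c b (b + 1) (c + b - 1) (c + b) (by omega) rfl (by omega) (by omega) x y)).trans ?_
          haveI := ModuleCat.subsingleton_of_isZero (hX (b + 1) (by omega))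
          rw [show (X.d b (b + 1)) y = 0 from Subsingleton.elim _ _, TensorProduct.tmul_zero, map_zero, smul_zero,
            add_zero, smul_smul, HTorKunneth.s₁_mul_self, one_smul]
          rfl
  have hψs : Function.Surjective ψ.hom := fun v => by
    obtain ⟨w, rfl⟩ := TensorProduct.map_surjective (g := gY) (g' := gX) (Submodule.mkQ_surjective _)
      (Submodule.mkQ_surjective _) v
    exact ⟨ι w, hψι w⟩
  exact ⟨(TensorProduct.congr eY.symm eX.symm).trans
    (((Submodule.quotEquivOfEq _ _ hrange).trans (ψ.hom.quotKerEquivOfSurjective hψs)).symm.trans eT)⟩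

theorem nontrivial_tensor [IsLocalRing A] (M N : Type u) [AddCommGroup M] [Module A M] [Module.Finite A M]
    [AddCommGroup N] [Module A N] [Module.Finite A N] [Nontrivial M] [Nontrivial N] : Nontrivial (M ⊗[A] N) := by
  rw [← not_subsingleton_iff_nontrivial]
  intro h
  let k := IsLocalRing.ResidueField A
  haveI : Nontrivial (k ⊗[A] M) :=
    not_subsingleton_iff_nontrivial.1 fun h' => not_subsingleton M (IsLocalRing.subsingleton_tensorProduct.1 h')
  obtain ⟨v, hv⟩ := exists_ne (0 : k ⊗[A] M)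
  obtain ⟨f, hf⟩ : ∃ f : Module.Dual k (k ⊗[A] M), f v ≠ 0 := by
    by_contra hc
    push Not at hc
    exact hv ((Module.forall_dual_apply_eq_zero_iff k v).1 hc)
  let g : M →ₗ[A] k := (f.restrictScalars A).comp (TensorProduct.mk A k M 1)
  obtain ⟨w, hw⟩ : ∃ w, g w ≠ 0 := by
    by_contra hc
    push Not at hc
    refine hf ?_
    clear hf hv
    induction v using TensorProduct.induction_on with
    | zero => exact map_zero f
    | add x y hx hy => rw [map_add, hx, hy, add_zero]
    | tmul a x =>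
      rw [show a ⊗ₜ[A] x = a • ((1 : k) ⊗ₜ[A] x) by rw [TensorProduct.smul_tmul', smul_eq_mul, mul_one], map_smul,
        show f (1 ⊗ₜ[A] x) = 0 from hc x, smul_zero]
  have hgs : Function.Surjective g := fun z => by
    obtain ⟨a, ha⟩ := IsLocalRing.residue_surjective (z * (g w)⁻¹)
    refine ⟨a • w, ?_⟩
    rw [map_smul, Algebra.smul_def, show algebraMap A k a = z * (g w)⁻¹ from ha, mul_assoc, inv_mul_cancel₀ hw,
      mul_one]
  haveI : Subsingleton (k ⊗[A] N) := (LinearMap.rTensor_surjective N hgs).subsingleton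
  exact not_subsingleton N (IsLocalRing.subsingleton_tensorProduct.1 ‹_›)

theorem subsingleton_HD_of_tensor_iso {X Y : DRing.Cx A} {b : ℤ} (hX : DRing.VanishesAbove X b)
    (e : DRing.toD (Y ⊗ X : DRing.Cx A) ≅ Dual.inD A A) (eb : Dual.HD A (DRing.toD X) b ≃ₗ[A] A) (j : ℤ)
    (hj : j ≠ -b) : Subsingleton (Dual.HD A (DRing.toD Y) j) := by
  obtain ⟨eT⟩ := nonempty_top_homology X b (hX _ (by omega))
  obtain ⟨x, hx⟩ := Submodule.Quotient.mk_surjective _ (eT.symm (eb.symm 1))
  haveI := ModuleCat.subsingleton_of_isZero (hX (b + 1) (by omega))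
  let S := (HomologicalComplex.single (ModuleCat.{u} A) (ComplexShape.up ℤ) b).obj (ModuleCat.of A A)
  let i : S ⟶ X := HomologicalComplex.mkHomFromSingle (ModuleCat.ofHom (LinearMap.toSpanSingleton A (X.X b) x))
    (fun k hk => by
      obtain rfl : b + 1 = k := hk
      exact (hX (b + 1) (by omega)).eq_of_tgt _ _)
  let π : (X.X b) →ₗ[A] A := (eb.toLinearMap ∘ₗ eT.toLinearMap) ∘ₗ Submodule.mkQ _
  let r : X ⟶ S := HomologicalComplex.mkHomToSingle (ModuleCat.ofHom π) (fun k hk => by
    obtain rfl : k = b - 1 := eq_sub_of_add_eq hk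
    refine ModuleCat.hom_ext (LinearMap.ext fun z => ?_)
    show eb (eT (Submodule.mkQ _ ((X.d (b - 1) b).hom z))) = 0
    rw [show Submodule.mkQ (LinearMap.range (X.d (b - 1) b).hom) ((X.d (b - 1) b).hom z) = 0 from
      (Submodule.Quotient.mk_eq_zero _).2 ⟨z, rfl⟩, map_zero, map_zero])
  have hir : i ≫ r = 𝟙 S := by
    refine HomologicalComplex.from_single_hom_ext ?_
    simp only [i, r, HomologicalComplex.comp_f, HomologicalComplex.mkHomFromSingle_f, HomologicalComplex.mkHomToSingle_f,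
      HomologicalComplex.id_f, Category.assoc]
    have : ModuleCat.ofHom (LinearMap.toSpanSingleton A (X.X b) x) ≫ ModuleCat.ofHom π = 𝟙 _ := by
      refine ModuleCat.hom_ext (LinearMap.ext_ring ?_)
      show π ((LinearMap.toSpanSingleton A (X.X b) x) 1) = 1
      rw [LinearMap.toSpanSingleton_apply_one]
      show eb (eT (Submodule.Quotient.mk x)) = 1
      rw [hx, eT.apply_symm_apply, eb.apply_symm_apply]
    rw [reassoc_of% this, Iso.hom_inv_id]
  let ρ : Retract (DRing.toD (Y ⊗ S : DRing.Cx A)) (DRing.toD (Y ⊗ X : DRing.Cx A)) :=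
    { i := DerivedCategory.Q.map (Y ◁ i)
      r := DerivedCategory.Q.map (Y ◁ r)
      retract := by rw [← Functor.map_comp, ← whiskerLeft_comp, hir, whiskerLeft_id, CategoryTheory.Functor.map_id] }
  let U := (HomologicalComplex.single (ModuleCat.{u} A) (ComplexShape.up ℤ) 0).obj (ModuleCat.of A A)
  let σ : U⟦-b⟧ ≅ S := ((CochainComplex.singleFunctors (ModuleCat.{u} A)).shiftIso (-b) b 0 (by omega)).app (ModuleCat.of A A)
  let eYS : (Y ⊗ S : DRing.Cx A) ≅ Y⟦-b⟧ :=
    (whiskerLeftIso Y σ).symm ≪≫ CochainComplex.mapBifunctorShift₂Iso Y U (curriedTensor (ModuleCat.{u} A)) (-b) ≪≫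
      (shiftFunctor (DRing.Cx A) (-b)).mapIso (ρ_ Y)
  let H := DerivedCategory.homologyFunctor (ModuleCat.{u} A)
  let i1 : (H (j + b)).obj (DRing.toD (Y ⊗ S : DRing.Cx A)) ≅ (H j).obj (DRing.toD Y) :=
    (H (j + b)).mapIso (DerivedCategory.Q.mapIso eYS ≪≫ (DerivedCategory.Q.commShiftIso (-b)).app Y) ≪≫
      hdShiftIso A (DRing.toD Y) (-b) (j + b) ≪≫
        eqToIso (congrArg (fun k => (H k).obj (DRing.toD Y)) (by omega : -b + (j + b) = j))
  have hz : IsZero ((H (j + b)).obj (DRing.toD (Y ⊗ X : DRing.Cx A))) := by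
    refine IsZero.of_iso ?_ ((H (j + b)).mapIso e)
    rcases lt_or_gt_of_ne (show j + b ≠ 0 by omega) with h | h
    · exact DerivedCategory.isZero_of_isGE ((DerivedCategory.singleFunctor (ModuleCat.{u} A) 0).obj _) 0 _ h
    · exact DerivedCategory.isZero_of_isLE ((DerivedCategory.singleFunctor (ModuleCat.{u} A) 0).obj _) 0 _ h
  refine ModuleCat.subsingleton_of_isZero (IsZero.of_iso ?_ i1.symm)
  rw [IsZero.iff_id_eq_zero, ← (ρ.map (H (j + b))).retract, hz.eq_of_tgt (ρ.map (H (j + b))).i 0, zero_comp]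

theorem exists_top {K : Dual.D A} (h : ∃ b : ℤ, ∀ i : ℤ, b < i → Subsingleton (Dual.HD A K i))
    (hne : ∃ i : ℤ, Nontrivial (Dual.HD A K i)) :
    ∃ (b : ℤ) (X : DRing.Cx A), DRing.VanishesAbove X b ∧ (∀ i, Module.Projective A (X.X i)) ∧
      Nonempty (DRing.toD X ≅ K) ∧ Nontrivial (Dual.HD A K b) := by
  obtain ⟨b₀, hb₀⟩ := h
  obtain ⟨b, hb, hmax⟩ := Int.exists_greatest_of_bdd (P := fun i => Nontrivial (Dual.HD A K i))
    ⟨b₀, fun i hi => le_of_not_gt fun hlt => not_subsingleton_iff_nontrivial.2 hi (hb₀ i hlt)⟩ hne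
  obtain ⟨X, hX, hXp, eX⟩ := exists_proj_representative (K := K) (n := b) fun i hi => by
    haveI : Subsingleton (Dual.HD A K i) := not_nontrivial_iff_subsingleton.1 fun hn => by
      have := hmax i hn
      omega
    exact ModuleCat.isZero_of_subsingleton _
  exact ⟨b, X, hX, hXp, eX, hb⟩

theorem exists_iso_shift_of_LTensorCx_iso_unit [IsLocalRing A] (L : Dual.D A) (E : DRing.Cx A)
    [DRing.HasLTensorCx A E] (hLfin : ∀ i : ℤ, Module.Finite A (Dual.HD A L i))
    (hLbdd : ∃ b : ℤ, ∀ i : ℤ, b < i → Subsingleton (Dual.HD A L i))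
    (hEfin : ∀ i : ℤ, Module.Finite A (Dual.HD A (DRing.toD E) i))
    (hEbdd : ∃ b : ℤ, ∀ i : ℤ, b < i → Subsingleton (Dual.HD A (DRing.toD E) i))
    (h : Nonempty ((DRing.LTensorCx A E).obj L ≅ Dual.inD A A)) :
    ∃ n : ℤ, Nonempty (L ≅ (Dual.inD A A)⟦n⟧) ∧ Nonempty (DRing.toD E ≅ (Dual.inD A A)⟦(-n)⟧) := by
  obtain ⟨e⟩ := h
  let H := DerivedCategory.homologyFunctor (ModuleCat.{u} A)
  let eH0 : Dual.HD A (Dual.inD A A) 0 ≃ₗ[A] A :=
    ((DerivedCategory.singleFunctorCompHomologyFunctorIso (ModuleCat.{u} A) 0).app (ModuleCat.of A A)).toLinearEquiv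
  -- neither object vanishes
  have hne : (∃ i : ℤ, Nontrivial (Dual.HD A L i)) ∧ (∃ i : ℤ, Nontrivial (Dual.HD A (DRing.toD E) i)) := by
    obtain ⟨b₀, hb₀⟩ := hLbdd
    obtain ⟨c₀, hc₀⟩ := hEbdd
    by_contra hc
    have hab : AboveZero (b₀ + 1) L ∧ AboveZero (c₀ + 1) (DRing.toD E) :=
      ⟨fun i hi => @ModuleCat.isZero_of_subsingleton _ _ _ (hb₀ i (by omega)),
        fun i hi => @ModuleCat.isZero_of_subsingleton _ _ _ (hc₀ i (by omega))⟩
    have hz : (∀ i, Subsingleton (Dual.HD A L i)) ∨ (∀ i, Subsingleton (Dual.HD A (DRing.toD E) i)) := by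
      rcases not_and_or.1 hc with hc' | hc' <;> push Not at hc'
      · exact Or.inl hc'
      · exact Or.inr hc'
    have key : ∀ (b c : ℤ), b + c < 0 → AboveZero (b + 1) L → AboveZero (c + 1) (DRing.toD E) → False := by
      intro b c hbc h1 h2
      obtain ⟨X, hX, hXp, ⟨eX⟩⟩ := exists_proj_representative h1
      obtain ⟨Y, hY, -, ⟨eY⟩⟩ := exists_proj_representative h2
      obtain ⟨eT⟩ := nonempty_LTensorCx_iso E (isKFlat_of_projective hX hXp) eX eY
      have hz0 : IsZero ((H 0).obj (DRing.toD (Y ⊗ X : DRing.Cx A))) :=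
        ((HomologicalComplex.exactAt_iff_isZero_homology _ _).1 (HomologicalComplex.ExactAt.of_isZero
          (isZero_tensor_X fun p q hpq => by
            by_cases hp : c < p
            · exact Or.inl (hY p hp)
            · exact Or.inr (hX q (by omega))))).of_iso
          ((DerivedCategory.homologyFunctorFactors (ModuleCat.{u} A) 0).app _)
      haveI := ModuleCat.subsingleton_of_isZero (hz0.of_iso ((H 0).mapIso (eT ≪≫ e)).symm)
      exact not_subsingleton A eH0.symm.toEquiv.subsingleton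
    rcases hz with hz | hz
    · exact key (-c₀ - 1) c₀ (by omega) (fun i _ => @ModuleCat.isZero_of_subsingleton _ _ _ (hz i)) hab.2
    · exact key b₀ (-b₀ - 1) (by omega) hab.1 (fun i _ => @ModuleCat.isZero_of_subsingleton _ _ _ (hz i))
  obtain ⟨b, X, hX, hXp, ⟨eX⟩, hLb⟩ := exists_top hLbdd hne.1
  obtain ⟨c, Y, hY, hYp, ⟨eY⟩, hEc⟩ := exists_top hEbdd hne.2
  obtain ⟨eT⟩ := nonempty_LTensorCx_iso E (isKFlat_of_projective hX hXp) eX eY
  let eYX : DRing.toD (Y ⊗ X : DRing.Cx A) ≅ Dual.inD A A := eT ≪≫ e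
  obtain ⟨et⟩ := nonempty_HD_top_tensor hX hY
  let lX : Dual.HD A (DRing.toD X) b ≃ₗ[A] Dual.HD A L b := ((H b).mapIso eX).toLinearEquiv
  let lY : Dual.HD A (DRing.toD Y) c ≃ₗ[A] Dual.HD A (DRing.toD E) c := ((H c).mapIso eY).toLinearEquiv
  haveI := hLfin b
  haveI := hEfin c
  haveI := nontrivial_tensor (A := A) (Dual.HD A (DRing.toD E) c) (Dual.HD A L b)
  let eC : Dual.HD A (DRing.toD E) c ⊗[A] Dual.HD A L b ≃ₗ[A] Dual.HD A (Dual.inD A A) (c + b) :=
    (TensorProduct.congr lY.symm lX.symm).trans (et.trans ((H (c + b)).mapIso eYX).toLinearEquiv)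
  have hcb : c + b = 0 := by
    by_contra hne'
    haveI : Subsingleton (Dual.HD A (Dual.inD A A) (c + b)) := ModuleCat.subsingleton_of_isZero (by
      rcases lt_or_gt_of_ne hne' with hlt | hlt
      · exact DerivedCategory.isZero_of_isGE ((DerivedCategory.singleFunctor (ModuleCat.{u} A) 0).obj _) 0 _ hlt
      · exact DerivedCategory.isZero_of_isLE ((DerivedCategory.singleFunctor (ModuleCat.{u} A) 0).obj _) 0 _ hlt)
    exact not_subsingleton (Dual.HD A (DRing.toD E) c ⊗[A] Dual.HD A L b) eC.toEquiv.subsingleton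
  obtain rfl : c = -b := by omega
  let eC' : Dual.HD A (DRing.toD E) (-b) ⊗[A] Dual.HD A L b ≃ₗ[A] A :=
    eC.trans ((eqToIso (congrArg (fun k => (H k).obj (Dual.inD A A)) hcb)).toLinearEquiv.trans eH0)
  haveI := Module.Invertible.left eC'
  haveI := Module.Invertible.right eC'
  obtain ⟨uE⟩ := Module.Invertible.free_iff_linearEquiv.1
    (inferInstance : Module.Free A (Dual.HD A (DRing.toD E) (-b)))
  obtain ⟨uL⟩ := Module.Invertible.free_iff_linearEquiv.1 (inferInstance : Module.Free A (Dual.HD A L b))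
  refine ⟨-b, nonempty_iso_inD_shift (-b) b (by omega) (fun i hi => ?_) uL,
    nonempty_iso_inD_shift (-(-b)) (-b) (by omega) (fun i hi => ?_) uE⟩
  · haveI := subsingleton_HD_of_tensor_iso hY
      (DerivedCategory.Q.mapIso (DTen.braidCx X Y) ≪≫ eYX) (lY.trans uE) i (by omega)
    exact ((H i).mapIso eX.symm).toLinearEquiv.toEquiv.subsingleton
  · haveI := subsingleton_HD_of_tensor_iso hX eYX (lX.trans uL) i hi
    exact ((H i).mapIso eY.symm).toLinearEquiv.toEquiv.subsingleton

end Groth.Agent.DualCxLib
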