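import Groth.Agent.DualCxLib.BidualCx
import Groth.Agent.DRingLib.Perfect
import Groth.Agent.S6942
import Groth.Agent.S6954
import Groth.Agent.InjHullLib.Basic
import Mathlib.RingTheory.Flat.EquationalCriterion

/-!
# Finite tor dimension against finite injective dimension under duality
-/

set_option autoImplicit false
set_option backward.isDefEq.respectTransparency false
set_option linter.style.haveILetI false
set_option maxRecDepth 4000

universe u

open CategoryTheory Limits CochainComplex.HomComplex
attribute [local instance] HasDerivedCategory.standard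

noncomputable section

namespace Groth.Agent.DualCxLib

open DRingLib

variable {A : Type u} [CommRing A]

theorem flat_linearMap_of_injective [IsNoetherianRing A] (I I' : Type u) [AddCommGroup I] [Module A I]
    [Module.Injective A I] [AddCommGroup I'] [Module A I'] [Module.Injective A I'] :
    Module.Flat A (I →ₗ[A] I') := by
  refine Module.Flat.iff_forall_isTrivialRelation.2 fun {l f x} hx => ?_
  let r : (Fin l → A) →ₗ[A] A := Fintype.linearCombination A f
  obtain ⟨m, g, hg⟩ := Module.Finite.exists_fin' A (LinearMap.ker r)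
  let a : Fin l → Fin m → A := fun i j => (g (Pi.single j 1)).1 i
  have ha : ∀ j, ∑ i, f i * a i j = 0 := fun j => by
    have h := (g (Pi.single j 1)).2
    rw [LinearMap.mem_ker] at h
    rw [← h]
    simp only [r, a, Fintype.linearCombination_apply, smul_eq_mul, mul_comm]
  let at' : (Fin l → I) →ₗ[A] (Fin m → I) := LinearMap.pi fun j => ∑ i, a i j • LinearMap.proj i
  let φ : (Fin l → I) →ₗ[A] I' := ∑ i, (x i) ∘ₗ LinearMap.proj i
  have hker : ∀ v, at' v = 0 → φ v = 0 := by
    intro v hv
    obtain ⟨s, hs⟩ : ∃ s : I, ∀ i, v i = f i • s := by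
      let lv : (Fin l → A) →ₗ[A] I := Fintype.linearCombination A v
      have hk : LinearMap.ker r ≤ LinearMap.ker lv := fun k hk => by
        obtain ⟨c, hc⟩ := hg ⟨k, hk⟩
        rw [LinearMap.mem_ker]
        have hz : (lv ∘ₗ (LinearMap.ker r).subtype ∘ₗ g) = 0 := LinearMap.pi_ext' fun j => LinearMap.ext_ring (by
          have := congrFun hv j
          simpa [at', lv, Fintype.linearCombination_apply, a] using this)
        have := LinearMap.congr_fun hz c
        rw [LinearMap.comp_apply, LinearMap.comp_apply, hc] at this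
        exact this
      let Q := (Fin l → A) ⧸ LinearMap.ker r
      let r' : Q →ₗ[A] A := (LinearMap.ker r).liftQ r le_rfl
      have hr' : Function.Injective r' := LinearMap.ker_eq_bot.1 (Submodule.ker_liftQ_eq_bot' _ _ rfl)
      obtain ⟨L, hL⟩ := Module.Injective.out r' hr' ((LinearMap.ker r).liftQ lv hk)
      refine ⟨L 1, fun i => ?_⟩
      have h := hL (Submodule.Quotient.mk (Pi.single i 1))
      replace h : L (r (Pi.single i 1)) = lv (Pi.single i 1) := h
      simp only [r, lv, Fintype.linearCombination_apply_single, one_smul] at h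
      rw [← h, ← map_smul, smul_eq_mul, mul_one]
    rw [show φ v = ∑ i, x i (v i) by simp [φ]]
    have := LinearMap.congr_fun hx s
    rw [LinearMap.sum_apply, LinearMap.zero_apply] at this
    exact (Finset.sum_congr rfl fun i _ => by rw [hs i, map_smul]; rfl).trans this
  let Q := (Fin l → I) ⧸ LinearMap.ker at'
  let at'' : Q →ₗ[A] (Fin m → I) := (LinearMap.ker at').liftQ at' le_rfl
  have hinj : Function.Injective at'' := LinearMap.ker_eq_bot.1 (Submodule.ker_liftQ_eq_bot' _ _ rfl)
  obtain ⟨ψ, hψ⟩ := Module.Injective.out at'' hinj ((LinearMap.ker at').liftQ φ hker)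
  refine ⟨m, a, fun j => ψ ∘ₗ LinearMap.single A (fun _ => I) j, fun i => LinearMap.ext fun s => ?_, ha⟩
  have h := hψ (Submodule.Quotient.mk (Pi.single i s))
  replace h : ψ (at' (Pi.single i s)) = φ (Pi.single i s) := h
  have h1 : φ (Pi.single i s) = x i s := by
    simp [φ, Pi.single_apply, apply_ite]
  have h2 : at' (Pi.single i s) = ∑ j, Pi.single j (a i j • s) := by
    funext j
    simp [at', Finset.sum_apply, Pi.single_apply, smul_ite]
  rw [h1, h2, map_sum] at h
  rw [LinearMap.sum_apply, ← h]
  exact Finset.sum_congr rfl fun j _ => by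
    rw [LinearMap.smul_apply, LinearMap.comp_apply, LinearMap.single_apply, ← map_smul, Pi.single_smul]

theorem injective_linearMap_projective (P I : Type u) [AddCommGroup P] [Module A P] [Module.Finite A P]
    [Module.Projective A P] [AddCommGroup I] [Module A I] [Module.Injective A I] :
    Module.Injective A (P →ₗ[A] I) := by
  obtain ⟨k, g, hg⟩ := Module.Finite.exists_fin' A P
  obtain ⟨σ, hσ⟩ := Module.projective_lifting_property g LinearMap.id hg
  let ε : ((Fin k → A) →ₗ[A] I) ≃ₗ[A] (Fin k → I) := (Pi.basisFun A (Fin k)).constr A |>.symm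
  haveI : Module.Injective A (Fin k → I) := inferInstance
  exact InjHullLib.injective_of_retract (ε.toLinearMap ∘ₗ LinearMap.lcomp A I g) (LinearMap.lcomp A I σ ∘ₗ ε.symm.toLinearMap)
    (LinearMap.ext fun f => LinearMap.ext fun p => by
      rw [LinearMap.comp_apply, LinearMap.comp_apply, LinearMap.comp_apply, LinearEquiv.coe_coe, LinearEquiv.coe_coe,
        LinearEquiv.symm_apply_apply, LinearMap.id_apply]
      exact congrArg f (LinearMap.congr_fun hσ p))

/-- Cochains as families of linear maps. -/
def cochainFamily (P E : DRing.Cx A) (n : ℤ) :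
    Cochain P E n ≃ₗ[A] ∀ p : ℤ, (P.X p →ₗ[A] E.X (p + n)) where
  toFun z p := (z.v p (p + n) rfl).hom
  map_add' _ _ := rfl
  map_smul' _ _ := rfl
  invFun f := Cochain.mk fun p q h => ModuleCat.ofHom (f p) ≫ (E.XIsoOfEq h).hom
  left_inv z := Cochain.ext _ _ fun p q h => by
    subst h
    simp
  right_inv f := funext fun p => by simp

theorem exists_cochain_equiv_fin (P E : DRing.Cx A) {a b : ℤ} (hP : DRing.VanishesOutside P a b) (n : ℤ) :
    Nonempty (Cochain P E n ≃ₗ[A] ∀ p : Finset.Icc a b, (P.X p.1 →ₗ[A] E.X (p.1 + n))) := by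
  classical
  have h0 : ∀ p : ℤ, p ∉ Finset.Icc a b → Subsingleton (P.X p →ₗ[A] E.X (p + n)) := fun p hp => by
    haveI := ModuleCat.subsingleton_of_isZero (hP p (by rw [Finset.mem_Icc] at hp; omega))
    exact ⟨fun f g => LinearMap.ext fun x => by rw [Subsingleton.elim x 0, map_zero, map_zero]⟩
  exact ⟨(cochainFamily P E n).trans
    { toFun := fun f p => f p.1
      map_add' := fun _ _ => rfl
      map_smul' := fun _ _ => rfl
      invFun := fun g p => if h : p ∈ Finset.Icc a b then g ⟨p, h⟩ else 0
      left_inv := fun f => funext fun p => by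
        dsimp only
        split_ifs with h
        · rfl
        · haveI := h0 p h
          exact Subsingleton.elim _ _
      right_inv := fun g => funext fun p => dif_pos p.2 }⟩

theorem vanishesOutside_homCx {P E : DRing.Cx A} {a b c d : ℤ} (hP : DRing.VanishesOutside P a b)
    (hE : DRing.VanishesOutside E c d) : DRing.VanishesOutside (DRing.homCx P E) (c - b) (d - a) := fun n hn => by
  haveI : Subsingleton (Cochain P E n) := ⟨fun f g => Cochain.ext _ _ fun p q h => by
    by_cases hp : p < a ∨ b < p
    · exact (hP p hp).eq_of_src _ _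
    · exact (hE q (by omega)).eq_of_tgt _ _⟩
  exact @ModuleCat.isZero_of_subsingleton _ _ (ModuleCat.of A (Cochain P E n)) ‹_›

theorem flat_fintype_pi {ι : Type} [Fintype ι] (M : ι → Type u) [∀ i, AddCommGroup (M i)] [∀ i, Module A (M i)]
    [∀ i, Module.Flat A (M i)] : Module.Flat A (∀ i, M i) := by
  classical
  exact Module.Flat.of_linearEquiv (DirectSum.linearEquivFunOnFintype A ι M).symm

theorem injective_fintype_pi {ι : Type} [Fintype ι] (M : ι → Type u) [∀ i, AddCommGroup (M i)] [∀ i, Module A (M i)]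
    (h : ∀ i, Module.Injective A (M i)) : Module.Injective A (∀ i, M i) := by
  refine ⟨fun X Y _ _ _ _ f hf g => ?_⟩
  choose H hH using fun i => (h i).out f hf ((LinearMap.proj i).comp g)
  exact ⟨LinearMap.pi H, fun x => funext fun i => hH i x⟩

theorem hasFiniteTorDimCx_iff_hasFiniteInjDim_RHom [IsNoetherianRing A] (ω : Dual.D A) (hω : Dual.IsDualizing A ω)
    (G : DRing.Cx A) [DRing.HasRHomCx G] (hfin : ∀ i : ℤ, Module.Finite A (Dual.HD A (DRing.toD G) i))
    (hbdd : ∃ a b : ℤ, ∀ i : ℤ, (i < a ∨ b < i) → Subsingleton (Dual.HD A (DRing.toD G) i)) :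
    DRing.HasFiniteTorDimCx A (DRing.toD G) ↔ DRing.HasFiniteInjDim A ((DRing.RHomCx G).obj ω) := by
  let S := model hω
  obtain ⟨eG⟩ := nonempty_RHomCx_model S G
  constructor
  · intro h
    obtain ⟨a, b, hab⟩ := hbdd
    have hpc : DRing.IsPseudoCoherent' A (DRing.toD G) := (isPseudoCoherent'_iff _).2 fun m =>
      (isPseudoCoherent_iff _ _).1 ((Groth.Agent.S6942.result A m (DRing.toD G) A).1.2
        ⟨⟨b, fun i hi => hab i (Or.inr hi)⟩, fun i _ => hfin i⟩)
    obtain ⟨P, c, d, hP, hPp, ⟨eP⟩⟩ := (Groth.Agent.S6954.result A (DRing.toD G)).2 ⟨hpc, h⟩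
    obtain ⟨eD⟩ := nonempty_dualK_congr S eP
    refine ⟨S.a - d, S.b - c, dualK S P, vanishesOutside_homCx hP S.vanishes, fun n => ?_, ⟨eD ≪≫ eG.symm⟩⟩
    obtain ⟨e⟩ := exists_cochain_equiv_fin P S.E hP n
    haveI := injective_fintype_pi (A := A) (fun p : Finset.Icc c d => (P.X p.1 →ₗ[A] S.E.X (p.1 + n))) fun p => by
      haveI := (hPp p.1).1
      haveI := (hPp p.1).2
      haveI := S.inj (p.1 + n)
      exact injective_linearMap_projective _ _
    exact InjHullLib.injective_of_retract (Q := ∀ p : Finset.Icc c d, (P.X p.1 →ₗ[A] S.E.X (p.1 + n)))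
      e.toLinearMap e.symm.toLinearMap (LinearMap.ext e.symm_apply_apply)
  · rintro ⟨a, b, J, hJ, hJi, ⟨eJ⟩⟩
    haveI := isIso_Q_of_qis _ (refl_of_finite S hω G (finite_homology_of_HD hfin))
    obtain ⟨eD⟩ := nonempty_dualK_congr S (eG.symm ≪≫ eJ.symm)
    refine ⟨S.a - b, S.b - a, dualK S J, vanishesOutside_homCx hJ S.vanishes, fun n => ?_,
      ⟨eD.symm ≪≫ (asIso (DerivedCategory.Q.map (evK S.E G))).symm⟩⟩
    obtain ⟨e⟩ := exists_cochain_equiv_fin J S.E hJ n
    haveI : ∀ p : Finset.Icc a b, Module.Flat A (J.X p.1 →ₗ[A] S.E.X (p.1 + n)) := fun p => by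
      haveI := hJi p.1
      haveI := S.inj (p.1 + n)
      exact flat_linearMap_of_injective _ _
    haveI := flat_fintype_pi (A := A) (fun p : Finset.Icc a b => (J.X p.1 →ₗ[A] S.E.X (p.1 + n)))
    exact Module.Flat.of_linearEquiv e

end Groth.Agent.DualCxLib
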