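import Groth.Agent.DualCxLib.LocDual
import Groth.Agent.DualCxLib.FlatDual
import Groth.Agent.DualCxLib.Unique
import Groth.Agent.DRingLib.TensorAmp
import Groth.Agent.PicLib.Patch
import Groth.Agent.S1746

/-!
# Dualizing complexes that are locally isomorphic differ by an invertible module
-/

set_option autoImplicit false
set_option backward.isDefEq.respectTransparency false
set_option linter.style.haveILetI false
set_option maxRecDepth 4000

universe u

open CategoryTheory Limits MonoidalCategory
open scoped TensorProduct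
attribute [local instance] HasDerivedCategory.standard

noncomputable section

namespace Groth.Agent.DualCxLib

open DRingLib DTenLib

variable {A : Type u} [CommRing A]

theorem invertible_of_local_rankOne [IsNoetherianRing A] (M : Type u) [AddCommGroup M] [Module A M] [Module.Finite A M]
    (h : ∀ (m : Ideal A) [m.IsMaximal],
      Nonempty (LocalizedModule m.primeCompl M ≃ₗ[Localization.AtPrime m] Localization.AtPrime m)) :
    Module.Invertible A M := by
  haveI := Module.finitePresentation_of_finite A M
  haveI : Module.Projective A M := Module.projective_of_localization_maximal fun m hm => by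
    haveI := hm
    obtain ⟨e⟩ := h m
    exact Module.Projective.of_equiv e.symm
  have hrel : ∀ (φ : Module.Dual A M) (x y : M), φ x • y = φ y • x := fun φ x y => by
    rw [← sub_eq_zero]
    refine eq_zero_of_forall_maximal (A := A) _ fun m hm => ?_
    haveI := hm
    obtain ⟨e⟩ := h m
    let L := Localization.AtPrime m
    let f := LocalizedModule.mkLinearMap m.primeCompl M
    let φ' : LocalizedModule m.primeCompl M →ₗ[L] L :=
      (IsLocalizedModule.map m.primeCompl f (Algebra.linearMap A L) φ).extendScalarsOfIsLocalization m.primeCompl L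
    have hφ : ∀ z, φ' (f z) = algebraMap A L (φ z) := fun z =>
      IsLocalizedModule.map_apply m.primeCompl f (Algebra.linearMap A L) φ z
    let u := e.symm 1
    have hz : ∀ z, φ' (f z) = e (f z) * φ' u := fun z => by
      rw [← smul_eq_mul, ← map_smul φ', show e (f z) • u = f z by
        rw [← map_smul e.symm, smul_eq_mul, mul_one, e.symm_apply_apply]]
    have h0 : f (φ x • y - φ y • x) = 0 := e.injective (by
      rw [map_sub, map_smul, map_smul, map_sub, ← algebraMap_smul L (φ x) (f y), ← algebraMap_smul L (φ y) (f x),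
        map_smul, map_smul, ← hφ, ← hφ, hz x, hz y, map_zero, smul_eq_mul, smul_eq_mul]
      ring)
    obtain ⟨s, hs⟩ := (IsLocalizedModule.eq_zero_iff m.primeCompl f).1 h0
    exact ⟨s.1, s.2, hs⟩
  obtain ⟨k, g, hg⟩ := Module.Finite.exists_fin' A M
  obtain ⟨i, hi⟩ := Module.projective_lifting_property g LinearMap.id hg
  let φ : Fin k → Module.Dual A M := fun j => LinearMap.proj j ∘ₗ i
  let m : Fin k → M := fun j => g (Pi.single j 1)
  have hexp : ∀ x, ∑ j, φ j x • m j = x := fun x => by
    conv_rhs => rw [← LinearMap.id_apply (R := A) x, ← hi, LinearMap.comp_apply, pi_eq_sum_univ' (i x), map_sum]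
    exact Finset.sum_congr rfl fun j _ => by rw [map_smul]; rfl
  refine PicLib.invertible_of_pairing (N := Module.Dual A M)
    (LinearMap.applyₗ : M →ₗ[A] Module.Dual A M →ₗ[A] A) Finset.univ m φ ?_ (fun x y z => hrel z x y)
    (fun x z w => LinearMap.ext fun t => ?_)
  · show ∑ j, φ j (m j) = 1
    rw [← sub_eq_zero]
    set a := ∑ j, φ j (m j) - 1 with ha
    have hann : ∀ x : M, a • x = 0 := fun x => by
      rw [ha, sub_smul, Finset.sum_smul, one_smul, Finset.sum_congr rfl fun j _ => hrel (φ j) (m j) x, hexp, sub_self]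
    clear_value a
    refine eq_zero_of_forall_maximal (A := A) _ fun p hp => ?_
    haveI := hp
    obtain ⟨e⟩ := h p
    obtain ⟨⟨x, t⟩, hx⟩ := IsLocalizedModule.surj p.primeCompl (LocalizedModule.mkLinearMap p.primeCompl M) (e.symm 1)
    have h1 : a • ((t : A) • e.symm 1) = 0 := by
      rw [show (t : A) • e.symm 1 = LocalizedModule.mkLinearMap p.primeCompl M x from hx, ← map_smul, hann, map_zero]
    rw [smul_smul, ← algebraMap_smul (Localization.AtPrime p), ← map_smul e.symm, smul_eq_mul, mul_one,
      LinearEquiv.map_eq_zero_iff, IsLocalization.map_eq_zero_iff p.primeCompl] at h1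
    obtain ⟨c, hc⟩ := h1
    exact ⟨c * t, (c * t).2, by rw [smul_eq_mul]; linear_combination hc⟩
  · show z x * w t = w x * z t
    exact (mul_comm _ _).trans ((map_smul z (w t) x).symm.trans ((congrArg z (hrel w t x)).trans (map_smul z (w x) t)))

theorem isIso_Q_map_of_localized {X Y : DRing.Cx A} (f : X ⟶ Y)
    (h : ∀ (m : Ideal A) [m.IsMaximal],
      haveI : DRing.HasLBaseChange (algebraMap A (Localization.AtPrime m)) := DRingLib.hasLBaseChange _
      IsIso ((bcD A (Localization.AtPrime m)).map (DerivedCategory.Q.map f))) :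
    IsIso (DerivedCategory.Q.map f) := by
  have key : ∀ j, IsIso ((DerivedCategory.homologyFunctor (ModuleCat.{u} A) j).map (DerivedCategory.Q.map f)) := fun j => by
    let u := (DerivedCategory.homologyFunctor (ModuleCat.{u} A) j).map (DerivedCategory.Q.map f)
    rw [ConcreteCategory.isIso_iff_bijective]
    refine bijective_of_isLocalized_maximal (fun m _ => Localization.AtPrime m ⊗[A] Dual.HD A (DRing.toD X) j)
      (fun m _ => TensorProduct.mk A (Localization.AtPrime m) _ 1)
      (fun m _ => Localization.AtPrime m ⊗[A] Dual.HD A (DRing.toD Y) j)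
      (fun m _ => TensorProduct.mk A (Localization.AtPrime m) _ 1) u.hom fun m hm => ?_
    haveI := hm
    let B := Localization.AtPrime m
    haveI : DRing.HasLBaseChange (algebraMap A B) := DRingLib.hasLBaseChange _
    haveI : Module.Flat A B := IsLocalization.flat _ m.primeCompl
    haveI := h m
    have hmap : IsLocalizedModule.map m.primeCompl (TensorProduct.mk A B (Dual.HD A (DRing.toD X) j) 1)
        (TensorProduct.mk A B (Dual.HD A (DRing.toD Y) j) 1) u.hom = (u.hom.baseChange B).restrictScalars A :=
      IsLocalizedModule.linearMap_ext m.primeCompl (TensorProduct.mk A B (Dual.HD A (DRing.toD X) j) 1)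
        (TensorProduct.mk A B (Dual.HD A (DRing.toD Y) j) 1) (LinearMap.ext fun z => by
          rw [LinearMap.comp_apply, IsLocalizedModule.map_apply]
          rfl)
    rw [hmap]
    haveI : IsIso ((bcM A B).map u) := (NatIso.isIso_map_iff (bcHIso A B j) f).1
      (inferInstanceAs (IsIso ((DerivedCategory.homologyFunctor (ModuleCat.{u} B) j).map
        ((bcD A B).map (DerivedCategory.Q.map f)))))
    have hb := ConcreteCategory.bijective_of_isIso ((bcM A B).map u)
    have hc : (u.hom.baseChange B : B ⊗[A] _ → B ⊗[A] _) =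
        extendScalarsTensorEquiv A B _ ∘ (bcM A B).map u ∘ (extendScalarsTensorEquiv A B _).symm := by
      funext z
      rw [Function.comp_apply, Function.comp_apply, bcM_map_apply, LinearEquiv.apply_symm_apply]
    show Function.Bijective (u.hom.baseChange B : B ⊗[A] _ → B ⊗[A] _)
    rw [hc]
    exact (LinearEquiv.bijective _).comp (hb.comp (LinearEquiv.bijective _))
  rw [DerivedCategory.isIso_Q_map_iff_quasiIso, quasiIso_iff]
  intro j
  rw [quasiIsoAt_iff_isIso_homologyMap]
  exact (NatIso.isIso_map_iff (DerivedCategory.homologyFunctorFactors (ModuleCat.{u} A) j) f).1 (key j)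

/-- Multiplication by an element, into a tensor product. -/
def tensPt (P : ModuleCat.{u} A) (K : DRing.Cx A) (p : P) : K ⟶ (tensM P).obj K where
  f i := ModuleCat.ofHom (TensorProduct.mk A P (K.X i) p)
  comm' i j _ := rfl

/-- Evaluation against a linear family of chain maps. -/
def tensEval (P : ModuleCat.{u} A) (K E : DRing.Cx A) (s : P →ₗ[A] (K ⟶ E)) : (tensM P).obj K ⟶ E where
  f i := ModuleCat.ofHom (TensorProduct.lift
    { toFun := fun p => ((s p).f i).hom
      map_add' := fun p q => by rw [map_add, HomologicalComplex.add_f_apply, ModuleCat.hom_add]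
      map_smul' := fun a p => by rw [map_smul, HomologicalComplex.smul_f_apply, ModuleCat.hom_smul]; rfl })
  comm' i j _ := ModuleCat.hom_ext (TensorProduct.ext' fun p k => congr($((s p).comm i j).hom k))

theorem tensPt_tensEval (P : ModuleCat.{u} A) (K E : DRing.Cx A) (s : P →ₗ[A] (K ⟶ E)) (p : P) :
    tensPt P K p ≫ tensEval P K E s = s p :=
  HomologicalComplex.hom_ext _ _ fun i => ModuleCat.hom_ext (LinearMap.ext fun k => rfl)

theorem isIso_bcD_map_tensPt (P : ModuleCat.{u} A) (K : DRing.Cx A) (p : P) (B : Type u) [CommRing B] [Algebra A B]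
    [Module.Flat A B] [DRing.HasLBaseChange (algebraMap A B)]
    (hp : Function.Bijective ((LinearMap.toSpanSingleton A P p).baseChange B)) :
    IsIso ((bcD A B).map (DerivedCategory.Q.map (tensPt P K p))) := by
  refine (NatIso.isIso_map_iff (bcQIso A B) (tensPt P K p)).2 ?_
  show IsIso (DerivedCategory.Q.map ((DTen.extCx (algebraMap A B)).map (tensPt P K p)))
  suffices IsIso ((DTen.extCx (algebraMap A B)).map (tensPt P K p)) from inferInstance
  haveI : ∀ i, IsIso (((DTen.extCx (algebraMap A B)).map (tensPt P K p)).f i) := fun i => by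
    show IsIso ((bcM A B).map ((tensPt P K p).f i))
    rw [ConcreteCategory.isIso_iff_bijective]
    let lp := LinearMap.toSpanSingleton A P p
    let θ : (B ⊗[A] A) ≃ₗ[B] B := TensorProduct.AlgebraTensorModule.rid A B B
    let eP := LinearEquiv.ofBijective (lp.baseChange B) hp
    let Kc := K.X i
    let γ : B ⊗[A] Kc ≃ₗ[A] B ⊗[A] (P ⊗[A] Kc) :=
      (LinearEquiv.rTensor Kc ((θ.symm.trans eP).restrictScalars A)).trans (TensorProduct.assoc A B P Kc)
    have hγ : ∀ z, γ z = ((tensPt P K p).f i).hom.baseChange B z := fun z => by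
      induction z using TensorProduct.induction_on with
      | zero => rw [map_zero, map_zero]
      | add a b ha hb => rw [map_add, map_add, ha, hb]
      | tmul b k =>
        show TensorProduct.assoc A B P Kc ((lp.baseChange B (θ.symm b)) ⊗ₜ k) = b ⊗ₜ (p ⊗ₜ k)
        rw [show θ.symm b = b ⊗ₜ (1 : A) from rfl, LinearMap.baseChange_tmul,
          LinearMap.toSpanSingleton_apply_one, TensorProduct.assoc_tmul]
    have h1 : Function.Bijective (((tensPt P K p).f i).hom.baseChange B) := by
      rw [show (((tensPt P K p).f i).hom.baseChange B : B ⊗[A] Kc → _) = γ from funext fun z => (hγ z).symm]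
      exact γ.bijective
    have h2 : ((bcM A B).map ((tensPt P K p).f i) : _ → _) = (extendScalarsTensorEquiv A B _).symm ∘
        ((tensPt P K p).f i).hom.baseChange B ∘ extendScalarsTensorEquiv A B (K.X i) := by
      funext z
      rw [Function.comp_apply, Function.comp_apply, ← bcM_map_apply, LinearEquiv.symm_apply_apply]
    show Function.Bijective ((bcM A B).map ((tensPt P K p).f i) : _ → _)
    rw [h2]
    exact (LinearEquiv.bijective _).comp (h1.comp (LinearEquiv.bijective _))
  exact HomologicalComplex.Hom.isIso_of_components _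

theorem exists_invertible_twist [IsNoetherianRing A] {ω Ω : Dual.D A} (hω : Dual.IsDualizing A ω) (hΩ : Dual.IsDualizing A Ω)
    (hloc : ∀ (m : Ideal A) [m.IsMaximal],
      haveI : DRing.HasLBaseChange (algebraMap A (Localization.AtPrime m)) := DRingLib.hasLBaseChange _
      Nonempty ((bcD A (Localization.AtPrime m)).obj ω ≅ (bcD A (Localization.AtPrime m)).obj Ω)) :
    ∃ (P : ModuleCat.{u} A) (_ : Module.Invertible A P),
      ∀ [DRing.HasLTensor A P], Nonempty (Ω ≅ (DRing.LTensor A P).obj ω) := by
  let S := model hΩ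
  let T := model hω
  let E := S.E
  haveI : E.IsKInjective := S.isKInjective
  let G := DerivedCategory.Q.objPreimage ω
  let K := (resA A).obj G
  haveI : QuasiIso ((resAπ A).app G) := quasiIso_resAπ G
  let eK : DRing.toD K ≅ ω := asIso (DerivedCategory.Q.map ((resAπ A).app G)) ≪≫ DerivedCategory.Q.objObjPreimageIso ω
  let M := DRing.toD K ⟶ DRing.toD E
  have hfinK : ∀ j, Module.Finite A (Dual.HD A (DRing.toD K) j) := fun j =>
    haveI := hω.finite_cohomology j
    Module.Finite.equiv ((DerivedCategory.homologyFunctor (ModuleCat.{u} A) j).mapIso eK.symm).toLinearEquiv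
  have hfinE : ∀ j, Module.Finite A (Dual.HD A (DRing.toD E) j) := fun j =>
    haveI := hΩ.finite_cohomology j
    Module.Finite.equiv ((DerivedCategory.homologyFunctor (ModuleCat.{u} A) j).mapIso S.iso.symm).toLinearEquiv
  haveI : Module.Finite A M := by
    haveI := Groth.Agent.S1746.result A (DRing.toD K) (DRing.toD E) hfinK hfinE
      ⟨S.a, S.b, E, S.vanishes, S.inj, ⟨Iso.refl _⟩⟩ 0
    exact Module.Finite.equiv (Linear.homCongr A (Iso.refl _) ((shiftFunctorZero (Dual.D A) ℤ).app (DRing.toD E)))
  haveI : DerivedCategory.IsGE (DRing.toD E) S.a := (DerivedCategory.isGE_iff _ _).2 fun j hj =>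
    ((HomologicalComplex.exactAt_iff_isZero_homology _ _).1 (HomologicalComplex.ExactAt.of_isZero
      (S.vanishes j (Or.inl hj)))).of_iso ((DerivedCategory.homologyFunctorFactors _ j).app E)
  haveI := T.isLE
  haveI : DerivedCategory.IsLE (DRing.toD K) T.b := DerivedCategory.TStructure.t.isLE_of_iso eK.symm T.b
  -- the local structure of `M`
  have hstr : ∀ (m : Ideal A) [m.IsMaximal],
      haveI : DRing.HasLBaseChange (algebraMap A (Localization.AtPrime m)) := DRingLib.hasLBaseChange _
      ∃ e : Localization.AtPrime m ⊗[A] M ≃ₗ[Localization.AtPrime m] Localization.AtPrime m,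
        ∀ (p : M), IsUnit (e (1 ⊗ₜ p)) → IsIso ((bcD A (Localization.AtPrime m)).map p) := fun m _ => by
    let B := Localization.AtPrime m
    haveI : DRing.HasLBaseChange (algebraMap A B) := DRingLib.hasLBaseChange _
    haveI : Module.Flat A B := IsLocalization.flat _ m.primeCompl
    have hbb := bijective_bcΦ A B (DRing.toD K) (DRing.toD E) S.a T.b hfinK
    let Φ := LinearEquiv.ofBijective (bcΦl A B (DRing.toD K) (DRing.toD E)) hbb
    obtain ⟨e0⟩ := hloc m
    let X := (bcD A B).obj (DRing.toD K)
    let θ : X ≅ (bcD A B).obj (DRing.toD E) := (bcD A B).mapIso eK ≪≫ e0 ≪≫ (bcD A B).mapIso S.iso.symm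
    have hD : Dual.IsDualizing B ((bcD A B).obj ω) := isDualizing_lbc m.primeCompl B hω
    let ι : X ≅ (bcD A B).obj ω := (bcD A B).mapIso eK
    let ρ : B →ₗ[B] (X ⟶ (bcD A B).obj (DRing.toD E)) := LinearMap.toSpanSingleton B _ θ.hom
    have hρ : Function.Bijective ρ := by
      have h1 : Function.Bijective fun b : B => b • (𝟙 X) := by
        have : (fun b : B => b • (𝟙 X)) =
            (Linear.homCongr B ι.symm ι.symm) ∘ fun b : B => b • 𝟙 ((bcD A B).obj ω) := funext fun b => by
          show b • 𝟙 X = Linear.homCongr B ι.symm ι.symm (b • 𝟙 _)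
          rw [map_smul, Linear.homCongr_apply]
          simp
        rw [this]
        exact (LinearEquiv.bijective _).comp hD.toEnd_bijective
      have : (ρ : B → _) = (θ.homToEquiv (Z := X)) ∘ fun b : B => b • (𝟙 X) := funext fun b => by
        show b • θ.hom = (b • 𝟙 X) ≫ θ.hom
        rw [Linear.smul_comp, Category.id_comp]
      rw [this]
      exact (Equiv.bijective _).comp h1
    let ρe := LinearEquiv.ofBijective ρ hρ
    refine ⟨Φ.trans ρe.symm, fun p hp => ?_⟩
    have h2 : (bcD A B).map p = ρe.symm (Φ (1 ⊗ₜ p)) • θ.hom := by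
      show _ = ρ (ρe.symm _)
      rw [show ρ (ρe.symm (Φ (1 ⊗ₜ p))) = Φ (1 ⊗ₜ p) from ρe.apply_symm_apply _]
      show _ = bcΦ A B _ _ (1 ⊗ₜ p)
      rw [bcΦ_tmul, one_smul]
    rw [h2]
    obtain ⟨c, hc⟩ := hp
    refine ⟨⟨(↑c⁻¹ : B) • θ.inv, ?_, ?_⟩⟩
    · rw [Linear.comp_smul, Linear.smul_comp, θ.hom_inv_id, smul_smul]
      show ((↑c⁻¹ : B) * (Φ.trans ρe.symm) (1 ⊗ₜ p)) • _ = _
      rw [← hc, Units.inv_mul, one_smul]
    · rw [Linear.comp_smul, Linear.smul_comp, θ.inv_hom_id, smul_smul]
      show ((Φ.trans ρe.symm) (1 ⊗ₜ p) * (↑c⁻¹ : B)) • _ = _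
      rw [← hc, Units.mul_inv, one_smul]
  obtain ⟨k₀, g₀, hg₀⟩ := Module.Finite.exists_fin' A M
  let P : Type u := (Fin k₀ → A) ⧸ LinearMap.ker g₀
  let eP : P ≃ₗ[A] M := g₀.quotKerEquivOfSurjective hg₀
  haveI : Module.Finite A P := Module.Finite.equiv eP.symm
  have hinv : Module.Invertible A P := invertible_of_local_rankOne (A := A) P fun m _ => by
    obtain ⟨e, -⟩ := hstr m
    exact ⟨(IsLocalizedModule.isBaseChange m.primeCompl (Localization.AtPrime m)
      (LocalizedModule.mkLinearMap m.primeCompl P)).equiv.symm.trans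
        ((eP.baseChange A (Localization.AtPrime m) P M).trans e)⟩
  refine ⟨ModuleCat.of A P, hinv, fun {_} => ?_⟩
  let π : (K ⟶ E) →ₗ[A] M := DerivedCategory.Q.mapLinearMap A
  have hπ : Function.Surjective π := fun v => by
    obtain ⟨g, hg⟩ := (CochainComplex.IsKInjective.Qh_map_bijective
      ((HomotopyCategory.quotient (ModuleCat.{u} A) (ComplexShape.up ℤ)).obj K) E).2 v
    obtain ⟨g, rfl⟩ := (HomotopyCategory.quotient _ _).map_surjective g
    exact ⟨g, hg⟩
  haveI : Module.Projective A P := inferInstance
  obtain ⟨s, hs⟩ := Module.projective_lifting_property π eP.toLinearMap hπ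
  let ev := tensEval (ModuleCat.of A P) K E s
  haveI : IsIso (DerivedCategory.Q.map ev) := isIso_Q_map_of_localized ev fun m _ => by
    let B := Localization.AtPrime m
    haveI : DRing.HasLBaseChange (algebraMap A B) := DRingLib.hasLBaseChange _
    haveI : Module.Flat A B := IsLocalization.flat _ m.primeCompl
    obtain ⟨e₀, he⟩ := hstr m
    let e := (eP.baseChange A B P M).trans e₀
    obtain ⟨⟨p, t⟩, hp⟩ := IsLocalizedModule.surj m.primeCompl (TensorProduct.mk A B P 1) (e.symm 1)
    have hpu : e (1 ⊗ₜ p) = algebraMap A B t := by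
      rw [show (1 : B) ⊗ₜ[A] p = (t : A) • e.symm 1 from hp.symm, ← algebraMap_smul B, map_smul,
        LinearEquiv.apply_symm_apply, smul_eq_mul, mul_one]
    have hu : IsUnit (e (1 ⊗ₜ p)) := hpu ▸ IsLocalization.map_units B t
    haveI := he (eP p) hu
    have hgen : Function.Bijective ((LinearMap.toSpanSingleton A P p).baseChange B) := by
      let θ : (B ⊗[A] A) ≃ₗ[B] B := TensorProduct.AlgebraTensorModule.rid A B B
      let mu : B ≃ₗ[B] B := LinearEquiv.smulOfUnit hu.unit
      have : ((LinearMap.toSpanSingleton A P p).baseChange B : B ⊗[A] A → _) = θ.trans (mu.trans e.symm) := by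
        funext z
        obtain ⟨b, rfl⟩ := θ.symm.surjective z
        rw [LinearEquiv.trans_apply, LinearEquiv.apply_symm_apply]
        refine e.injective (Eq.trans ?_ (e.apply_symm_apply (mu b)).symm)
        rw [show θ.symm b = b ⊗ₜ (1 : A) from rfl, LinearMap.baseChange_tmul, LinearMap.toSpanSingleton_apply_one,
          show b ⊗ₜ[A] p = b • ((1 : B) ⊗ₜ[A] p) by rw [TensorProduct.smul_tmul', smul_eq_mul, mul_one], map_smul]
        exact mul_comm _ _
      rw [this]
      exact LinearEquiv.bijective _
    haveI := isIso_bcD_map_tensPt (ModuleCat.of A P) K p B hgen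
    haveI : IsIso ((bcD A B).map (DerivedCategory.Q.map (tensPt (ModuleCat.of A P) K p)) ≫
        (bcD A B).map (DerivedCategory.Q.map ev)) := by
      rw [← Functor.map_comp, ← Functor.map_comp, tensPt_tensEval, show DerivedCategory.Q.map (s p) = eP p from
        LinearMap.congr_fun hs p]
      infer_instance
    exact IsIso.of_isIso_comp_left ((bcD A B).map (DerivedCategory.Q.map (tensPt (ModuleCat.of A P) K p))) _
  exact ⟨((DRing.LTensor A (ModuleCat.of A P)).mapIso eK.symm ≪≫
    DRingLib.ltensorIso (ModuleCat.of A P) K (isKFlat_resA G) ≪≫ asIso (DerivedCategory.Q.map ev) ≪≫ S.iso).symm⟩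

end Groth.Agent.DualCxLib
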