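import Groth.Agent.DualCxLib.TwistConn
import Groth.Agent.DualCxLib.Gorenstein
import Mathlib.RingTheory.PicardGroup
import Mathlib.RingTheory.Flat.CategoryTheory

/-!
# Twists of dualizing complexes by invertible modules
-/

set_option autoImplicit false
set_option backward.isDefEq.respectTransparency false
set_option linter.style.haveILetI false
set_option maxRecDepth 4000

universe u

open CategoryTheory Limits MonoidalCategory
open scoped TensorProduct
attribute [local instance] HasDerivedCategory.standard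

noncomputable section

namespace Groth.Agent.DualCxLib

open DRingLib DTenLib

variable {A : Type u} [CommRing A] (P : ModuleCat.{u} A) [Module.Invertible A P]

theorem exists_local_gen (m : Ideal A) [m.IsPrime] :
    ∃ p : P, Function.Bijective ((LinearMap.toSpanSingleton A P p).baseChange (Localization.AtPrime m)) := by
  let B := Localization.AtPrime m
  obtain ⟨e⟩ := Module.Invertible.free_iff_linearEquiv.1 (inferInstance : Module.Free B (B ⊗[A] P))
  obtain ⟨⟨p, t⟩, hp⟩ := IsLocalizedModule.surj m.primeCompl (TensorProduct.mk A B P 1) (e.symm 1)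
  have hpu : e (1 ⊗ₜ p) = algebraMap A B t := by
    rw [show (1 : B) ⊗ₜ[A] (p : P) = (t : A) • e.symm 1 from hp.symm, ← algebraMap_smul B, map_smul,
      LinearEquiv.apply_symm_apply, smul_eq_mul, mul_one]
  have hu : IsUnit (e (1 ⊗ₜ p)) := hpu ▸ IsLocalization.map_units B t
  refine ⟨p, ?_⟩
  let θ : (B ⊗[A] A) ≃ₗ[B] B := TensorProduct.AlgebraTensorModule.rid A B B
  let mu : B ≃ₗ[B] B := LinearEquiv.smulOfUnit hu.unit
  have : ((LinearMap.toSpanSingleton A P p).baseChange B : B ⊗[A] A → _) = θ.trans (mu.trans e.symm) := by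
    funext z
    obtain ⟨b, rfl⟩ := θ.symm.surjective z
    rw [LinearEquiv.trans_apply, LinearEquiv.apply_symm_apply]
    refine e.injective (Eq.trans ?_ (e.apply_symm_apply (mu b)).symm)
    rw [show θ.symm b = b ⊗ₜ (1 : A) from rfl, LinearMap.baseChange_tmul, LinearMap.toSpanSingleton_apply_one,
      show b ⊗ₜ[A] p = b • ((1 : B) ⊗ₜ[A] p) by rw [TensorProduct.smul_tmul', smul_eq_mul, mul_one], map_smul]
    exact mul_comm _ _
  rw [this]
  exact LinearEquiv.bijective _

theorem isIso_bcD_tensPt_gen (K : DRing.Cx A) (m : Ideal A) [m.IsPrime]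
    [DRing.HasLBaseChange (algebraMap A (Localization.AtPrime m))] :
    ∃ p : P, Function.Bijective ((LinearMap.toSpanSingleton A P p).baseChange (Localization.AtPrime m)) ∧
      IsIso ((bcD A (Localization.AtPrime m)).map (DerivedCategory.Q.map (tensPt P K p))) := by
  haveI : Module.Flat A (Localization.AtPrime m) := IsLocalization.flat _ m.primeCompl
  obtain ⟨p, hp⟩ := exists_local_gen P m
  exact ⟨p, hp, isIso_bcD_map_tensPt P K p _ hp⟩

theorem nonempty_ltensor_iso_tens {ω : Dual.D A} (S : Model ω) [DRing.HasLTensor A P] :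
    Nonempty ((DRing.LTensor A P).obj ω ≅ DRing.toD ((tensM P).obj S.E)) := by
  haveI hf : Module.Flat A P := inferInstance
  haveI := DRingLib.preservesHomology_tensorLeft_of_flat P hf
  let π := (resAπ A).app S.E
  haveI : QuasiIso π := quasiIso_resAπ S.E
  haveI : QuasiIso ((tensM P).map π) := inferInstance
  exact ⟨(DRing.LTensor A P).mapIso S.iso.symm ≪≫
    (DRing.LTensor A P).mapIso (asIso (DerivedCategory.Q.map π)).symm ≪≫
    DRingLib.ltensorIso P ((resA A).obj S.E) (isKFlat_resA S.E) ≪≫
    asIso (DerivedCategory.Q.map ((tensM P).map π))⟩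

theorem injective_tens (I : ModuleCat.{u} A) (hI : Module.Injective A I) : Module.Injective A (P ⊗[A] I : Type u) := by
  obtain ⟨k, g, hg⟩ := Module.Finite.exists_fin' A P
  obtain ⟨σ, hσ⟩ := Module.projective_lifting_property g LinearMap.id hg
  let e : (Fin k → A) ⊗[A] I ≃ₗ[A] (Fin k → I) :=
    (TensorProduct.comm A _ _).trans (TensorProduct.piScalarRight A A I (Fin k))
  haveI := hI
  haveI : Module.Injective A (Fin k → I) := inferInstance
  exact InjHullLib.injective_of_retract (e.toLinearMap ∘ₗ σ.rTensor I) (g.rTensor I ∘ₗ e.symm.toLinearMap)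
    (TensorProduct.ext' fun p x => by
      rw [LinearMap.comp_apply, LinearMap.comp_apply, LinearMap.comp_apply, LinearEquiv.coe_coe, LinearEquiv.coe_coe,
        LinearEquiv.symm_apply_apply, ← LinearMap.rTensor_comp_apply, hσ, LinearMap.rTensor_id])

theorem finite_HD_tens {ω : Dual.D A} (S : Model ω) (j : ℤ) (h : Module.Finite A (Dual.HD A ω j)) :
    Module.Finite A (Dual.HD A (DRing.toD ((tensM P).obj S.E)) j) := by
  haveI hf : Module.Flat A P := inferInstance
  haveI := DRingLib.preservesHomology_tensorLeft_of_flat P hf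
  let i1 : (DerivedCategory.homologyFunctor (ModuleCat.{u} A) j).obj (DRing.toD ((tensM P).obj S.E)) ≅
      (tensorLeft P).obj ((DerivedCategory.homologyFunctor (ModuleCat.{u} A) j).obj ω) :=
    (DerivedCategory.homologyFunctorFactors (ModuleCat.{u} A) j).app ((tensM P).obj S.E) ≪≫
      (show ((tensM P).obj S.E).homology j ≅ (tensorLeft P).obj (S.E.homology j) from
        (S.E.sc j).mapHomologyIso (tensorLeft P)) ≪≫
      (tensorLeft P).mapIso (((DerivedCategory.homologyFunctorFactors (ModuleCat.{u} A) j).app S.E).symm ≪≫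
        (DerivedCategory.homologyFunctor (ModuleCat.{u} A) j).mapIso S.iso)
  haveI := h
  haveI : Module.Finite A ((tensorLeft P).obj ((DerivedCategory.homologyFunctor (ModuleCat.{u} A) j).obj ω) : Type u) :=
    inferInstanceAs (Module.Finite A (P ⊗[A] (Dual.HD A ω j) : Type u))
  exact Module.Finite.equiv i1.toLinearEquiv.symm

variable [IsNoetherianRing A]

theorem isDualizing_twist {ω : Dual.D A} (hω : Dual.IsDualizing A ω) [DRing.HasLTensor A P] :
    Dual.IsDualizing A ((DRing.LTensor A P).obj ω) := by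
  let S := model hω
  obtain ⟨e⟩ := nonempty_ltensor_iso_tens P S
  let T : Model ((DRing.LTensor A P).obj ω) :=
    ⟨(tensM P).obj S.E, S.a, S.b, fun i hi => (tensorLeft P).map_isZero (S.vanishes i hi),
      fun i => injective_tens P (S.E.X i) (S.inj i), e.symm⟩
  haveI hbc : ∀ (m : Ideal A) [m.IsMaximal], DRing.HasLBaseChange (algebraMap A (Localization.AtPrime m)) :=
    fun m _ => DRingLib.hasLBaseChange _
  refine isDualizing_of_maximal T (hbc := hbc) (fun j => ?_) fun m _ => ?_
  · haveI := finite_HD_tens P S j (hω.finite_cohomology j)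
    exact Module.Finite.equiv ((DerivedCategory.homologyFunctor (ModuleCat.{u} A) j).mapIso e.symm).toLinearEquiv
  · obtain ⟨p, -, hp⟩ := isIso_bcD_tensPt_gen P S.E m
    haveI := hp
    refine isDualizing_of_iso ?_ (isDualizing_lbc m.primeCompl _ hω)
    exact
      ((bcD A (Localization.AtPrime m)).mapIso S.iso.symm ≪≫
        asIso ((bcD A (Localization.AtPrime m)).map (DerivedCategory.Q.map (tensPt P S.E p))) ≪≫
          (bcD A (Localization.AtPrime m)).mapIso e.symm)

/-- The canonical map from an invertible module to the morphisms into the twist. -/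
def ptHom (E : DRing.Cx A) : P →ₗ[A] (DRing.toD E ⟶ DRing.toD ((tensM P).obj E)) :=
  (DerivedCategory.Q.mapLinearMap A).comp
    { toFun := fun p => tensPt P E p
      map_add' := fun p q => HomologicalComplex.hom_ext _ _ fun i =>
        ModuleCat.hom_ext (LinearMap.ext fun x => TensorProduct.add_tmul p q x)
      map_smul' := fun a p => by
        refine HomologicalComplex.hom_ext _ _ fun i => ModuleCat.hom_ext (LinearMap.ext fun x => ?_)
        rw [RingHom.id_apply, HomologicalComplex.smul_f_apply, ModuleCat.hom_smul, LinearMap.smul_apply]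
        exact (TensorProduct.smul_tmul' (R := A) a p x).symm }

theorem bijective_ptHom {ω : Dual.D A} (hω : Dual.IsDualizing A ω) (S : Model ω) :
    Function.Bijective (ptHom P S.E) := by
  let X := DRing.toD S.E
  let Y := DRing.toD ((tensM P).obj S.E)
  haveI := S.isLE
  haveI : DerivedCategory.IsLE X S.b := DerivedCategory.TStructure.t.isLE_of_iso S.iso.symm S.b
  haveI : DerivedCategory.IsGE Y S.a := (DerivedCategory.isGE_iff _ _).2 fun j hj =>
    ((HomologicalComplex.exactAt_iff_isZero_homology _ _).1 (HomologicalComplex.ExactAt.of_isZero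
      ((tensorLeft P).map_isZero (S.vanishes j (Or.inl hj))))).of_iso
      ((DerivedCategory.homologyFunctorFactors _ j).app ((tensM P).obj S.E))
  have hX : ∀ j, Module.Finite A (Dual.HD A X j) := fun j =>
    haveI := hω.finite_cohomology j
    Module.Finite.equiv ((DerivedCategory.homologyFunctor (ModuleCat.{u} A) j).mapIso S.iso.symm).toLinearEquiv
  refine bijective_of_isLocalized_maximal (fun m _ => Localization.AtPrime m ⊗[A] P)
    (fun m _ => TensorProduct.mk A (Localization.AtPrime m) P 1)
    (fun m _ => Localization.AtPrime m ⊗[A] (X ⟶ Y))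
    (fun m _ => TensorProduct.mk A (Localization.AtPrime m) (X ⟶ Y) 1) (ptHom P S.E) fun m hm => ?_
  haveI := hm
  let B := Localization.AtPrime m
  haveI : DRing.HasLBaseChange (algebraMap A B) := DRingLib.hasLBaseChange _
  haveI : Module.Flat A B := IsLocalization.flat _ m.primeCompl
  obtain ⟨p, hp, hiso⟩ := isIso_bcD_tensPt_gen P S.E m
  haveI := hiso
  let g := (bcD A B).map (DerivedCategory.Q.map (tensPt P S.E p))
  have hmap : IsLocalizedModule.map m.primeCompl (TensorProduct.mk A B P 1)
      (TensorProduct.mk A B (X ⟶ Y) 1) (ptHom P S.E) = ((ptHom P S.E).baseChange B).restrictScalars A :=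
    IsLocalizedModule.linearMap_ext m.primeCompl (TensorProduct.mk A B P 1)
      (TensorProduct.mk A B (X ⟶ Y) 1) (LinearMap.ext fun z => by
        rw [LinearMap.comp_apply, IsLocalizedModule.map_apply]
        rfl)
  rw [hmap]
  show Function.Bijective ((ptHom P S.E).baseChange B : B ⊗[A] P → _)
  let Φ := LinearEquiv.ofBijective (bcΦl A B X Y) (bijective_bcΦ A B X Y S.a S.b hX)
  let lp := (LinearMap.toSpanSingleton A P p).baseChange B
  let θ : (B ⊗[A] A) ≃ₗ[B] B := TensorProduct.AlgebraTensorModule.rid A B B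
  suffices h : Function.Bijective (Φ ∘ ((ptHom P S.E).baseChange B) ∘ lp ∘ θ.symm) by
    rw [Φ.bijective.of_comp_iff', ← Function.comp_assoc,
      Function.Bijective.of_comp_iff _ θ.symm.bijective, Function.Bijective.of_comp_iff _ hp] at h
    exact h
  have hfun : Φ ∘ ((ptHom P S.E).baseChange B) ∘ lp ∘ θ.symm =
      (asIso g).homToEquiv (Z := (bcD A B).obj X) ∘ fun b : B => b • 𝟙 ((bcD A B).obj X) := by
    funext b
    show bcΦ A B X Y ((ptHom P S.E).baseChange B (lp (θ.symm b))) = (b • 𝟙 _) ≫ g
    rw [Linear.smul_comp, Category.id_comp, show θ.symm b = b ⊗ₜ (1 : A) from rfl, LinearMap.baseChange_tmul,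
      LinearMap.toSpanSingleton_apply_one, LinearMap.baseChange_tmul, bcΦ_tmul]
    rfl
  rw [hfun]
  refine (Equiv.bijective _).comp ?_
  have hD := isDualizing_lbc m.primeCompl B hω
  let ι : (bcD A B).obj X ≅ (bcD A B).obj ω := (bcD A B).mapIso S.iso
  have : (fun b : B => b • 𝟙 ((bcD A B).obj X)) =
      (Linear.homCongr B ι.symm ι.symm) ∘ fun b : B => b • 𝟙 ((bcD A B).obj ω) := funext fun b => by
    show b • 𝟙 _ = Linear.homCongr B ι.symm ι.symm (b • 𝟙 _)
    rw [map_smul, Linear.homCongr_apply]
    simp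
  rw [this]
  exact (LinearEquiv.bijective _).comp hD.toEnd_bijective

theorem shift_unique {B : Type u} [CommRing B] [Nontrivial B] {ω : Dual.D B} (hω : Dual.IsDualizing B ω) {n n' : ℤ}
    (e : ω⟦n⟧ ≅ ω⟦n'⟧) : n = n' := by
  by_contra h
  haveI := hω.ext_self_subsingleton (n' + -n) (by omega)
  let z : ω ≅ ω⟦n' + -n⟧ :=
    (shiftFunctorZero' (Dual.D B) (n + -n) (add_neg_cancel n)).symm.app ω ≪≫ (shiftShift ω n (-n)).symm ≪≫
      (shiftFunctor (Dual.D B) (-n)).mapIso e ≪≫ shiftShift ω n' (-n)
  haveI : Subsingleton (ω ⟶ ω) := (z.homToEquiv (Z := ω)).subsingleton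
  exact not_subsingleton B hω.toEnd_bijective.1.subsingleton

theorem twist_unique [Nontrivial A] {ω : Dual.D A} (hω : Dual.IsDualizing A ω) (P' : ModuleCat.{u} A)
    [Module.Invertible A P'] [DRing.HasLTensor A P] [DRing.HasLTensor A P'] (n n' : ℤ)
    (h : Nonempty (((DRing.LTensor A P).obj ω)⟦n⟧ ≅ ((DRing.LTensor A P').obj ω)⟦n'⟧)) :
    n = n' ∧ Nonempty (P ≃ₗ[A] P') := by
  obtain ⟨e⟩ := h
  let S := model hω
  obtain ⟨d⟩ := nonempty_ltensor_iso_tens P S
  obtain ⟨d'⟩ := nonempty_ltensor_iso_tens P' S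
  obtain ⟨m, hm⟩ := Ideal.exists_maximal A
  haveI := hm
  let B := Localization.AtPrime m
  haveI : DRing.HasLBaseChange (algebraMap A B) := DRingLib.hasLBaseChange _
  haveI : Module.Flat A B := IsLocalization.flat _ m.primeCompl
  obtain ⟨p, -, hp⟩ := isIso_bcD_tensPt_gen P S.E m
  obtain ⟨p', -, hp'⟩ := isIso_bcD_tensPt_gen P' S.E m
  haveI := hp
  haveI := hp'
  let F := bcD A B
  let w : F.obj ω ≅ F.obj ((DRing.LTensor A P).obj ω) :=
    F.mapIso S.iso.symm ≪≫ asIso (F.map (DerivedCategory.Q.map (tensPt P S.E p))) ≪≫ F.mapIso d.symm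
  let w' : F.obj ω ≅ F.obj ((DRing.LTensor A P').obj ω) :=
    F.mapIso S.iso.symm ≪≫ asIso (F.map (DerivedCategory.Q.map (tensPt P' S.E p'))) ≪≫ F.mapIso d'.symm
  have hn : n = n' := shift_unique (isDualizing_lbc m.primeCompl B hω)
    ((shiftFunctor (Dual.D B) n).mapIso w ≪≫ (bcShiftIso A B _ n).symm ≪≫ F.mapIso e ≪≫ bcShiftIso A B _ n' ≪≫
      (shiftFunctor (Dual.D B) n').mapIso w'.symm)
  subst hn
  refine ⟨rfl, ⟨?_⟩⟩
  let ε : DRing.toD ((tensM P).obj S.E) ≅ DRing.toD ((tensM P').obj S.E) :=
    d.symm ≪≫ (shiftFunctor (Dual.D A) n).preimageIso e ≪≫ d'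
  exact (LinearEquiv.ofBijective _ (bijective_ptHom P hω S)).trans
    ((Linear.homCongr A (Iso.refl (DRing.toD S.E)) ε).trans
      (LinearEquiv.ofBijective _ (bijective_ptHom P' hω S)).symm)

end Groth.Agent.DualCxLib
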