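import Groth.Agent.DualCxLib.Twist

/-!
# Dualizing complexes over a connected spectrum
-/

set_option autoImplicit false
set_option backward.isDefEq.respectTransparency false
set_option linter.style.haveILetI false
set_option maxRecDepth 4000

universe u

open CategoryTheory Limits
open scoped TensorProduct
attribute [local instance] HasDerivedCategory.standard

noncomputable section

namespace Groth.Agent.DualCxLib

variable {A : Type u} [CommRing A] [IsNoetherianRing A]

theorem mem_support_hom_iff {ω ω' : Dual.D A} (hω : Dual.IsDualizing A ω) (hω' : Dual.IsDualizing A ω')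
    (q : PrimeSpectrum A) [DRing.HasLBaseChange (algebraMap A (Localization.AtPrime q.asIdeal))] (n : ℤ)
    (e : (bcD A (Localization.AtPrime q.asIdeal)).obj ω' ≅ ((bcD A (Localization.AtPrime q.asIdeal)).obj ω)⟦n⟧)
    (j : ℤ) : q ∈ Module.support A (ω ⟶ ω'⟦j⟧) ↔ n + j = 0 := by
  let B := Localization.AtPrime q.asIdeal
  haveI : Module.Flat A B := IsLocalization.flat _ q.asIdeal.primeCompl
  let S := model hω'
  let T := model hω
  haveI := S.isGE
  haveI := T.isLE
  obtain ⟨e1⟩ := nonempty_hom_bcD A B ω ω' S.a T.b hω.finite_cohomology j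
  have hD : Dual.IsDualizing B ((bcD A B).obj ω) := isDualizing_lbc q.asIdeal.primeCompl B hω
  let X := (bcD A B).obj ω
  let e2 : (X ⟶ ((bcD A B).obj ω')⟦j⟧) ≃ₗ[B] (X ⟶ X⟦n + j⟧) :=
    Linear.homCongr B (Iso.refl X) ((shiftFunctor (Dual.D B) j).mapIso e ≪≫ shiftShift X n j)
  let e3 : LocalizedModule q.asIdeal.primeCompl (ω ⟶ ω'⟦j⟧) ≃ₗ[B] (X ⟶ X⟦n + j⟧) :=
    (IsLocalizedModule.isBaseChange q.asIdeal.primeCompl B
      (LocalizedModule.mkLinearMap q.asIdeal.primeCompl (ω ⟶ ω'⟦j⟧))).equiv.symm.trans (e1.trans e2)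
  rw [Module.mem_support_iff, e3.toEquiv.nontrivial_congr]
  constructor
  · intro hN
    by_contra hne
    haveI := hD.ext_self_subsingleton (n + j) hne
    exact false_of_nontrivial_of_subsingleton (X ⟶ X⟦n + j⟧)
  · intro h0
    haveI : Nontrivial (X ⟶ X) := Function.Injective.nontrivial hD.toEnd_bijective.1
    let z : X⟦n + j⟧ ≅ X := (shiftFunctorZero' (Dual.D B) (n + j) h0).app X
    exact (z.homToEquiv (Z := X)).nontrivial

theorem exists_shift_localIso [ConnectedSpace (PrimeSpectrum A)] {ω ω' : Dual.D A} (hω : Dual.IsDualizing A ω)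
    (hω' : Dual.IsDualizing A ω') :
    ∃ n : ℤ, ∀ (q : PrimeSpectrum A),
      haveI : DRing.HasLBaseChange (algebraMap A (Localization.AtPrime q.asIdeal)) := DRingLib.hasLBaseChange _
      Nonempty ((bcD A (Localization.AtPrime q.asIdeal)).obj ω' ≅
        ((bcD A (Localization.AtPrime q.asIdeal)).obj ω)⟦n⟧) := by
  haveI hbc : ∀ q : PrimeSpectrum A, DRing.HasLBaseChange (algebraMap A (Localization.AtPrime q.asIdeal)) :=
    fun q => DRingLib.hasLBaseChange _
  have hex : ∀ q : PrimeSpectrum A, ∃ n : ℤ, Nonempty ((bcD A (Localization.AtPrime q.asIdeal)).obj ω' ≅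
      ((bcD A (Localization.AtPrime q.asIdeal)).obj ω)⟦n⟧) := fun q =>
    exists_shift_iso (isDualizing_lbc q.asIdeal.primeCompl _ hω) (isDualizing_lbc q.asIdeal.primeCompl _ hω')
  choose f hf using hex
  have hmem : ∀ (q : PrimeSpectrum A) (j : ℤ), q ∈ Module.support A (ω ⟶ ω'⟦j⟧) ↔ f q + j = 0 := fun q j => by
    obtain ⟨e⟩ := hf q
    exact mem_support_hom_iff hω hω' q (f q) e j
  haveI : ∀ j : ℤ, Module.Finite A (ω ⟶ ω'⟦j⟧) := fun j => by
    let S := model hω'
    exact Groth.Agent.S1746.result A ω ω' hω.finite_cohomology hω'.finite_cohomology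
      ⟨S.a, S.b, S.E, S.vanishes, S.inj, ⟨S.iso⟩⟩ j
  have hclosed : ∀ c : ℤ, IsClosed (f ⁻¹' {c}) := fun c => by
    have : f ⁻¹' {c} = Module.support A (ω ⟶ ω'⟦-c⟧) := by
      ext q
      rw [Set.mem_preimage, Set.mem_singleton_iff, hmem]
      omega
    rw [this, Module.support_eq_zeroLocus]
    exact PrimeSpectrum.isClosed_zeroLocus _
  have hrange : (Set.range f).Finite := by
    haveI := (minimalPrimes.finite_of_isNoetherianRing A).to_subtype
    let g : minimalPrimes A → ℤ := fun p => f ⟨p.1, p.2.1.1⟩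
    refine (Set.finite_range g).subset ?_
    rintro _ ⟨q, rfl⟩
    obtain ⟨q₀, hq₀, hle⟩ := Ideal.exists_minimalPrimes_le (bot_le : (⊥ : Ideal A) ≤ q.asIdeal)
    let p : PrimeSpectrum A := ⟨q₀, hq₀.1.1⟩
    refine ⟨⟨q₀, hq₀⟩, ?_⟩
    have : q ∈ f ⁻¹' {f p} :=
      ((PrimeSpectrum.le_iff_specializes p q).1 hle).mem_closed (hclosed (f p)) rfl
    exact (Set.mem_singleton_iff.1 this).symm
  have hlc : IsLocallyConstant f := by
    refine IsLocallyConstant.iff_isOpen_fiber.2 fun c => ?_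
    have : f ⁻¹' {c} = (⋃ d ∈ Set.range f \ {c}, f ⁻¹' {d})ᶜ := by
      ext q
      simp only [Set.mem_preimage, Set.mem_singleton_iff, Set.mem_compl_iff, Set.mem_iUnion, Set.mem_sdiff,
        Set.mem_range, not_exists]
      exact ⟨fun h d hd hq => hd.2 (hq ▸ h), fun h => by_contra fun hc => h (f q) ⟨⟨q, rfl⟩, hc⟩ rfl⟩
    rw [this, isOpen_compl_iff]
    exact (hrange.subset Set.sdiff_subset).isClosed_biUnion fun d _ => hclosed d
  obtain ⟨q0⟩ : Nonempty (PrimeSpectrum A) := inferInstance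
  exact ⟨f q0, fun q => hlc.apply_eq_of_preconnectedSpace q0 q ▸ hf q⟩

theorem exists_invertible_shift_iso [ConnectedSpace (PrimeSpectrum A)] {ω ω' : Dual.D A}
    (hω : Dual.IsDualizing A ω) (hω' : Dual.IsDualizing A ω') :
    ∃ (P : ModuleCat.{u} A) (_ : Module.Invertible A P) (n : ℤ),
      ∀ [DRing.HasLTensor A P], Nonempty (ω' ≅ ((DRing.LTensor A P).obj ω)⟦n⟧) := by
  obtain ⟨n, hn⟩ := exists_shift_localIso hω hω'
  obtain ⟨P, hP, h⟩ := exists_invertible_twist hω (isDualizing_shift hω' (-n)) fun m _ => by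
    let q : PrimeSpectrum A := ⟨m, inferInstance⟩
    haveI : DRing.HasLBaseChange (algebraMap A (Localization.AtPrime m)) := DRingLib.hasLBaseChange _
    haveI : Module.Flat A (Localization.AtPrime m) := IsLocalization.flat _ m.primeCompl
    obtain ⟨e⟩ := hn q
    let X := (bcD A (Localization.AtPrime m)).obj ω
    exact ⟨(bcShiftIso A (Localization.AtPrime m) ω' (-n) ≪≫
      (shiftFunctor (Dual.D (Localization.AtPrime m)) (-n)).mapIso e ≪≫ shiftShift X n (-n) ≪≫
        (shiftFunctorZero' (Dual.D (Localization.AtPrime m)) (n + -n) (add_neg_cancel n)).app X).symm⟩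
  refine ⟨P, hP, n, fun {_} => ?_⟩
  obtain ⟨e⟩ := h
  exact ⟨(shiftFunctorZero' (Dual.D A) (-n + n) (neg_add_cancel n)).symm.app ω' ≪≫ (shiftShift ω' (-n) n).symm ≪≫
    (shiftFunctor (Dual.D A) n).mapIso e⟩

end Groth.Agent.DualCxLib
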